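/-
Sextets of the length-24 code.
-/
import Cfsg.Agent.H5.Flags
import Cfsg.Agent.H5.Max

set_option autoImplicit false
set_option linter.unusedSimpArgs false

namespace CfsgH5

open scoped Pointwise
open Cfsg MulAction

noncomputable section

theorem forall_Sup {f : ℕ → Bool} (h : (allLt 4096 fun k => force (cw k) f) = true)
    {s : Finset GolayPt} (hs : s ∈ Sup) : f (mk s) = true := by
  obtain ⟨k, hk, rfl⟩ := (mem_Sup_iff _).1 hs
  rw [mk_ts (cw_lt hk)]
  simpa using (allLt_iff _ _).1 h k hk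

theorem forall_small {f : ℕ → Bool} (h : (allLt 4096 fun k => force (ld k) f) = true)
    {s : Finset GolayPt} (hs : s.card ≤ 3) : f (mk s) = true := by
  have := (allLt_iff _ _).1 h _ (syn_lt (mk_lt s))
  rwa [force_eq, ld_syn hs] at this

/-- a six-point set lies in an octad exactly when its coset has a word of weight two -/
theorem six_subset_octad_iff {s : Finset GolayPt} (hs : s.card = 6) :
    (∃ o ∈ octads, s ⊆ o) ↔ pop24 (ld (syn (mk s))) = 2 := by
  constructor
  · rintro ⟨o, ho, hso⟩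
    have h2 : (o \ s).card = 2 := by rw [Finset.card_sdiff_of_subset hso, ho.2, hs]
    have : symmDiff s (o \ s) = o := by
      rw [Disjoint.symmDiff_eq_sup Finset.disjoint_sdiff, Finset.sup_eq_union,
        Finset.union_sdiff_of_subset hso]
    rw [(syn_mk_eq_iff s (o \ s)).2 (this.symm ▸ ho.1), ld_syn (by omega), ← card_eq_pop, h2]
  · intro h
    have h0 := syn_lt (mk_lt s)
    rw [← card_ts (ld_lt h0)] at h
    have h1 := symmDiff_ld s
    have h2 := card_symmDiff_add s (ts (ld (syn (mk s))))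
    have h3 : (s ∩ ts (ld (syn (mk s)))).card ≤ 2 := h ▸ Finset.card_le_card Finset.inter_subset_right
    have h4 := card_of_mem_Sup h1
    refine ⟨_, ⟨h1, by omega⟩, ?_⟩
    have h5 : s ∩ ts (ld (syn (mk s))) = ∅ := Finset.card_eq_zero.1 (by omega)
    intro a ha
    rw [Finset.mem_symmDiff]
    left
    refine ⟨ha, fun hb => ?_⟩
    have := Finset.mem_inter.2 ⟨ha, hb⟩
    rw [h5] at this; simp at this

open Classical in
/-- the tetrads congruent to `t` modulo the code -/
def sx (t : Finset GolayPt) : Finset (Finset GolayPt) :=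
  Finset.univ.filter fun u => u.card = 4 ∧ symmDiff u t ∈ Sup

theorem mem_sx {t u : Finset GolayPt} : u ∈ sx t ↔ u.card = 4 ∧ symmDiff u t ∈ Sup := by
  simp [sx]

theorem self_mem_sx {t : Finset GolayPt} (ht : t.card = 4) : t ∈ sx t :=
  mem_sx.2 ⟨ht, by rw [symmDiff_self]; exact empty_mem_Sup⟩

theorem smul_sx (g : M24) (t : Finset GolayPt) : g • sx t = sx (g • t) := by
  ext u
  rw [← Finset.inv_smul_mem_iff, mem_sx, mem_sx, card_smulM, ← smul_mem_Sup_iff g,
    Finset.smul_finset_symmDiff, smul_inv_smul]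

theorem sx_congr {t t' : Finset GolayPt} (h : symmDiff t t' ∈ Sup) : sx t = sx t' := by
  ext u
  rw [mem_sx, mem_sx]
  exact and_congr_right fun _ => ⟨fun h' => symmDiff_trans h' h,
    fun h' => symmDiff_trans h' (by rwa [symmDiff_comm])⟩

theorem sx_eq_iff {t t' : Finset GolayPt} (ht : t.card = 4) : sx t = sx t' ↔ symmDiff t t' ∈ Sup :=
  ⟨fun h => (mem_sx.1 (h ▸ self_mem_sx ht)).2, sx_congr⟩

theorem card_sx {t : Finset GolayPt} (ht : t.card = 4) : (sx t).card = 6 := by
  obtain ⟨g, e⟩ := trans_set4 ht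
  rw [← Finset.card_smul_finset g, smul_sx, e, ← Set.ncard_coe_finset]
  have : (sx (ts 0x800007) : Set (Finset GolayPt)) = (fun c => symmDiff c (ts 0x800007)) ''
      {c | c ∈ Sup ∧ (symmDiff c (ts 0x800007)).card = 4} := by
    ext u
    simp only [Finset.mem_coe, mem_sx, Set.mem_image, Set.mem_ofPred_eq]
    constructor
    · rintro ⟨h1, h2⟩
      exact ⟨_, ⟨h2, by simpa using h1⟩, by simp⟩
    · rintro ⟨c, ⟨h1, h2⟩, rfl⟩
      exact ⟨h2, by simpa using h1⟩
  rw [this, Set.ncard_image_of_injective _ (symmDiff_left_injective _),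
    ncard_Sup' _ (fun m => Nat.beq (pop24 (Nat.xor m 0x800007)) 4) fun s => by
      rw [Set.mem_ofPred_eq, card_eq_pop, mk_symmDiff, mk_ts (by norm_num), beq_true_iff]]
  decide +kernel

theorem union_mem_octads {t u : Finset GolayPt} (ht : t.card = 4) (hu : u.card = 4) (hne : t ≠ u)
    (h : symmDiff t u ∈ Sup) : Disjoint t u ∧ t ∪ u ∈ octads := by
  have h1 := card_symmDiff_add t u
  have h2 := card_of_mem_Sup h
  have h3 : (symmDiff t u).card ≠ 0 := fun h => hne (symmDiff_eq_bot.1 (Finset.card_eq_zero.1 h))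
  have h4 : Disjoint t u := Finset.disjoint_iff_inter_eq_empty.2 (Finset.card_eq_zero.1 (by omega))
  refine ⟨h4, ?_⟩
  rw [← Finset.sup_eq_union, ← h4.symmDiff_eq_sup]
  exact ⟨h, by omega⟩

theorem symmDiff_mem_of_union {t u : Finset GolayPt} (ht : t.card = 4) (hu : u.card = 4)
    (h : t ∪ u ∈ octads) : Disjoint t u ∧ symmDiff t u ∈ Sup := by
  have h1 := Finset.card_union_add_card_inter t u
  have h4 : Disjoint t u := Finset.disjoint_iff_inter_eq_empty.2 (Finset.card_eq_zero.1 (by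
    have := h.2; omega))
  exact ⟨h4, by rw [h4.symmDiff_eq_sup]; exact h.1⟩

theorem sx_mem_sextets {t : Finset GolayPt} (ht : t.card = 4) : sx t ∈ sextets := by
  refine ⟨card_sx ht, fun u hu => (mem_sx.1 hu).1, fun u hu v hv hne => ?_⟩
  rw [mem_sx] at hu hv
  exact (union_mem_octads hu.1 hv.1 hne (symmDiff_trans hu.2 (by rw [symmDiff_comm]; exact hv.2))).2

theorem eq_sx {S : Finset (Finset GolayPt)} (hS : S ∈ sextets) {t : Finset GolayPt} (ht : t ∈ S) :
    S = sx t := by
  apply Finset.eq_of_subset_of_card_le _ (by rw [card_sx (hS.2.1 t ht), hS.1])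
  intro u hu
  refine mem_sx.2 ⟨hS.2.1 u hu, ?_⟩
  by_cases h : u = t
  · rw [h, symmDiff_self]; exact empty_mem_Sup
  · exact (symmDiff_mem_of_union (hS.2.1 u hu) (hS.2.1 t ht) (hS.2.2 u hu t ht h)).2

theorem exists_sx {S : Finset (Finset GolayPt)} (hS : S ∈ sextets) :
    ∃ t : Finset GolayPt, t.card = 4 ∧ S = sx t := by
  obtain ⟨t, ht⟩ : S.Nonempty := Finset.card_pos.1 (by rw [hS.1]; norm_num)
  exact ⟨t, hS.2.1 t ht, eq_sx hS ht⟩

/-- the sextet with index `k` -/
def sxk (k : ℕ) : Finset (Finset GolayPt) := sx (ts (ld k))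

/-- the indices of sextets -/
def isSx (k : ℕ) : Bool := Nat.beq (pop24 (ld k)) 4

theorem card_ld_of_isSx {k : ℕ} (hk : k < 4096) (h : isSx k = true) : (ts (ld k)).card = 4 := by
  rw [card_ts (ld_lt hk)]; exact (beq_true_iff _ _).1 h

theorem sx_eq_sxk (t : Finset GolayPt) : sx t = sxk (syn (mk t)) := sx_congr (symmDiff_ld t)

theorem mem_sextets_iff (S : Finset (Finset GolayPt)) :
    S ∈ sextets ↔ ∃ k, k < 4096 ∧ isSx k = true ∧ sxk k = S := by
  constructor
  · intro hS
    obtain ⟨t, ht, rfl⟩ := exists_sx hS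
    exact ⟨_, syn_lt (mk_lt t), (beq_true_iff _ _).2 (card_ld_syn_four ht), (sx_eq_sxk t).symm⟩
  · rintro ⟨k, hk, h, rfl⟩
    exact sx_mem_sextets (card_ld_of_isSx hk h)

theorem sxk_inj {i j : ℕ} (hi : i < 4096) (hj : j < 4096) (h : isSx i = true) (e : sxk i = sxk j) :
    i = j := by
  have := (sx_eq_iff (card_ld_of_isSx hi h)).1 e
  rwa [← syn_mk_eq_iff, mk_ts (ld_lt hi), mk_ts (ld_lt hj), (ld_facts hi).1, (ld_facts hj).1] at this

theorem ncard_sextets_of (A : Set (Finset (Finset GolayPt))) (f : ℕ → Bool)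
    (h : ∀ S, S ∈ A ↔ ∃ k, k < 4096 ∧ (isSx k = true ∧ f k = true) ∧ sxk k = S) :
    A.ncard = countLt 4096 fun k => band (isSx k) (f k) := by
  apply ncard_eq_countLt 4096 _ sxk
  · intro i j hi hj h1 _ e
    simp only [band_eq, Bool.and_eq_true] at h1
    exact sxk_inj hi hj h1.1 e
  · simpa using h

theorem ncard_sextets : sextets.ncard = 1771 := by
  rw [ncard_sextets_of sextets (fun _ => true) (by simpa using mem_sextets_iff)]
  decide +kernel

theorem smul_mem_sextets (g : M24) {S : Finset (Finset GolayPt)} (hS : S ∈ sextets) :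
    g • S ∈ sextets := by
  obtain ⟨t, ht, rfl⟩ := exists_sx hS
  rw [smul_sx]; exact sx_mem_sextets (by rwa [card_smulM])

theorem trans_sextets {S S' : Finset (Finset GolayPt)} (hS : S ∈ sextets) (hS' : S' ∈ sextets) :
    ∃ g : M24, g • S = S' := by
  obtain ⟨t, ht, rfl⟩ := exists_sx hS
  obtain ⟨t', ht', rfl⟩ := exists_sx hS'
  obtain ⟨g, e⟩ := trans_set4 ht
  obtain ⟨g', e'⟩ := trans_set4 ht'
  exact ⟨g'⁻¹ * g, by rw [smul_sx, mul_smul, e, ← e', inv_smul_smul]⟩

theorem orbit_sextet {S : Finset (Finset GolayPt)} (hS : S ∈ sextets) : orbit M24 S = sextets := by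
  ext x
  exact ⟨fun ⟨g, h⟩ => h ▸ smul_mem_sextets g hS, fun h => trans_sextets hS h⟩

theorem card_stab_sextet {S : Finset (Finset GolayPt)} (hS : S ∈ sextets) :
    Nat.card (stabilizer M24 S) = 138240 := by
  have := card_stabilizer_mul S
  rw [orbit_sextet hS, ncard_sextets] at this
  omega

/-- the index of the image of a sextet -/
def imgL (s k : ℕ) : ℕ := force (ld k) fun c => force (act24 s c) syn

theorem smul_sxk (g : M24) {k : ℕ} (hk : k < 4096) : g • sxk k = sxk (imgL (CM.code g) k) := by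
  rw [sxk, smul_sx, sx_eq_sxk, mk_smulM, mk_ts (ld_lt hk)]
  simp [imgL]

theorem imgL_lt (g : M24) {k : ℕ} (hk : k < 4096) : imgL (CM.code g) k < 4096 := by
  simp only [imgL, force_eq]
  rw [← mk_ts (ld_lt hk), ← mk_smulM]; exact syn_lt (mk_lt _)

theorem isSx_imgL (g : M24) {k : ℕ} (hk : k < 4096) (h : isSx k = true) :
    isSx (imgL (CM.code g) k) = true := by
  simp only [imgL, force_eq, isSx, beq_true_iff]
  rw [← mk_ts (ld_lt hk), ← mk_smulM]
  exact card_ld_syn_four (by rw [card_smulM]; exact card_ld_of_isSx hk h)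

/-- test that a coded element of the group fixes the `k`-th sextet -/
def inStabSx (k p : ℕ) : Bool := band (inM24 p) (Nat.beq (imgL p k) k)

theorem in_stab_sxk {k p : ℕ} (hk : k < 4096) (h : inStabSx k p = true) :
    CM.In (stabilizer M24 (sxk k)) p := by
  simp only [inStabSx, band_eq, Bool.and_eq_true, beq_true_iff] at h
  obtain ⟨g, -, rfl⟩ := in_CM h.1
  exact ⟨g, by rw [mem_stabilizer_iff, smul_sxk g hk, h.2], rfl⟩

/-- orbits on sextets from a labelling `cl` with roots `R` -/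
theorem sextet_orbits {H : Subgroup M24} {S : List ℕ} (hS : ∀ s ∈ S, CM.In H s)
    {cl R gen dep : ℕ → ℕ}
    (h : forest 4096 (fun k => bif' (isSx k) (R (cl k)) k) (nxL S gen) dep (fun _ _ => true) = true)
    {k : ℕ} (hk : k < 4096) (hd : isSx k = true) : ∃ g ∈ H, g • sxk k = sxk (R (cl k)) := by
  have key := forest_sound (r := fun a b => ∃ g ∈ H, g • sxk a = sxk b)
    (fun k => ⟨1, H.one_mem, one_smul _ _⟩)
    (fun a b c ⟨g, hg, e⟩ ⟨g', hg', e'⟩ => ⟨g' * g, H.mul_mem hg' hg, by rw [mul_smul, e, e']⟩)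
    (fun k hk _ _ _ => by
      obtain ⟨g, hg, e⟩ := CM.in_nthD hS (gen k)
      refine ⟨g, hg, ?_⟩
      rw [smul_sxk g hk, e]
      simp only [nxL, imgL, force_eq]) h k hk
  simpa only [hd, bif'_true] using key

end

end CfsgH5
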