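/-
Orbits as label classes; trios of the length-24 code.
-/
import Cfsg.Agent.H5.Sextet

set_option autoImplicit false
set_option linter.unusedSimpArgs false
set_option linter.constructorNameAsVariable false

namespace CfsgH5

open scoped Pointwise
open Cfsg MulAction

noncomputable section

section General

variable {G : Type*} [Group G] {X : Type*} [MulAction G X]

theorem orbit_eq_class (H : Subgroup G) {N : ℕ} (D : ℕ → X) {dom : ℕ → Bool} {cl R : ℕ → ℕ}
    (htr : ∀ k, k < N → dom k = true → ∃ g ∈ H, g • D k = D (R (cl k)))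
    (hinv : ∀ g ∈ H, ∀ k, k < N → dom k = true →
      ∃ k', k' < N ∧ dom k' = true ∧ g • D k = D k' ∧ cl k' = cl k)
    {k0 : ℕ} (hk0 : k0 < N) (hd0 : dom k0 = true) (x : X) :
    x ∈ orbit H (D k0) ↔ ∃ k, k < N ∧ band (dom k) (Nat.beq (cl k) (cl k0)) = true ∧ D k = x := by
  simp only [band_eq, Bool.and_eq_true, beq_true_iff]
  constructor
  · rintro ⟨g, rfl⟩
    obtain ⟨k', h1, h2, h3, h4⟩ := hinv g g.2 k0 hk0 hd0
    exact ⟨k', h1, ⟨h2, h4⟩, h3.symm⟩
  · rintro ⟨k, hk, ⟨hd, hc⟩, rfl⟩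
    obtain ⟨g, hg, e⟩ := htr k hk hd
    obtain ⟨g', hg', e'⟩ := htr k0 hk0 hd0
    refine ⟨⟨g⁻¹ * g', H.mul_mem (H.inv_mem hg) hg'⟩, ?_⟩
    show (g⁻¹ * g') • D k0 = D k
    rw [mul_smul, e', ← hc, ← e, inv_smul_smul]

theorem ncard_orbit_class (H : Subgroup G) {N : ℕ} (D : ℕ → X) {dom : ℕ → Bool} {cl R : ℕ → ℕ}
    (htr : ∀ k, k < N → dom k = true → ∃ g ∈ H, g • D k = D (R (cl k)))
    (hinv : ∀ g ∈ H, ∀ k, k < N → dom k = true →
      ∃ k', k' < N ∧ dom k' = true ∧ g • D k = D k' ∧ cl k' = cl k)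
    (hinj : ∀ i j, i < N → j < N → dom i = true → dom j = true → D i = D j → i = j)
    {k0 : ℕ} (hk0 : k0 < N) (hd0 : dom k0 = true) :
    (orbit H (D k0)).ncard = countLt N fun k => band (dom k) (Nat.beq (cl k) (cl k0)) := by
  apply ncard_eq_countLt N _ D _ _ (orbit_eq_class H D htr hinv hk0 hd0)
  intro i j hi hj h1 h2
  simp only [band_eq, Bool.and_eq_true] at h1 h2
  exact hinj i j hi hj h1.1 h2.1

/-- maximality of a stabiliser from a labelling of the orbit -/
theorem isCoatom_of_labels [Finite G] {N : ℕ} (D : ℕ → X) {dom : ℕ → Bool} {cl R : ℕ → ℕ}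
    {k0 : ℕ} (hk0 : k0 < N) (hd0 : dom k0 = true)
    (horb : ∀ x, x ∈ orbit G (D k0) ↔ ∃ k, k < N ∧ dom k = true ∧ D k = x)
    (htr : ∀ k, k < N → dom k = true → ∃ g ∈ stabilizer G (D k0), g • D k = D (R (cl k)))
    (hinj : ∀ i j, i < N → j < N → dom i = true → dom j = true → D i = D j → i = j)
    (I : Finset ℕ) (n : ℕ → ℕ) (hc : ∀ k, k < N → dom k = true → cl k ∈ I)
    (hn : ∀ i ∈ I, (countLt N fun k => band (dom k) (Nat.beq (cl k) i)) = n i)
    (harith : ∀ J ⊆ I, cl k0 ∈ J → (∑ i ∈ J, n i) ∣ (∑ i ∈ I, n i) →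
      (∑ i ∈ J, n i) = 1 ∨ (∑ i ∈ J, n i) = ∑ i ∈ I, n i)
    (hN : (∑ i ∈ I, n i) ≠ 1) : IsCoatom (stabilizer G (D k0)) := by
  classical
  let idx : X → ℕ := fun x => if h : ∃ k, k < N ∧ dom k = true ∧ D k = x then h.choose else 0
  have hidx : ∀ k, k < N → dom k = true → idx (D k) = k := by
    intro k hk hd
    have h : ∃ k', k' < N ∧ dom k' = true ∧ D k' = D k := ⟨k, hk, hd, rfl⟩
    simp only [idx, dif_pos h]
    exact hinj _ _ h.choose_spec.1 hk h.choose_spec.2.1 hd h.choose_spec.2.2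
  refine isCoatom_of_suborbits (D k0) I (fun x => cl (idx x)) n ?_ ?_ ?_ ?_ hN
  · intro y hy
    obtain ⟨k, hk, hd, rfl⟩ := (horb y).1 hy
    rw [hidx k hk hd]; exact hc k hk hd
  · intro y hy y' hy' h
    obtain ⟨k, hk, hd, rfl⟩ := (horb y).1 hy
    obtain ⟨k', hk', hd', rfl⟩ := (horb y').1 hy'
    rw [hidx k hk hd, hidx k' hk' hd'] at h
    obtain ⟨g, hg, e⟩ := htr k hk hd
    obtain ⟨g', hg', e'⟩ := htr k' hk' hd'
    exact ⟨g'⁻¹ * g, Subgroup.mul_mem _ (Subgroup.inv_mem _ hg') hg, by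
      rw [mul_smul, e, h, ← e', inv_smul_smul]⟩
  · intro i hi
    rw [← hn i hi]
    apply ncard_eq_countLt N _ D
    · intro i j hi hj h1 h2
      simp only [band_eq, Bool.and_eq_true] at h1 h2
      exact hinj i j hi hj h1.1 h2.1
    · intro x
      simp only [Set.mem_ofPred_eq, band_eq, Bool.and_eq_true, beq_true_iff, horb]
      constructor
      · rintro ⟨⟨k, hk, hd, rfl⟩, h⟩
        exact ⟨k, hk, ⟨hd, by rwa [hidx k hk hd] at h⟩, rfl⟩
      · rintro ⟨k, hk, ⟨hd, h⟩, rfl⟩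
        exact ⟨⟨k, hk, hd, rfl⟩, by rwa [hidx k hk hd]⟩
  · rwa [hidx k0 hk0 hd0]

end General

/-! ### Trios -/

theorem third_octad {o o' : Finset GolayPt} (ho : o ∈ octads) (ho' : o' ∈ octads)
    (h : Disjoint o o') : (o ∪ o')ᶜ ∈ octads := by
  refine ⟨compl_mem_Sup ?_, ?_⟩
  · rw [← Finset.sup_eq_union, ← h.symmDiff_eq_sup]; exact symmDiff_mem_Sup ho.1 ho'.1
  · rw [Finset.card_compl, Finset.card_union_of_disjoint h, ho.2, ho'.2]; rfl

/-- the trio through two disjoint octads -/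
def trio (o o' : Finset GolayPt) : Finset (Finset GolayPt) := {o, o', (o ∪ o')ᶜ}

theorem ne_of_disjoint_octad {o o' : Finset GolayPt} (ho : o ∈ octads) (h : Disjoint o o') :
    o ≠ o' := by
  rintro rfl
  have := ho.2
  rw [disjoint_self, Finset.bot_eq_empty] at h
  simp [h] at this

theorem trio_mem {o o' : Finset GolayPt} (ho : o ∈ octads) (ho' : o' ∈ octads)
    (h : Disjoint o o') : trio o o' ∈ trios := by
  have h1 : Disjoint o (o ∪ o')ᶜ := disjoint_compl_right.mono_left Finset.subset_union_left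
  have h2 : Disjoint o' (o ∪ o')ᶜ := disjoint_compl_right.mono_left Finset.subset_union_right
  refine ⟨Finset.card_eq_three.2 ⟨_, _, _, ne_of_disjoint_octad ho h, ne_of_disjoint_octad ho h1,
    ne_of_disjoint_octad ho' h2, rfl⟩, ?_, ?_⟩
  · simp only [trio, Finset.mem_insert, Finset.mem_singleton]
    rintro x (rfl | rfl | rfl)
    exacts [ho, ho', third_octad ho ho' h]
  · simp only [trio, Finset.mem_insert, Finset.mem_singleton]
    rintro x (rfl | rfl | rfl) y (rfl | rfl | rfl) hne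
    exacts [absurd rfl hne, h, h1, h.symm, absurd rfl hne, h2, h1.symm, h2.symm, absurd rfl hne]

theorem eq_trio {T : Finset (Finset GolayPt)} (hT : T ∈ trios) {o o' : Finset GolayPt}
    (ho : o ∈ T) (ho' : o' ∈ T) (hne : o ≠ o') : T = trio o o' := by
  have hd := hT.2.2 o ho o' ho' hne
  apply Finset.eq_of_subset_of_card_le _ (by
    rw [(trio_mem (hT.2.1 o ho) (hT.2.1 o' ho') hd).1, hT.1])
  intro x hx
  simp only [trio, Finset.mem_insert, Finset.mem_singleton]
  by_cases h1 : x = o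
  · exact Or.inl h1
  by_cases h2 : x = o'
  · exact Or.inr (Or.inl h2)
  right; right
  apply Finset.eq_of_subset_of_card_le
  · rw [Finset.subset_compl_iff_disjoint_right, Finset.disjoint_union_right]
    exact ⟨hT.2.2 x hx o ho h1, hT.2.2 x hx o' ho' h2⟩
  · rw [(third_octad (hT.2.1 o ho) (hT.2.1 o' ho') hd).2, (hT.2.1 x hx).2]

theorem exists_trio {T : Finset (Finset GolayPt)} (hT : T ∈ trios) :
    ∃ o ∈ octads, ∃ o' ∈ octads, Disjoint o o' ∧ T = trio o o' := by
  obtain ⟨a, b, c, hab, -, -, e⟩ := Finset.card_eq_three.1 hT.1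
  have ha : a ∈ T := by simp [e]
  have hb : b ∈ T := by simp [e]
  exact ⟨a, hT.2.1 a ha, b, hT.2.1 b hb, hT.2.2 a ha b hb hab, eq_trio hT ha hb hab⟩

theorem smul_trio (g : M24) (o o' : Finset GolayPt) : g • trio o o' = trio (g • o) (g • o') := by
  have : g • (o ∪ o')ᶜ = (g • o ∪ g • o')ᶜ := by
    ext x
    rw [← Finset.inv_smul_mem_iff, Finset.mem_compl, Finset.mem_compl, ← Finset.smul_finset_union,
      Finset.inv_smul_mem_iff]
  simp only [trio, Finset.smul_finset_insert, Finset.smul_finset_singleton, this]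

theorem disjoint_smulM (g : M24) {o o' : Finset GolayPt} : Disjoint (g • o) (g • o') ↔ Disjoint o o' := by
  rw [Finset.disjoint_iff_inter_eq_empty, Finset.disjoint_iff_inter_eq_empty, ← Finset.card_eq_zero,
    card_smul_inter, Finset.card_eq_zero]

theorem smul_mem_trios (g : M24) {T : Finset (Finset GolayPt)} (hT : T ∈ trios) : g • T ∈ trios := by
  obtain ⟨o, ho, o', ho', hd, rfl⟩ := exists_trio hT
  rw [smul_trio]
  exact trio_mem ((smul_mem_octads_iff g).2 ho) ((smul_mem_octads_iff g).2 ho')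
    ((disjoint_smulM g).2 hd)

theorem ncard_disjoint_octads {o : Finset GolayPt} (ho : o ∈ octads) :
    {o' | o' ∈ octads ∧ Disjoint o o'}.ncard = 30 := by
  obtain ⟨g, e⟩ := trans_octads ho oct0_mem
  rw [ncard_transport g (B := {o' | o' ∈ octads ∧ Disjoint (g • o) o'}) (fun x => by
    simp only [Set.mem_ofPred_eq, smul_mem_octads_iff, disjoint_smulM]), e,
    ncard_Sup' _ (fun m => band (Nat.beq (pop24 m) 8) (Nat.beq (Nat.land oct0 m) 0)) fun s => by
      simp only [Set.mem_ofPred_eq, mem_octads, E24.disjoint_iff_mask, band_eq, Bool.and_eq_true,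
        beq_true_iff, ← card_eq_pop, and_assoc, mk_ts (by norm_num [oct0] : oct0 < 16777216)]]
  decide +kernel

theorem ncard_trios : trios.ncard = 3795 := by
  classical
  let P : Finset (Finset GolayPt × Finset GolayPt) :=
    Finset.univ.filter fun p => p.1 ∈ octads ∧ p.2 ∈ octads ∧ Disjoint p.1 p.2
  have h1 : P.card = ∑ o ∈ octads.toFinset, 30 := by
    rw [Finset.card_eq_sum_card_fiberwise (f := Prod.fst) (t := octads.toFinset)
      (fun p hp => by simp only [P, Finset.coe_filter] at hp; simpa using hp.2.1)]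
    apply Finset.sum_congr rfl
    intro o ho
    rw [Set.mem_toFinset] at ho
    rw [← ncard_disjoint_octads ho, ← Set.ncard_coe_finset]
    apply Set.ncard_congr (fun p _ => p.2)
    · rintro ⟨a, b⟩ hp
      simp only [P, Finset.coe_filter, Finset.mem_filter, Finset.mem_univ, true_and,
        Set.mem_ofPred_eq] at hp
      obtain ⟨⟨-, h2, h3⟩, rfl⟩ := hp
      exact ⟨h2, h3⟩
    · rintro ⟨a, b⟩ ⟨c, d⟩ hp hq h
      simp only [Finset.coe_filter, Set.mem_ofPred_eq] at hp hq h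
      rw [hp.2, hq.2, h]
    · intro b hb
      exact ⟨(o, b), by simpa [P] using ⟨ho, hb⟩, rfl⟩
  have h2 : P.card = ∑ T ∈ trios.toFinset, 6 := by
    rw [Finset.card_eq_sum_card_fiberwise (f := fun p => trio p.1 p.2) (t := trios.toFinset)
      (fun p hp => by
        simp only [P, Finset.coe_filter] at hp
        simpa using trio_mem hp.2.1 hp.2.2.1 hp.2.2.2)]
    apply Finset.sum_congr rfl
    intro T hT
    rw [Set.mem_toFinset] at hT
    have : P.filter (fun p => trio p.1 p.2 = T) = T.offDiag := by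
      ext ⟨a, b⟩
      simp only [P, Finset.mem_filter, Finset.mem_univ, true_and, Finset.mem_offDiag]
      constructor
      · rintro ⟨⟨ha, -, hd⟩, rfl⟩
        exact ⟨by simp [trio], by simp [trio], ne_of_disjoint_octad ha hd⟩
      · rintro ⟨ha, hb, hne⟩
        exact ⟨⟨hT.2.1 a ha, hT.2.1 b hb, hT.2.2 a ha b hb hne⟩, (eq_trio hT ha hb hne).symm⟩
    rw [this, Finset.offDiag_card, hT.1]
  rw [Finset.sum_const, ← Set.ncard_eq_toFinset_card', ncard_octads] at h1
  rw [Finset.sum_const, ← Set.ncard_eq_toFinset_card', h1] at h2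
  simp only [smul_eq_mul] at h2
  omega

end

end CfsgH5
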