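/-
Families of subsets of the 24 points given by lists of masks; tables of such families and orbit
certificates on them; order bounds for stabilisers.
-/
import Cfsg.Agent.H5.Orb

set_option autoImplicit false
set_option linter.unusedSimpArgs false

namespace CfsgH5

open scoped Pointwise
open Cfsg MulAction

noncomputable section

/-- the family of sets with masks in a list -/
def fam (l : List ℕ) : Finset (Finset GolayPt) := (l.map ts).toFinset

/-- list membership -/
def memL (l : List ℕ) (a : ℕ) : Bool := anyL l (Nat.beq a)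

theorem memL_iff (l : List ℕ) (a : ℕ) : memL l a = true ↔ a ∈ l := by
  simp [memL, anyL_iff]

/-- no repetition in a list -/
def nodupL (l : List ℕ) : Bool :=
  List.rec (motive := fun _ => Bool) true (fun a t ih => band (bnot (memL t a)) ih) l

theorem nodupL_iff (l : List ℕ) : nodupL l = true ↔ l.Nodup := by
  induction l with
  | nil => simp [nodupL]
  | cons a t ih =>
    show band (bnot (memL t a)) (nodupL t) = true ↔ _
    rw [List.nodup_cons, ← ih, ← memL_iff]; simp

/-- sum of a function over a list -/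
def sumL (l : List ℕ) (f : ℕ → ℕ) : ℕ :=
  List.rec (motive := fun _ => ℕ) 0 (fun a _ ih => Nat.add (f a) ih) l

theorem sumL_eq (l : List ℕ) (f : ℕ → ℕ) : sumL l f = (l.map f).sum := by
  induction l with
  | nil => rfl
  | cons a t ih => show f a + sumL t f = _; simp [ih]

/-- a list of distinct masks -/
def famOK (l : List ℕ) : Bool := band (allL l fun m => Nat.blt m 16777216) (nodupL l)

theorem famOK_iff (l : List ℕ) : famOK l = true ↔ (∀ m ∈ l, m < 16777216) ∧ l.Nodup := by
  simp [famOK, allL_iff, nodupL_iff]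

theorem mem_fam' {l : List ℕ} {s : Finset GolayPt} : s ∈ fam l ↔ ∃ m ∈ l, ts m = s := by
  simp [fam]

theorem mem_fam {l : List ℕ} (h : ∀ m ∈ l, m < 16777216) {s : Finset GolayPt} :
    s ∈ fam l ↔ mk s ∈ l := by
  rw [mem_fam']
  exact ⟨fun ⟨m, hm, e⟩ => by rwa [← e, mk_ts (h m hm)], fun h => ⟨_, h, ts_mk s⟩⟩

theorem nodup_map_ts {l : List ℕ} (h : famOK l = true) : (l.map ts).Nodup := by
  rw [famOK_iff] at h
  exact h.2.map_on fun a ha b hb e => E24.toSet_inj (h.1 a ha) (h.1 b hb) e

theorem sum_fam {l : List ℕ} (h : famOK l = true) (f : ℕ → ℕ) :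
    ∑ s ∈ fam l, f (mk s) = sumL l f := by
  rw [fam, List.sum_toFinset _ (nodup_map_ts h), sumL_eq, List.map_map]
  congr 1
  apply List.map_congr_left
  intro m hm
  simp [mk_ts (((famOK_iff l).1 h).1 m hm)]

theorem card_fam {l : List ℕ} (h : famOK l = true) : (fam l).card = l.length := by
  rw [fam, List.toFinset_card_of_nodup (nodup_map_ts h), List.length_map]

/-- test that a coded permutation carries one list of masks onto another -/
def famMap (p : ℕ) (l l' : List ℕ) : Bool :=
  band (allL l fun m => force (act24 p m) (memL l')) (Nat.beq l.length l'.length)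

theorem smul_fam {g : M24} {l l' : List ℕ} (h : famOK l = true) (h' : famOK l' = true)
    (e : famMap (CM.code g) l l' = true) : g • fam l = fam l' := by
  simp only [famMap, band_eq, Bool.and_eq_true, allL_iff, force_eq, memL_iff, beq_true_iff] at e
  apply Finset.eq_of_subset_of_card_le
  · intro s hs
    obtain ⟨t, ht, rfl⟩ := Finset.mem_smul_finset.1 hs
    rw [mem_fam ((famOK_iff _).1 h).1] at ht
    rw [mem_fam ((famOK_iff _).1 h').1, mk_smulM]
    exact e.1 _ ht
  · rw [Finset.card_smul_finset, card_fam h, card_fam h', e.2]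

/-- test that a coded permutation lies in the group and stabilises a family -/
def inStabFam (l : List ℕ) (p : ℕ) : Bool := band (inM24 p) (famMap p l l)

theorem in_stab_fam {l : List ℕ} (hl : famOK l = true) {p : ℕ} (h : inStabFam l p = true) :
    CM.In (stabilizer M24 (fam l)) p := by
  simp only [inStabFam, band_eq, Bool.and_eq_true] at h
  obtain ⟨g, -, rfl⟩ := in_CM h.1
  exact ⟨g, smul_fam hl hl h.2, rfl⟩

/-- test for the joint stabiliser of a configuration and a family -/
def inFixFam (P L l : List ℕ) (p : ℕ) : Bool := band (inFix P L p) (famMap p l l)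

theorem in_Fix_fam {P L l : List ℕ} (hl : famOK l = true) {p : ℕ} (h : inFixFam P L l p = true) :
    CM.In (Fix P L ⊓ stabilizer M24 (fam l)) p := by
  simp only [inFixFam, band_eq, Bool.and_eq_true] at h
  obtain ⟨g, hg, rfl⟩ := in_Fix h.1
  exact ⟨g, ⟨hg, smul_fam hl hl h.2⟩, rfl⟩

/-- a key separating the families of a table -/
def famKey (l : List ℕ) : ℕ := sumL l fun m => Nat.mul m m

/-- checks for a table of families -/
def tabOK (N : ℕ) (T : ℕ → List ℕ) : Bool :=
  allLt N fun k => band (famOK (T k))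
    (bimp (Nat.blt (Nat.succ k) N) (force (Nat.succ k) fun k' => Nat.blt (famKey (T k)) (famKey (T k'))))

theorem tab_famOK {N : ℕ} {T : ℕ → List ℕ} (h : tabOK N T = true) {k : ℕ} (hk : k < N) :
    famOK (T k) = true := by
  have := (allLt_iff _ _).1 h k hk
  simp only [band_eq, Bool.and_eq_true] at this
  exact this.1

theorem tab_inj {N : ℕ} {T : ℕ → List ℕ} (h : tabOK N T = true) {i j : ℕ} (hi : i < N) (hj : j < N)
    (e : fam (T i) = fam (T j)) : i = j := by
  have mono : ∀ a b, a < b → b < N → famKey (T a) < famKey (T b) := by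
    intro a b hab hb
    induction b with
    | zero => omega
    | succ b ih =>
      have := (allLt_iff _ _).1 h b (by omega)
      simp only [band_eq, Bool.and_eq_true, bimp_eq, force_eq, Bool.or_eq_true, Bool.not_eq_true',
        blt_true_iff, (blt_true_iff _ _).2 hb] at this
      have h2 : famKey (T b) < famKey (T (b + 1)) := by simpa using this.2
      rcases Nat.lt_succ_iff_lt_or_eq.1 hab with h3 | rfl
      · exact (ih h3 (by omega)).trans h2
      · exact h2
  have hk : famKey (T i) = famKey (T j) := by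
    rw [famKey, famKey, ← sum_fam (tab_famOK h hi), ← sum_fam (tab_famOK h hj), e]
  rcases lt_trichotomy i j with h1 | h1 | h1
  · exact absurd hk (mono i j h1 hj).ne
  · exact h1
  · exact absurd hk.symm (mono j i h1 hi).ne

theorem ncard_tab {N : ℕ} {T : ℕ → List ℕ} (h : tabOK N T = true) :
    {x | ∃ k, k < N ∧ fam (T k) = x}.ncard = N := by
  rw [ncard_eq_countLt N (fun _ => true) (fun k => fam (T k)) _
    (fun i j hi hj _ _ e => tab_inj h hi hj e) (by simp), countLt_eq]
  simp

theorem tab_complete {N : ℕ} {T : ℕ → List ℕ} (h : tabOK N T = true)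
    {A : Set (Finset (Finset GolayPt))} (hA : ∀ k, k < N → fam (T k) ∈ A) (hc : A.ncard ≤ N)
    (x : Finset (Finset GolayPt)) : x ∈ A ↔ ∃ k, k < N ∧ fam (T k) = x := by
  have : {x | ∃ k, k < N ∧ fam (T k) = x} = A :=
    Set.eq_of_subset_of_ncard_le (by rintro _ ⟨k, hk, rfl⟩; exact hA k hk)
      (by rwa [ncard_tab h]) (Set.toFinite _)
  rw [← this]; rfl

theorem le_ncard_of_tab {N : ℕ} {T : ℕ → List ℕ} (h : tabOK N T = true)
    {A : Set (Finset (Finset GolayPt))} (hA : ∀ k, k < N → fam (T k) ∈ A) : N ≤ A.ncard := by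
  rw [← ncard_tab h]
  exact Set.ncard_le_ncard (by rintro _ ⟨k, hk, rfl⟩; exact hA k hk) (Set.toFinite _)

/-- orbits on a table of families -/
theorem tab_orbits {N : ℕ} {T : ℕ → List ℕ} (hT : tabOK N T = true) {H : Subgroup M24} {S : List ℕ}
    (hS : ∀ s ∈ S, CM.In H s) {rt nx gen dep : ℕ → ℕ}
    (h : forest N rt nx dep (fun k k' => force (nthD S ops24.one (gen k)) fun s =>
      famMap s (T k) (T k')) = true) :
    ∀ k, k < N → ∃ g ∈ H, g • fam (T k) = fam (T (rt k)) :=
  forest_sound (r := fun a b => ∃ g ∈ H, g • fam (T a) = fam (T b))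
    (fun k => ⟨1, H.one_mem, one_smul _ _⟩)
    (fun a b c ⟨g, hg, e⟩ ⟨g', hg', e'⟩ => ⟨g' * g, H.mul_mem hg' hg, by rw [mul_smul, e, e']⟩)
    (fun k hk hk' _ hok => by
      obtain ⟨g, hg, e⟩ := CM.in_nthD hS (gen k)
      rw [force_eq, ← e] at hok
      exact ⟨g, hg, smul_fam (tab_famOK hT hk) (tab_famOK hT hk') hok⟩) h

/-- the sum of the squares of the intersection numbers of two families -/
def meetSum (A B : Finset (Finset GolayPt)) : ℕ := ∑ s ∈ A, ∑ t ∈ B, (s ∩ t).card ^ 2

/-- the same for lists of masks -/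
def meetL (l l' : List ℕ) : ℕ :=
  sumL l fun a => sumL l' fun b => force (pop24 (Nat.land a b)) fun c => Nat.mul c c

theorem meetSum_fam {l l' : List ℕ} (h : famOK l = true) (h' : famOK l' = true) :
    meetSum (fam l) (fam l') = meetL l l' := by
  rw [meetL, ← sum_fam h, meetSum]
  apply Finset.sum_congr rfl
  intro s _
  rw [← sum_fam h']
  apply Finset.sum_congr rfl
  intro t _
  rw [force_eq, ← mk_inter, ← card_eq_pop, sq]; rfl

theorem meetSum_smul (g : M24) (A B : Finset (Finset GolayPt)) :
    meetSum (g • A) (g • B) = meetSum A B := by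
  rw [meetSum, meetSum, Finset.smul_finset_def (s := A), Finset.smul_finset_def (s := B),
    Finset.sum_image fun _ _ _ _ h => smul_left_cancel g h]
  apply Finset.sum_congr rfl
  intro s _
  rw [Finset.sum_image fun _ _ _ _ h => smul_left_cancel g h]
  simp only [card_smul_inter]

/-- invariance of the intersection label under a subgroup fixing the base family -/
theorem tab_invariant {N : ℕ} {T : ℕ → List ℕ} (hT : tabOK N T = true) {l : List ℕ}
    (hl : famOK l = true) {A : Set (Finset (Finset GolayPt))}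
    (hA : ∀ x, x ∈ A ↔ ∃ k, k < N ∧ fam (T k) = x) {H : Subgroup M24}
    (hH : ∀ g ∈ H, g • fam l = fam l ∧ ∀ x ∈ A, g • x ∈ A) :
    ∀ g ∈ H, ∀ k, k < N → (fun _ => true) k = true → ∃ k', k' < N ∧ (fun _ => true) k' = true ∧
      g • fam (T k) = fam (T k') ∧ meetL l (T k') = meetL l (T k) := by
  intro g hg k hk _
  obtain ⟨k', hk', e⟩ := (hA _).1 ((hH g hg).2 _ ((hA _).2 ⟨k, hk, rfl⟩))
  refine ⟨k', hk', rfl, e.symm, ?_⟩
  rw [← meetSum_fam hl (tab_famOK hT hk), ← meetSum_fam hl (tab_famOK hT hk'), e,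
    ← meetSum_smul g (fam l) (fam (T k)), (hH g hg).1]

/-- three fields of 24 bits -/
def unp3 (e : ℕ) : List ℕ :=
  force e fun e => [Nat.land e 16777215, Nat.land (Nat.shiftRight e 24) 16777215, Nat.shiftRight e 48]
/-- four fields of 24 bits -/
def unp4 (e : ℕ) : List ℕ :=
  force e fun e => [Nat.land e 16777215, Nat.land (Nat.shiftRight e 24) 16777215,
    Nat.land (Nat.shiftRight e 48) 16777215, Nat.shiftRight e 72]
/-- six fields of 24 bits -/
def unp6 (e : ℕ) : List ℕ :=
  force e fun e => [Nat.land e 16777215, Nat.land (Nat.shiftRight e 24) 16777215,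
    Nat.land (Nat.shiftRight e 48) 16777215, Nat.land (Nat.shiftRight e 72) 16777215,
    Nat.land (Nat.shiftRight e 96) 16777215, Nat.shiftRight e 120]

/-! ### Orders of stabilisers -/

theorem card_inf_stabilizer_mul {G X : Type*} [Group G] [MulAction G X] (H : Subgroup G) (x : X) :
    Nat.card (H ⊓ stabilizer G x : Subgroup G) * (orbit H x).ncard = Nat.card H := by
  rw [ncard_orbit_subgroup, inf_comm, ← Subgroup.inf_relIndex_right, mul_comm]
  rw [← Subgroup.relIndex_bot_left, ← Subgroup.relIndex_bot_left, mul_comm]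
  exact Subgroup.relIndex_mul_relIndex _ _ _ bot_le inf_le_right

theorem card_inf_stabilizer_le {G X : Type*} [Group G] [Finite G] [MulAction G X] (H : Subgroup G)
    (x : X) (A : Set X) (hA : ∀ y ∈ A, ∃ g ∈ H, g • x = y) :
    Nat.card (H ⊓ stabilizer G x : Subgroup G) * A.ncard ≤ Nat.card H := by
  rw [← card_inf_stabilizer_mul H x]
  exact Nat.mul_le_mul_left _ (Set.ncard_le_ncard (fun y hy => by
    obtain ⟨g, hg, e⟩ := hA y hy; exact ⟨⟨g, hg⟩, e⟩) (Set.finite_range _))

theorem Fix_cons_set (P L : List ℕ) (m : ℕ) : Fix P (m :: L) = Fix P L ⊓ stabilizer M24 (ts m) := by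
  ext g; simp only [mem_Fix, Subgroup.mem_inf, mem_stabilizer_iff, List.forall_mem_cons]; tauto

theorem Fix_cons_pt (P L : List ℕ) (i : ℕ) : Fix (i :: P) L = Fix P L ⊓ stabilizer M24 (pt i) := by
  ext g; simp only [mem_Fix, Subgroup.mem_inf, mem_stabilizer_iff, List.forall_mem_cons]; tauto

theorem Fix_nil : Fix [] [] = ⊤ := by ext g; simp [mem_Fix]

theorem grp_drop1 : CM.grp (gens (chM.drop 1)) = Fix [23] [] := by
  ext g; rw [mem_drop1]; simp [mem_Fix]
theorem grp_drop2 : CM.grp (gens (chM.drop 2)) = Fix [23, 0] [] := by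
  ext g; simp [mem_drop2, mem_Fix]
theorem grp_drop3 : CM.grp (gens (chM.drop 3)) = Fix [23, 0, 1] [] := by
  ext g; simp [mem_drop3, mem_Fix, and_assoc]
theorem grp_drop4 : CM.grp (gens (chM.drop 4)) = Fix [23, 0, 1, 2] [] := by
  ext g; simp [mem_drop4, mem_Fix, and_assoc]
theorem grp_drop5 : CM.grp (gens (chM.drop 5)) = Fix [23, 0, 1, 2, 3] [] := by
  ext g; simp [mem_drop5, mem_Fix, and_assoc]

theorem card_Fix1 : Nat.card (Fix [23] []) = 10200960 := by
  rw [← grp_drop1, CM.card_grp (chM_valid_drop 1) (chM_check_drop 1)]; decide +kernel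
theorem card_Fix2 : Nat.card (Fix [23, 0] []) = 443520 := by
  rw [← grp_drop2, CM.card_grp (chM_valid_drop 2) (chM_check_drop 2)]; decide +kernel
theorem card_Fix3 : Nat.card (Fix [23, 0, 1] []) = 20160 := by
  rw [← grp_drop3, CM.card_grp (chM_valid_drop 3) (chM_check_drop 3)]; decide +kernel

/-- an order bound from explicit elements moving a set -/
theorem card_Fix_cons_le (P L : List ℕ) {m : ℕ} (hm : m < 16777216) (W : List ℕ)
    (h1 : allL W (inFix P L) = true) (h2 : famOK (W.map fun p => act24 p m) = true) :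
    Nat.card (Fix P (m :: L)) * W.length ≤ Nat.card (Fix P L) := by
  rw [Fix_cons_set]
  have := card_inf_stabilizer_le (Fix P L) (ts m) (fam (W.map fun p => act24 p m)) (fun y hy => by
    rw [Finset.mem_coe, mem_fam'] at hy
    obtain ⟨_, hp, rfl⟩ := hy
    obtain ⟨p, hp', rfl⟩ := List.mem_map.1 hp
    obtain ⟨g, hg, rfl⟩ := valid_Fix h1 p hp'
    exact ⟨g, hg, smul_ts_eq hm rfl⟩)
  rwa [Set.ncard_coe_finset, card_fam h2, List.length_map] at this

/-- the normaliser of the group of a chain -/
theorem Codes.le_normalizer {O : Ops} {G : Type*} [Group G] [Finite G] {α : Type*} [MulAction G α]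
    (C : Codes O G α) {c : List Level} (hv : ∀ s ∈ gens c, C.In ⊤ s) (hc : checkC O c = true)
    {S : List ℕ}
    (h : allL S (fun s => allL (gens c) fun t => force (O.mul (O.mul s t) (O.inv s)) (memC O c)) = true) :
    C.grp S ≤ Subgroup.normalizer (C.grp (gens c)) := by
  rw [Codes.grp, Subgroup.closure_le]
  intro s hs
  apply Subgroup.mem_normalizer_fintype
  intro t ht
  refine C.grp_induction (P := fun t => s * t * s⁻¹ ∈ C.grp (gens c)) (by simp) ?_ ht
  intro t u ht ih
  have : s * (t * u) * s⁻¹ = (s * t * s⁻¹) * (s * u * s⁻¹) := by group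
  rw [this]
  refine Subgroup.mul_mem _ ?_ ih
  rw [C.mem_iff_memC hv hc, C.code_mul, C.code_mul, C.code_inv]
  simpa using (allL_iff _ _).1 ((allL_iff _ _).1 h _ hs) _ ht

end

end CfsgH5
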