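/-
Orbits on tables of families: packaged statements.
-/
import Cfsg.Agent.H5.Fam

set_option autoImplicit false
set_option linter.unusedSimpArgs false

namespace CfsgH5

open scoped Pointwise
open Cfsg MulAction

noncomputable section

theorem tab_orbit_pack {N : ℕ} {T : ℕ → List ℕ} (hT : tabOK N T = true)
    {A : Set (Finset (Finset GolayPt))} (hA : ∀ x, x ∈ A ↔ ∃ k, k < N ∧ fam (T k) = x)
    {H : Subgroup M24} {l : List ℕ} (hl : famOK l = true)
    (hH : ∀ g ∈ H, g • fam l = fam l ∧ ∀ x ∈ A, g • x ∈ A) {cl R : ℕ → ℕ}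
    (hcl : (allLt N fun k => Nat.beq (cl k) (meetL l (T k))) = true)
    (htr : ∀ k, k < N → ∃ g ∈ H, g • fam (T k) = fam (T (R (cl k)))) {k0 : ℕ} (hk0 : k0 < N) :
    (∀ x, x ∈ orbit H (fam (T k0)) ↔ ∃ k, k < N ∧ cl k = cl k0 ∧ fam (T k) = x) ∧
      (orbit H (fam (T k0))).ncard = countLt N fun k => Nat.beq (cl k) (cl k0) := by
  have hcl' : ∀ k, k < N → cl k = meetL l (T k) := fun k hk =>
    (beq_true_iff _ _).1 ((allLt_iff _ _).1 hcl k hk)
  have hinv : ∀ g ∈ H, ∀ k, k < N → (fun _ => true) k = true → ∃ k', k' < N ∧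
      (fun _ => true) k' = true ∧ g • fam (T k) = fam (T k') ∧ cl k' = cl k := by
    intro g hg k hk h
    obtain ⟨k', h1, h2, h3, h4⟩ := tab_invariant hT hl hA hH g hg k hk h
    exact ⟨k', h1, h2, h3, by rw [hcl' k hk, hcl' k' h1, h4]⟩
  constructor
  · intro x
    simpa using orbit_eq_class H (fun k => fam (T k)) (dom := fun _ => true)
      (fun k hk _ => htr k hk) hinv hk0 rfl x
  · exact ncard_orbit_class H (fun k => fam (T k)) (dom := fun _ => true)
      (fun k hk _ => htr k hk) hinv (fun i j hi hj _ _ e => tab_inj hT hi hj e) hk0 rfl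

theorem smul_set_eq_of {G X : Type*} [Group G] [MulAction G X] {A : Set X}
    (h : ∀ g : G, ∀ x ∈ A, g • x ∈ A) (g : G) : g • A = A := by
  ext x
  rw [Set.mem_smul_set_iff_inv_smul_mem]
  exact ⟨fun hx => by simpa using h g _ hx, h _ _⟩

/-- test for sextets -/
def sextetL (l : List ℕ) : Bool :=
  band (Nat.beq l.length 6) (allL l fun a => band (Nat.beq (pop24 a) 4)
    (allL l fun b => bor (Nat.ble b a) (force (Nat.lor a b) isOct)))

theorem fam_mem_sextets {l : List ℕ} (hl : famOK l = true) (h : sextetL l = true) :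
    fam l ∈ sextets := by
  simp only [sextetL, band_eq, Bool.and_eq_true, beq_true_iff, allL_iff, bor_eq, Bool.or_eq_true,
    ble_true_iff, force_eq] at h
  have h0 := ((famOK_iff l).1 hl).1
  refine ⟨by rw [card_fam hl, h.1], fun t ht => ?_, fun t ht u hu hne => ?_⟩
  · rw [card_eq_pop]; exact (h.2 _ ((mem_fam h0).1 ht)).1
  · rw [mem_fam h0] at ht hu
    rcases lt_trichotomy (mk t) (mk u) with h1 | h1 | h1
    · rw [mem_octads_iff, mk_union]
      exact ((h.2 _ ht).2 _ hu).resolve_left (by omega)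
    · exact absurd (mk_inj h1) hne
    · rw [Finset.union_comm, mem_octads_iff, mk_union]
      exact ((h.2 _ hu).2 _ ht).resolve_left (by omega)

/-- test for trios -/
def trioL (l : List ℕ) : Bool :=
  band (Nat.beq l.length 3) (allL l fun a => band (isOct a)
    (allL l fun b => bor (Nat.beq a b) (Nat.beq (Nat.land a b) 0)))

theorem fam_mem_trios {l : List ℕ} (hl : famOK l = true) (h : trioL l = true) :
    fam l ∈ trios := by
  simp only [trioL, band_eq, Bool.and_eq_true, beq_true_iff, allL_iff, bor_eq, Bool.or_eq_true] at h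
  have h0 := ((famOK_iff l).1 hl).1
  refine ⟨by rw [card_fam hl, h.1], fun t ht => ?_, fun t ht u hu hne => ?_⟩
  · rw [mem_octads_iff]; exact (h.2 _ ((mem_fam h0).1 ht)).1
  · rw [mem_fam h0] at ht hu
    rw [E24.disjoint_iff_mask]
    exact ((h.2 _ ht).2 _ hu).resolve_left fun e => hne (mk_inj e)

theorem card_dodecad_inter_octad {d o : Finset GolayPt} (hd : d ∈ dodecads) (ho : o ∈ octads) :
    (o ∩ d).card ≤ 6 := by
  have h1 := card_symmDiff_add o d
  have h2 := card_of_mem_Sup (symmDiff_mem_Sup ho.1 hd.1)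
  have h3 : (o ∩ d).card ≤ 8 := ho.2 ▸ Finset.card_le_card Finset.inter_subset_left
  rw [ho.2, hd.2] at h1
  omega

theorem mem_hexadsOn {d h : Finset GolayPt} (hd : d ∈ dodecads) :
    h ∈ hexadsOn d ↔ h.card = 6 ∧ h ⊆ d ∧ ∃ o ∈ octads, h ⊆ o := by
  constructor
  · rintro ⟨h6, o, ho, rfl⟩
    exact ⟨h6, Finset.inter_subset_right, o, ho, Finset.inter_subset_left⟩
  · rintro ⟨h6, hd', o, ho, hs⟩
    exact ⟨h6, o, ho, (Finset.eq_of_subset_of_card_le (Finset.subset_inter hs hd')
      (h6 ▸ card_dodecad_inter_octad hd ho)).symm⟩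

/-- test for hexads on a dodecad -/
def isHex (d m : ℕ) : Bool :=
  band (Nat.beq (pop24 m) 6) (band (Nat.beq (Nat.land m d) m) (Nat.beq (pop24 (ld (syn m))) 2))

theorem mem_hexadsOn_iff {d h : Finset GolayPt} (hd : d ∈ dodecads) :
    h ∈ hexadsOn d ↔ isHex (mk d) (mk h) = true := by
  rw [mem_hexadsOn hd]
  simp only [isHex, band_eq, Bool.and_eq_true, beq_true_iff, ← card_eq_pop, ← E24.subset_iff_mask]
  exact and_congr_right fun h6 => and_congr_right fun _ => six_subset_octad_iff h6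

theorem smul_mem_hexadsOn (g : M24) {d h : Finset GolayPt} (hh : h ∈ hexadsOn d) :
    g • h ∈ hexadsOn (g • d) := by
  obtain ⟨h6, o, ho, rfl⟩ := hh
  exact ⟨by rwa [card_smulM], g • o, (smul_mem_octads_iff g).2 ho, Finset.smul_finset_inter.symm⟩

theorem smul_mem_quartets (g : M24) {d : Finset GolayPt} {Q : Finset (Finset GolayPt)}
    (hQ : Q ∈ quartets d) : g • Q ∈ quartets (g • d) := by
  refine ⟨by rw [Finset.card_smul_finset, hQ.1], fun t ht => ?_, fun t ht u hu hne => ?_⟩
  · obtain ⟨t, ht', rfl⟩ := Finset.mem_smul_finset.1 ht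
    exact ⟨by rw [card_smulM, (hQ.2.1 t ht').1],
      Finset.smul_finset_subset_smul_finset (hQ.2.1 t ht').2⟩
  · obtain ⟨t, ht', rfl⟩ := Finset.mem_smul_finset.1 ht
    obtain ⟨u, hu', rfl⟩ := Finset.mem_smul_finset.1 hu
    rw [← Finset.smul_finset_union]
    exact smul_mem_hexadsOn g (hQ.2.2 t ht' u hu' fun e => hne (by rw [e]))

theorem smul_mem_quartets_iff (g : M24) {d : Finset GolayPt} {Q : Finset (Finset GolayPt)} :
    g • Q ∈ quartets (g • d) ↔ Q ∈ quartets d :=
  ⟨fun h => by simpa using smul_mem_quartets g⁻¹ h, smul_mem_quartets g⟩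

/-- test for quartets -/
def quartetL (d : ℕ) (l : List ℕ) : Bool :=
  band (Nat.beq l.length 4) (allL l fun a => band (Nat.beq (pop24 a) 3)
    (band (Nat.beq (Nat.land a d) a)
    (allL l fun b => bor (Nat.ble b a) (force (Nat.lor a b) (isHex d)))))

theorem fam_mem_quartets {d : Finset GolayPt} (hd : d ∈ dodecads) {l : List ℕ}
    (hl : famOK l = true) (h : quartetL (mk d) l = true) : fam l ∈ quartets d := by
  simp only [quartetL, band_eq, Bool.and_eq_true, beq_true_iff, allL_iff, bor_eq, Bool.or_eq_true,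
    ble_true_iff, force_eq] at h
  have h0 := ((famOK_iff l).1 hl).1
  refine ⟨by rw [card_fam hl, h.1], fun t ht => ?_, fun t ht u hu hne => ?_⟩
  · rw [card_eq_pop, E24.subset_iff_mask]
    exact ⟨(h.2 _ ((mem_fam h0).1 ht)).1, (h.2 _ ((mem_fam h0).1 ht)).2.1⟩
  · rw [mem_fam h0] at ht hu
    rcases lt_trichotomy (mk t) (mk u) with h1 | h1 | h1
    · rw [mem_hexadsOn_iff hd, mk_union]
      exact ((h.2 _ ht).2.2 _ hu).resolve_left (by omega)
    · exact absurd (mk_inj h1) hne
    · rw [Finset.union_comm, mem_hexadsOn_iff hd, mk_union]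
      exact ((h.2 _ hu).2.2 _ ht).resolve_left (by omega)

end

end CfsgH5
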