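/-
Structure of stabilisers: induced permutations, order bounds, pairs with the group of the code.
-/
import Cfsg.Agent.H5.Fam2
import Cfsg.Agent.H5.Mat

set_option autoImplicit false
set_option linter.unusedSimpArgs false
set_option linter.unusedSectionVars false

namespace CfsgH5

open scoped Pointwise
open Cfsg MulAction

noncomputable section

/-- orbits on a table of families from labels closed under the generators -/
theorem tab_orbit_pack2 {N : ℕ} {T : ℕ → List ℕ} (hT : tabOK N T = true) {S : List ℕ}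
    {H : Subgroup M24} (hH : CM.grp S = H) {cl R : ℕ → ℕ} {img : ℕ → ℕ → ℕ}
    (himg : (allL S fun s => allLt N fun k => force (img s k) fun k' => band (Nat.blt k' N)
      (band (famMap s (T k) (T k')) (Nat.beq (cl k') (cl k)))) = true)
    (htr : ∀ k, k < N → ∃ g ∈ H, g • fam (T k) = fam (T (R (cl k)))) {k0 : ℕ} (hk0 : k0 < N) :
    (∀ x, x ∈ orbit H (fam (T k0)) ↔ ∃ k, k < N ∧ cl k = cl k0 ∧ fam (T k) = x) ∧
      (orbit H (fam (T k0))).ncard = countLt N fun k => Nat.beq (cl k) (cl k0) := by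
  simp only [allL_iff, allLt_iff, force_eq, band_eq, Bool.and_eq_true, blt_true_iff,
    beq_true_iff] at himg
  have hinv : ∀ g ∈ H, ∀ k, k < N → (fun _ => true) k = true → ∃ k', k' < N ∧
      (fun _ => true) k' = true ∧ g • fam (T k) = fam (T k') ∧ cl k' = cl k := by
    intro g hg
    rw [← hH] at hg
    refine CM.grp_induction (P := fun g => ∀ k, k < N → (fun _ => true) k = true → ∃ k', k' < N ∧
      (fun _ => true) k' = true ∧ g • fam (T k) = fam (T k') ∧ cl k' = cl k)
      (fun k hk _ => ⟨k, hk, rfl, one_smul _ _, rfl⟩) ?_ hg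
    intro s g hs ih k hk _
    obtain ⟨k', h1, -, h3, h4⟩ := ih k hk rfl
    obtain ⟨e1, e2, e3⟩ := himg _ hs k' h1
    exact ⟨_, e1, rfl, by rw [mul_smul, h3, smul_fam (tab_famOK hT h1) (tab_famOK hT e1) e2],
      e3.trans h4⟩
  constructor
  · intro x
    simpa using orbit_eq_class H (fun k => fam (T k)) (dom := fun _ => true)
      (fun k hk _ => htr k hk) hinv hk0 rfl x
  · exact ncard_orbit_class H (fun k => fam (T k)) (dom := fun _ => true)
      (fun k hk _ => htr k hk) hinv (fun i j hi hj _ _ e => tab_inj hT hi hj e) hk0 rfl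

section General

variable {G X : Type*} [Group G] [MulAction G X] [DecidableEq X]

theorem stab_mem_iff {S : Finset X} (g : stabilizer G S) (x : X) : (g : G) • x ∈ S ↔ x ∈ S := by
  obtain ⟨g, hg⟩ := g
  have hg : g • S = S := hg
  show g • x ∈ S ↔ _
  conv_lhs => rw [← hg]
  exact Finset.smul_mem_smul_finset_iff _

/-- the permutation induced on a finite set by its stabiliser -/
def stabHom (G : Type*) [Group G] [MulAction G X] (S : Finset X) :
    stabilizer G S →* Equiv.Perm S where
  toFun g := Equiv.Perm.subtypePerm (MulAction.toPerm (g : G)) fun x => stab_mem_iff g x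
  map_one' := by ext; simp
  map_mul' g h := by ext; exact congrArg id (mul_smul (g : G) (h : G) _)

theorem stabHom_apply {S : Finset X} (g : stabilizer G S) (x : S) :
    ((stabHom G S g x : S) : X) = (g : G) • (x : X) := rfl

theorem mem_ker_stabHom {S : Finset X} (g : stabilizer G S) :
    g ∈ (stabHom G S).ker ↔ ∀ x ∈ S, (g : G) • x = x := by
  rw [MonoidHom.mem_ker, Equiv.ext_iff]
  exact ⟨fun h x hx => congrArg Subtype.val (h ⟨x, hx⟩), fun h x => Subtype.ext (h x x.2)⟩

theorem fixing_le_stab (S : Finset X) : fixingSubgroup G (S : Set X) ≤ stabilizer G S := by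
  intro g hg
  rw [mem_fixingSubgroup_iff] at hg
  rw [mem_stabilizer_iff]
  ext x
  rw [Finset.mem_smul_finset]
  exact ⟨fun ⟨y, hy, e⟩ => by rwa [← e, hg y hy], fun h => ⟨x, h, hg x h⟩⟩

theorem card_ker_stabHom (S : Finset X) :
    Nat.card (stabHom G S).ker = Nat.card (fixingSubgroup G (S : Set X)) := by
  have : (stabHom G S).ker = (fixingSubgroup G (S : Set X)).subgroupOf (stabilizer G S) := by
    ext g; rw [mem_ker_stabHom, Subgroup.mem_subgroupOf, mem_fixingSubgroup_iff]; rfl
  rw [this]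
  exact Nat.card_congr (Subgroup.subgroupOfEquivOfLe (fixing_le_stab S)).toEquiv

theorem conj_mem_fixing (g x : G) (S : Finset X) :
    x ∈ fixingSubgroup G (S : Set X) ↔ g * x * g⁻¹ ∈ fixingSubgroup G ((g • S : Finset X) : Set X) := by
  simp only [mem_fixingSubgroup_iff, Finset.mem_coe]
  constructor
  · intro h y hy
    obtain ⟨z, hz, rfl⟩ := Finset.mem_smul_finset.1 hy
    rw [mul_smul, inv_smul_smul, mul_smul, h z hz]
  · intro h y hy
    have := h _ (Finset.smul_mem_smul_finset hy)
    rw [mul_smul, inv_smul_smul, mul_smul] at this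
    exact smul_left_cancel g this

theorem card_fixing_smul (g : G) (S : Finset X) :
    Nat.card (fixingSubgroup G ((g • S : Finset X) : Set X)) =
      Nat.card (fixingSubgroup G (S : Set X)) :=
  (Nat.card_congr (conjEquiv g fun x => conj_mem_fixing g x S).toEquiv).symm

theorem card_range_mul {H K : Type*} [Group H] [Group K] (φ : H →* K) :
    Nat.card φ.range * Nat.card φ.ker = Nat.card H := by
  rw [Subgroup.card_eq_card_quotient_mul_card_subgroup φ.ker,
    Nat.card_congr (QuotientGroup.quotientKerEquivRange φ).toEquiv]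

theorem stabHom_surjective [Finite G] (S : Finset X)
    (h : Nat.card (fixingSubgroup G (S : Set X)) * S.card.factorial ≤ Nat.card (stabilizer G S)) :
    Function.Surjective (stabHom G S) := by
  rw [← MonoidHom.range_eq_top]
  apply range_eq_of_card _ le_top
  rwa [card_ker_stabHom, Subgroup.card_top, Nat.card_perm, Nat.card_eq_fintype_card,
    Fintype.card_coe, mul_comm]

/-- a normal subgroup with given quotient from a surjection defined on an isomorphic group -/
theorem exists_normal_of_hom {H H' K : Type*} [Group H] [Group H'] [Group K] (e : H ≃* H')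
    (φ : H →* K) (hφ : φ.range = ⊤) :
    ∃ (N : Subgroup H') (_ : N.Normal), Nat.card N = Nat.card φ.ker ∧
      (∀ x ∈ N, e.symm x ∈ φ.ker) ∧ Nonempty (H' ⧸ N ≃* K) := by
  refine ⟨(φ.comp e.symm.toMonoidHom).ker, inferInstance, ?_, fun x hx => hx,
    ⟨QuotientGroup.quotientKerEquivOfSurjective _
      ((MonoidHom.range_eq_top.1 hφ).comp e.symm.surjective)⟩⟩
  exact Nat.card_congr ⟨fun x => ⟨e.symm x, x.2⟩, fun x => ⟨e x, by
    show φ (e.symm (e x)) = 1
    rw [e.symm_apply_apply]; exact x.2⟩, fun x => Subtype.ext (e.apply_symm_apply _),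
    fun x => Subtype.ext (e.symm_apply_apply _)⟩

end General

/-- the order of a subgroup cut out by a test inside the group of a chain -/
theorem Codes.card_eq_cntC {O : Ops} {G : Type*} [Group G] [Finite G] {α : Type*} [MulAction G α]
    (C : Codes O G α) {c : List Level} (hv : ∀ s ∈ gens c, C.In ⊤ s) (hc : checkC O c = true)
    {K : Subgroup G} (f : ℕ → Bool)
    (h : ∀ g, g ∈ K ↔ g ∈ C.grp (gens c) ∧ f (C.code g) = true) :
    Nat.card K = cntC O f c O.one := by
  rw [← C.ncard_eq_cntC hv hc, ← Nat.card_coe_set_eq]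
  exact Nat.card_congr (Equiv.subtypeEquivRight h)

theorem smul_pt_iff (g : M24) {i j : ℕ} (hi : i < 24) (hj : j < 24) :
    g • pt i = pt j ↔ app24 (CM.code g) i = j :=
  ⟨fun h => by rw [← pn_pt hi, ← pn_smulM, h, pn_pt hj], smul_pt_eq hi⟩

theorem smul_ts_iff (g : M24) {a b : ℕ} (ha : a < 16777216) (hb : b < 16777216) :
    g • ts a = ts b ↔ act24 (CM.code g) a = b :=
  ⟨fun h => by rw [← mk_ts ha, ← mk_smulM, h, mk_ts hb], smul_ts_eq ha⟩

theorem fixing_fam (l : List ℕ) : fixingSubgroup M24 (fam l : Set (Finset GolayPt)) = Fix [] l := by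
  ext g
  simp only [mem_fixingSubgroup_iff, mem_Fix, Finset.mem_coe, mem_fam']
  exact ⟨fun h => ⟨by simp, fun m hm => h _ ⟨m, hm, rfl⟩⟩,
    fun h _ ⟨m, hm, e⟩ => e ▸ h.2 m hm⟩

theorem grp_drop_Fix {c : List Level} (hv : ∀ s ∈ gens c, CM.In ⊤ s) (hc : checkC ops24 c = true)
    {P L : List ℕ} (hg : CM.grp (gens c) = Fix P L) (i : ℕ) {P' : List ℕ}
    (hb : (c.take i).map Level.b = P') (hP : ∀ j ∈ P', j < 24) :
    CM.grp (gens (c.drop i)) = Fix (P' ++ P) L := by
  ext g
  rw [CM.mem_drop_iff hv hc, hg]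
  simp only [mem_Fix, List.mem_append]
  constructor
  · rintro ⟨⟨h1, h2⟩, h3⟩
    refine ⟨fun j hj => hj.elim (fun hj => ?_) (h1 j), h2⟩
    rw [← hb] at hj
    obtain ⟨l, hl, rfl⟩ := List.mem_map.1 hj
    exact h3 l hl _ (pn_pt (hP _ (hb ▸ hj)))
  · rintro ⟨h1, h2⟩
    refine ⟨⟨fun j hj => h1 j (Or.inr hj), h2⟩, fun l hl a ha => ?_⟩
    rw [← pt_pn a, ← CM_enc, ha]
    exact h1 _ (Or.inl (hb ▸ List.mem_map_of_mem hl))

/-- moving points to the first base point of a chain -/
theorem move_of_chain {c : List Level} {H : Subgroup M24} (hv : ∀ s ∈ gens c, CM.In H s)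
    (hc : checkC ops24 c = true) {b B : ℕ} (hb : b < 24)
    (h : (c.take 1).map (fun l => (l.b, l.B)) = [(b, B)]) {a : GolayPt} (ha : a ∈ ts B) :
    ∃ g ∈ H, g • a = pt b := by
  cases c with
  | nil => simp at h
  | cons l r =>
    simp only [List.take_succ_cons, List.take_zero, List.map_cons, List.map_nil, List.cons.injEq,
      Prod.mk.injEq, and_true] at h
    obtain ⟨g, hg, e⟩ := CM.move (fun s hs => (hv s hs).mono le_top) hc (a := pt b)
      (by rw [h.1]; exact pn_pt hb) (x := a) (by rw [h.2]; exact (Finset.mem_filter.1 ha).2)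
    exact ⟨g, CM.grp_le hv hg, e⟩

/-- checks for successive stabilisers of sets: for each set a list of elements moving it -/
def stepChk (L : List (ℕ × List ℕ)) : (ℕ → Bool) → Bool :=
  List.rec (motive := fun _ => (ℕ → Bool) → Bool) (fun _ => true)
    (fun x _ ih tst => band (Nat.blt x.1 16777216) (band (allL x.2 tst)
      (band (famOK (x.2.map fun p => act24 p x.1))
        (ih fun p => band (tst p) (Nat.beq (act24 p x.1) x.1))))) L

theorem card_steps (L : List (ℕ × List ℕ)) {H : Subgroup M24} {tst : ℕ → Bool}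
    (ht : ∀ p, tst p = true → CM.In H p) (h : stepChk L tst = true) :
    Nat.card (H ⊓ Fix [] (L.map Prod.fst) : Subgroup M24) * (L.map fun x => x.2.length).prod ≤
      Nat.card H := by
  induction L generalizing H tst with
  | nil => simp [Fix_nil]
  | cons x L ih =>
    have h : band (Nat.blt x.1 16777216) (band (allL x.2 tst)
      (band (famOK (x.2.map fun p => act24 p x.1))
        (stepChk L fun p => band (tst p) (Nat.beq (act24 p x.1) x.1)))) = true := h
    simp only [band_eq, Bool.and_eq_true, blt_true_iff, allL_iff] at h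
    obtain ⟨h1, h2, h3, h4⟩ := h
    have k1 := ih (H := H ⊓ stabilizer M24 (ts x.1)) (fun p hp => by
      simp only [band_eq, Bool.and_eq_true, beq_true_iff] at hp
      obtain ⟨g, hg, rfl⟩ := ht p hp.1
      exact ⟨g, ⟨hg, smul_ts_eq h1 hp.2⟩, rfl⟩) h4
    have k2 := card_inf_stabilizer_le H (ts x.1) (fam (x.2.map fun p => act24 p x.1))
      (fun y hy => by
        rw [Finset.mem_coe, mem_fam'] at hy
        obtain ⟨_, hp, rfl⟩ := hy
        obtain ⟨p, hp', rfl⟩ := List.mem_map.1 hp
        obtain ⟨g, hg, rfl⟩ := ht p (h2 p hp')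
        exact ⟨g, hg, smul_ts_eq h1 rfl⟩)
    rw [Set.ncard_coe_finset, card_fam h3, List.length_map] at k2
    rw [List.map_cons, List.map_cons, List.prod_cons, Fix_cons_set, inf_comm (Fix _ _), ← inf_assoc,
      mul_comm x.2.length, ← mul_assoc]
    exact (Nat.mul_le_mul_right _ k1).trans k2

/-- the group of the code paired with a faithfully represented group -/
def pairM {K β : Type*} [Group K] {n₂ : ℕ} (w m w₂ m₂ : ℕ) (E : Enc β n₂) (f : K →* Equiv.Perm β)
    (hf : Function.Injective f) (hw : 24 + n₂ ≤ 2 ^ w := by norm_num)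
    (hm : m = 2 ^ w - 1 := by norm_num) (hw₂ : n₂ ≤ 2 ^ w₂ := by norm_num)
    (hm₂ : m₂ = 2 ^ w₂ - 1 := by norm_num) : Pair M24 K GolayPt β 24 n₂ w m 5 31 w₂ m₂ :=
  ⟨E24, E, M24.subtype, f, Subtype.val_injective, hf, hw, hm, by norm_num, by norm_num, hw₂, hm₂⟩

theorem Pair.sq_eq_one {G K α β : Type*} [Group G] [Group K] [Finite G] [Finite K]
    {n₁ n₂ w m w₁ m₁ w₂ m₂ : ℕ} (P : Pair G K α β n₁ n₂ w m w₁ m₁ w₂ m₂) {c : List Level}
    (hv : ∀ s ∈ gens c, P.In ⊤ s) (hc : checkC (permOps w m (n₁ + n₂)) c = true)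
    (h : allC (permOps w m (n₁ + n₂)) (fun s => Nat.beq (pmul w m (n₁ + n₂) s s) (pone w (n₁ + n₂)))
      c (pone w (n₁ + n₂)) = true) : ∀ d ∈ P.grp (gens c), d * d = 1 := by
  intro d hd
  have := (beq_true_iff _ _).1 (P.all_mem hv hc _ h d hd)
  apply @Codes.code_inj _ _ _ _ P.act P.C
  rw [@Codes.code_mul _ _ _ _ P.act P.C, @Codes.code_one _ _ _ _ P.act P.C]
  exact this

theorem quot_center_equiv {S G : Type*} [Group S] [Group G] [Finite S] (φ : (⊤ : Subgroup S) →* G)
    (hc : ∀ z ∈ Subgroup.center S, φ ⟨z, trivial⟩ = 1)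
    (hk : Nat.card φ.ker ≤ Nat.card (Subgroup.center S)) :
    Nonempty (φ.range ≃* S ⧸ Subgroup.center S) := by
  let ψ : S →* G := φ.comp Subgroup.topEquiv.symm.toMonoidHom
  have h1 : Subgroup.center S = ψ.ker := by
    apply Subgroup.eq_of_le_of_card_ge (fun z hz => hc z hz)
    refine le_trans (Nat.card_le_card_of_injective (fun x => (⟨⟨x, trivial⟩, x.2⟩ : φ.ker)) ?_) hk
    intro a b h
    exact Subtype.ext (congrArg (fun x : φ.ker => (x.1 : S)) h)
  have h2 : ψ.range = φ.range := by
    ext y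
    exact ⟨fun ⟨x, hx⟩ => ⟨_, hx⟩, fun ⟨x, hx⟩ => ⟨x, hx⟩⟩
  exact ⟨(MulEquiv.subgroupCongr h2.symm).trans ((QuotientGroup.quotientKerEquivRange ψ).symm.trans
    (QuotientGroup.quotientMulEquivOfEq h1.symm))⟩

theorem psl2_equiv {F G : Type*} [Field F] [Finite F] [Group G] (h2 : (1 : F) ≠ -1)
    (φ : (⊤ : Subgroup (Matrix.SpecialLinearGroup (Fin 2) F)) →* G) (hc : φ ⟨-1, trivial⟩ = 1)
    (hk : Nat.card φ.ker ≤ 2) :
    Nonempty (φ.range ≃* Matrix.ProjectiveSpecialLinearGroup (Fin 2) F) := by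
  apply quot_center_equiv φ
  · intro z hz
    obtain ⟨r, hr, e⟩ := Matrix.SpecialLinearGroup.mem_center_iff.1 hz
    rw [Fintype.card_fin, sq_eq_one_iff] at hr
    rcases hr with rfl | rfl
    · have : z = 1 := Subtype.ext (by rw [← e]; simp)
      subst this; exact map_one φ
    · have : z = -1 := Subtype.ext (by rw [← e, map_neg, map_one]; rfl)
      subst this; exact hc
  · refine hk.trans (Finite.one_lt_card_iff_nontrivial.2 ⟨⟨1, ⟨-1, ?_⟩, fun h => h2 ?_⟩⟩)
    · rw [Subgroup.mem_center_iff]; intro g; simp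
    · have := congrArg (fun x : Subgroup.center (Matrix.SpecialLinearGroup (Fin 2) F) =>
        (x.1 : Matrix (Fin 2) (Fin 2) F) 0 0) h
      simpa using this

theorem card_SL_zmod (n p : ℕ) [Fact p.Prime] [NeZero n] :
    Nat.card (Matrix.SpecialLinearGroup (Fin n) (ZMod p)) * (p - 1) =
      ∏ i : Fin n, (p ^ n - p ^ (i : ℕ)) := by
  have := card_SL_mul (F := ZMod p) n
  rwa [Matrix.card_GL_field, ZMod.card] at this

theorem card_GL_zmod (n p : ℕ) [Fact p.Prime] :
    Nat.card (GL (Fin n) (ZMod p)) = ∏ i : Fin n, (p ^ n - p ^ (i : ℕ)) := by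
  rw [Matrix.card_GL_field, ZMod.card]

end

end CfsgH5
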