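/-
Faithful permutation representations of abstract groups; Sylow conjugation lemmas.
-/
import Cfsg.Agent.H5.Str

set_option autoImplicit false
set_option linter.unusedSimpArgs false
set_option linter.unusedSectionVars false
set_option linter.unusedVariables false

namespace CfsgH5

open scoped Pointwise
open MulAction

noncomputable section

theorem exists_hom_of_range_equiv {S Q G : Type*} [Group S] [Group Q] [Group G] {φ : S →* G}
    (e : Nonempty (φ.range ≃* Q)) : ∃ f : Q →* G, Function.Injective f ∧ f.range = φ.range := by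
  obtain ⟨e⟩ := e
  refine ⟨φ.range.subtype.comp e.symm.toMonoidHom, Subtype.val_injective.comp e.symm.injective, ?_⟩
  ext y
  exact ⟨fun ⟨x, hx⟩ => hx ▸ (e.symm x).2, fun h => ⟨e ⟨y, h⟩, by simp⟩⟩

theorem range_comp_equiv {Q Q' G : Type*} [Group Q] [Group Q'] [Group G] (f : Q →* G) (e : Q' ≃* Q) :
    (f.comp e.toMonoidHom).range = f.range := by
  ext y
  exact ⟨fun ⟨x, hx⟩ => ⟨e x, hx⟩, fun ⟨x, hx⟩ => ⟨e.symm x, by simpa using hx⟩⟩

section Pull

variable {O : Ops} {G : Type*} [Group G] {α : Type*} [MulAction G α] (C : Codes O G α)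
  {Q : Type*} [Group Q] (f : Q →* G) (hf : Function.Injective f)

/-- a coding pulled back along an injective homomorphism -/
def Codes.pull : @Codes O Q _ α (MulAction.compHom α f) :=
  @Codes.comap _ _ _ _ _ C Q _ (MulAction.compHom α f) f hf fun _ _ => rfl

theorem Codes.pull_in {p : ℕ} (h : C.In f.range p) :
    @Codes.In _ _ _ _ (MulAction.compHom α f) (C.pull f hf) ⊤ p := by
  obtain ⟨_, ⟨g, rfl⟩, e⟩ := h
  exact ⟨g, trivial, e⟩

theorem Codes.pull_valid {S : List ℕ} (hv : ∀ s ∈ S, C.In ⊤ s) (hr : f.range = C.grp S) :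
    ∀ s ∈ S, @Codes.In _ _ _ _ (MulAction.compHom α f) (C.pull f hf) ⊤ s :=
  fun s hs => C.pull_in f hf (hr ▸ C.in_grp hv hs)

theorem Codes.pull_in_of_memC [Finite G] {c : List Level} (hv : ∀ s ∈ gens c, C.In ⊤ s)
    (hc : checkC O c = true) (hr : f.range = C.grp (gens c)) {p : ℕ} (hp : C.In ⊤ p)
    (h : memC O c p = true) : @Codes.In _ _ _ _ (MulAction.compHom α f) (C.pull f hf) ⊤ p :=
  C.pull_in f hf (hr ▸ C.in_of_memC hv hc hp h)

include hf in
theorem Codes.card_of_range [Finite G] {c : List Level} (hv : ∀ s ∈ gens c, C.In ⊤ s)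
    (hc : checkC O c = true) (hr : f.range = C.grp (gens c)) : Nat.card Q = ordC O c := by
  rw [← C.card_grp hv hc, ← hr]
  exact Nat.card_congr (MonoidHom.ofInjective hf).toEquiv

theorem Codes.pull_grp [Finite G] {c : List Level} (hv : ∀ s ∈ gens c, C.In ⊤ s)
    (hc : checkC O c = true) (hr : f.range = C.grp (gens c)) :
    @Codes.grp _ _ _ _ (MulAction.compHom α f) (C.pull f hf) (gens c) = ⊤ := by
  haveI : Finite Q := Finite.of_injective f hf
  exact @Codes.grp_eq_of_card _ _ _ _ (MulAction.compHom α f) (C.pull f hf) _ _ _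
    (C.pull_valid f hf hv hr) hc (by rw [Subgroup.card_top, C.card_of_range f hf hv hc hr])

end Pull

/-- the alternating group from a chain of the right order -/
theorem Codes.grp_eq_alt {O : Ops} {α : Type*} [Fintype α] [DecidableEq α]
    (C : Codes O (Equiv.Perm α) α) {c : List Level} (hv : ∀ s ∈ gens c, C.In ⊤ s)
    (hc : checkC O c = true) (h : ordC O c * 2 = (Fintype.card α).factorial) :
    C.grp (gens c) = alternatingGroup α := by
  apply Equiv.Perm.eq_alternatingGroup_of_index_eq_two
  have h2 := (C.grp (gens c)).card_mul_index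
  rw [C.card_grp hv hc, Nat.card_perm, Nat.card_eq_fintype_card, ← h] at h2
  have : 0 < ordC O c := by rw [← C.card_grp hv hc]; exact Nat.card_pos
  exact Nat.eq_of_mul_eq_mul_left this h2

section Sylow

variable {G : Type*} [Group G] [Finite G] {p : ℕ} [Fact p.Prime]

theorem exists_conj_into (P : Subgroup G) {k : ℕ} (hP : Nat.card P = p ^ k)
    (hk : ¬ p ^ (k + 1) ∣ Nat.card G) {X : Subgroup G} (hX : IsPGroup p X) :
    ∃ g : G, ∀ x ∈ X, g * x * g⁻¹ ∈ P := by
  have hf : (Nat.card G).factorization p = k := by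
    apply le_antisymm
    · by_contra h
      exact hk ((pow_dvd_pow p (by omega)).trans (Nat.ordProj_dvd _ p))
    · rw [← (Fact.out : p.Prime).pow_dvd_iff_le_factorization Nat.card_pos.ne', ← hP]
      exact P.card_subgroup_dvd_card
  obtain ⟨Q, hQ⟩ := hX.exists_le_sylow
  obtain ⟨g, hg⟩ := MulAction.exists_smul_eq G Q (Sylow.ofCard P (hf ▸ hP))
  refine ⟨g, fun x hx => ?_⟩
  have : g * x * g⁻¹ ∈ (g • Q : Sylow p G) := by
    rw [← SetLike.mem_coe, Sylow.coe_smul]
    exact Set.smul_mem_smul_set (a := MulAut.conj g) (hQ hx)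
  rw [hg] at this
  exact this

theorem exists_conj_mem (P : Subgroup G) {k : ℕ} (hP : Nat.card P = p ^ k)
    (hk : ¬ p ^ (k + 1) ∣ Nat.card G) {x : G} {j : ℕ} (hx : x ^ p ^ j = 1) :
    ∃ g : G, g * x * g⁻¹ ∈ P := by
  obtain ⟨g, hg⟩ := exists_conj_into P hP hk (X := Subgroup.zpowers x) (by
    obtain ⟨i, -, hi⟩ := (Nat.dvd_prime_pow Fact.out).1 (orderOf_dvd_of_pow_eq_one hx)
    exact IsPGroup.of_card (by rw [Nat.card_zpowers, hi]))
  exact ⟨g, hg x (Subgroup.mem_zpowers x)⟩

/-- a subgroup whose order is divisible by the full power of `p` contains a conjugate of `P` -/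
theorem exists_conj_le (P : Subgroup G) {k : ℕ} (hP : Nat.card P = p ^ k)
    (hk : ¬ p ^ (k + 1) ∣ Nat.card G) {H : Subgroup G} (hH : p ^ k ∣ Nat.card H) :
    ∃ g : G, P ≤ MulAut.conj g • H := by
  obtain ⟨X, hX⟩ := Sylow.exists_subgroup_card_pow_prime p hH
  have hc : Nat.card (X.map H.subtype) = p ^ k := by
    rw [Subgroup.card_map_of_injective H.subtype_injective, hX]
  obtain ⟨g, hg⟩ := exists_conj_into P hP hk (X := X.map H.subtype) (IsPGroup.of_card hc)
  refine ⟨g, ?_⟩
  have : MulAut.conj g • X.map H.subtype = P := by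
    apply Subgroup.eq_of_le_of_card_ge
    · rintro _ ⟨x, hx, rfl⟩
      exact hg x hx
    · rw [hP, ← hc]
      exact (Subgroup.card_map_of_injective (MulAut.conj g).injective).ge
  rw [← this]
  exact Subgroup.pointwise_smul_le_pointwise_smul_iff.2 (Subgroup.map_subtype_le X)

end Sylow

theorem mem_conj_smul {G : Type*} [Group G] (g x : G) (H : Subgroup G) :
    x ∈ MulAut.conj g • H ↔ g⁻¹ * x * g ∈ H := by
  rw [Subgroup.mem_pointwise_smul_iff_inv_smul_mem]; rfl

theorem conj_mem_conj_smul {G : Type*} [Group G] (g x : G) (H : Subgroup G) :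
    g * x * g⁻¹ ∈ MulAut.conj g • H ↔ x ∈ H := by
  rw [mem_conj_smul]; simp [mul_assoc]

theorem card_conj_smul {G : Type*} [Group G] (g : G) (H : Subgroup G) :
    Nat.card (MulAut.conj g • H : Subgroup G) = Nat.card H :=
  Subgroup.card_map_of_injective (MulAut.conj g).injective

/-- conjugate subgroups are isomorphic -/
def conjSmulEquiv {G : Type*} [Group G] (g : G) (H : Subgroup G) :
    H ≃* (MulAut.conj g • H : Subgroup G) :=
  conjEquiv g fun x => (conj_mem_conj_smul g x H).symm

theorem index_conj_smul {G : Type*} [Group G] [Finite G] (g : G) (H : Subgroup G) :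
    (MulAut.conj g • H : Subgroup G).index = H.index := by
  have h1 := H.card_mul_index
  rw [← (MulAut.conj g • H : Subgroup G).card_mul_index, card_conj_smul] at h1
  exact (Nat.eq_of_mul_eq_mul_left Nat.card_pos h1).symm

theorem conj_smul_conj_smul {G : Type*} [Group G] (g k : G) (H : Subgroup G) :
    MulAut.conj g • MulAut.conj k • H = MulAut.conj (g * k) • H := by
  rw [map_mul, mul_smul]

theorem conj_smul_stabilizer {G X : Type*} [Group G] [MulAction G X] (g : G) (a : X) :
    MulAut.conj g • stabilizer G a = stabilizer G (g • a) := by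
  ext x
  rw [mem_conj_smul, mem_stabilizer_iff, mem_stabilizer_iff, conj_smul_eq]

theorem card_center_SL {F : Type*} [Field F] (n : ℕ) [NeZero n] :
    Nat.card (Subgroup.center (Matrix.SpecialLinearGroup (Fin n) F)) = Nat.card (rootsOfUnity n F) := by
  have := Nat.card_congr (Matrix.SpecialLinearGroup.center_equiv_rootsOfUnity' (n := Fin n)
    (R := F) 0).toEquiv
  rwa [Fintype.card_fin] at this

theorem card_center_SL_of_dvd {F : Type*} [Field F] [Fintype F] (n : ℕ) [NeZero n]
    (h : Fintype.card F - 1 ∣ n) :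
    Nat.card (Subgroup.center (Matrix.SpecialLinearGroup (Fin n) F)) = Fintype.card F - 1 := by
  have : rootsOfUnity n F = ⊤ := by
    rw [eq_top_iff]
    intro u _
    rw [mem_rootsOfUnity, ← orderOf_dvd_iff_pow_eq_one]
    refine (orderOf_dvd_natCard u).trans ?_
    rwa [Nat.card_units, Nat.card_eq_fintype_card]
  rw [card_center_SL, this, Subgroup.card_top, Nat.card_units, Nat.card_eq_fintype_card]

theorem card_SL_field {F : Type*} [Field F] [Fintype F] (n : ℕ) [NeZero n] :
    Nat.card (Matrix.SpecialLinearGroup (Fin n) F) * (Fintype.card F - 1) =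
      ∏ i : Fin n, (Fintype.card F ^ n - Fintype.card F ^ (i : ℕ)) := by
  rw [card_SL_mul, Matrix.card_GL_field]

end

end CfsgH5
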