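import Cfsg.Agent.H5.BEc
/-! Baby Monster letters: signed permutation tables (generated). -/
set_option Elab.async false
set_option linter.all false
namespace CfsgH5.BE
open I16 I18 E
noncomputable section
noncomputable def tb21 : Tab :=
@T18.mk (T16 (T16 E))
 (@T16.mk (T16 E)
  (@T16.mk E (n j1 i15 i10) (p j1 i15 i11) (n j1 i15 i8) (p j1 i15 i9) (p j1 i15 i14) (n j1 i15 i15) (p j1 i15 i12) (n j1 i15 i13) (n j1 i15 i2) (p j1 i15 i3) (n j1 i15 i0) (p j1 i15 i1) (p j1 i15 i6) (n j1 i15 i7) (p j1 i15 i4) (n j1 i15 i5))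
  (@T16.mk E (p j1 i14 i10) (n j1 i14 i11) (p j1 i14 i8) (n j1 i14 i9) (n j1 i14 i14) (p j1 i14 i15) (n j1 i14 i12) (p j1 i14 i13) (p j1 i14 i2) (n j1 i14 i3) (p j1 i14 i0) (n j1 i14 i1) (n j1 i14 i6) (p j1 i14 i7) (n j1 i14 i4) (p j1 i14 i5))
  (@T16.mk E (n j1 i13 i10) (p j1 i13 i11) (n j1 i13 i8) (p j1 i13 i9) (p j1 i13 i14) (n j1 i13 i15) (p j1 i13 i12) (n j1 i13 i13) (n j1 i13 i2) (p j1 i13 i3) (n j1 i13 i0) (p j1 i13 i1) (p j1 i13 i6) (n j1 i13 i7) (p j1 i13 i4) (n j1 i13 i5))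
  (@T16.mk E (p j1 i12 i10) (n j1 i12 i11) (p j1 i12 i8) (n j1 i12 i9) (n j1 i12 i14) (p j1 i12 i15) (n j1 i12 i12) (p j1 i12 i13) (p j1 i12 i2) (n j1 i12 i3) (p j1 i12 i0) (n j1 i12 i1) (n j1 i12 i6) (p j1 i12 i7) (n j1 i12 i4) (p j1 i12 i5))
  (@T16.mk E (n j1 i11 i10) (p j1 i11 i11) (n j1 i11 i8) (p j1 i11 i9) (p j1 i11 i14) (n j1 i11 i15) (p j1 i11 i12) (n j1 i11 i13) (n j1 i11 i2) (p j1 i11 i3) (n j1 i11 i0) (p j1 i11 i1) (p j1 i11 i6) (n j1 i11 i7) (p j1 i11 i4) (n j1 i11 i5))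
  (@T16.mk E (p j1 i10 i10) (n j1 i10 i11) (p j1 i10 i8) (n j1 i10 i9) (n j1 i10 i14) (p j1 i10 i15) (n j1 i10 i12) (p j1 i10 i13) (p j1 i10 i2) (n j1 i10 i3) (p j1 i10 i0) (n j1 i10 i1) (n j1 i10 i6) (p j1 i10 i7) (n j1 i10 i4) (p j1 i10 i5))
  (@T16.mk E (p j1 i9 i10) (n j1 i9 i11) (p j1 i9 i8) (n j1 i9 i9) (n j1 i9 i14) (p j1 i9 i15) (n j1 i9 i12) (p j1 i9 i13) (p j1 i9 i2) (n j1 i9 i3) (p j1 i9 i0) (n j1 i9 i1) (n j1 i9 i6) (p j1 i9 i7) (n j1 i9 i4) (p j1 i9 i5))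
  (@T16.mk E (p j1 i8 i10) (n j1 i8 i11) (p j1 i8 i8) (n j1 i8 i9) (n j1 i8 i14) (p j1 i8 i15) (n j1 i8 i12) (p j1 i8 i13) (p j1 i8 i2) (n j1 i8 i3) (p j1 i8 i0) (n j1 i8 i1) (n j1 i8 i6) (p j1 i8 i7) (n j1 i8 i4) (p j1 i8 i5))
  (@T16.mk E (n j1 i7 i10) (p j1 i7 i11) (n j1 i7 i8) (p j1 i7 i9) (p j1 i7 i14) (n j1 i7 i15) (p j1 i7 i12) (n j1 i7 i13) (n j1 i7 i2) (p j1 i7 i3) (n j1 i7 i0) (p j1 i7 i1) (p j1 i7 i6) (n j1 i7 i7) (p j1 i7 i4) (n j1 i7 i5))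
  (@T16.mk E (n j1 i6 i10) (p j1 i6 i11) (n j1 i6 i8) (p j1 i6 i9) (p j1 i6 i14) (n j1 i6 i15) (p j1 i6 i12) (n j1 i6 i13) (n j1 i6 i2) (p j1 i6 i3) (n j1 i6 i0) (p j1 i6 i1) (p j1 i6 i6) (n j1 i6 i7) (p j1 i6 i4) (n j1 i6 i5))
  (@T16.mk E (n j1 i5 i10) (p j1 i5 i11) (n j1 i5 i8) (p j1 i5 i9) (p j1 i5 i14) (n j1 i5 i15) (p j1 i5 i12) (n j1 i5 i13) (n j1 i5 i2) (p j1 i5 i3) (n j1 i5 i0) (p j1 i5 i1) (p j1 i5 i6) (n j1 i5 i7) (p j1 i5 i4) (n j1 i5 i5))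
  (@T16.mk E (p j1 i4 i10) (n j1 i4 i11) (p j1 i4 i8) (n j1 i4 i9) (n j1 i4 i14) (p j1 i4 i15) (n j1 i4 i12) (p j1 i4 i13) (p j1 i4 i2) (n j1 i4 i3) (p j1 i4 i0) (n j1 i4 i1) (n j1 i4 i6) (p j1 i4 i7) (n j1 i4 i4) (p j1 i4 i5))
  (@T16.mk E (p j1 i3 i10) (n j1 i3 i11) (p j1 i3 i8) (n j1 i3 i9) (n j1 i3 i14) (p j1 i3 i15) (n j1 i3 i12) (p j1 i3 i13) (p j1 i3 i2) (n j1 i3 i3) (p j1 i3 i0) (n j1 i3 i1) (n j1 i3 i6) (p j1 i3 i7) (n j1 i3 i4) (p j1 i3 i5))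
  (@T16.mk E (p j1 i2 i10) (n j1 i2 i11) (p j1 i2 i8) (n j1 i2 i9) (n j1 i2 i14) (p j1 i2 i15) (n j1 i2 i12) (p j1 i2 i13) (p j1 i2 i2) (n j1 i2 i3) (p j1 i2 i0) (n j1 i2 i1) (n j1 i2 i6) (p j1 i2 i7) (n j1 i2 i4) (p j1 i2 i5))
  (@T16.mk E (n j1 i1 i10) (p j1 i1 i11) (n j1 i1 i8) (p j1 i1 i9) (p j1 i1 i14) (n j1 i1 i15) (p j1 i1 i12) (n j1 i1 i13) (n j1 i1 i2) (p j1 i1 i3) (n j1 i1 i0) (p j1 i1 i1) (p j1 i1 i6) (n j1 i1 i7) (p j1 i1 i4) (n j1 i1 i5))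
  (@T16.mk E (n j1 i0 i10) (p j1 i0 i11) (n j1 i0 i8) (p j1 i0 i9) (p j1 i0 i14) (n j1 i0 i15) (p j1 i0 i12) (n j1 i0 i13) (n j1 i0 i2) (p j1 i0 i3) (n j1 i0 i0) (p j1 i0 i1) (p j1 i0 i6) (n j1 i0 i7) (p j1 i0 i4) (n j1 i0 i5))
 )
 (@T16.mk (T16 E)
  (@T16.mk E (n j0 i15 i10) (p j0 i15 i11) (n j0 i15 i8) (p j0 i15 i9) (p j0 i15 i14) (n j0 i15 i15) (p j0 i15 i12) (n j0 i15 i13) (n j0 i15 i2) (p j0 i15 i3) (n j0 i15 i0) (p j0 i15 i1) (p j0 i15 i6) (n j0 i15 i7) (p j0 i15 i4) (n j0 i15 i5))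
  (@T16.mk E (n j0 i14 i10) (p j0 i14 i11) (n j0 i14 i8) (p j0 i14 i9) (p j0 i14 i14) (n j0 i14 i15) (p j0 i14 i12) (n j0 i14 i13) (n j0 i14 i2) (p j0 i14 i3) (n j0 i14 i0) (p j0 i14 i1) (p j0 i14 i6) (n j0 i14 i7) (p j0 i14 i4) (n j0 i14 i5))
  (@T16.mk E (p j0 i13 i10) (n j0 i13 i11) (p j0 i13 i8) (n j0 i13 i9) (n j0 i13 i14) (p j0 i13 i15) (n j0 i13 i12) (p j0 i13 i13) (p j0 i13 i2) (n j0 i13 i3) (p j0 i13 i0) (n j0 i13 i1) (n j0 i13 i6) (p j0 i13 i7) (n j0 i13 i4) (p j0 i13 i5))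
  (@T16.mk E (p j0 i12 i10) (n j0 i12 i11) (p j0 i12 i8) (n j0 i12 i9) (n j0 i12 i14) (p j0 i12 i15) (n j0 i12 i12) (p j0 i12 i13) (p j0 i12 i2) (n j0 i12 i3) (p j0 i12 i0) (n j0 i12 i1) (n j0 i12 i6) (p j0 i12 i7) (n j0 i12 i4) (p j0 i12 i5))
  (@T16.mk E (p j0 i11 i10) (n j0 i11 i11) (p j0 i11 i8) (n j0 i11 i9) (n j0 i11 i14) (p j0 i11 i15) (n j0 i11 i12) (p j0 i11 i13) (p j0 i11 i2) (n j0 i11 i3) (p j0 i11 i0) (n j0 i11 i1) (n j0 i11 i6) (p j0 i11 i7) (n j0 i11 i4) (p j0 i11 i5))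
  (@T16.mk E (n j0 i10 i10) (p j0 i10 i11) (n j0 i10 i8) (p j0 i10 i9) (p j0 i10 i14) (n j0 i10 i15) (p j0 i10 i12) (n j0 i10 i13) (n j0 i10 i2) (p j0 i10 i3) (n j0 i10 i0) (p j0 i10 i1) (p j0 i10 i6) (n j0 i10 i7) (p j0 i10 i4) (n j0 i10 i5))
  (@T16.mk E (n j0 i9 i10) (p j0 i9 i11) (n j0 i9 i8) (p j0 i9 i9) (p j0 i9 i14) (n j0 i9 i15) (p j0 i9 i12) (n j0 i9 i13) (n j0 i9 i2) (p j0 i9 i3) (n j0 i9 i0) (p j0 i9 i1) (p j0 i9 i6) (n j0 i9 i7) (p j0 i9 i4) (n j0 i9 i5))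
  (@T16.mk E (n j0 i8 i10) (p j0 i8 i11) (n j0 i8 i8) (p j0 i8 i9) (p j0 i8 i14) (n j0 i8 i15) (p j0 i8 i12) (n j0 i8 i13) (n j0 i8 i2) (p j0 i8 i3) (n j0 i8 i0) (p j0 i8 i1) (p j0 i8 i6) (n j0 i8 i7) (p j0 i8 i4) (n j0 i8 i5))
  (@T16.mk E (p j0 i7 i10) (n j0 i7 i11) (p j0 i7 i8) (n j0 i7 i9) (n j0 i7 i14) (p j0 i7 i15) (n j0 i7 i12) (p j0 i7 i13) (p j0 i7 i2) (n j0 i7 i3) (p j0 i7 i0) (n j0 i7 i1) (n j0 i7 i6) (p j0 i7 i7) (n j0 i7 i4) (p j0 i7 i5))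
  (@T16.mk E (p j0 i6 i10) (n j0 i6 i11) (p j0 i6 i8) (n j0 i6 i9) (n j0 i6 i14) (p j0 i6 i15) (n j0 i6 i12) (p j0 i6 i13) (p j0 i6 i2) (n j0 i6 i3) (p j0 i6 i0) (n j0 i6 i1) (n j0 i6 i6) (p j0 i6 i7) (n j0 i6 i4) (p j0 i6 i5))
  (@T16.mk E (p j0 i5 i10) (n j0 i5 i11) (p j0 i5 i8) (n j0 i5 i9) (n j0 i5 i14) (p j0 i5 i15) (n j0 i5 i12) (p j0 i5 i13) (p j0 i5 i2) (n j0 i5 i3) (p j0 i5 i0) (n j0 i5 i1) (n j0 i5 i6) (p j0 i5 i7) (n j0 i5 i4) (p j0 i5 i5))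
  (@T16.mk E (n j0 i4 i10) (p j0 i4 i11) (n j0 i4 i8) (p j0 i4 i9) (p j0 i4 i14) (n j0 i4 i15) (p j0 i4 i12) (n j0 i4 i13) (n j0 i4 i2) (p j0 i4 i3) (n j0 i4 i0) (p j0 i4 i1) (p j0 i4 i6) (n j0 i4 i7) (p j0 i4 i4) (n j0 i4 i5))
  (@T16.mk E (p j0 i3 i10) (n j0 i3 i11) (p j0 i3 i8) (n j0 i3 i9) (n j0 i3 i14) (p j0 i3 i15) (n j0 i3 i12) (p j0 i3 i13) (p j0 i3 i2) (n j0 i3 i3) (p j0 i3 i0) (n j0 i3 i1) (n j0 i3 i6) (p j0 i3 i7) (n j0 i3 i4) (p j0 i3 i5))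
  (@T16.mk E (n j0 i2 i10) (p j0 i2 i11) (n j0 i2 i8) (p j0 i2 i9) (p j0 i2 i14) (n j0 i2 i15) (p j0 i2 i12) (n j0 i2 i13) (n j0 i2 i2) (p j0 i2 i3) (n j0 i2 i0) (p j0 i2 i1) (p j0 i2 i6) (n j0 i2 i7) (p j0 i2 i4) (n j0 i2 i5))
  (@T16.mk E (p j0 i1 i10) (n j0 i1 i11) (p j0 i1 i8) (n j0 i1 i9) (n j0 i1 i14) (p j0 i1 i15) (n j0 i1 i12) (p j0 i1 i13) (p j0 i1 i2) (n j0 i1 i3) (p j0 i1 i0) (n j0 i1 i1) (n j0 i1 i6) (p j0 i1 i7) (n j0 i1 i4) (p j0 i1 i5))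
  (@T16.mk E (n j0 i0 i10) (p j0 i0 i11) (n j0 i0 i8) (p j0 i0 i9) (p j0 i0 i14) (n j0 i0 i15) (p j0 i0 i12) (n j0 i0 i13) (n j0 i0 i2) (p j0 i0 i3) (n j0 i0 i0) (p j0 i0 i1) (p j0 i0 i6) (n j0 i0 i7) (p j0 i0 i4) (n j0 i0 i5))
 )
 (@T16.mk (T16 E)
  (@T16.mk E (p j3 i15 i10) (n j3 i15 i11) (p j3 i15 i8) (n j3 i15 i9) (n j3 i15 i14) (p j3 i15 i15) (n j3 i15 i12) (p j3 i15 i13) (p j3 i15 i2) (n j3 i15 i3) (p j3 i15 i0) (n j3 i15 i1) (n j3 i15 i6) (p j3 i15 i7) (n j3 i15 i4) (p j3 i15 i5))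
  (@T16.mk E (p j3 i14 i10) (n j3 i14 i11) (p j3 i14 i8) (n j3 i14 i9) (n j3 i14 i14) (p j3 i14 i15) (n j3 i14 i12) (p j3 i14 i13) (p j3 i14 i2) (n j3 i14 i3) (p j3 i14 i0) (n j3 i14 i1) (n j3 i14 i6) (p j3 i14 i7) (n j3 i14 i4) (p j3 i14 i5))
  (@T16.mk E (p j3 i13 i10) (n j3 i13 i11) (p j3 i13 i8) (n j3 i13 i9) (n j3 i13 i14) (p j3 i13 i15) (n j3 i13 i12) (p j3 i13 i13) (p j3 i13 i2) (n j3 i13 i3) (p j3 i13 i0) (n j3 i13 i1) (n j3 i13 i6) (p j3 i13 i7) (n j3 i13 i4) (p j3 i13 i5))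
  (@T16.mk E (p j3 i12 i10) (n j3 i12 i11) (p j3 i12 i8) (n j3 i12 i9) (n j3 i12 i14) (p j3 i12 i15) (n j3 i12 i12) (p j3 i12 i13) (p j3 i12 i2) (n j3 i12 i3) (p j3 i12 i0) (n j3 i12 i1) (n j3 i12 i6) (p j3 i12 i7) (n j3 i12 i4) (p j3 i12 i5))
  (@T16.mk E (n j3 i11 i10) (p j3 i11 i11) (n j3 i11 i8) (p j3 i11 i9) (p j3 i11 i14) (n j3 i11 i15) (p j3 i11 i12) (n j3 i11 i13) (n j3 i11 i2) (p j3 i11 i3) (n j3 i11 i0) (p j3 i11 i1) (p j3 i11 i6) (n j3 i11 i7) (p j3 i11 i4) (n j3 i11 i5))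
  (@T16.mk E (n j3 i10 i10) (p j3 i10 i11) (n j3 i10 i8) (p j3 i10 i9) (p j3 i10 i14) (n j3 i10 i15) (p j3 i10 i12) (n j3 i10 i13) (n j3 i10 i2) (p j3 i10 i3) (n j3 i10 i0) (p j3 i10 i1) (p j3 i10 i6) (n j3 i10 i7) (p j3 i10 i4) (n j3 i10 i5))
  (@T16.mk E (p j3 i9 i10) (n j3 i9 i11) (p j3 i9 i8) (n j3 i9 i9) (n j3 i9 i14) (p j3 i9 i15) (n j3 i9 i12) (p j3 i9 i13) (p j3 i9 i2) (n j3 i9 i3) (p j3 i9 i0) (n j3 i9 i1) (n j3 i9 i6) (p j3 i9 i7) (n j3 i9 i4) (p j3 i9 i5))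
  (@T16.mk E (n j3 i8 i10) (p j3 i8 i11) (n j3 i8 i8) (p j3 i8 i9) (p j3 i8 i14) (n j3 i8 i15) (p j3 i8 i12) (n j3 i8 i13) (n j3 i8 i2) (p j3 i8 i3) (n j3 i8 i0) (p j3 i8 i1) (p j3 i8 i6) (n j3 i8 i7) (p j3 i8 i4) (n j3 i8 i5))
  (@T16.mk E (p j3 i7 i10) (n j3 i7 i11) (p j3 i7 i8) (n j3 i7 i9) (n j3 i7 i14) (p j3 i7 i15) (n j3 i7 i12) (p j3 i7 i13) (p j3 i7 i2) (n j3 i7 i3) (p j3 i7 i0) (n j3 i7 i1) (n j3 i7 i6) (p j3 i7 i7) (n j3 i7 i4) (p j3 i7 i5))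
  (@T16.mk E (n j3 i6 i10) (p j3 i6 i11) (n j3 i6 i8) (p j3 i6 i9) (p j3 i6 i14) (n j3 i6 i15) (p j3 i6 i12) (n j3 i6 i13) (n j3 i6 i2) (p j3 i6 i3) (n j3 i6 i0) (p j3 i6 i1) (p j3 i6 i6) (n j3 i6 i7) (p j3 i6 i4) (n j3 i6 i5))
  (@T16.mk E (n j3 i5 i10) (p j3 i5 i11) (n j3 i5 i8) (p j3 i5 i9) (p j3 i5 i14) (n j3 i5 i15) (p j3 i5 i12) (n j3 i5 i13) (n j3 i5 i2) (p j3 i5 i3) (n j3 i5 i0) (p j3 i5 i1) (p j3 i5 i6) (n j3 i5 i7) (p j3 i5 i4) (n j3 i5 i5))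
  (@T16.mk E (n j3 i4 i10) (p j3 i4 i11) (n j3 i4 i8) (p j3 i4 i9) (p j3 i4 i14) (n j3 i4 i15) (p j3 i4 i12) (n j3 i4 i13) (n j3 i4 i2) (p j3 i4 i3) (n j3 i4 i0) (p j3 i4 i1) (p j3 i4 i6) (n j3 i4 i7) (p j3 i4 i4) (n j3 i4 i5))
  (@T16.mk E (p j3 i3 i10) (n j3 i3 i11) (p j3 i3 i8) (n j3 i3 i9) (n j3 i3 i14) (p j3 i3 i15) (n j3 i3 i12) (p j3 i3 i13) (p j3 i3 i2) (n j3 i3 i3) (p j3 i3 i0) (n j3 i3 i1) (n j3 i3 i6) (p j3 i3 i7) (n j3 i3 i4) (p j3 i3 i5))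
  (@T16.mk E (n j3 i2 i10) (p j3 i2 i11) (n j3 i2 i8) (p j3 i2 i9) (p j3 i2 i14) (n j3 i2 i15) (p j3 i2 i12) (n j3 i2 i13) (n j3 i2 i2) (p j3 i2 i3) (n j3 i2 i0) (p j3 i2 i1) (p j3 i2 i6) (n j3 i2 i7) (p j3 i2 i4) (n j3 i2 i5))
  (@T16.mk E (p j3 i1 i10) (n j3 i1 i11) (p j3 i1 i8) (n j3 i1 i9) (n j3 i1 i14) (p j3 i1 i15) (n j3 i1 i12) (p j3 i1 i13) (p j3 i1 i2) (n j3 i1 i3) (p j3 i1 i0) (n j3 i1 i1) (n j3 i1 i6) (p j3 i1 i7) (n j3 i1 i4) (p j3 i1 i5))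
  (@T16.mk E (n j3 i0 i10) (p j3 i0 i11) (n j3 i0 i8) (p j3 i0 i9) (p j3 i0 i14) (n j3 i0 i15) (p j3 i0 i12) (n j3 i0 i13) (n j3 i0 i2) (p j3 i0 i3) (n j3 i0 i0) (p j3 i0 i1) (p j3 i0 i6) (n j3 i0 i7) (p j3 i0 i4) (n j3 i0 i5))
 )
 (@T16.mk (T16 E)
  (@T16.mk E (n j2 i15 i10) (p j2 i15 i11) (n j2 i15 i8) (p j2 i15 i9) (p j2 i15 i14) (n j2 i15 i15) (p j2 i15 i12) (n j2 i15 i13) (n j2 i15 i2) (p j2 i15 i3) (n j2 i15 i0) (p j2 i15 i1) (p j2 i15 i6) (n j2 i15 i7) (p j2 i15 i4) (n j2 i15 i5))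
  (@T16.mk E (p j2 i14 i10) (n j2 i14 i11) (p j2 i14 i8) (n j2 i14 i9) (n j2 i14 i14) (p j2 i14 i15) (n j2 i14 i12) (p j2 i14 i13) (p j2 i14 i2) (n j2 i14 i3) (p j2 i14 i0) (n j2 i14 i1) (n j2 i14 i6) (p j2 i14 i7) (n j2 i14 i4) (p j2 i14 i5))
  (@T16.mk E (n j2 i13 i10) (p j2 i13 i11) (n j2 i13 i8) (p j2 i13 i9) (p j2 i13 i14) (n j2 i13 i15) (p j2 i13 i12) (n j2 i13 i13) (n j2 i13 i2) (p j2 i13 i3) (n j2 i13 i0) (p j2 i13 i1) (p j2 i13 i6) (n j2 i13 i7) (p j2 i13 i4) (n j2 i13 i5))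
  (@T16.mk E (p j2 i12 i10) (n j2 i12 i11) (p j2 i12 i8) (n j2 i12 i9) (n j2 i12 i14) (p j2 i12 i15) (n j2 i12 i12) (p j2 i12 i13) (p j2 i12 i2) (n j2 i12 i3) (p j2 i12 i0) (n j2 i12 i1) (n j2 i12 i6) (p j2 i12 i7) (n j2 i12 i4) (p j2 i12 i5))
  (@T16.mk E (n j2 i11 i10) (p j2 i11 i11) (n j2 i11 i8) (p j2 i11 i9) (p j2 i11 i14) (n j2 i11 i15) (p j2 i11 i12) (n j2 i11 i13) (n j2 i11 i2) (p j2 i11 i3) (n j2 i11 i0) (p j2 i11 i1) (p j2 i11 i6) (n j2 i11 i7) (p j2 i11 i4) (n j2 i11 i5))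
  (@T16.mk E (n j2 i10 i10) (p j2 i10 i11) (n j2 i10 i8) (p j2 i10 i9) (p j2 i10 i14) (n j2 i10 i15) (p j2 i10 i12) (n j2 i10 i13) (n j2 i10 i2) (p j2 i10 i3) (n j2 i10 i0) (p j2 i10 i1) (p j2 i10 i6) (n j2 i10 i7) (p j2 i10 i4) (n j2 i10 i5))
  (@T16.mk E (n j2 i9 i10) (p j2 i9 i11) (n j2 i9 i8) (p j2 i9 i9) (p j2 i9 i14) (n j2 i9 i15) (p j2 i9 i12) (n j2 i9 i13) (n j2 i9 i2) (p j2 i9 i3) (n j2 i9 i0) (p j2 i9 i1) (p j2 i9 i6) (n j2 i9 i7) (p j2 i9 i4) (n j2 i9 i5))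
  (@T16.mk E (p j2 i8 i10) (n j2 i8 i11) (p j2 i8 i8) (n j2 i8 i9) (n j2 i8 i14) (p j2 i8 i15) (n j2 i8 i12) (p j2 i8 i13) (p j2 i8 i2) (n j2 i8 i3) (p j2 i8 i0) (n j2 i8 i1) (n j2 i8 i6) (p j2 i8 i7) (n j2 i8 i4) (p j2 i8 i5))
  (@T16.mk E (n j2 i7 i10) (p j2 i7 i11) (n j2 i7 i8) (p j2 i7 i9) (p j2 i7 i14) (n j2 i7 i15) (p j2 i7 i12) (n j2 i7 i13) (n j2 i7 i2) (p j2 i7 i3) (n j2 i7 i0) (p j2 i7 i1) (p j2 i7 i6) (n j2 i7 i7) (p j2 i7 i4) (n j2 i7 i5))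
  (@T16.mk E (p j2 i6 i10) (n j2 i6 i11) (p j2 i6 i8) (n j2 i6 i9) (n j2 i6 i14) (p j2 i6 i15) (n j2 i6 i12) (p j2 i6 i13) (p j2 i6 i2) (n j2 i6 i3) (p j2 i6 i0) (n j2 i6 i1) (n j2 i6 i6) (p j2 i6 i7) (n j2 i6 i4) (p j2 i6 i5))
  (@T16.mk E (n j2 i5 i10) (p j2 i5 i11) (n j2 i5 i8) (p j2 i5 i9) (p j2 i5 i14) (n j2 i5 i15) (p j2 i5 i12) (n j2 i5 i13) (n j2 i5 i2) (p j2 i5 i3) (n j2 i5 i0) (p j2 i5 i1) (p j2 i5 i6) (n j2 i5 i7) (p j2 i5 i4) (n j2 i5 i5))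
  (@T16.mk E (n j2 i4 i10) (p j2 i4 i11) (n j2 i4 i8) (p j2 i4 i9) (p j2 i4 i14) (n j2 i4 i15) (p j2 i4 i12) (n j2 i4 i13) (n j2 i4 i2) (p j2 i4 i3) (n j2 i4 i0) (p j2 i4 i1) (p j2 i4 i6) (n j2 i4 i7) (p j2 i4 i4) (n j2 i4 i5))
  (@T16.mk E (p j2 i3 i10) (n j2 i3 i11) (p j2 i3 i8) (n j2 i3 i9) (n j2 i3 i14) (p j2 i3 i15) (n j2 i3 i12) (p j2 i3 i13) (p j2 i3 i2) (n j2 i3 i3) (p j2 i3 i0) (n j2 i3 i1) (n j2 i3 i6) (p j2 i3 i7) (n j2 i3 i4) (p j2 i3 i5))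
  (@T16.mk E (p j2 i2 i10) (n j2 i2 i11) (p j2 i2 i8) (n j2 i2 i9) (n j2 i2 i14) (p j2 i2 i15) (n j2 i2 i12) (p j2 i2 i13) (p j2 i2 i2) (n j2 i2 i3) (p j2 i2 i0) (n j2 i2 i1) (n j2 i2 i6) (p j2 i2 i7) (n j2 i2 i4) (p j2 i2 i5))
  (@T16.mk E (p j2 i1 i10) (n j2 i1 i11) (p j2 i1 i8) (n j2 i1 i9) (n j2 i1 i14) (p j2 i1 i15) (n j2 i1 i12) (p j2 i1 i13) (p j2 i1 i2) (n j2 i1 i3) (p j2 i1 i0) (n j2 i1 i1) (n j2 i1 i6) (p j2 i1 i7) (n j2 i1 i4) (p j2 i1 i5))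
  (@T16.mk E (p j2 i0 i10) (n j2 i0 i11) (p j2 i0 i8) (n j2 i0 i9) (n j2 i0 i14) (p j2 i0 i15) (n j2 i0 i12) (p j2 i0 i13) (p j2 i0 i2) (n j2 i0 i3) (p j2 i0 i0) (n j2 i0 i1) (n j2 i0 i6) (p j2 i0 i7) (n j2 i0 i4) (p j2 i0 i5))
 )
 (@T16.mk (T16 E)
  (@T16.mk E (p j5 i15 i10) (n j5 i15 i11) (p j5 i15 i8) (n j5 i15 i9) (n j5 i15 i14) (p j5 i15 i15) (n j5 i15 i12) (p j5 i15 i13) (p j5 i15 i2) (n j5 i15 i3) (p j5 i15 i0) (n j5 i15 i1) (n j5 i15 i6) (p j5 i15 i7) (n j5 i15 i4) (p j5 i15 i5))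
  (@T16.mk E (n j5 i14 i10) (p j5 i14 i11) (n j5 i14 i8) (p j5 i14 i9) (p j5 i14 i14) (n j5 i14 i15) (p j5 i14 i12) (n j5 i14 i13) (n j5 i14 i2) (p j5 i14 i3) (n j5 i14 i0) (p j5 i14 i1) (p j5 i14 i6) (n j5 i14 i7) (p j5 i14 i4) (n j5 i14 i5))
  (@T16.mk E (p j5 i13 i10) (n j5 i13 i11) (p j5 i13 i8) (n j5 i13 i9) (n j5 i13 i14) (p j5 i13 i15) (n j5 i13 i12) (p j5 i13 i13) (p j5 i13 i2) (n j5 i13 i3) (p j5 i13 i0) (n j5 i13 i1) (n j5 i13 i6) (p j5 i13 i7) (n j5 i13 i4) (p j5 i13 i5))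
  (@T16.mk E (n j5 i12 i10) (p j5 i12 i11) (n j5 i12 i8) (p j5 i12 i9) (p j5 i12 i14) (n j5 i12 i15) (p j5 i12 i12) (n j5 i12 i13) (n j5 i12 i2) (p j5 i12 i3) (n j5 i12 i0) (p j5 i12 i1) (p j5 i12 i6) (n j5 i12 i7) (p j5 i12 i4) (n j5 i12 i5))
  (@T16.mk E (p j5 i11 i10) (n j5 i11 i11) (p j5 i11 i8) (n j5 i11 i9) (n j5 i11 i14) (p j5 i11 i15) (n j5 i11 i12) (p j5 i11 i13) (p j5 i11 i2) (n j5 i11 i3) (p j5 i11 i0) (n j5 i11 i1) (n j5 i11 i6) (p j5 i11 i7) (n j5 i11 i4) (p j5 i11 i5))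
  (@T16.mk E (n j5 i10 i10) (p j5 i10 i11) (n j5 i10 i8) (p j5 i10 i9) (p j5 i10 i14) (n j5 i10 i15) (p j5 i10 i12) (n j5 i10 i13) (n j5 i10 i2) (p j5 i10 i3) (n j5 i10 i0) (p j5 i10 i1) (p j5 i10 i6) (n j5 i10 i7) (p j5 i10 i4) (n j5 i10 i5))
  (@T16.mk E (n j5 i9 i10) (p j5 i9 i11) (n j5 i9 i8) (p j5 i9 i9) (p j5 i9 i14) (n j5 i9 i15) (p j5 i9 i12) (n j5 i9 i13) (n j5 i9 i2) (p j5 i9 i3) (n j5 i9 i0) (p j5 i9 i1) (p j5 i9 i6) (n j5 i9 i7) (p j5 i9 i4) (n j5 i9 i5))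
  (@T16.mk E (n j5 i8 i10) (p j5 i8 i11) (n j5 i8 i8) (p j5 i8 i9) (p j5 i8 i14) (n j5 i8 i15) (p j5 i8 i12) (n j5 i8 i13) (n j5 i8 i2) (p j5 i8 i3) (n j5 i8 i0) (p j5 i8 i1) (p j5 i8 i6) (n j5 i8 i7) (p j5 i8 i4) (n j5 i8 i5))
  (@T16.mk E (p j5 i7 i10) (n j5 i7 i11) (p j5 i7 i8) (n j5 i7 i9) (n j5 i7 i14) (p j5 i7 i15) (n j5 i7 i12) (p j5 i7 i13) (p j5 i7 i2) (n j5 i7 i3) (p j5 i7 i0) (n j5 i7 i1) (n j5 i7 i6) (p j5 i7 i7) (n j5 i7 i4) (p j5 i7 i5))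
  (@T16.mk E (n j5 i6 i10) (p j5 i6 i11) (n j5 i6 i8) (p j5 i6 i9) (p j5 i6 i14) (n j5 i6 i15) (p j5 i6 i12) (n j5 i6 i13) (n j5 i6 i2) (p j5 i6 i3) (n j5 i6 i0) (p j5 i6 i1) (p j5 i6 i6) (n j5 i6 i7) (p j5 i6 i4) (n j5 i6 i5))
  (@T16.mk E (p j5 i5 i10) (n j5 i5 i11) (p j5 i5 i8) (n j5 i5 i9) (n j5 i5 i14) (p j5 i5 i15) (n j5 i5 i12) (p j5 i5 i13) (p j5 i5 i2) (n j5 i5 i3) (p j5 i5 i0) (n j5 i5 i1) (n j5 i5 i6) (p j5 i5 i7) (n j5 i5 i4) (p j5 i5 i5))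
  (@T16.mk E (p j5 i4 i10) (n j5 i4 i11) (p j5 i4 i8) (n j5 i4 i9) (n j5 i4 i14) (p j5 i4 i15) (n j5 i4 i12) (p j5 i4 i13) (p j5 i4 i2) (n j5 i4 i3) (p j5 i4 i0) (n j5 i4 i1) (n j5 i4 i6) (p j5 i4 i7) (n j5 i4 i4) (p j5 i4 i5))
  (@T16.mk E (n j5 i3 i10) (p j5 i3 i11) (n j5 i3 i8) (p j5 i3 i9) (p j5 i3 i14) (n j5 i3 i15) (p j5 i3 i12) (n j5 i3 i13) (n j5 i3 i2) (p j5 i3 i3) (n j5 i3 i0) (p j5 i3 i1) (p j5 i3 i6) (n j5 i3 i7) (p j5 i3 i4) (n j5 i3 i5))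
  (@T16.mk E (p j5 i2 i10) (n j5 i2 i11) (p j5 i2 i8) (n j5 i2 i9) (n j5 i2 i14) (p j5 i2 i15) (n j5 i2 i12) (p j5 i2 i13) (p j5 i2 i2) (n j5 i2 i3) (p j5 i2 i0) (n j5 i2 i1) (n j5 i2 i6) (p j5 i2 i7) (n j5 i2 i4) (p j5 i2 i5))
  (@T16.mk E (p j5 i1 i10) (n j5 i1 i11) (p j5 i1 i8) (n j5 i1 i9) (n j5 i1 i14) (p j5 i1 i15) (n j5 i1 i12) (p j5 i1 i13) (p j5 i1 i2) (n j5 i1 i3) (p j5 i1 i0) (n j5 i1 i1) (n j5 i1 i6) (p j5 i1 i7) (n j5 i1 i4) (p j5 i1 i5))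
  (@T16.mk E (n j5 i0 i10) (p j5 i0 i11) (n j5 i0 i8) (p j5 i0 i9) (p j5 i0 i14) (n j5 i0 i15) (p j5 i0 i12) (n j5 i0 i13) (n j5 i0 i2) (p j5 i0 i3) (n j5 i0 i0) (p j5 i0 i1) (p j5 i0 i6) (n j5 i0 i7) (p j5 i0 i4) (n j5 i0 i5))
 )
 (@T16.mk (T16 E)
  (@T16.mk E (n j4 i15 i10) (p j4 i15 i11) (n j4 i15 i8) (p j4 i15 i9) (p j4 i15 i14) (n j4 i15 i15) (p j4 i15 i12) (n j4 i15 i13) (n j4 i15 i2) (p j4 i15 i3) (n j4 i15 i0) (p j4 i15 i1) (p j4 i15 i6) (n j4 i15 i7) (p j4 i15 i4) (n j4 i15 i5))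
  (@T16.mk E (p j4 i14 i10) (n j4 i14 i11) (p j4 i14 i8) (n j4 i14 i9) (n j4 i14 i14) (p j4 i14 i15) (n j4 i14 i12) (p j4 i14 i13) (p j4 i14 i2) (n j4 i14 i3) (p j4 i14 i0) (n j4 i14 i1) (n j4 i14 i6) (p j4 i14 i7) (n j4 i14 i4) (p j4 i14 i5))
  (@T16.mk E (p j4 i13 i10) (n j4 i13 i11) (p j4 i13 i8) (n j4 i13 i9) (n j4 i13 i14) (p j4 i13 i15) (n j4 i13 i12) (p j4 i13 i13) (p j4 i13 i2) (n j4 i13 i3) (p j4 i13 i0) (n j4 i13 i1) (n j4 i13 i6) (p j4 i13 i7) (n j4 i13 i4) (p j4 i13 i5))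
  (@T16.mk E (n j4 i12 i10) (p j4 i12 i11) (n j4 i12 i8) (p j4 i12 i9) (p j4 i12 i14) (n j4 i12 i15) (p j4 i12 i12) (n j4 i12 i13) (n j4 i12 i2) (p j4 i12 i3) (n j4 i12 i0) (p j4 i12 i1) (p j4 i12 i6) (n j4 i12 i7) (p j4 i12 i4) (n j4 i12 i5))
  (@T16.mk E (p j4 i11 i10) (n j4 i11 i11) (p j4 i11 i8) (n j4 i11 i9) (n j4 i11 i14) (p j4 i11 i15) (n j4 i11 i12) (p j4 i11 i13) (p j4 i11 i2) (n j4 i11 i3) (p j4 i11 i0) (n j4 i11 i1) (n j4 i11 i6) (p j4 i11 i7) (n j4 i11 i4) (p j4 i11 i5))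
  (@T16.mk E (p j4 i10 i10) (n j4 i10 i11) (p j4 i10 i8) (n j4 i10 i9) (n j4 i10 i14) (p j4 i10 i15) (n j4 i10 i12) (p j4 i10 i13) (p j4 i10 i2) (n j4 i10 i3) (p j4 i10 i0) (n j4 i10 i1) (n j4 i10 i6) (p j4 i10 i7) (n j4 i10 i4) (p j4 i10 i5))
  (@T16.mk E (n j4 i9 i10) (p j4 i9 i11) (n j4 i9 i8) (p j4 i9 i9) (p j4 i9 i14) (n j4 i9 i15) (p j4 i9 i12) (n j4 i9 i13) (n j4 i9 i2) (p j4 i9 i3) (n j4 i9 i0) (p j4 i9 i1) (p j4 i9 i6) (n j4 i9 i7) (p j4 i9 i4) (n j4 i9 i5))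
  (@T16.mk E (p j4 i8 i10) (n j4 i8 i11) (p j4 i8 i8) (n j4 i8 i9) (n j4 i8 i14) (p j4 i8 i15) (n j4 i8 i12) (p j4 i8 i13) (p j4 i8 i2) (n j4 i8 i3) (p j4 i8 i0) (n j4 i8 i1) (n j4 i8 i6) (p j4 i8 i7) (n j4 i8 i4) (p j4 i8 i5))
  (@T16.mk E (n j4 i7 i10) (p j4 i7 i11) (n j4 i7 i8) (p j4 i7 i9) (p j4 i7 i14) (n j4 i7 i15) (p j4 i7 i12) (n j4 i7 i13) (n j4 i7 i2) (p j4 i7 i3) (n j4 i7 i0) (p j4 i7 i1) (p j4 i7 i6) (n j4 i7 i7) (p j4 i7 i4) (n j4 i7 i5))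
  (@T16.mk E (n j4 i6 i10) (p j4 i6 i11) (n j4 i6 i8) (p j4 i6 i9) (p j4 i6 i14) (n j4 i6 i15) (p j4 i6 i12) (n j4 i6 i13) (n j4 i6 i2) (p j4 i6 i3) (n j4 i6 i0) (p j4 i6 i1) (p j4 i6 i6) (n j4 i6 i7) (p j4 i6 i4) (n j4 i6 i5))
  (@T16.mk E (n j4 i5 i10) (p j4 i5 i11) (n j4 i5 i8) (p j4 i5 i9) (p j4 i5 i14) (n j4 i5 i15) (p j4 i5 i12) (n j4 i5 i13) (n j4 i5 i2) (p j4 i5 i3) (n j4 i5 i0) (p j4 i5 i1) (p j4 i5 i6) (n j4 i5 i7) (p j4 i5 i4) (n j4 i5 i5))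
  (@T16.mk E (p j4 i4 i10) (n j4 i4 i11) (p j4 i4 i8) (n j4 i4 i9) (n j4 i4 i14) (p j4 i4 i15) (n j4 i4 i12) (p j4 i4 i13) (p j4 i4 i2) (n j4 i4 i3) (p j4 i4 i0) (n j4 i4 i1) (n j4 i4 i6) (p j4 i4 i7) (n j4 i4 i4) (p j4 i4 i5))
  (@T16.mk E (n j4 i3 i10) (p j4 i3 i11) (n j4 i3 i8) (p j4 i3 i9) (p j4 i3 i14) (n j4 i3 i15) (p j4 i3 i12) (n j4 i3 i13) (n j4 i3 i2) (p j4 i3 i3) (n j4 i3 i0) (p j4 i3 i1) (p j4 i3 i6) (n j4 i3 i7) (p j4 i3 i4) (n j4 i3 i5))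
  (@T16.mk E (p j4 i2 i10) (n j4 i2 i11) (p j4 i2 i8) (n j4 i2 i9) (n j4 i2 i14) (p j4 i2 i15) (n j4 i2 i12) (p j4 i2 i13) (p j4 i2 i2) (n j4 i2 i3) (p j4 i2 i0) (n j4 i2 i1) (n j4 i2 i6) (p j4 i2 i7) (n j4 i2 i4) (p j4 i2 i5))
  (@T16.mk E (n j4 i1 i10) (p j4 i1 i11) (n j4 i1 i8) (p j4 i1 i9) (p j4 i1 i14) (n j4 i1 i15) (p j4 i1 i12) (n j4 i1 i13) (n j4 i1 i2) (p j4 i1 i3) (n j4 i1 i0) (p j4 i1 i1) (p j4 i1 i6) (n j4 i1 i7) (p j4 i1 i4) (n j4 i1 i5))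
  (@T16.mk E (p j4 i0 i10) (n j4 i0 i11) (p j4 i0 i8) (n j4 i0 i9) (n j4 i0 i14) (p j4 i0 i15) (n j4 i0 i12) (p j4 i0 i13) (p j4 i0 i2) (n j4 i0 i3) (p j4 i0 i0) (n j4 i0 i1) (n j4 i0 i6) (p j4 i0 i7) (n j4 i0 i4) (p j4 i0 i5))
 )
 (@T16.mk (T16 E)
  (@T16.mk E (n j7 i15 i10) (p j7 i15 i11) (n j7 i15 i8) (p j7 i15 i9) (p j7 i15 i14) (n j7 i15 i15) (p j7 i15 i12) (n j7 i15 i13) (n j7 i15 i2) (p j7 i15 i3) (n j7 i15 i0) (p j7 i15 i1) (p j7 i15 i6) (n j7 i15 i7) (p j7 i15 i4) (n j7 i15 i5))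
  (@T16.mk E (n j7 i14 i10) (p j7 i14 i11) (n j7 i14 i8) (p j7 i14 i9) (p j7 i14 i14) (n j7 i14 i15) (p j7 i14 i12) (n j7 i14 i13) (n j7 i14 i2) (p j7 i14 i3) (n j7 i14 i0) (p j7 i14 i1) (p j7 i14 i6) (n j7 i14 i7) (p j7 i14 i4) (n j7 i14 i5))
  (@T16.mk E (n j7 i13 i10) (p j7 i13 i11) (n j7 i13 i8) (p j7 i13 i9) (p j7 i13 i14) (n j7 i13 i15) (p j7 i13 i12) (n j7 i13 i13) (n j7 i13 i2) (p j7 i13 i3) (n j7 i13 i0) (p j7 i13 i1) (p j7 i13 i6) (n j7 i13 i7) (p j7 i13 i4) (n j7 i13 i5))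
  (@T16.mk E (n j7 i12 i10) (p j7 i12 i11) (n j7 i12 i8) (p j7 i12 i9) (p j7 i12 i14) (n j7 i12 i15) (p j7 i12 i12) (n j7 i12 i13) (n j7 i12 i2) (p j7 i12 i3) (n j7 i12 i0) (p j7 i12 i1) (p j7 i12 i6) (n j7 i12 i7) (p j7 i12 i4) (n j7 i12 i5))
  (@T16.mk E (n j7 i11 i10) (p j7 i11 i11) (n j7 i11 i8) (p j7 i11 i9) (p j7 i11 i14) (n j7 i11 i15) (p j7 i11 i12) (n j7 i11 i13) (n j7 i11 i2) (p j7 i11 i3) (n j7 i11 i0) (p j7 i11 i1) (p j7 i11 i6) (n j7 i11 i7) (p j7 i11 i4) (n j7 i11 i5))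
  (@T16.mk E (n j7 i10 i10) (p j7 i10 i11) (n j7 i10 i8) (p j7 i10 i9) (p j7 i10 i14) (n j7 i10 i15) (p j7 i10 i12) (n j7 i10 i13) (n j7 i10 i2) (p j7 i10 i3) (n j7 i10 i0) (p j7 i10 i1) (p j7 i10 i6) (n j7 i10 i7) (p j7 i10 i4) (n j7 i10 i5))
  (@T16.mk E (p j7 i9 i10) (n j7 i9 i11) (p j7 i9 i8) (n j7 i9 i9) (n j7 i9 i14) (p j7 i9 i15) (n j7 i9 i12) (p j7 i9 i13) (p j7 i9 i2) (n j7 i9 i3) (p j7 i9 i0) (n j7 i9 i1) (n j7 i9 i6) (p j7 i9 i7) (n j7 i9 i4) (p j7 i9 i5))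
  (@T16.mk E (n j7 i8 i10) (p j7 i8 i11) (n j7 i8 i8) (p j7 i8 i9) (p j7 i8 i14) (n j7 i8 i15) (p j7 i8 i12) (n j7 i8 i13) (n j7 i8 i2) (p j7 i8 i3) (n j7 i8 i0) (p j7 i8 i1) (p j7 i8 i6) (n j7 i8 i7) (p j7 i8 i4) (n j7 i8 i5))
  (@T16.mk E (p j7 i7 i10) (n j7 i7 i11) (p j7 i7 i8) (n j7 i7 i9) (n j7 i7 i14) (p j7 i7 i15) (n j7 i7 i12) (p j7 i7 i13) (p j7 i7 i2) (n j7 i7 i3) (p j7 i7 i0) (n j7 i7 i1) (n j7 i7 i6) (p j7 i7 i7) (n j7 i7 i4) (p j7 i7 i5))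
  (@T16.mk E (p j7 i6 i10) (n j7 i6 i11) (p j7 i6 i8) (n j7 i6 i9) (n j7 i6 i14) (p j7 i6 i15) (n j7 i6 i12) (p j7 i6 i13) (p j7 i6 i2) (n j7 i6 i3) (p j7 i6 i0) (n j7 i6 i1) (n j7 i6 i6) (p j7 i6 i7) (n j7 i6 i4) (p j7 i6 i5))
  (@T16.mk E (n j7 i5 i10) (p j7 i5 i11) (n j7 i5 i8) (p j7 i5 i9) (p j7 i5 i14) (n j7 i5 i15) (p j7 i5 i12) (n j7 i5 i13) (n j7 i5 i2) (p j7 i5 i3) (n j7 i5 i0) (p j7 i5 i1) (p j7 i5 i6) (n j7 i5 i7) (p j7 i5 i4) (n j7 i5 i5))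
  (@T16.mk E (p j7 i4 i10) (n j7 i4 i11) (p j7 i4 i8) (n j7 i4 i9) (n j7 i4 i14) (p j7 i4 i15) (n j7 i4 i12) (p j7 i4 i13) (p j7 i4 i2) (n j7 i4 i3) (p j7 i4 i0) (n j7 i4 i1) (n j7 i4 i6) (p j7 i4 i7) (n j7 i4 i4) (p j7 i4 i5))
  (@T16.mk E (n j7 i3 i10) (p j7 i3 i11) (n j7 i3 i8) (p j7 i3 i9) (p j7 i3 i14) (n j7 i3 i15) (p j7 i3 i12) (n j7 i3 i13) (n j7 i3 i2) (p j7 i3 i3) (n j7 i3 i0) (p j7 i3 i1) (p j7 i3 i6) (n j7 i3 i7) (p j7 i3 i4) (n j7 i3 i5))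
  (@T16.mk E (n j7 i2 i10) (p j7 i2 i11) (n j7 i2 i8) (p j7 i2 i9) (p j7 i2 i14) (n j7 i2 i15) (p j7 i2 i12) (n j7 i2 i13) (n j7 i2 i2) (p j7 i2 i3) (n j7 i2 i0) (p j7 i2 i1) (p j7 i2 i6) (n j7 i2 i7) (p j7 i2 i4) (n j7 i2 i5))
  (@T16.mk E (n j7 i1 i10) (p j7 i1 i11) (n j7 i1 i8) (p j7 i1 i9) (p j7 i1 i14) (n j7 i1 i15) (p j7 i1 i12) (n j7 i1 i13) (n j7 i1 i2) (p j7 i1 i3) (n j7 i1 i0) (p j7 i1 i1) (p j7 i1 i6) (n j7 i1 i7) (p j7 i1 i4) (n j7 i1 i5))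
  (@T16.mk E (n j7 i0 i10) (p j7 i0 i11) (n j7 i0 i8) (p j7 i0 i9) (p j7 i0 i14) (n j7 i0 i15) (p j7 i0 i12) (n j7 i0 i13) (n j7 i0 i2) (p j7 i0 i3) (n j7 i0 i0) (p j7 i0 i1) (p j7 i0 i6) (n j7 i0 i7) (p j7 i0 i4) (n j7 i0 i5))
 )
 (@T16.mk (T16 E)
  (@T16.mk E (n j6 i15 i10) (p j6 i15 i11) (n j6 i15 i8) (p j6 i15 i9) (p j6 i15 i14) (n j6 i15 i15) (p j6 i15 i12) (n j6 i15 i13) (n j6 i15 i2) (p j6 i15 i3) (n j6 i15 i0) (p j6 i15 i1) (p j6 i15 i6) (n j6 i15 i7) (p j6 i15 i4) (n j6 i15 i5))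
  (@T16.mk E (n j6 i14 i10) (p j6 i14 i11) (n j6 i14 i8) (p j6 i14 i9) (p j6 i14 i14) (n j6 i14 i15) (p j6 i14 i12) (n j6 i14 i13) (n j6 i14 i2) (p j6 i14 i3) (n j6 i14 i0) (p j6 i14 i1) (p j6 i14 i6) (n j6 i14 i7) (p j6 i14 i4) (n j6 i14 i5))
  (@T16.mk E (n j6 i13 i10) (p j6 i13 i11) (n j6 i13 i8) (p j6 i13 i9) (p j6 i13 i14) (n j6 i13 i15) (p j6 i13 i12) (n j6 i13 i13) (n j6 i13 i2) (p j6 i13 i3) (n j6 i13 i0) (p j6 i13 i1) (p j6 i13 i6) (n j6 i13 i7) (p j6 i13 i4) (n j6 i13 i5))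
  (@T16.mk E (n j6 i12 i10) (p j6 i12 i11) (n j6 i12 i8) (p j6 i12 i9) (p j6 i12 i14) (n j6 i12 i15) (p j6 i12 i12) (n j6 i12 i13) (n j6 i12 i2) (p j6 i12 i3) (n j6 i12 i0) (p j6 i12 i1) (p j6 i12 i6) (n j6 i12 i7) (p j6 i12 i4) (n j6 i12 i5))
  (@T16.mk E (p j6 i11 i10) (n j6 i11 i11) (p j6 i11 i8) (n j6 i11 i9) (n j6 i11 i14) (p j6 i11 i15) (n j6 i11 i12) (p j6 i11 i13) (p j6 i11 i2) (n j6 i11 i3) (p j6 i11 i0) (n j6 i11 i1) (n j6 i11 i6) (p j6 i11 i7) (n j6 i11 i4) (p j6 i11 i5))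
  (@T16.mk E (n j6 i10 i10) (p j6 i10 i11) (n j6 i10 i8) (p j6 i10 i9) (p j6 i10 i14) (n j6 i10 i15) (p j6 i10 i12) (n j6 i10 i13) (n j6 i10 i2) (p j6 i10 i3) (n j6 i10 i0) (p j6 i10 i1) (p j6 i10 i6) (n j6 i10 i7) (p j6 i10 i4) (n j6 i10 i5))
  (@T16.mk E (p j6 i9 i10) (n j6 i9 i11) (p j6 i9 i8) (n j6 i9 i9) (n j6 i9 i14) (p j6 i9 i15) (n j6 i9 i12) (p j6 i9 i13) (p j6 i9 i2) (n j6 i9 i3) (p j6 i9 i0) (n j6 i9 i1) (n j6 i9 i6) (p j6 i9 i7) (n j6 i9 i4) (p j6 i9 i5))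
  (@T16.mk E (p j6 i8 i10) (n j6 i8 i11) (p j6 i8 i8) (n j6 i8 i9) (n j6 i8 i14) (p j6 i8 i15) (n j6 i8 i12) (p j6 i8 i13) (p j6 i8 i2) (n j6 i8 i3) (p j6 i8 i0) (n j6 i8 i1) (n j6 i8 i6) (p j6 i8 i7) (n j6 i8 i4) (p j6 i8 i5))
  (@T16.mk E (n j6 i7 i10) (p j6 i7 i11) (n j6 i7 i8) (p j6 i7 i9) (p j6 i7 i14) (n j6 i7 i15) (p j6 i7 i12) (n j6 i7 i13) (n j6 i7 i2) (p j6 i7 i3) (n j6 i7 i0) (p j6 i7 i1) (p j6 i7 i6) (n j6 i7 i7) (p j6 i7 i4) (n j6 i7 i5))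
  (@T16.mk E (p j6 i6 i10) (n j6 i6 i11) (p j6 i6 i8) (n j6 i6 i9) (n j6 i6 i14) (p j6 i6 i15) (n j6 i6 i12) (p j6 i6 i13) (p j6 i6 i2) (n j6 i6 i3) (p j6 i6 i0) (n j6 i6 i1) (n j6 i6 i6) (p j6 i6 i7) (n j6 i6 i4) (p j6 i6 i5))
  (@T16.mk E (n j6 i5 i10) (p j6 i5 i11) (n j6 i5 i8) (p j6 i5 i9) (p j6 i5 i14) (n j6 i5 i15) (p j6 i5 i12) (n j6 i5 i13) (n j6 i5 i2) (p j6 i5 i3) (n j6 i5 i0) (p j6 i5 i1) (p j6 i5 i6) (n j6 i5 i7) (p j6 i5 i4) (n j6 i5 i5))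
  (@T16.mk E (n j6 i4 i10) (p j6 i4 i11) (n j6 i4 i8) (p j6 i4 i9) (p j6 i4 i14) (n j6 i4 i15) (p j6 i4 i12) (n j6 i4 i13) (n j6 i4 i2) (p j6 i4 i3) (n j6 i4 i0) (p j6 i4 i1) (p j6 i4 i6) (n j6 i4 i7) (p j6 i4 i4) (n j6 i4 i5))
  (@T16.mk E (n j6 i3 i10) (p j6 i3 i11) (n j6 i3 i8) (p j6 i3 i9) (p j6 i3 i14) (n j6 i3 i15) (p j6 i3 i12) (n j6 i3 i13) (n j6 i3 i2) (p j6 i3 i3) (n j6 i3 i0) (p j6 i3 i1) (p j6 i3 i6) (n j6 i3 i7) (p j6 i3 i4) (n j6 i3 i5))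
  (@T16.mk E (n j6 i2 i10) (p j6 i2 i11) (n j6 i2 i8) (p j6 i2 i9) (p j6 i2 i14) (n j6 i2 i15) (p j6 i2 i12) (n j6 i2 i13) (n j6 i2 i2) (p j6 i2 i3) (n j6 i2 i0) (p j6 i2 i1) (p j6 i2 i6) (n j6 i2 i7) (p j6 i2 i4) (n j6 i2 i5))
  (@T16.mk E (n j6 i1 i10) (p j6 i1 i11) (n j6 i1 i8) (p j6 i1 i9) (p j6 i1 i14) (n j6 i1 i15) (p j6 i1 i12) (n j6 i1 i13) (n j6 i1 i2) (p j6 i1 i3) (n j6 i1 i0) (p j6 i1 i1) (p j6 i1 i6) (n j6 i1 i7) (p j6 i1 i4) (n j6 i1 i5))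
  (@T16.mk E (n j6 i0 i10) (p j6 i0 i11) (n j6 i0 i8) (p j6 i0 i9) (p j6 i0 i14) (n j6 i0 i15) (p j6 i0 i12) (n j6 i0 i13) (n j6 i0 i2) (p j6 i0 i3) (n j6 i0 i0) (p j6 i0 i1) (p j6 i0 i6) (n j6 i0 i7) (p j6 i0 i4) (n j6 i0 i5))
 )
 (@T16.mk (T16 E)
  (@T16.mk E (n j8 i0 i0) (p j8 i0 i1) (n j8 i0 i2) (p j8 i0 i3) (p j8 i0 i4) (n j8 i0 i5) (p j8 i0 i6) (n j8 i0 i7) (p j8 i0 i8) (n j8 i0 i9) (p j8 i0 i10) (n j8 i0 i11) (n j8 i0 i12) (p j8 i0 i13) (n j8 i0 i14) (p j8 i0 i15))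
  (@T16.mk E (p j8 i1 i0) (p j8 i1 i1) (n j8 i1 i2) (n j8 i1 i3) (p j8 i1 i4) (p j8 i1 i5) (n j8 i1 i6) (n j8 i1 i7) (p j8 i1 i8) (p j8 i1 i9) (n j8 i1 i10) (n j8 i1 i11) (p j8 i1 i12) (p j8 i1 i13) (n j8 i1 i14) (n j8 i1 i15))
  (@T16.mk E (n j8 i2 i0) (n j8 i2 i1) (n j8 i2 i2) (n j8 i2 i3) (n j8 i2 i4) (n j8 i2 i5) (n j8 i2 i6) (n j8 i2 i7) (p j8 i2 i8) (p j8 i2 i9) (p j8 i2 i10) (p j8 i2 i11) (p j8 i2 i12) (p j8 i2 i13) (p j8 i2 i14) (p j8 i2 i15))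
  (@T16.mk E (n j8 i3 i0) (p j8 i3 i1) (p j8 i3 i2) (n j8 i3 i3) (n j8 i3 i4) (p j8 i3 i5) (p j8 i3 i6) (n j8 i3 i7) (n j8 i3 i8) (p j8 i3 i9) (p j8 i3 i10) (n j8 i3 i11) (n j8 i3 i12) (p j8 i3 i13) (p j8 i3 i14) (n j8 i3 i15))
  (@T16.mk E (n j8 i4 i0) (n j8 i4 i1) (p j8 i4 i2) (p j8 i4 i3) (p j8 i4 i4) (p j8 i4 i5) (n j8 i4 i6) (n j8 i4 i7) (n j8 i4 i8) (n j8 i4 i9) (p j8 i4 i10) (p j8 i4 i11) (p j8 i4 i12) (p j8 i4 i13) (n j8 i4 i14) (n j8 i4 i15))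
  (@T16.mk E (n j8 i5 i0) (p j8 i5 i1) (n j8 i5 i2) (p j8 i5 i3) (n j8 i5 i4) (p j8 i5 i5) (n j8 i5 i6) (p j8 i5 i7) (p j8 i5 i8) (n j8 i5 i9) (p j8 i5 i10) (n j8 i5 i11) (p j8 i5 i12) (n j8 i5 i13) (p j8 i5 i14) (n j8 i5 i15))
  (@T16.mk E (p j8 i6 i0) (p j8 i6 i1) (p j8 i6 i2) (p j8 i6 i3) (p j8 i6 i4) (p j8 i6 i5) (p j8 i6 i6) (p j8 i6 i7) (p j8 i6 i8) (p j8 i6 i9) (p j8 i6 i10) (p j8 i6 i11) (p j8 i6 i12) (p j8 i6 i13) (p j8 i6 i14) (p j8 i6 i15))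
  (@T16.mk E (n j8 i7 i0) (p j8 i7 i1) (n j8 i7 i2) (p j8 i7 i3) (n j8 i7 i4) (p j8 i7 i5) (n j8 i7 i6) (p j8 i7 i7) (n j8 i7 i8) (p j8 i7 i9) (n j8 i7 i10) (p j8 i7 i11) (n j8 i7 i12) (p j8 i7 i13) (n j8 i7 i14) (p j8 i7 i15))
  (@T16.mk E (p j8 i8 i0) (n j8 i8 i1) (p j8 i8 i2) (n j8 i8 i3) (n j8 i8 i4) (p j8 i8 i5) (n j8 i8 i6) (p j8 i8 i7) (p j8 i8 i8) (n j8 i8 i9) (p j8 i8 i10) (n j8 i8 i11) (n j8 i8 i12) (p j8 i8 i13) (n j8 i8 i14) (p j8 i8 i15))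
  (@T16.mk E (n j8 i9 i0) (n j8 i9 i1) (p j8 i9 i2) (p j8 i9 i3) (n j8 i9 i4) (n j8 i9 i5) (p j8 i9 i6) (p j8 i9 i7) (n j8 i9 i8) (n j8 i9 i9) (p j8 i9 i10) (p j8 i9 i11) (n j8 i9 i12) (n j8 i9 i13) (p j8 i9 i14) (p j8 i9 i15))
  (@T16.mk E (n j8 i10 i0) (p j8 i10 i1) (n j8 i10 i2) (p j8 i10 i3) (n j8 i10 i4) (p j8 i10 i5) (n j8 i10 i6) (p j8 i10 i7) (n j8 i10 i8) (p j8 i10 i9) (n j8 i10 i10) (p j8 i10 i11) (n j8 i10 i12) (p j8 i10 i13) (n j8 i10 i14) (p j8 i10 i15))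
  (@T16.mk E (p j8 i11 i0) (p j8 i11 i1) (p j8 i11 i2) (p j8 i11 i3) (p j8 i11 i4) (p j8 i11 i5) (p j8 i11 i6) (p j8 i11 i7) (p j8 i11 i8) (p j8 i11 i9) (p j8 i11 i10) (p j8 i11 i11) (p j8 i11 i12) (p j8 i11 i13) (p j8 i11 i14) (p j8 i11 i15))
  (@T16.mk E (n j8 i12 i0) (n j8 i12 i1) (n j8 i12 i2) (n j8 i12 i3) (p j8 i12 i4) (p j8 i12 i5) (p j8 i12 i6) (p j8 i12 i7) (n j8 i12 i8) (n j8 i12 i9) (n j8 i12 i10) (n j8 i12 i11) (p j8 i12 i12) (p j8 i12 i13) (p j8 i12 i14) (p j8 i12 i15))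
  (@T16.mk E (p j8 i13 i0) (p j8 i13 i1) (p j8 i13 i2) (p j8 i13 i3) (p j8 i13 i4) (p j8 i13 i5) (p j8 i13 i6) (p j8 i13 i7) (p j8 i13 i8) (p j8 i13 i9) (p j8 i13 i10) (p j8 i13 i11) (p j8 i13 i12) (p j8 i13 i13) (p j8 i13 i14) (p j8 i13 i15))
  (@T16.mk E (p j8 i14 i0) (p j8 i14 i1) (n j8 i14 i2) (n j8 i14 i3) (p j8 i14 i4) (p j8 i14 i5) (n j8 i14 i6) (n j8 i14 i7) (p j8 i14 i8) (p j8 i14 i9) (n j8 i14 i10) (n j8 i14 i11) (p j8 i14 i12) (p j8 i14 i13) (n j8 i14 i14) (n j8 i14 i15))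
  (@T16.mk E (n j8 i15 i0) (p j8 i15 i1) (n j8 i15 i2) (p j8 i15 i3) (p j8 i15 i4) (n j8 i15 i5) (p j8 i15 i6) (n j8 i15 i7) (p j8 i15 i8) (n j8 i15 i9) (p j8 i15 i10) (n j8 i15 i11) (n j8 i15 i12) (p j8 i15 i13) (n j8 i15 i14) (p j8 i15 i15))
 )
 (@T16.mk (T16 E)
  (@T16.mk E (n j9 i0 i0) (p j9 i0 i1) (n j9 i0 i2) (p j9 i0 i3) (n j9 i0 i4) (p j9 i0 i5) (n j9 i0 i6) (p j9 i0 i7) (n j9 i0 i8) (p j9 i0 i9) (n j9 i0 i10) (p j9 i0 i11) (n j9 i0 i12) (p j9 i0 i13) (n j9 i0 i14) (p j9 i0 i15))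
  (@T16.mk E (p j9 i1 i0) (n j9 i1 i1) (p j9 i1 i2) (n j9 i1 i3) (p j9 i1 i4) (n j9 i1 i5) (p j9 i1 i6) (n j9 i1 i7) (p j9 i1 i8) (n j9 i1 i9) (p j9 i1 i10) (n j9 i1 i11) (p j9 i1 i12) (n j9 i1 i13) (p j9 i1 i14) (n j9 i1 i15))
  (@T16.mk E (p j9 i2 i0) (p j9 i2 i1) (p j9 i2 i2) (p j9 i2 i3) (p j9 i2 i4) (p j9 i2 i5) (p j9 i2 i6) (p j9 i2 i7) (p j9 i2 i8) (p j9 i2 i9) (p j9 i2 i10) (p j9 i2 i11) (p j9 i2 i12) (p j9 i2 i13) (p j9 i2 i14) (p j9 i2 i15))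
  (@T16.mk E (n j9 i3 i0) (p j9 i3 i1) (n j9 i3 i2) (p j9 i3 i3) (p j9 i3 i4) (n j9 i3 i5) (p j9 i3 i6) (n j9 i3 i7) (p j9 i3 i8) (n j9 i3 i9) (p j9 i3 i10) (n j9 i3 i11) (n j9 i3 i12) (p j9 i3 i13) (n j9 i3 i14) (p j9 i3 i15))
  (@T16.mk E (n j9 i4 i0) (n j9 i4 i1) (p j9 i4 i2) (p j9 i4 i3) (p j9 i4 i4) (p j9 i4 i5) (n j9 i4 i6) (n j9 i4 i7) (p j9 i4 i8) (p j9 i4 i9) (n j9 i4 i10) (n j9 i4 i11) (n j9 i4 i12) (n j9 i4 i13) (p j9 i4 i14) (p j9 i4 i15))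
  (@T16.mk E (n j9 i5 i0) (p j9 i5 i1) (p j9 i5 i2) (n j9 i5 i3) (n j9 i5 i4) (p j9 i5 i5) (p j9 i5 i6) (n j9 i5 i7) (p j9 i5 i8) (n j9 i5 i9) (n j9 i5 i10) (p j9 i5 i11) (p j9 i5 i12) (n j9 i5 i13) (n j9 i5 i14) (p j9 i5 i15))
  (@T16.mk E (p j9 i6 i0) (p j9 i6 i1) (p j9 i6 i2) (p j9 i6 i3) (p j9 i6 i4) (p j9 i6 i5) (p j9 i6 i6) (p j9 i6 i7) (p j9 i6 i8) (p j9 i6 i9) (p j9 i6 i10) (p j9 i6 i11) (p j9 i6 i12) (p j9 i6 i13) (p j9 i6 i14) (p j9 i6 i15))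
  (@T16.mk E (n j9 i7 i0) (p j9 i7 i1) (p j9 i7 i2) (n j9 i7 i3) (n j9 i7 i4) (p j9 i7 i5) (p j9 i7 i6) (n j9 i7 i7) (p j9 i7 i8) (n j9 i7 i9) (n j9 i7 i10) (p j9 i7 i11) (p j9 i7 i12) (n j9 i7 i13) (n j9 i7 i14) (p j9 i7 i15))
  (@T16.mk E (p j9 i8 i0) (n j9 i8 i1) (n j9 i8 i2) (p j9 i8 i3) (n j9 i8 i4) (p j9 i8 i5) (p j9 i8 i6) (n j9 i8 i7) (p j9 i8 i8) (n j9 i8 i9) (n j9 i8 i10) (p j9 i8 i11) (n j9 i8 i12) (p j9 i8 i13) (p j9 i8 i14) (n j9 i8 i15))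
  (@T16.mk E (p j9 i9 i0) (p j9 i9 i1) (p j9 i9 i2) (p j9 i9 i3) (p j9 i9 i4) (p j9 i9 i5) (p j9 i9 i6) (p j9 i9 i7) (p j9 i9 i8) (p j9 i9 i9) (p j9 i9 i10) (p j9 i9 i11) (p j9 i9 i12) (p j9 i9 i13) (p j9 i9 i14) (p j9 i9 i15))
  (@T16.mk E (p j9 i10 i0) (p j9 i10 i1) (p j9 i10 i2) (p j9 i10 i3) (p j9 i10 i4) (p j9 i10 i5) (p j9 i10 i6) (p j9 i10 i7) (p j9 i10 i8) (p j9 i10 i9) (p j9 i10 i10) (p j9 i10 i11) (p j9 i10 i12) (p j9 i10 i13) (p j9 i10 i14) (p j9 i10 i15))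
  (@T16.mk E (p j9 i11 i0) (p j9 i11 i1) (n j9 i11 i2) (n j9 i11 i3) (n j9 i11 i4) (n j9 i11 i5) (p j9 i11 i6) (p j9 i11 i7) (p j9 i11 i8) (p j9 i11 i9) (n j9 i11 i10) (n j9 i11 i11) (n j9 i11 i12) (n j9 i11 i13) (p j9 i11 i14) (p j9 i11 i15))
  (@T16.mk E (n j9 i12 i0) (p j9 i12 i1) (n j9 i12 i2) (p j9 i12 i3) (p j9 i12 i4) (n j9 i12 i5) (p j9 i12 i6) (n j9 i12 i7) (p j9 i12 i8) (n j9 i12 i9) (p j9 i12 i10) (n j9 i12 i11) (n j9 i12 i12) (p j9 i12 i13) (n j9 i12 i14) (p j9 i12 i15))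
  (@T16.mk E (n j9 i13 i0) (p j9 i13 i1) (p j9 i13 i2) (n j9 i13 i3) (p j9 i13 i4) (n j9 i13 i5) (n j9 i13 i6) (p j9 i13 i7) (n j9 i13 i8) (p j9 i13 i9) (p j9 i13 i10) (n j9 i13 i11) (p j9 i13 i12) (n j9 i13 i13) (n j9 i13 i14) (p j9 i13 i15))
  (@T16.mk E (n j9 i14 i0) (n j9 i14 i1) (p j9 i14 i2) (p j9 i14 i3) (p j9 i14 i4) (p j9 i14 i5) (n j9 i14 i6) (n j9 i14 i7) (p j9 i14 i8) (p j9 i14 i9) (n j9 i14 i10) (n j9 i14 i11) (n j9 i14 i12) (n j9 i14 i13) (p j9 i14 i14) (p j9 i14 i15))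
  (@T16.mk E (n j9 i15 i0) (n j9 i15 i1) (p j9 i15 i2) (p j9 i15 i3) (p j9 i15 i4) (p j9 i15 i5) (n j9 i15 i6) (n j9 i15 i7) (p j9 i15 i8) (p j9 i15 i9) (n j9 i15 i10) (n j9 i15 i11) (n j9 i15 i12) (n j9 i15 i13) (p j9 i15 i14) (p j9 i15 i15))
 )
 (@T16.mk (T16 E)
  (@T16.mk E (n j10 i0 i0) (n j10 i0 i1) (p j10 i0 i2) (p j10 i0 i3) (p j10 i0 i4) (p j10 i0 i5) (n j10 i0 i6) (n j10 i0 i7) (p j10 i0 i8) (p j10 i0 i9) (n j10 i0 i10) (n j10 i0 i11) (n j10 i0 i12) (n j10 i0 i13) (p j10 i0 i14) (p j10 i0 i15))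
  (@T16.mk E (n j10 i1 i0) (p j10 i1 i1) (p j10 i1 i2) (n j10 i1 i3) (p j10 i1 i4) (n j10 i1 i5) (n j10 i1 i6) (p j10 i1 i7) (p j10 i1 i8) (n j10 i1 i9) (n j10 i1 i10) (p j10 i1 i11) (n j10 i1 i12) (p j10 i1 i13) (p j10 i1 i14) (n j10 i1 i15))
  (@T16.mk E (p j10 i2 i0) (p j10 i2 i1) (p j10 i2 i2) (p j10 i2 i3) (n j10 i2 i4) (n j10 i2 i5) (n j10 i2 i6) (n j10 i2 i7) (p j10 i2 i8) (p j10 i2 i9) (p j10 i2 i10) (p j10 i2 i11) (n j10 i2 i12) (n j10 i2 i13) (n j10 i2 i14) (n j10 i2 i15))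
  (@T16.mk E (p j10 i3 i0) (n j10 i3 i1) (n j10 i3 i2) (p j10 i3 i3) (p j10 i3 i4) (n j10 i3 i5) (n j10 i3 i6) (p j10 i3 i7) (p j10 i3 i8) (n j10 i3 i9) (n j10 i3 i10) (p j10 i3 i11) (p j10 i3 i12) (n j10 i3 i13) (n j10 i3 i14) (p j10 i3 i15))
  (@T16.mk E (n j10 i4 i0) (p j10 i4 i1) (n j10 i4 i2) (p j10 i4 i3) (p j10 i4 i4) (n j10 i4 i5) (p j10 i4 i6) (n j10 i4 i7) (n j10 i4 i8) (p j10 i4 i9) (n j10 i4 i10) (p j10 i4 i11) (p j10 i4 i12) (n j10 i4 i13) (p j10 i4 i14) (n j10 i4 i15))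
  (@T16.mk E (n j10 i5 i0) (p j10 i5 i1) (n j10 i5 i2) (p j10 i5 i3) (p j10 i5 i4) (n j10 i5 i5) (p j10 i5 i6) (n j10 i5 i7) (p j10 i5 i8) (n j10 i5 i9) (p j10 i5 i10) (n j10 i5 i11) (n j10 i5 i12) (p j10 i5 i13) (n j10 i5 i14) (p j10 i5 i15))
  (@T16.mk E (n j10 i6 i0) (p j10 i6 i1) (p j10 i6 i2) (n j10 i6 i3) (p j10 i6 i4) (n j10 i6 i5) (n j10 i6 i6) (p j10 i6 i7) (p j10 i6 i8) (n j10 i6 i9) (n j10 i6 i10) (p j10 i6 i11) (n j10 i6 i12) (p j10 i6 i13) (p j10 i6 i14) (n j10 i6 i15))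
  (@T16.mk E (p j10 i7 i0) (p j10 i7 i1) (n j10 i7 i2) (n j10 i7 i3) (p j10 i7 i4) (p j10 i7 i5) (n j10 i7 i6) (n j10 i7 i7) (n j10 i7 i8) (n j10 i7 i9) (p j10 i7 i10) (p j10 i7 i11) (n j10 i7 i12) (n j10 i7 i13) (p j10 i7 i14) (p j10 i7 i15))
  (@T16.mk E (n j10 i8 i0) (p j10 i8 i1) (p j10 i8 i2) (n j10 i8 i3) (p j10 i8 i4) (n j10 i8 i5) (n j10 i8 i6) (p j10 i8 i7) (n j10 i8 i8) (p j10 i8 i9) (p j10 i8 i10) (n j10 i8 i11) (p j10 i8 i12) (n j10 i8 i13) (n j10 i8 i14) (p j10 i8 i15))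
  (@T16.mk E (n j10 i9 i0) (p j10 i9 i1) (n j10 i9 i2) (p j10 i9 i3) (p j10 i9 i4) (n j10 i9 i5) (p j10 i9 i6) (n j10 i9 i7) (n j10 i9 i8) (p j10 i9 i9) (n j10 i9 i10) (p j10 i9 i11) (p j10 i9 i12) (n j10 i9 i13) (p j10 i9 i14) (n j10 i9 i15))
  (@T16.mk E (n j10 i10 i0) (n j10 i10 i1) (n j10 i10 i2) (n j10 i10 i3) (p j10 i10 i4) (p j10 i10 i5) (p j10 i10 i6) (p j10 i10 i7) (p j10 i10 i8) (p j10 i10 i9) (p j10 i10 i10) (p j10 i10 i11) (n j10 i10 i12) (n j10 i10 i13) (n j10 i10 i14) (n j10 i10 i15))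
  (@T16.mk E (n j10 i11 i0) (p j10 i11 i1) (p j10 i11 i2) (n j10 i11 i3) (p j10 i11 i4) (n j10 i11 i5) (n j10 i11 i6) (p j10 i11 i7) (p j10 i11 i8) (n j10 i11 i9) (n j10 i11 i10) (p j10 i11 i11) (n j10 i11 i12) (p j10 i11 i13) (p j10 i11 i14) (n j10 i11 i15))
  (@T16.mk E (n j10 i12 i0) (p j10 i12 i1) (n j10 i12 i2) (p j10 i12 i3) (n j10 i12 i4) (p j10 i12 i5) (n j10 i12 i6) (p j10 i12 i7) (n j10 i12 i8) (p j10 i12 i9) (n j10 i12 i10) (p j10 i12 i11) (n j10 i12 i12) (p j10 i12 i13) (n j10 i12 i14) (p j10 i12 i15))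
  (@T16.mk E (p j10 i13 i0) (n j10 i13 i1) (n j10 i13 i2) (p j10 i13 i3) (p j10 i13 i4) (n j10 i13 i5) (n j10 i13 i6) (p j10 i13 i7) (p j10 i13 i8) (n j10 i13 i9) (n j10 i13 i10) (p j10 i13 i11) (p j10 i13 i12) (n j10 i13 i13) (n j10 i13 i14) (p j10 i13 i15))
  (@T16.mk E (n j10 i14 i0) (n j10 i14 i1) (p j10 i14 i2) (p j10 i14 i3) (p j10 i14 i4) (p j10 i14 i5) (n j10 i14 i6) (n j10 i14 i7) (p j10 i14 i8) (p j10 i14 i9) (n j10 i14 i10) (n j10 i14 i11) (n j10 i14 i12) (n j10 i14 i13) (p j10 i14 i14) (p j10 i14 i15))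
  (@T16.mk E (n j10 i15 i0) (n j10 i15 i1) (n j10 i15 i2) (n j10 i15 i3) (n j10 i15 i4) (n j10 i15 i5) (n j10 i15 i6) (n j10 i15 i7) (p j10 i15 i8) (p j10 i15 i9) (p j10 i15 i10) (p j10 i15 i11) (p j10 i15 i12) (p j10 i15 i13) (p j10 i15 i14) (p j10 i15 i15))
 )
 (@T16.mk (T16 E)
  (@T16.mk E (p j11 i0 i0) (n j11 i0 i1) (n j11 i0 i2) (p j11 i0 i3) (p j11 i0 i4) (n j11 i0 i5) (n j11 i0 i6) (p j11 i0 i7) (p j11 i0 i8) (n j11 i0 i9) (n j11 i0 i10) (p j11 i0 i11) (p j11 i0 i12) (n j11 i0 i13) (n j11 i0 i14) (p j11 i0 i15))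
  (@T16.mk E (p j11 i1 i0) (n j11 i1 i1) (p j11 i1 i2) (n j11 i1 i3) (n j11 i1 i4) (p j11 i1 i5) (n j11 i1 i6) (p j11 i1 i7) (n j11 i1 i8) (p j11 i1 i9) (n j11 i1 i10) (p j11 i1 i11) (p j11 i1 i12) (n j11 i1 i13) (p j11 i1 i14) (n j11 i1 i15))
  (@T16.mk E (n j11 i2 i0) (n j11 i2 i1) (p j11 i2 i2) (p j11 i2 i3) (p j11 i2 i4) (p j11 i2 i5) (n j11 i2 i6) (n j11 i2 i7) (p j11 i2 i8) (p j11 i2 i9) (n j11 i2 i10) (n j11 i2 i11) (n j11 i2 i12) (n j11 i2 i13) (p j11 i2 i14) (p j11 i2 i15))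
  (@T16.mk E (n j11 i3 i0) (p j11 i3 i1) (n j11 i3 i2) (p j11 i3 i3) (p j11 i3 i4) (n j11 i3 i5) (p j11 i3 i6) (n j11 i3 i7) (n j11 i3 i8) (p j11 i3 i9) (n j11 i3 i10) (p j11 i3 i11) (p j11 i3 i12) (n j11 i3 i13) (p j11 i3 i14) (n j11 i3 i15))
  (@T16.mk E (n j11 i4 i0) (n j11 i4 i1) (p j11 i4 i2) (p j11 i4 i3) (p j11 i4 i4) (p j11 i4 i5) (n j11 i4 i6) (n j11 i4 i7) (p j11 i4 i8) (p j11 i4 i9) (n j11 i4 i10) (n j11 i4 i11) (n j11 i4 i12) (n j11 i4 i13) (p j11 i4 i14) (p j11 i4 i15))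
  (@T16.mk E (n j11 i5 i0) (p j11 i5 i1) (n j11 i5 i2) (p j11 i5 i3) (n j11 i5 i4) (p j11 i5 i5) (n j11 i5 i6) (p j11 i5 i7) (n j11 i5 i8) (p j11 i5 i9) (n j11 i5 i10) (p j11 i5 i11) (n j11 i5 i12) (p j11 i5 i13) (n j11 i5 i14) (p j11 i5 i15))
  (@T16.mk E (p j11 i6 i0) (n j11 i6 i1) (n j11 i6 i2) (p j11 i6 i3) (n j11 i6 i4) (p j11 i6 i5) (p j11 i6 i6) (n j11 i6 i7) (p j11 i6 i8) (n j11 i6 i9) (n j11 i6 i10) (p j11 i6 i11) (n j11 i6 i12) (p j11 i6 i13) (p j11 i6 i14) (n j11 i6 i15))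
  (@T16.mk E (n j11 i7 i0) (p j11 i7 i1) (p j11 i7 i2) (n j11 i7 i3) (n j11 i7 i4) (p j11 i7 i5) (p j11 i7 i6) (n j11 i7 i7) (n j11 i7 i8) (p j11 i7 i9) (p j11 i7 i10) (n j11 i7 i11) (n j11 i7 i12) (p j11 i7 i13) (p j11 i7 i14) (n j11 i7 i15))
  (@T16.mk E (n j11 i8 i0) (n j11 i8 i1) (n j11 i8 i2) (n j11 i8 i3) (p j11 i8 i4) (p j11 i8 i5) (p j11 i8 i6) (p j11 i8 i7) (p j11 i8 i8) (p j11 i8 i9) (p j11 i8 i10) (p j11 i8 i11) (n j11 i8 i12) (n j11 i8 i13) (n j11 i8 i14) (n j11 i8 i15))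
  (@T16.mk E (n j11 i9 i0) (p j11 i9 i1) (n j11 i9 i2) (p j11 i9 i3) (n j11 i9 i4) (p j11 i9 i5) (n j11 i9 i6) (p j11 i9 i7) (n j11 i9 i8) (p j11 i9 i9) (n j11 i9 i10) (p j11 i9 i11) (n j11 i9 i12) (p j11 i9 i13) (n j11 i9 i14) (p j11 i9 i15))
  (@T16.mk E (n j11 i10 i0) (p j11 i10 i1) (p j11 i10 i2) (n j11 i10 i3) (p j11 i10 i4) (n j11 i10 i5) (n j11 i10 i6) (p j11 i10 i7) (p j11 i10 i8) (n j11 i10 i9) (n j11 i10 i10) (p j11 i10 i11) (n j11 i10 i12) (p j11 i10 i13) (p j11 i10 i14) (n j11 i10 i15))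
  (@T16.mk E (n j11 i11 i0) (p j11 i11 i1) (n j11 i11 i2) (p j11 i11 i3) (p j11 i11 i4) (n j11 i11 i5) (p j11 i11 i6) (n j11 i11 i7) (n j11 i11 i8) (p j11 i11 i9) (n j11 i11 i10) (p j11 i11 i11) (p j11 i11 i12) (n j11 i11 i13) (p j11 i11 i14) (n j11 i11 i15))
  (@T16.mk E (p j11 i12 i0) (p j11 i12 i1) (n j11 i12 i2) (n j11 i12 i3) (n j11 i12 i4) (n j11 i12 i5) (p j11 i12 i6) (p j11 i12 i7) (n j11 i12 i8) (n j11 i12 i9) (p j11 i12 i10) (p j11 i12 i11) (p j11 i12 i12) (p j11 i12 i13) (n j11 i12 i14) (n j11 i12 i15))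
  (@T16.mk E (n j11 i13 i0) (n j11 i13 i1) (p j11 i13 i2) (p j11 i13 i3) (p j11 i13 i4) (p j11 i13 i5) (n j11 i13 i6) (n j11 i13 i7) (p j11 i13 i8) (p j11 i13 i9) (n j11 i13 i10) (n j11 i13 i11) (n j11 i13 i12) (n j11 i13 i13) (p j11 i13 i14) (p j11 i13 i15))
  (@T16.mk E (n j11 i14 i0) (n j11 i14 i1) (n j11 i14 i2) (n j11 i14 i3) (p j11 i14 i4) (p j11 i14 i5) (p j11 i14 i6) (p j11 i14 i7) (p j11 i14 i8) (p j11 i14 i9) (p j11 i14 i10) (p j11 i14 i11) (n j11 i14 i12) (n j11 i14 i13) (n j11 i14 i14) (n j11 i14 i15))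
  (@T16.mk E (p j11 i15 i0) (n j11 i15 i1) (n j11 i15 i2) (p j11 i15 i3) (p j11 i15 i4) (n j11 i15 i5) (n j11 i15 i6) (p j11 i15 i7) (n j11 i15 i8) (p j11 i15 i9) (p j11 i15 i10) (n j11 i15 i11) (n j11 i15 i12) (p j11 i15 i13) (p j11 i15 i14) (n j11 i15 i15))
 )
 (@T16.mk (T16 E)
  (@T16.mk E (p j12 i0 i0) (p j12 i0 i1) (n j12 i0 i2) (n j12 i0 i3) (n j12 i0 i4) (n j12 i0 i5) (p j12 i0 i6) (p j12 i0 i7) (n j12 i0 i8) (n j12 i0 i9) (p j12 i0 i10) (p j12 i0 i11) (p j12 i0 i12) (p j12 i0 i13) (n j12 i0 i14) (n j12 i0 i15))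
  (@T16.mk E (n j12 i1 i0) (p j12 i1 i1) (n j12 i1 i2) (p j12 i1 i3) (p j12 i1 i4) (n j12 i1 i5) (p j12 i1 i6) (n j12 i1 i7) (p j12 i1 i8) (n j12 i1 i9) (p j12 i1 i10) (n j12 i1 i11) (n j12 i1 i12) (p j12 i1 i13) (n j12 i1 i14) (p j12 i1 i15))
  (@T16.mk E (n j12 i2 i0) (p j12 i2 i1) (p j12 i2 i2) (n j12 i2 i3) (n j12 i2 i4) (p j12 i2 i5) (p j12 i2 i6) (n j12 i2 i7) (n j12 i2 i8) (p j12 i2 i9) (p j12 i2 i10) (n j12 i2 i11) (n j12 i2 i12) (p j12 i2 i13) (p j12 i2 i14) (n j12 i2 i15))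
  (@T16.mk E (n j12 i3 i0) (p j12 i3 i1) (n j12 i3 i2) (p j12 i3 i3) (p j12 i3 i4) (n j12 i3 i5) (p j12 i3 i6) (n j12 i3 i7) (p j12 i3 i8) (n j12 i3 i9) (p j12 i3 i10) (n j12 i3 i11) (n j12 i3 i12) (p j12 i3 i13) (n j12 i3 i14) (p j12 i3 i15))
  (@T16.mk E (p j12 i4 i0) (p j12 i4 i1) (p j12 i4 i2) (p j12 i4 i3) (n j12 i4 i4) (n j12 i4 i5) (n j12 i4 i6) (n j12 i4 i7) (p j12 i4 i8) (p j12 i4 i9) (p j12 i4 i10) (p j12 i4 i11) (n j12 i4 i12) (n j12 i4 i13) (n j12 i4 i14) (n j12 i4 i15))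
  (@T16.mk E (n j12 i5 i0) (p j12 i5 i1) (n j12 i5 i2) (p j12 i5 i3) (n j12 i5 i4) (p j12 i5 i5) (n j12 i5 i6) (p j12 i5 i7) (n j12 i5 i8) (p j12 i5 i9) (n j12 i5 i10) (p j12 i5 i11) (n j12 i5 i12) (p j12 i5 i13) (n j12 i5 i14) (p j12 i5 i15))
  (@T16.mk E (n j12 i6 i0) (p j12 i6 i1) (p j12 i6 i2) (n j12 i6 i3) (n j12 i6 i4) (p j12 i6 i5) (p j12 i6 i6) (n j12 i6 i7) (p j12 i6 i8) (n j12 i6 i9) (n j12 i6 i10) (p j12 i6 i11) (p j12 i6 i12) (n j12 i6 i13) (n j12 i6 i14) (p j12 i6 i15))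
  (@T16.mk E (n j12 i7 i0) (p j12 i7 i1) (p j12 i7 i2) (n j12 i7 i3) (n j12 i7 i4) (p j12 i7 i5) (p j12 i7 i6) (n j12 i7 i7) (n j12 i7 i8) (p j12 i7 i9) (p j12 i7 i10) (n j12 i7 i11) (n j12 i7 i12) (p j12 i7 i13) (p j12 i7 i14) (n j12 i7 i15))
  (@T16.mk E (n j12 i8 i0) (p j12 i8 i1) (p j12 i8 i2) (n j12 i8 i3) (n j12 i8 i4) (p j12 i8 i5) (p j12 i8 i6) (n j12 i8 i7) (n j12 i8 i8) (p j12 i8 i9) (p j12 i8 i10) (n j12 i8 i11) (n j12 i8 i12) (p j12 i8 i13) (p j12 i8 i14) (n j12 i8 i15))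
  (@T16.mk E (n j12 i9 i0) (p j12 i9 i1) (p j12 i9 i2) (n j12 i9 i3) (n j12 i9 i4) (p j12 i9 i5) (p j12 i9 i6) (n j12 i9 i7) (p j12 i9 i8) (n j12 i9 i9) (n j12 i9 i10) (p j12 i9 i11) (p j12 i9 i12) (n j12 i9 i13) (n j12 i9 i14) (p j12 i9 i15))
  (@T16.mk E (n j12 i10 i0) (p j12 i10 i1) (n j12 i10 i2) (p j12 i10 i3) (n j12 i10 i4) (p j12 i10 i5) (n j12 i10 i6) (p j12 i10 i7) (n j12 i10 i8) (p j12 i10 i9) (n j12 i10 i10) (p j12 i10 i11) (n j12 i10 i12) (p j12 i10 i13) (n j12 i10 i14) (p j12 i10 i15))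
  (@T16.mk E (p j12 i11 i0) (n j12 i11 i1) (n j12 i11 i2) (p j12 i11 i3) (n j12 i11 i4) (p j12 i11 i5) (p j12 i11 i6) (n j12 i11 i7) (p j12 i11 i8) (n j12 i11 i9) (n j12 i11 i10) (p j12 i11 i11) (n j12 i11 i12) (p j12 i11 i13) (p j12 i11 i14) (n j12 i11 i15))
  (@T16.mk E (n j12 i12 i0) (n j12 i12 i1) (n j12 i12 i2) (n j12 i12 i3) (p j12 i12 i4) (p j12 i12 i5) (p j12 i12 i6) (p j12 i12 i7) (p j12 i12 i8) (p j12 i12 i9) (p j12 i12 i10) (p j12 i12 i11) (n j12 i12 i12) (n j12 i12 i13) (n j12 i12 i14) (n j12 i12 i15))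
  (@T16.mk E (p j12 i13 i0) (n j12 i13 i1) (n j12 i13 i2) (n j12 i13 i3) (p j12 i13 i4) (n j12 i13 i5) (n j12 i13 i6) (n j12 i13 i7) (n j12 i13 i8) (n j12 i13 i9) (p j12 i13 i10) (n j12 i13 i11) (p j12 i13 i12) (p j12 i13 i13) (n j12 i13 i14) (p j12 i13 i15))
  (@T16.mk E (n j12 i14 i0) (p j12 i14 i1) (n j12 i14 i2) (n j12 i14 i3) (n j12 i14 i4) (p j12 i14 i5) (n j12 i14 i6) (n j12 i14 i7) (n j12 i14 i8) (n j12 i14 i9) (n j12 i14 i10) (p j12 i14 i11) (p j12 i14 i12) (p j12 i14 i13) (p j12 i14 i14) (n j12 i14 i15))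
  (@T16.mk E (n j12 i15 i0) (n j12 i15 i1) (p j12 i15 i2) (n j12 i15 i3) (n j12 i15 i4) (n j12 i15 i5) (p j12 i15 i6) (n j12 i15 i7) (p j12 i15 i8) (n j12 i15 i9) (n j12 i15 i10) (n j12 i15 i11) (n j12 i15 i12) (p j12 i15 i13) (p j12 i15 i14) (p j12 i15 i15))
 )
 (@T16.mk (T16 E)
  (@T16.mk E (n j13 i0 i0) (n j13 i0 i1) (n j13 i0 i2) (p j13 i0 i3) (n j13 i0 i4) (n j13 i0 i5) (n j13 i0 i6) (p j13 i0 i7) (n j13 i0 i8) (p j13 i0 i9) (n j13 i0 i10) (n j13 i0 i11) (p j13 i0 i12) (n j13 i0 i13) (p j13 i0 i14) (p j13 i0 i15))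
  (@T16.mk E (n j13 i1 i0) (p j13 i1 i1) (n j13 i1 i2) (n j13 i1 i3) (n j13 i1 i4) (p j13 i1 i5) (n j13 i1 i6) (n j13 i1 i7) (n j13 i1 i8) (n j13 i1 i9) (n j13 i1 i10) (p j13 i1 i11) (p j13 i1 i12) (p j13 i1 i13) (p j13 i1 i14) (n j13 i1 i15))
  (@T16.mk E (p j13 i2 i0) (n j13 i2 i1) (n j13 i2 i2) (n j13 i2 i3) (p j13 i2 i4) (n j13 i2 i5) (n j13 i2 i6) (n j13 i2 i7) (n j13 i2 i8) (n j13 i2 i9) (p j13 i2 i10) (n j13 i2 i11) (p j13 i2 i12) (p j13 i2 i13) (n j13 i2 i14) (p j13 i2 i15))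
  (@T16.mk E (n j13 i3 i0) (n j13 i3 i1) (n j13 i3 i2) (p j13 i3 i3) (n j13 i3 i4) (n j13 i3 i5) (n j13 i3 i6) (p j13 i3 i7) (n j13 i3 i8) (p j13 i3 i9) (n j13 i3 i10) (n j13 i3 i11) (p j13 i3 i12) (n j13 i3 i13) (p j13 i3 i14) (p j13 i3 i15))
  (@T16.mk E (n j13 i4 i0) (n j13 i4 i1) (p j13 i4 i2) (n j13 i4 i3) (n j13 i4 i4) (n j13 i4 i5) (p j13 i4 i6) (n j13 i4 i7) (p j13 i4 i8) (n j13 i4 i9) (n j13 i4 i10) (n j13 i4 i11) (n j13 i4 i12) (p j13 i4 i13) (p j13 i4 i14) (p j13 i4 i15))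
  (@T16.mk E (n j13 i5 i0) (n j13 i5 i1) (n j13 i5 i2) (p j13 i5 i3) (p j13 i5 i4) (p j13 i5 i5) (p j13 i5 i6) (n j13 i5 i7) (n j13 i5 i8) (p j13 i5 i9) (n j13 i5 i10) (n j13 i5 i11) (n j13 i5 i12) (p j13 i5 i13) (n j13 i5 i14) (n j13 i5 i15))
  (@T16.mk E (n j13 i6 i0) (n j13 i6 i1) (p j13 i6 i2) (n j13 i6 i3) (p j13 i6 i4) (p j13 i6 i5) (n j13 i6 i6) (p j13 i6 i7) (p j13 i6 i8) (n j13 i6 i9) (n j13 i6 i10) (n j13 i6 i11) (p j13 i6 i12) (n j13 i6 i13) (n j13 i6 i14) (n j13 i6 i15))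
  (@T16.mk E (n j13 i7 i0) (p j13 i7 i1) (n j13 i7 i2) (n j13 i7 i3) (p j13 i7 i4) (n j13 i7 i5) (p j13 i7 i6) (p j13 i7 i7) (n j13 i7 i8) (n j13 i7 i9) (n j13 i7 i10) (p j13 i7 i11) (n j13 i7 i12) (n j13 i7 i13) (n j13 i7 i14) (p j13 i7 i15))
  (@T16.mk E (p j13 i8 i0) (n j13 i8 i1) (n j13 i8 i2) (n j13 i8 i3) (n j13 i8 i4) (p j13 i8 i5) (p j13 i8 i6) (p j13 i8 i7) (n j13 i8 i8) (n j13 i8 i9) (p j13 i8 i10) (n j13 i8 i11) (n j13 i8 i12) (n j13 i8 i13) (p j13 i8 i14) (n j13 i8 i15))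
  (@T16.mk E (n j13 i9 i0) (n j13 i9 i1) (p j13 i9 i2) (n j13 i9 i3) (p j13 i9 i4) (p j13 i9 i5) (n j13 i9 i6) (p j13 i9 i7) (p j13 i9 i8) (n j13 i9 i9) (n j13 i9 i10) (n j13 i9 i11) (p j13 i9 i12) (n j13 i9 i13) (n j13 i9 i14) (n j13 i9 i15))
  (@T16.mk E (n j13 i10 i0) (n j13 i10 i1) (n j13 i10 i2) (p j13 i10 i3) (p j13 i10 i4) (p j13 i10 i5) (p j13 i10 i6) (n j13 i10 i7) (n j13 i10 i8) (p j13 i10 i9) (n j13 i10 i10) (n j13 i10 i11) (n j13 i10 i12) (p j13 i10 i13) (n j13 i10 i14) (n j13 i10 i15))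
  (@T16.mk E (p j13 i11 i0) (n j13 i11 i1) (n j13 i11 i2) (n j13 i11 i3) (n j13 i11 i4) (p j13 i11 i5) (p j13 i11 i6) (p j13 i11 i7) (n j13 i11 i8) (n j13 i11 i9) (p j13 i11 i10) (n j13 i11 i11) (n j13 i11 i12) (n j13 i11 i13) (p j13 i11 i14) (n j13 i11 i15))
  (@T16.mk E (n j13 i12 i0) (p j13 i12 i1) (n j13 i12 i2) (n j13 i12 i3) (p j13 i12 i4) (n j13 i12 i5) (p j13 i12 i6) (p j13 i12 i7) (n j13 i12 i8) (n j13 i12 i9) (n j13 i12 i10) (p j13 i12 i11) (n j13 i12 i12) (n j13 i12 i13) (n j13 i12 i14) (p j13 i12 i15))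
  (@T16.mk E (p j13 i13 i0) (p j13 i13 i1) (p j13 i13 i2) (n j13 i13 i3) (p j13 i13 i4) (p j13 i13 i5) (p j13 i13 i6) (n j13 i13 i7) (n j13 i13 i8) (p j13 i13 i9) (n j13 i13 i10) (n j13 i13 i11) (p j13 i13 i12) (n j13 i13 i13) (p j13 i13 i14) (p j13 i13 i15))
  (@T16.mk E (p j13 i14 i0) (p j13 i14 i1) (n j13 i14 i2) (p j13 i14 i3) (p j13 i14 i4) (p j13 i14 i5) (n j13 i14 i6) (p j13 i14 i7) (p j13 i14 i8) (n j13 i14 i9) (n j13 i14 i10) (n j13 i14 i11) (n j13 i14 i12) (p j13 i14 i13) (p j13 i14 i14) (p j13 i14 i15))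
  (@T16.mk E (p j13 i15 i0) (n j13 i15 i1) (p j13 i15 i2) (p j13 i15 i3) (p j13 i15 i4) (n j13 i15 i5) (p j13 i15 i6) (p j13 i15 i7) (n j13 i15 i8) (n j13 i15 i9) (n j13 i15 i10) (p j13 i15 i11) (p j13 i15 i12) (p j13 i15 i13) (p j13 i15 i14) (n j13 i15 i15))
 )
 (@T16.mk (T16 E)
  (@T16.mk E (n j14 i0 i0) (p j14 i0 i1) (p j14 i0 i2) (p j14 i0 i3) (n j14 i0 i4) (p j14 i0 i5) (p j14 i0 i6) (p j14 i0 i7) (n j14 i0 i8) (n j14 i0 i9) (p j14 i0 i10) (n j14 i0 i11) (p j14 i0 i12) (p j14 i0 i13) (n j14 i0 i14) (p j14 i0 i15))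
  (@T16.mk E (p j14 i1 i0) (p j14 i1 i1) (n j14 i1 i2) (p j14 i1 i3) (p j14 i1 i4) (p j14 i1 i5) (n j14 i1 i6) (p j14 i1 i7) (p j14 i1 i8) (n j14 i1 i9) (n j14 i1 i10) (n j14 i1 i11) (n j14 i1 i12) (p j14 i1 i13) (p j14 i1 i14) (p j14 i1 i15))
  (@T16.mk E (p j14 i2 i0) (p j14 i2 i1) (p j14 i2 i2) (n j14 i2 i3) (p j14 i2 i4) (p j14 i2 i5) (p j14 i2 i6) (n j14 i2 i7) (n j14 i2 i8) (p j14 i2 i9) (n j14 i2 i10) (n j14 i2 i11) (p j14 i2 i12) (n j14 i2 i13) (p j14 i2 i14) (p j14 i2 i15))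
  (@T16.mk E (n j14 i3 i0) (p j14 i3 i1) (p j14 i3 i2) (p j14 i3 i3) (n j14 i3 i4) (p j14 i3 i5) (p j14 i3 i6) (p j14 i3 i7) (n j14 i3 i8) (n j14 i3 i9) (p j14 i3 i10) (n j14 i3 i11) (p j14 i3 i12) (p j14 i3 i13) (n j14 i3 i14) (p j14 i3 i15))
  (@T16.mk E (p j14 i4 i0) (n j14 i4 i1) (p j14 i4 i2) (p j14 i4 i3) (p j14 i4 i4) (n j14 i4 i5) (p j14 i4 i6) (p j14 i4 i7) (n j14 i4 i8) (n j14 i4 i9) (n j14 i4 i10) (p j14 i4 i11) (p j14 i4 i12) (p j14 i4 i13) (p j14 i4 i14) (n j14 i4 i15))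
  (@T16.mk E (p j14 i5 i0) (n j14 i5 i1) (n j14 i5 i2) (n j14 i5 i3) (n j14 i5 i4) (p j14 i5 i5) (p j14 i5 i6) (p j14 i5 i7) (p j14 i5 i8) (p j14 i5 i9) (n j14 i5 i10) (p j14 i5 i11) (p j14 i5 i12) (p j14 i5 i13) (n j14 i5 i14) (p j14 i5 i15))
  (@T16.mk E (n j14 i6 i0) (p j14 i6 i1) (n j14 i6 i2) (n j14 i6 i3) (p j14 i6 i4) (n j14 i6 i5) (p j14 i6 i6) (p j14 i6 i7) (p j14 i6 i8) (p j14 i6 i9) (p j14 i6 i10) (n j14 i6 i11) (p j14 i6 i12) (p j14 i6 i13) (p j14 i6 i14) (n j14 i6 i15))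
  (@T16.mk E (n j14 i7 i0) (n j14 i7 i1) (p j14 i7 i2) (n j14 i7 i3) (p j14 i7 i4) (p j14 i7 i5) (n j14 i7 i6) (p j14 i7 i7) (n j14 i7 i8) (p j14 i7 i9) (p j14 i7 i10) (p j14 i7 i11) (n j14 i7 i12) (p j14 i7 i13) (p j14 i7 i14) (p j14 i7 i15))
  (@T16.mk E (n j14 i8 i0) (n j14 i8 i1) (n j14 i8 i2) (p j14 i8 i3) (p j14 i8 i4) (p j14 i8 i5) (p j14 i8 i6) (n j14 i8 i7) (p j14 i8 i8) (n j14 i8 i9) (p j14 i8 i10) (p j14 i8 i11) (p j14 i8 i12) (n j14 i8 i13) (p j14 i8 i14) (p j14 i8 i15))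
  (@T16.mk E (n j14 i9 i0) (p j14 i9 i1) (n j14 i9 i2) (n j14 i9 i3) (p j14 i9 i4) (n j14 i9 i5) (p j14 i9 i6) (p j14 i9 i7) (p j14 i9 i8) (p j14 i9 i9) (p j14 i9 i10) (n j14 i9 i11) (p j14 i9 i12) (p j14 i9 i13) (p j14 i9 i14) (n j14 i9 i15))
  (@T16.mk E (p j14 i10 i0) (n j14 i10 i1) (n j14 i10 i2) (n j14 i10 i3) (n j14 i10 i4) (p j14 i10 i5) (p j14 i10 i6) (p j14 i10 i7) (p j14 i10 i8) (p j14 i10 i9) (n j14 i10 i10) (p j14 i10 i11) (p j14 i10 i12) (p j14 i10 i13) (n j14 i10 i14) (p j14 i10 i15))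
  (@T16.mk E (n j14 i11 i0) (n j14 i11 i1) (n j14 i11 i2) (p j14 i11 i3) (p j14 i11 i4) (p j14 i11 i5) (p j14 i11 i6) (n j14 i11 i7) (p j14 i11 i8) (n j14 i11 i9) (p j14 i11 i10) (p j14 i11 i11) (p j14 i11 i12) (n j14 i11 i13) (p j14 i11 i14) (p j14 i11 i15))
  (@T16.mk E (n j14 i12 i0) (n j14 i12 i1) (p j14 i12 i2) (n j14 i12 i3) (p j14 i12 i4) (p j14 i12 i5) (n j14 i12 i6) (p j14 i12 i7) (n j14 i12 i8) (p j14 i12 i9) (p j14 i12 i10) (p j14 i12 i11) (n j14 i12 i12) (p j14 i12 i13) (p j14 i12 i14) (p j14 i12 i15))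
  (@T16.mk E (n j14 i13 i0) (p j14 i13 i1) (p j14 i13 i2) (p j14 i13 i3) (n j14 i13 i4) (p j14 i13 i5) (p j14 i13 i6) (p j14 i13 i7) (n j14 i13 i8) (n j14 i13 i9) (p j14 i13 i10) (n j14 i13 i11) (p j14 i13 i12) (p j14 i13 i13) (n j14 i13 i14) (p j14 i13 i15))
  (@T16.mk E (p j14 i14 i0) (n j14 i14 i1) (p j14 i14 i2) (p j14 i14 i3) (p j14 i14 i4) (n j14 i14 i5) (p j14 i14 i6) (p j14 i14 i7) (n j14 i14 i8) (n j14 i14 i9) (n j14 i14 i10) (p j14 i14 i11) (p j14 i14 i12) (p j14 i14 i13) (p j14 i14 i14) (n j14 i14 i15))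
  (@T16.mk E (p j14 i15 i0) (p j14 i15 i1) (n j14 i15 i2) (p j14 i15 i3) (p j14 i15 i4) (p j14 i15 i5) (n j14 i15 i6) (p j14 i15 i7) (p j14 i15 i8) (n j14 i15 i9) (n j14 i15 i10) (n j14 i15 i11) (n j14 i15 i12) (p j14 i15 i13) (p j14 i15 i14) (p j14 i15 i15))
 )
 (@T16.mk (T16 E)
  (@T16.mk E (p j15 i0 i0) (p j15 i0 i1) (p j15 i0 i2) (n j15 i0 i3) (p j15 i0 i4) (p j15 i0 i5) (p j15 i0 i6) (n j15 i0 i7) (n j15 i0 i8) (p j15 i0 i9) (n j15 i0 i10) (n j15 i0 i11) (p j15 i0 i12) (n j15 i0 i13) (p j15 i0 i14) (p j15 i0 i15))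
  (@T16.mk E (p j15 i1 i0) (n j15 i1 i1) (p j15 i1 i2) (p j15 i1 i3) (p j15 i1 i4) (n j15 i1 i5) (p j15 i1 i6) (p j15 i1 i7) (n j15 i1 i8) (n j15 i1 i9) (n j15 i1 i10) (p j15 i1 i11) (p j15 i1 i12) (p j15 i1 i13) (p j15 i1 i14) (n j15 i1 i15))
  (@T16.mk E (n j15 i2 i0) (p j15 i2 i1) (p j15 i2 i2) (p j15 i2 i3) (n j15 i2 i4) (p j15 i2 i5) (p j15 i2 i6) (p j15 i2 i7) (n j15 i2 i8) (n j15 i2 i9) (p j15 i2 i10) (n j15 i2 i11) (p j15 i2 i12) (p j15 i2 i13) (n j15 i2 i14) (p j15 i2 i15))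
  (@T16.mk E (p j15 i3 i0) (p j15 i3 i1) (p j15 i3 i2) (n j15 i3 i3) (p j15 i3 i4) (p j15 i3 i5) (p j15 i3 i6) (n j15 i3 i7) (n j15 i3 i8) (p j15 i3 i9) (n j15 i3 i10) (n j15 i3 i11) (p j15 i3 i12) (n j15 i3 i13) (p j15 i3 i14) (p j15 i3 i15))
  (@T16.mk E (p j15 i4 i0) (p j15 i4 i1) (n j15 i4 i2) (p j15 i4 i3) (p j15 i4 i4) (p j15 i4 i5) (n j15 i4 i6) (p j15 i4 i7) (p j15 i4 i8) (n j15 i4 i9) (n j15 i4 i10) (n j15 i4 i11) (n j15 i4 i12) (p j15 i4 i13) (p j15 i4 i14) (p j15 i4 i15))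
  (@T16.mk E (n j15 i5 i0) (n j15 i5 i1) (n j15 i5 i2) (p j15 i5 i3) (p j15 i5 i4) (p j15 i5 i5) (p j15 i5 i6) (n j15 i5 i7) (p j15 i5 i8) (n j15 i5 i9) (p j15 i5 i10) (p j15 i5 i11) (p j15 i5 i12) (n j15 i5 i13) (p j15 i5 i14) (p j15 i5 i15))
  (@T16.mk E (n j15 i6 i0) (n j15 i6 i1) (p j15 i6 i2) (n j15 i6 i3) (p j15 i6 i4) (p j15 i6 i5) (n j15 i6 i6) (p j15 i6 i7) (n j15 i6 i8) (p j15 i6 i9) (p j15 i6 i10) (p j15 i6 i11) (n j15 i6 i12) (p j15 i6 i13) (p j15 i6 i14) (p j15 i6 i15))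
  (@T16.mk E (n j15 i7 i0) (p j15 i7 i1) (n j15 i7 i2) (n j15 i7 i3) (p j15 i7 i4) (n j15 i7 i5) (p j15 i7 i6) (p j15 i7 i7) (p j15 i7 i8) (p j15 i7 i9) (p j15 i7 i10) (n j15 i7 i11) (p j15 i7 i12) (p j15 i7 i13) (p j15 i7 i14) (n j15 i7 i15))
  (@T16.mk E (p j15 i8 i0) (n j15 i8 i1) (n j15 i8 i2) (n j15 i8 i3) (n j15 i8 i4) (p j15 i8 i5) (p j15 i8 i6) (p j15 i8 i7) (p j15 i8 i8) (p j15 i8 i9) (n j15 i8 i10) (p j15 i8 i11) (p j15 i8 i12) (p j15 i8 i13) (n j15 i8 i14) (p j15 i8 i15))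
  (@T16.mk E (n j15 i9 i0) (n j15 i9 i1) (p j15 i9 i2) (n j15 i9 i3) (p j15 i9 i4) (p j15 i9 i5) (n j15 i9 i6) (p j15 i9 i7) (n j15 i9 i8) (p j15 i9 i9) (p j15 i9 i10) (p j15 i9 i11) (n j15 i9 i12) (p j15 i9 i13) (p j15 i9 i14) (p j15 i9 i15))
  (@T16.mk E (n j15 i10 i0) (n j15 i10 i1) (n j15 i10 i2) (p j15 i10 i3) (p j15 i10 i4) (p j15 i10 i5) (p j15 i10 i6) (n j15 i10 i7) (p j15 i10 i8) (n j15 i10 i9) (p j15 i10 i10) (p j15 i10 i11) (p j15 i10 i12) (n j15 i10 i13) (p j15 i10 i14) (p j15 i10 i15))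
  (@T16.mk E (p j15 i11 i0) (n j15 i11 i1) (n j15 i11 i2) (n j15 i11 i3) (n j15 i11 i4) (p j15 i11 i5) (p j15 i11 i6) (p j15 i11 i7) (p j15 i11 i8) (p j15 i11 i9) (n j15 i11 i10) (p j15 i11 i11) (p j15 i11 i12) (p j15 i11 i13) (n j15 i11 i14) (p j15 i11 i15))
  (@T16.mk E (n j15 i12 i0) (p j15 i12 i1) (n j15 i12 i2) (n j15 i12 i3) (p j15 i12 i4) (n j15 i12 i5) (p j15 i12 i6) (p j15 i12 i7) (p j15 i12 i8) (p j15 i12 i9) (p j15 i12 i10) (n j15 i12 i11) (p j15 i12 i12) (p j15 i12 i13) (p j15 i12 i14) (n j15 i12 i15))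
  (@T16.mk E (p j15 i13 i0) (p j15 i13 i1) (p j15 i13 i2) (n j15 i13 i3) (p j15 i13 i4) (p j15 i13 i5) (p j15 i13 i6) (n j15 i13 i7) (p j15 i13 i8) (n j15 i13 i9) (p j15 i13 i10) (p j15 i13 i11) (n j15 i13 i12) (p j15 i13 i13) (n j15 i13 i14) (n j15 i13 i15))
  (@T16.mk E (p j15 i14 i0) (p j15 i14 i1) (n j15 i14 i2) (p j15 i14 i3) (p j15 i14 i4) (p j15 i14 i5) (n j15 i14 i6) (p j15 i14 i7) (n j15 i14 i8) (p j15 i14 i9) (p j15 i14 i10) (p j15 i14 i11) (p j15 i14 i12) (n j15 i14 i13) (n j15 i14 i14) (n j15 i14 i15))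
  (@T16.mk E (p j15 i15 i0) (n j15 i15 i1) (p j15 i15 i2) (p j15 i15 i3) (p j15 i15 i4) (n j15 i15 i5) (p j15 i15 i6) (p j15 i15 i7) (p j15 i15 i8) (p j15 i15 i9) (p j15 i15 i10) (n j15 i15 i11) (n j15 i15 i12) (n j15 i15 i13) (n j15 i15 i14) (p j15 i15 i15))
 )
 (@T16.mk (T16 E)
  (@T16.mk E (n j16 i0 i0) (p j16 i0 i1) (p j16 i0 i2) (p j16 i0 i3) (n j16 i0 i4) (p j16 i0 i5) (p j16 i0 i6) (p j16 i0 i7) (p j16 i0 i8) (p j16 i0 i9) (n j16 i0 i10) (p j16 i0 i11) (n j16 i0 i12) (n j16 i0 i13) (p j16 i0 i14) (n j16 i0 i15))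
  (@T16.mk E (p j16 i1 i0) (p j16 i1 i1) (n j16 i1 i2) (p j16 i1 i3) (p j16 i1 i4) (p j16 i1 i5) (n j16 i1 i6) (p j16 i1 i7) (n j16 i1 i8) (p j16 i1 i9) (p j16 i1 i10) (p j16 i1 i11) (p j16 i1 i12) (n j16 i1 i13) (n j16 i1 i14) (n j16 i1 i15))
  (@T16.mk E (p j16 i2 i0) (p j16 i2 i1) (p j16 i2 i2) (n j16 i2 i3) (p j16 i2 i4) (p j16 i2 i5) (p j16 i2 i6) (n j16 i2 i7) (p j16 i2 i8) (n j16 i2 i9) (p j16 i2 i10) (p j16 i2 i11) (n j16 i2 i12) (p j16 i2 i13) (n j16 i2 i14) (n j16 i2 i15))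
  (@T16.mk E (n j16 i3 i0) (p j16 i3 i1) (p j16 i3 i2) (p j16 i3 i3) (n j16 i3 i4) (p j16 i3 i5) (p j16 i3 i6) (p j16 i3 i7) (p j16 i3 i8) (p j16 i3 i9) (n j16 i3 i10) (p j16 i3 i11) (n j16 i3 i12) (n j16 i3 i13) (p j16 i3 i14) (n j16 i3 i15))
  (@T16.mk E (p j16 i4 i0) (n j16 i4 i1) (p j16 i4 i2) (p j16 i4 i3) (p j16 i4 i4) (n j16 i4 i5) (p j16 i4 i6) (p j16 i4 i7) (p j16 i4 i8) (p j16 i4 i9) (p j16 i4 i10) (n j16 i4 i11) (n j16 i4 i12) (n j16 i4 i13) (n j16 i4 i14) (p j16 i4 i15))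
  (@T16.mk E (n j16 i5 i0) (p j16 i5 i1) (p j16 i5 i2) (p j16 i5 i3) (p j16 i5 i4) (n j16 i5 i5) (n j16 i5 i6) (n j16 i5 i7) (p j16 i5 i8) (p j16 i5 i9) (n j16 i5 i10) (p j16 i5 i11) (p j16 i5 i12) (p j16 i5 i13) (n j16 i5 i14) (p j16 i5 i15))
  (@T16.mk E (p j16 i6 i0) (n j16 i6 i1) (p j16 i6 i2) (p j16 i6 i3) (n j16 i6 i4) (p j16 i6 i5) (n j16 i6 i6) (n j16 i6 i7) (p j16 i6 i8) (p j16 i6 i9) (p j16 i6 i10) (n j16 i6 i11) (p j16 i6 i12) (p j16 i6 i13) (p j16 i6 i14) (n j16 i6 i15))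
  (@T16.mk E (p j16 i7 i0) (p j16 i7 i1) (n j16 i7 i2) (p j16 i7 i3) (n j16 i7 i4) (n j16 i7 i5) (p j16 i7 i6) (n j16 i7 i7) (n j16 i7 i8) (p j16 i7 i9) (p j16 i7 i10) (p j16 i7 i11) (n j16 i7 i12) (p j16 i7 i13) (p j16 i7 i14) (p j16 i7 i15))
  (@T16.mk E (p j16 i8 i0) (p j16 i8 i1) (p j16 i8 i2) (n j16 i8 i3) (n j16 i8 i4) (n j16 i8 i5) (n j16 i8 i6) (p j16 i8 i7) (p j16 i8 i8) (n j16 i8 i9) (p j16 i8 i10) (p j16 i8 i11) (p j16 i8 i12) (n j16 i8 i13) (p j16 i8 i14) (p j16 i8 i15))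
  (@T16.mk E (p j16 i9 i0) (n j16 i9 i1) (p j16 i9 i2) (p j16 i9 i3) (n j16 i9 i4) (p j16 i9 i5) (n j16 i9 i6) (n j16 i9 i7) (p j16 i9 i8) (p j16 i9 i9) (p j16 i9 i10) (n j16 i9 i11) (p j16 i9 i12) (p j16 i9 i13) (p j16 i9 i14) (n j16 i9 i15))
  (@T16.mk E (n j16 i10 i0) (p j16 i10 i1) (p j16 i10 i2) (p j16 i10 i3) (p j16 i10 i4) (n j16 i10 i5) (n j16 i10 i6) (n j16 i10 i7) (p j16 i10 i8) (p j16 i10 i9) (n j16 i10 i10) (p j16 i10 i11) (p j16 i10 i12) (p j16 i10 i13) (n j16 i10 i14) (p j16 i10 i15))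
  (@T16.mk E (p j16 i11 i0) (p j16 i11 i1) (p j16 i11 i2) (n j16 i11 i3) (n j16 i11 i4) (n j16 i11 i5) (n j16 i11 i6) (p j16 i11 i7) (p j16 i11 i8) (n j16 i11 i9) (p j16 i11 i10) (p j16 i11 i11) (p j16 i11 i12) (n j16 i11 i13) (p j16 i11 i14) (p j16 i11 i15))
  (@T16.mk E (p j16 i12 i0) (p j16 i12 i1) (n j16 i12 i2) (p j16 i12 i3) (n j16 i12 i4) (n j16 i12 i5) (p j16 i12 i6) (n j16 i12 i7) (n j16 i12 i8) (p j16 i12 i9) (p j16 i12 i10) (p j16 i12 i11) (n j16 i12 i12) (p j16 i12 i13) (p j16 i12 i14) (p j16 i12 i15))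
  (@T16.mk E (p j16 i13 i0) (p j16 i13 i1) (p j16 i13 i2) (p j16 i13 i3) (p j16 i13 i4) (p j16 i13 i5) (p j16 i13 i6) (p j16 i13 i7) (p j16 i13 i8) (p j16 i13 i9) (p j16 i13 i10) (p j16 i13 i11) (p j16 i13 i12) (p j16 i13 i13) (p j16 i13 i14) (p j16 i13 i15))
  (@T16.mk E (p j16 i14 i0) (p j16 i14 i1) (p j16 i14 i2) (p j16 i14 i3) (p j16 i14 i4) (p j16 i14 i5) (p j16 i14 i6) (p j16 i14 i7) (n j16 i14 i8) (p j16 i14 i9) (p j16 i14 i10) (p j16 i14 i11) (p j16 i14 i12) (p j16 i14 i13) (n j16 i14 i14) (n j16 i14 i15))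
  (@T16.mk E (n j16 i15 i0) (p j16 i15 i1) (p j16 i15 i2) (p j16 i15 i3) (p j16 i15 i4) (n j16 i15 i5) (n j16 i15 i6) (n j16 i15 i7) (p j16 i15 i8) (p j16 i15 i9) (p j16 i15 i10) (n j16 i15 i11) (p j16 i15 i12) (p j16 i15 i13) (n j16 i15 i14) (p j16 i15 i15))
 )
 (@T16.mk (T16 E)
  (@T16.mk E (p j17 i0 i0) (p j17 i0 i1) (p j17 i0 i2) (p j17 i0 i3) (n j17 i0 i4) (n j17 i0 i5) (n j17 i0 i6) (p j17 i0 i7) (p j17 i0 i8) (p j17 i0 i9) (p j17 i0 i10) (n j17 i0 i11) (n j17 i0 i12) (n j17 i0 i13) (p j17 i0 i14) (p j17 i0 i15))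
  (@T16.mk E (p j17 i1 i0) (n j17 i1 i1) (p j17 i1 i2) (p j17 i1 i3) (p j17 i1 i4) (p j17 i1 i5) (p j17 i1 i6) (p j17 i1 i7) (p j17 i1 i8) (p j17 i1 i9) (p j17 i1 i10) (p j17 i1 i11) (p j17 i1 i12) (p j17 i1 i13) (p j17 i1 i14) (p j17 i1 i15))
  (@T16.mk E (p j17 i2 i0) (p j17 i2 i1) (p j17 i2 i2) (p j17 i2 i3) (p j17 i2 i4) (p j17 i2 i5) (p j17 i2 i6) (p j17 i2 i7) (p j17 i2 i8) (p j17 i2 i9) (p j17 i2 i10) (p j17 i2 i11) (p j17 i2 i12) (p j17 i2 i13) (p j17 i2 i14) (p j17 i2 i15))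
  (@T16.mk E (p j17 i3 i0) (p j17 i3 i1) (p j17 i3 i2) (p j17 i3 i3) (p j17 i3 i4) (p j17 i3 i5) (p j17 i3 i6) (p j17 i3 i7) (p j17 i3 i8) (p j17 i3 i9) (p j17 i3 i10) (p j17 i3 i11) (p j17 i3 i12) (p j17 i3 i13) (p j17 i3 i14) (p j17 i3 i15))
  (@T16.mk E (p j17 i4 i0) (p j17 i4 i1) (p j17 i4 i2) (p j17 i4 i3) (p j17 i4 i4) (p j17 i4 i5) (p j17 i4 i6) (p j17 i4 i7) (p j17 i4 i8) (p j17 i4 i9) (p j17 i4 i10) (p j17 i4 i11) (p j17 i4 i12) (p j17 i4 i13) (p j17 i4 i14) (p j17 i4 i15))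
  (@T16.mk E (p j17 i5 i0) (p j17 i5 i1) (p j17 i5 i2) (p j17 i5 i3) (p j17 i5 i4) (p j17 i5 i5) (p j17 i5 i6) (p j17 i5 i7) (p j17 i5 i8) (p j17 i5 i9) (p j17 i5 i10) (p j17 i5 i11) (p j17 i5 i12) (p j17 i5 i13) (p j17 i5 i14) (p j17 i5 i15))
  (@T16.mk E (p j17 i6 i0) (p j17 i6 i1) (p j17 i6 i2) (p j17 i6 i3) (p j17 i6 i4) (p j17 i6 i5) (p j17 i6 i6) (p j17 i6 i7) (p j17 i6 i8) (p j17 i6 i9) (p j17 i6 i10) (p j17 i6 i11) (p j17 i6 i12) (p j17 i6 i13) (p j17 i6 i14) (p j17 i6 i15))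
  (@T16.mk E (p j17 i7 i0) (p j17 i7 i1) (p j17 i7 i2) (p j17 i7 i3) (p j17 i7 i4) (p j17 i7 i5) (p j17 i7 i6) (p j17 i7 i7) (p j17 i7 i8) (p j17 i7 i9) (p j17 i7 i10) (p j17 i7 i11) (p j17 i7 i12) (p j17 i7 i13) (p j17 i7 i14) (p j17 i7 i15))
  (@T16.mk E (p j17 i8 i0) (p j17 i8 i1) (p j17 i8 i2) (p j17 i8 i3) (p j17 i8 i4) (p j17 i8 i5) (p j17 i8 i6) (p j17 i8 i7) (p j17 i8 i8) (p j17 i8 i9) (p j17 i8 i10) (p j17 i8 i11) (p j17 i8 i12) (p j17 i8 i13) (p j17 i8 i14) (p j17 i8 i15))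
  (@T16.mk E (p j17 i9 i0) (p j17 i9 i1) (p j17 i9 i2) (p j17 i9 i3) (p j17 i9 i4) (p j17 i9 i5) (p j17 i9 i6) (p j17 i9 i7) (p j17 i9 i8) (p j17 i9 i9) (p j17 i9 i10) (p j17 i9 i11) (p j17 i9 i12) (p j17 i9 i13) (p j17 i9 i14) (p j17 i9 i15))
  (@T16.mk E (p j17 i10 i0) (p j17 i10 i1) (p j17 i10 i2) (p j17 i10 i3) (p j17 i10 i4) (p j17 i10 i5) (p j17 i10 i6) (p j17 i10 i7) (p j17 i10 i8) (p j17 i10 i9) (p j17 i10 i10) (p j17 i10 i11) (p j17 i10 i12) (p j17 i10 i13) (p j17 i10 i14) (p j17 i10 i15))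
  (@T16.mk E (p j17 i11 i0) (p j17 i11 i1) (p j17 i11 i2) (p j17 i11 i3) (p j17 i11 i4) (p j17 i11 i5) (p j17 i11 i6) (p j17 i11 i7) (p j17 i11 i8) (p j17 i11 i9) (p j17 i11 i10) (p j17 i11 i11) (p j17 i11 i12) (p j17 i11 i13) (p j17 i11 i14) (p j17 i11 i15))
  (@T16.mk E (p j17 i12 i0) (p j17 i12 i1) (p j17 i12 i2) (p j17 i12 i3) (p j17 i12 i4) (p j17 i12 i5) (p j17 i12 i6) (p j17 i12 i7) (p j17 i12 i8) (p j17 i12 i9) (p j17 i12 i10) (p j17 i12 i11) (p j17 i12 i12) (p j17 i12 i13) (p j17 i12 i14) (p j17 i12 i15))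
  (@T16.mk E (p j17 i13 i0) (p j17 i13 i1) (p j17 i13 i2) (p j17 i13 i3) (p j17 i13 i4) (p j17 i13 i5) (p j17 i13 i6) (p j17 i13 i7) (p j17 i13 i8) (p j17 i13 i9) (p j17 i13 i10) (p j17 i13 i11) (p j17 i13 i12) (p j17 i13 i13) (p j17 i13 i14) (p j17 i13 i15))
  (@T16.mk E (p j17 i14 i0) (p j17 i14 i1) (p j17 i14 i2) (p j17 i14 i3) (p j17 i14 i4) (p j17 i14 i5) (p j17 i14 i6) (p j17 i14 i7) (p j17 i14 i8) (p j17 i14 i9) (p j17 i14 i10) (p j17 i14 i11) (p j17 i14 i12) (p j17 i14 i13) (p j17 i14 i14) (p j17 i14 i15))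
  (@T16.mk E (p j17 i15 i0) (p j17 i15 i1) (p j17 i15 i2) (p j17 i15 i3) (p j17 i15 i4) (p j17 i15 i5) (p j17 i15 i6) (p j17 i15 i7) (p j17 i15 i8) (p j17 i15 i9) (p j17 i15 i10) (p j17 i15 i11) (p j17 i15 i12) (p j17 i15 i13) (p j17 i15 i14) (p j17 i15 i15))
 )
theorem tb21_ok : okTab tb21 = true := by decide +kernel
noncomputable def cd21 (s : St) : St :=
@T18.mk (T16 (T16 R))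
 (@T16.mk (T16 R)
  (@T16.mk R (R.mk s.2.16.11.2 s.2.16.11.1) s.2.16.12 (R.mk s.2.16.9.2 s.2.16.9.1) s.2.16.10 s.2.16.15 (R.mk s.2.16.16.2 s.2.16.16.1) s.2.16.13 (R.mk s.2.16.14.2 s.2.16.14.1) (R.mk s.2.16.3.2 s.2.16.3.1) s.2.16.4 (R.mk s.2.16.1.2 s.2.16.1.1) s.2.16.2 s.2.16.7 (R.mk s.2.16.8.2 s.2.16.8.1) s.2.16.5 (R.mk s.2.16.6.2 s.2.16.6.1))
  (@T16.mk R s.2.15.11 (R.mk s.2.15.12.2 s.2.15.12.1) s.2.15.9 (R.mk s.2.15.10.2 s.2.15.10.1) (R.mk s.2.15.15.2 s.2.15.15.1) s.2.15.16 (R.mk s.2.15.13.2 s.2.15.13.1) s.2.15.14 s.2.15.3 (R.mk s.2.15.4.2 s.2.15.4.1) s.2.15.1 (R.mk s.2.15.2.2 s.2.15.2.1) (R.mk s.2.15.7.2 s.2.15.7.1) s.2.15.8 (R.mk s.2.15.5.2 s.2.15.5.1) s.2.15.6)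
  (@T16.mk R (R.mk s.2.14.11.2 s.2.14.11.1) s.2.14.12 (R.mk s.2.14.9.2 s.2.14.9.1) s.2.14.10 s.2.14.15 (R.mk s.2.14.16.2 s.2.14.16.1) s.2.14.13 (R.mk s.2.14.14.2 s.2.14.14.1) (R.mk s.2.14.3.2 s.2.14.3.1) s.2.14.4 (R.mk s.2.14.1.2 s.2.14.1.1) s.2.14.2 s.2.14.7 (R.mk s.2.14.8.2 s.2.14.8.1) s.2.14.5 (R.mk s.2.14.6.2 s.2.14.6.1))
  (@T16.mk R s.2.13.11 (R.mk s.2.13.12.2 s.2.13.12.1) s.2.13.9 (R.mk s.2.13.10.2 s.2.13.10.1) (R.mk s.2.13.15.2 s.2.13.15.1) s.2.13.16 (R.mk s.2.13.13.2 s.2.13.13.1) s.2.13.14 s.2.13.3 (R.mk s.2.13.4.2 s.2.13.4.1) s.2.13.1 (R.mk s.2.13.2.2 s.2.13.2.1) (R.mk s.2.13.7.2 s.2.13.7.1) s.2.13.8 (R.mk s.2.13.5.2 s.2.13.5.1) s.2.13.6)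
  (@T16.mk R (R.mk s.2.12.11.2 s.2.12.11.1) s.2.12.12 (R.mk s.2.12.9.2 s.2.12.9.1) s.2.12.10 s.2.12.15 (R.mk s.2.12.16.2 s.2.12.16.1) s.2.12.13 (R.mk s.2.12.14.2 s.2.12.14.1) (R.mk s.2.12.3.2 s.2.12.3.1) s.2.12.4 (R.mk s.2.12.1.2 s.2.12.1.1) s.2.12.2 s.2.12.7 (R.mk s.2.12.8.2 s.2.12.8.1) s.2.12.5 (R.mk s.2.12.6.2 s.2.12.6.1))
  (@T16.mk R s.2.11.11 (R.mk s.2.11.12.2 s.2.11.12.1) s.2.11.9 (R.mk s.2.11.10.2 s.2.11.10.1) (R.mk s.2.11.15.2 s.2.11.15.1) s.2.11.16 (R.mk s.2.11.13.2 s.2.11.13.1) s.2.11.14 s.2.11.3 (R.mk s.2.11.4.2 s.2.11.4.1) s.2.11.1 (R.mk s.2.11.2.2 s.2.11.2.1) (R.mk s.2.11.7.2 s.2.11.7.1) s.2.11.8 (R.mk s.2.11.5.2 s.2.11.5.1) s.2.11.6)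
  (@T16.mk R s.2.10.11 (R.mk s.2.10.12.2 s.2.10.12.1) s.2.10.9 (R.mk s.2.10.10.2 s.2.10.10.1) (R.mk s.2.10.15.2 s.2.10.15.1) s.2.10.16 (R.mk s.2.10.13.2 s.2.10.13.1) s.2.10.14 s.2.10.3 (R.mk s.2.10.4.2 s.2.10.4.1) s.2.10.1 (R.mk s.2.10.2.2 s.2.10.2.1) (R.mk s.2.10.7.2 s.2.10.7.1) s.2.10.8 (R.mk s.2.10.5.2 s.2.10.5.1) s.2.10.6)
  (@T16.mk R s.2.9.11 (R.mk s.2.9.12.2 s.2.9.12.1) s.2.9.9 (R.mk s.2.9.10.2 s.2.9.10.1) (R.mk s.2.9.15.2 s.2.9.15.1) s.2.9.16 (R.mk s.2.9.13.2 s.2.9.13.1) s.2.9.14 s.2.9.3 (R.mk s.2.9.4.2 s.2.9.4.1) s.2.9.1 (R.mk s.2.9.2.2 s.2.9.2.1) (R.mk s.2.9.7.2 s.2.9.7.1) s.2.9.8 (R.mk s.2.9.5.2 s.2.9.5.1) s.2.9.6)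
  (@T16.mk R (R.mk s.2.8.11.2 s.2.8.11.1) s.2.8.12 (R.mk s.2.8.9.2 s.2.8.9.1) s.2.8.10 s.2.8.15 (R.mk s.2.8.16.2 s.2.8.16.1) s.2.8.13 (R.mk s.2.8.14.2 s.2.8.14.1) (R.mk s.2.8.3.2 s.2.8.3.1) s.2.8.4 (R.mk s.2.8.1.2 s.2.8.1.1) s.2.8.2 s.2.8.7 (R.mk s.2.8.8.2 s.2.8.8.1) s.2.8.5 (R.mk s.2.8.6.2 s.2.8.6.1))
  (@T16.mk R (R.mk s.2.7.11.2 s.2.7.11.1) s.2.7.12 (R.mk s.2.7.9.2 s.2.7.9.1) s.2.7.10 s.2.7.15 (R.mk s.2.7.16.2 s.2.7.16.1) s.2.7.13 (R.mk s.2.7.14.2 s.2.7.14.1) (R.mk s.2.7.3.2 s.2.7.3.1) s.2.7.4 (R.mk s.2.7.1.2 s.2.7.1.1) s.2.7.2 s.2.7.7 (R.mk s.2.7.8.2 s.2.7.8.1) s.2.7.5 (R.mk s.2.7.6.2 s.2.7.6.1))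
  (@T16.mk R (R.mk s.2.6.11.2 s.2.6.11.1) s.2.6.12 (R.mk s.2.6.9.2 s.2.6.9.1) s.2.6.10 s.2.6.15 (R.mk s.2.6.16.2 s.2.6.16.1) s.2.6.13 (R.mk s.2.6.14.2 s.2.6.14.1) (R.mk s.2.6.3.2 s.2.6.3.1) s.2.6.4 (R.mk s.2.6.1.2 s.2.6.1.1) s.2.6.2 s.2.6.7 (R.mk s.2.6.8.2 s.2.6.8.1) s.2.6.5 (R.mk s.2.6.6.2 s.2.6.6.1))
  (@T16.mk R s.2.5.11 (R.mk s.2.5.12.2 s.2.5.12.1) s.2.5.9 (R.mk s.2.5.10.2 s.2.5.10.1) (R.mk s.2.5.15.2 s.2.5.15.1) s.2.5.16 (R.mk s.2.5.13.2 s.2.5.13.1) s.2.5.14 s.2.5.3 (R.mk s.2.5.4.2 s.2.5.4.1) s.2.5.1 (R.mk s.2.5.2.2 s.2.5.2.1) (R.mk s.2.5.7.2 s.2.5.7.1) s.2.5.8 (R.mk s.2.5.5.2 s.2.5.5.1) s.2.5.6)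
  (@T16.mk R s.2.4.11 (R.mk s.2.4.12.2 s.2.4.12.1) s.2.4.9 (R.mk s.2.4.10.2 s.2.4.10.1) (R.mk s.2.4.15.2 s.2.4.15.1) s.2.4.16 (R.mk s.2.4.13.2 s.2.4.13.1) s.2.4.14 s.2.4.3 (R.mk s.2.4.4.2 s.2.4.4.1) s.2.4.1 (R.mk s.2.4.2.2 s.2.4.2.1) (R.mk s.2.4.7.2 s.2.4.7.1) s.2.4.8 (R.mk s.2.4.5.2 s.2.4.5.1) s.2.4.6)
  (@T16.mk R s.2.3.11 (R.mk s.2.3.12.2 s.2.3.12.1) s.2.3.9 (R.mk s.2.3.10.2 s.2.3.10.1) (R.mk s.2.3.15.2 s.2.3.15.1) s.2.3.16 (R.mk s.2.3.13.2 s.2.3.13.1) s.2.3.14 s.2.3.3 (R.mk s.2.3.4.2 s.2.3.4.1) s.2.3.1 (R.mk s.2.3.2.2 s.2.3.2.1) (R.mk s.2.3.7.2 s.2.3.7.1) s.2.3.8 (R.mk s.2.3.5.2 s.2.3.5.1) s.2.3.6)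
  (@T16.mk R (R.mk s.2.2.11.2 s.2.2.11.1) s.2.2.12 (R.mk s.2.2.9.2 s.2.2.9.1) s.2.2.10 s.2.2.15 (R.mk s.2.2.16.2 s.2.2.16.1) s.2.2.13 (R.mk s.2.2.14.2 s.2.2.14.1) (R.mk s.2.2.3.2 s.2.2.3.1) s.2.2.4 (R.mk s.2.2.1.2 s.2.2.1.1) s.2.2.2 s.2.2.7 (R.mk s.2.2.8.2 s.2.2.8.1) s.2.2.5 (R.mk s.2.2.6.2 s.2.2.6.1))
  (@T16.mk R (R.mk s.2.1.11.2 s.2.1.11.1) s.2.1.12 (R.mk s.2.1.9.2 s.2.1.9.1) s.2.1.10 s.2.1.15 (R.mk s.2.1.16.2 s.2.1.16.1) s.2.1.13 (R.mk s.2.1.14.2 s.2.1.14.1) (R.mk s.2.1.3.2 s.2.1.3.1) s.2.1.4 (R.mk s.2.1.1.2 s.2.1.1.1) s.2.1.2 s.2.1.7 (R.mk s.2.1.8.2 s.2.1.8.1) s.2.1.5 (R.mk s.2.1.6.2 s.2.1.6.1))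
 )
 (@T16.mk (T16 R)
  (@T16.mk R (R.mk s.1.16.11.2 s.1.16.11.1) s.1.16.12 (R.mk s.1.16.9.2 s.1.16.9.1) s.1.16.10 s.1.16.15 (R.mk s.1.16.16.2 s.1.16.16.1) s.1.16.13 (R.mk s.1.16.14.2 s.1.16.14.1) (R.mk s.1.16.3.2 s.1.16.3.1) s.1.16.4 (R.mk s.1.16.1.2 s.1.16.1.1) s.1.16.2 s.1.16.7 (R.mk s.1.16.8.2 s.1.16.8.1) s.1.16.5 (R.mk s.1.16.6.2 s.1.16.6.1))
  (@T16.mk R (R.mk s.1.15.11.2 s.1.15.11.1) s.1.15.12 (R.mk s.1.15.9.2 s.1.15.9.1) s.1.15.10 s.1.15.15 (R.mk s.1.15.16.2 s.1.15.16.1) s.1.15.13 (R.mk s.1.15.14.2 s.1.15.14.1) (R.mk s.1.15.3.2 s.1.15.3.1) s.1.15.4 (R.mk s.1.15.1.2 s.1.15.1.1) s.1.15.2 s.1.15.7 (R.mk s.1.15.8.2 s.1.15.8.1) s.1.15.5 (R.mk s.1.15.6.2 s.1.15.6.1))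
  (@T16.mk R s.1.14.11 (R.mk s.1.14.12.2 s.1.14.12.1) s.1.14.9 (R.mk s.1.14.10.2 s.1.14.10.1) (R.mk s.1.14.15.2 s.1.14.15.1) s.1.14.16 (R.mk s.1.14.13.2 s.1.14.13.1) s.1.14.14 s.1.14.3 (R.mk s.1.14.4.2 s.1.14.4.1) s.1.14.1 (R.mk s.1.14.2.2 s.1.14.2.1) (R.mk s.1.14.7.2 s.1.14.7.1) s.1.14.8 (R.mk s.1.14.5.2 s.1.14.5.1) s.1.14.6)
  (@T16.mk R s.1.13.11 (R.mk s.1.13.12.2 s.1.13.12.1) s.1.13.9 (R.mk s.1.13.10.2 s.1.13.10.1) (R.mk s.1.13.15.2 s.1.13.15.1) s.1.13.16 (R.mk s.1.13.13.2 s.1.13.13.1) s.1.13.14 s.1.13.3 (R.mk s.1.13.4.2 s.1.13.4.1) s.1.13.1 (R.mk s.1.13.2.2 s.1.13.2.1) (R.mk s.1.13.7.2 s.1.13.7.1) s.1.13.8 (R.mk s.1.13.5.2 s.1.13.5.1) s.1.13.6)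
  (@T16.mk R s.1.12.11 (R.mk s.1.12.12.2 s.1.12.12.1) s.1.12.9 (R.mk s.1.12.10.2 s.1.12.10.1) (R.mk s.1.12.15.2 s.1.12.15.1) s.1.12.16 (R.mk s.1.12.13.2 s.1.12.13.1) s.1.12.14 s.1.12.3 (R.mk s.1.12.4.2 s.1.12.4.1) s.1.12.1 (R.mk s.1.12.2.2 s.1.12.2.1) (R.mk s.1.12.7.2 s.1.12.7.1) s.1.12.8 (R.mk s.1.12.5.2 s.1.12.5.1) s.1.12.6)
  (@T16.mk R (R.mk s.1.11.11.2 s.1.11.11.1) s.1.11.12 (R.mk s.1.11.9.2 s.1.11.9.1) s.1.11.10 s.1.11.15 (R.mk s.1.11.16.2 s.1.11.16.1) s.1.11.13 (R.mk s.1.11.14.2 s.1.11.14.1) (R.mk s.1.11.3.2 s.1.11.3.1) s.1.11.4 (R.mk s.1.11.1.2 s.1.11.1.1) s.1.11.2 s.1.11.7 (R.mk s.1.11.8.2 s.1.11.8.1) s.1.11.5 (R.mk s.1.11.6.2 s.1.11.6.1))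
  (@T16.mk R (R.mk s.1.10.11.2 s.1.10.11.1) s.1.10.12 (R.mk s.1.10.9.2 s.1.10.9.1) s.1.10.10 s.1.10.15 (R.mk s.1.10.16.2 s.1.10.16.1) s.1.10.13 (R.mk s.1.10.14.2 s.1.10.14.1) (R.mk s.1.10.3.2 s.1.10.3.1) s.1.10.4 (R.mk s.1.10.1.2 s.1.10.1.1) s.1.10.2 s.1.10.7 (R.mk s.1.10.8.2 s.1.10.8.1) s.1.10.5 (R.mk s.1.10.6.2 s.1.10.6.1))
  (@T16.mk R (R.mk s.1.9.11.2 s.1.9.11.1) s.1.9.12 (R.mk s.1.9.9.2 s.1.9.9.1) s.1.9.10 s.1.9.15 (R.mk s.1.9.16.2 s.1.9.16.1) s.1.9.13 (R.mk s.1.9.14.2 s.1.9.14.1) (R.mk s.1.9.3.2 s.1.9.3.1) s.1.9.4 (R.mk s.1.9.1.2 s.1.9.1.1) s.1.9.2 s.1.9.7 (R.mk s.1.9.8.2 s.1.9.8.1) s.1.9.5 (R.mk s.1.9.6.2 s.1.9.6.1))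
  (@T16.mk R s.1.8.11 (R.mk s.1.8.12.2 s.1.8.12.1) s.1.8.9 (R.mk s.1.8.10.2 s.1.8.10.1) (R.mk s.1.8.15.2 s.1.8.15.1) s.1.8.16 (R.mk s.1.8.13.2 s.1.8.13.1) s.1.8.14 s.1.8.3 (R.mk s.1.8.4.2 s.1.8.4.1) s.1.8.1 (R.mk s.1.8.2.2 s.1.8.2.1) (R.mk s.1.8.7.2 s.1.8.7.1) s.1.8.8 (R.mk s.1.8.5.2 s.1.8.5.1) s.1.8.6)
  (@T16.mk R s.1.7.11 (R.mk s.1.7.12.2 s.1.7.12.1) s.1.7.9 (R.mk s.1.7.10.2 s.1.7.10.1) (R.mk s.1.7.15.2 s.1.7.15.1) s.1.7.16 (R.mk s.1.7.13.2 s.1.7.13.1) s.1.7.14 s.1.7.3 (R.mk s.1.7.4.2 s.1.7.4.1) s.1.7.1 (R.mk s.1.7.2.2 s.1.7.2.1) (R.mk s.1.7.7.2 s.1.7.7.1) s.1.7.8 (R.mk s.1.7.5.2 s.1.7.5.1) s.1.7.6)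
  (@T16.mk R s.1.6.11 (R.mk s.1.6.12.2 s.1.6.12.1) s.1.6.9 (R.mk s.1.6.10.2 s.1.6.10.1) (R.mk s.1.6.15.2 s.1.6.15.1) s.1.6.16 (R.mk s.1.6.13.2 s.1.6.13.1) s.1.6.14 s.1.6.3 (R.mk s.1.6.4.2 s.1.6.4.1) s.1.6.1 (R.mk s.1.6.2.2 s.1.6.2.1) (R.mk s.1.6.7.2 s.1.6.7.1) s.1.6.8 (R.mk s.1.6.5.2 s.1.6.5.1) s.1.6.6)
  (@T16.mk R (R.mk s.1.5.11.2 s.1.5.11.1) s.1.5.12 (R.mk s.1.5.9.2 s.1.5.9.1) s.1.5.10 s.1.5.15 (R.mk s.1.5.16.2 s.1.5.16.1) s.1.5.13 (R.mk s.1.5.14.2 s.1.5.14.1) (R.mk s.1.5.3.2 s.1.5.3.1) s.1.5.4 (R.mk s.1.5.1.2 s.1.5.1.1) s.1.5.2 s.1.5.7 (R.mk s.1.5.8.2 s.1.5.8.1) s.1.5.5 (R.mk s.1.5.6.2 s.1.5.6.1))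
  (@T16.mk R s.1.4.11 (R.mk s.1.4.12.2 s.1.4.12.1) s.1.4.9 (R.mk s.1.4.10.2 s.1.4.10.1) (R.mk s.1.4.15.2 s.1.4.15.1) s.1.4.16 (R.mk s.1.4.13.2 s.1.4.13.1) s.1.4.14 s.1.4.3 (R.mk s.1.4.4.2 s.1.4.4.1) s.1.4.1 (R.mk s.1.4.2.2 s.1.4.2.1) (R.mk s.1.4.7.2 s.1.4.7.1) s.1.4.8 (R.mk s.1.4.5.2 s.1.4.5.1) s.1.4.6)
  (@T16.mk R (R.mk s.1.3.11.2 s.1.3.11.1) s.1.3.12 (R.mk s.1.3.9.2 s.1.3.9.1) s.1.3.10 s.1.3.15 (R.mk s.1.3.16.2 s.1.3.16.1) s.1.3.13 (R.mk s.1.3.14.2 s.1.3.14.1) (R.mk s.1.3.3.2 s.1.3.3.1) s.1.3.4 (R.mk s.1.3.1.2 s.1.3.1.1) s.1.3.2 s.1.3.7 (R.mk s.1.3.8.2 s.1.3.8.1) s.1.3.5 (R.mk s.1.3.6.2 s.1.3.6.1))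
  (@T16.mk R s.1.2.11 (R.mk s.1.2.12.2 s.1.2.12.1) s.1.2.9 (R.mk s.1.2.10.2 s.1.2.10.1) (R.mk s.1.2.15.2 s.1.2.15.1) s.1.2.16 (R.mk s.1.2.13.2 s.1.2.13.1) s.1.2.14 s.1.2.3 (R.mk s.1.2.4.2 s.1.2.4.1) s.1.2.1 (R.mk s.1.2.2.2 s.1.2.2.1) (R.mk s.1.2.7.2 s.1.2.7.1) s.1.2.8 (R.mk s.1.2.5.2 s.1.2.5.1) s.1.2.6)
  (@T16.mk R (R.mk s.1.1.11.2 s.1.1.11.1) s.1.1.12 (R.mk s.1.1.9.2 s.1.1.9.1) s.1.1.10 s.1.1.15 (R.mk s.1.1.16.2 s.1.1.16.1) s.1.1.13 (R.mk s.1.1.14.2 s.1.1.14.1) (R.mk s.1.1.3.2 s.1.1.3.1) s.1.1.4 (R.mk s.1.1.1.2 s.1.1.1.1) s.1.1.2 s.1.1.7 (R.mk s.1.1.8.2 s.1.1.8.1) s.1.1.5 (R.mk s.1.1.6.2 s.1.1.6.1))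
 )
 (@T16.mk (T16 R)
  (@T16.mk R s.4.16.11 (R.mk s.4.16.12.2 s.4.16.12.1) s.4.16.9 (R.mk s.4.16.10.2 s.4.16.10.1) (R.mk s.4.16.15.2 s.4.16.15.1) s.4.16.16 (R.mk s.4.16.13.2 s.4.16.13.1) s.4.16.14 s.4.16.3 (R.mk s.4.16.4.2 s.4.16.4.1) s.4.16.1 (R.mk s.4.16.2.2 s.4.16.2.1) (R.mk s.4.16.7.2 s.4.16.7.1) s.4.16.8 (R.mk s.4.16.5.2 s.4.16.5.1) s.4.16.6)
  (@T16.mk R s.4.15.11 (R.mk s.4.15.12.2 s.4.15.12.1) s.4.15.9 (R.mk s.4.15.10.2 s.4.15.10.1) (R.mk s.4.15.15.2 s.4.15.15.1) s.4.15.16 (R.mk s.4.15.13.2 s.4.15.13.1) s.4.15.14 s.4.15.3 (R.mk s.4.15.4.2 s.4.15.4.1) s.4.15.1 (R.mk s.4.15.2.2 s.4.15.2.1) (R.mk s.4.15.7.2 s.4.15.7.1) s.4.15.8 (R.mk s.4.15.5.2 s.4.15.5.1) s.4.15.6)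
  (@T16.mk R s.4.14.11 (R.mk s.4.14.12.2 s.4.14.12.1) s.4.14.9 (R.mk s.4.14.10.2 s.4.14.10.1) (R.mk s.4.14.15.2 s.4.14.15.1) s.4.14.16 (R.mk s.4.14.13.2 s.4.14.13.1) s.4.14.14 s.4.14.3 (R.mk s.4.14.4.2 s.4.14.4.1) s.4.14.1 (R.mk s.4.14.2.2 s.4.14.2.1) (R.mk s.4.14.7.2 s.4.14.7.1) s.4.14.8 (R.mk s.4.14.5.2 s.4.14.5.1) s.4.14.6)
  (@T16.mk R s.4.13.11 (R.mk s.4.13.12.2 s.4.13.12.1) s.4.13.9 (R.mk s.4.13.10.2 s.4.13.10.1) (R.mk s.4.13.15.2 s.4.13.15.1) s.4.13.16 (R.mk s.4.13.13.2 s.4.13.13.1) s.4.13.14 s.4.13.3 (R.mk s.4.13.4.2 s.4.13.4.1) s.4.13.1 (R.mk s.4.13.2.2 s.4.13.2.1) (R.mk s.4.13.7.2 s.4.13.7.1) s.4.13.8 (R.mk s.4.13.5.2 s.4.13.5.1) s.4.13.6)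
  (@T16.mk R (R.mk s.4.12.11.2 s.4.12.11.1) s.4.12.12 (R.mk s.4.12.9.2 s.4.12.9.1) s.4.12.10 s.4.12.15 (R.mk s.4.12.16.2 s.4.12.16.1) s.4.12.13 (R.mk s.4.12.14.2 s.4.12.14.1) (R.mk s.4.12.3.2 s.4.12.3.1) s.4.12.4 (R.mk s.4.12.1.2 s.4.12.1.1) s.4.12.2 s.4.12.7 (R.mk s.4.12.8.2 s.4.12.8.1) s.4.12.5 (R.mk s.4.12.6.2 s.4.12.6.1))
  (@T16.mk R (R.mk s.4.11.11.2 s.4.11.11.1) s.4.11.12 (R.mk s.4.11.9.2 s.4.11.9.1) s.4.11.10 s.4.11.15 (R.mk s.4.11.16.2 s.4.11.16.1) s.4.11.13 (R.mk s.4.11.14.2 s.4.11.14.1) (R.mk s.4.11.3.2 s.4.11.3.1) s.4.11.4 (R.mk s.4.11.1.2 s.4.11.1.1) s.4.11.2 s.4.11.7 (R.mk s.4.11.8.2 s.4.11.8.1) s.4.11.5 (R.mk s.4.11.6.2 s.4.11.6.1))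
  (@T16.mk R s.4.10.11 (R.mk s.4.10.12.2 s.4.10.12.1) s.4.10.9 (R.mk s.4.10.10.2 s.4.10.10.1) (R.mk s.4.10.15.2 s.4.10.15.1) s.4.10.16 (R.mk s.4.10.13.2 s.4.10.13.1) s.4.10.14 s.4.10.3 (R.mk s.4.10.4.2 s.4.10.4.1) s.4.10.1 (R.mk s.4.10.2.2 s.4.10.2.1) (R.mk s.4.10.7.2 s.4.10.7.1) s.4.10.8 (R.mk s.4.10.5.2 s.4.10.5.1) s.4.10.6)
  (@T16.mk R (R.mk s.4.9.11.2 s.4.9.11.1) s.4.9.12 (R.mk s.4.9.9.2 s.4.9.9.1) s.4.9.10 s.4.9.15 (R.mk s.4.9.16.2 s.4.9.16.1) s.4.9.13 (R.mk s.4.9.14.2 s.4.9.14.1) (R.mk s.4.9.3.2 s.4.9.3.1) s.4.9.4 (R.mk s.4.9.1.2 s.4.9.1.1) s.4.9.2 s.4.9.7 (R.mk s.4.9.8.2 s.4.9.8.1) s.4.9.5 (R.mk s.4.9.6.2 s.4.9.6.1))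
  (@T16.mk R s.4.8.11 (R.mk s.4.8.12.2 s.4.8.12.1) s.4.8.9 (R.mk s.4.8.10.2 s.4.8.10.1) (R.mk s.4.8.15.2 s.4.8.15.1) s.4.8.16 (R.mk s.4.8.13.2 s.4.8.13.1) s.4.8.14 s.4.8.3 (R.mk s.4.8.4.2 s.4.8.4.1) s.4.8.1 (R.mk s.4.8.2.2 s.4.8.2.1) (R.mk s.4.8.7.2 s.4.8.7.1) s.4.8.8 (R.mk s.4.8.5.2 s.4.8.5.1) s.4.8.6)
  (@T16.mk R (R.mk s.4.7.11.2 s.4.7.11.1) s.4.7.12 (R.mk s.4.7.9.2 s.4.7.9.1) s.4.7.10 s.4.7.15 (R.mk s.4.7.16.2 s.4.7.16.1) s.4.7.13 (R.mk s.4.7.14.2 s.4.7.14.1) (R.mk s.4.7.3.2 s.4.7.3.1) s.4.7.4 (R.mk s.4.7.1.2 s.4.7.1.1) s.4.7.2 s.4.7.7 (R.mk s.4.7.8.2 s.4.7.8.1) s.4.7.5 (R.mk s.4.7.6.2 s.4.7.6.1))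
  (@T16.mk R (R.mk s.4.6.11.2 s.4.6.11.1) s.4.6.12 (R.mk s.4.6.9.2 s.4.6.9.1) s.4.6.10 s.4.6.15 (R.mk s.4.6.16.2 s.4.6.16.1) s.4.6.13 (R.mk s.4.6.14.2 s.4.6.14.1) (R.mk s.4.6.3.2 s.4.6.3.1) s.4.6.4 (R.mk s.4.6.1.2 s.4.6.1.1) s.4.6.2 s.4.6.7 (R.mk s.4.6.8.2 s.4.6.8.1) s.4.6.5 (R.mk s.4.6.6.2 s.4.6.6.1))
  (@T16.mk R (R.mk s.4.5.11.2 s.4.5.11.1) s.4.5.12 (R.mk s.4.5.9.2 s.4.5.9.1) s.4.5.10 s.4.5.15 (R.mk s.4.5.16.2 s.4.5.16.1) s.4.5.13 (R.mk s.4.5.14.2 s.4.5.14.1) (R.mk s.4.5.3.2 s.4.5.3.1) s.4.5.4 (R.mk s.4.5.1.2 s.4.5.1.1) s.4.5.2 s.4.5.7 (R.mk s.4.5.8.2 s.4.5.8.1) s.4.5.5 (R.mk s.4.5.6.2 s.4.5.6.1))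
  (@T16.mk R s.4.4.11 (R.mk s.4.4.12.2 s.4.4.12.1) s.4.4.9 (R.mk s.4.4.10.2 s.4.4.10.1) (R.mk s.4.4.15.2 s.4.4.15.1) s.4.4.16 (R.mk s.4.4.13.2 s.4.4.13.1) s.4.4.14 s.4.4.3 (R.mk s.4.4.4.2 s.4.4.4.1) s.4.4.1 (R.mk s.4.4.2.2 s.4.4.2.1) (R.mk s.4.4.7.2 s.4.4.7.1) s.4.4.8 (R.mk s.4.4.5.2 s.4.4.5.1) s.4.4.6)
  (@T16.mk R (R.mk s.4.3.11.2 s.4.3.11.1) s.4.3.12 (R.mk s.4.3.9.2 s.4.3.9.1) s.4.3.10 s.4.3.15 (R.mk s.4.3.16.2 s.4.3.16.1) s.4.3.13 (R.mk s.4.3.14.2 s.4.3.14.1) (R.mk s.4.3.3.2 s.4.3.3.1) s.4.3.4 (R.mk s.4.3.1.2 s.4.3.1.1) s.4.3.2 s.4.3.7 (R.mk s.4.3.8.2 s.4.3.8.1) s.4.3.5 (R.mk s.4.3.6.2 s.4.3.6.1))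
  (@T16.mk R s.4.2.11 (R.mk s.4.2.12.2 s.4.2.12.1) s.4.2.9 (R.mk s.4.2.10.2 s.4.2.10.1) (R.mk s.4.2.15.2 s.4.2.15.1) s.4.2.16 (R.mk s.4.2.13.2 s.4.2.13.1) s.4.2.14 s.4.2.3 (R.mk s.4.2.4.2 s.4.2.4.1) s.4.2.1 (R.mk s.4.2.2.2 s.4.2.2.1) (R.mk s.4.2.7.2 s.4.2.7.1) s.4.2.8 (R.mk s.4.2.5.2 s.4.2.5.1) s.4.2.6)
  (@T16.mk R (R.mk s.4.1.11.2 s.4.1.11.1) s.4.1.12 (R.mk s.4.1.9.2 s.4.1.9.1) s.4.1.10 s.4.1.15 (R.mk s.4.1.16.2 s.4.1.16.1) s.4.1.13 (R.mk s.4.1.14.2 s.4.1.14.1) (R.mk s.4.1.3.2 s.4.1.3.1) s.4.1.4 (R.mk s.4.1.1.2 s.4.1.1.1) s.4.1.2 s.4.1.7 (R.mk s.4.1.8.2 s.4.1.8.1) s.4.1.5 (R.mk s.4.1.6.2 s.4.1.6.1))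
 )
 (@T16.mk (T16 R)
  (@T16.mk R (R.mk s.3.16.11.2 s.3.16.11.1) s.3.16.12 (R.mk s.3.16.9.2 s.3.16.9.1) s.3.16.10 s.3.16.15 (R.mk s.3.16.16.2 s.3.16.16.1) s.3.16.13 (R.mk s.3.16.14.2 s.3.16.14.1) (R.mk s.3.16.3.2 s.3.16.3.1) s.3.16.4 (R.mk s.3.16.1.2 s.3.16.1.1) s.3.16.2 s.3.16.7 (R.mk s.3.16.8.2 s.3.16.8.1) s.3.16.5 (R.mk s.3.16.6.2 s.3.16.6.1))
  (@T16.mk R s.3.15.11 (R.mk s.3.15.12.2 s.3.15.12.1) s.3.15.9 (R.mk s.3.15.10.2 s.3.15.10.1) (R.mk s.3.15.15.2 s.3.15.15.1) s.3.15.16 (R.mk s.3.15.13.2 s.3.15.13.1) s.3.15.14 s.3.15.3 (R.mk s.3.15.4.2 s.3.15.4.1) s.3.15.1 (R.mk s.3.15.2.2 s.3.15.2.1) (R.mk s.3.15.7.2 s.3.15.7.1) s.3.15.8 (R.mk s.3.15.5.2 s.3.15.5.1) s.3.15.6)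
  (@T16.mk R (R.mk s.3.14.11.2 s.3.14.11.1) s.3.14.12 (R.mk s.3.14.9.2 s.3.14.9.1) s.3.14.10 s.3.14.15 (R.mk s.3.14.16.2 s.3.14.16.1) s.3.14.13 (R.mk s.3.14.14.2 s.3.14.14.1) (R.mk s.3.14.3.2 s.3.14.3.1) s.3.14.4 (R.mk s.3.14.1.2 s.3.14.1.1) s.3.14.2 s.3.14.7 (R.mk s.3.14.8.2 s.3.14.8.1) s.3.14.5 (R.mk s.3.14.6.2 s.3.14.6.1))
  (@T16.mk R s.3.13.11 (R.mk s.3.13.12.2 s.3.13.12.1) s.3.13.9 (R.mk s.3.13.10.2 s.3.13.10.1) (R.mk s.3.13.15.2 s.3.13.15.1) s.3.13.16 (R.mk s.3.13.13.2 s.3.13.13.1) s.3.13.14 s.3.13.3 (R.mk s.3.13.4.2 s.3.13.4.1) s.3.13.1 (R.mk s.3.13.2.2 s.3.13.2.1) (R.mk s.3.13.7.2 s.3.13.7.1) s.3.13.8 (R.mk s.3.13.5.2 s.3.13.5.1) s.3.13.6)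
  (@T16.mk R (R.mk s.3.12.11.2 s.3.12.11.1) s.3.12.12 (R.mk s.3.12.9.2 s.3.12.9.1) s.3.12.10 s.3.12.15 (R.mk s.3.12.16.2 s.3.12.16.1) s.3.12.13 (R.mk s.3.12.14.2 s.3.12.14.1) (R.mk s.3.12.3.2 s.3.12.3.1) s.3.12.4 (R.mk s.3.12.1.2 s.3.12.1.1) s.3.12.2 s.3.12.7 (R.mk s.3.12.8.2 s.3.12.8.1) s.3.12.5 (R.mk s.3.12.6.2 s.3.12.6.1))
  (@T16.mk R (R.mk s.3.11.11.2 s.3.11.11.1) s.3.11.12 (R.mk s.3.11.9.2 s.3.11.9.1) s.3.11.10 s.3.11.15 (R.mk s.3.11.16.2 s.3.11.16.1) s.3.11.13 (R.mk s.3.11.14.2 s.3.11.14.1) (R.mk s.3.11.3.2 s.3.11.3.1) s.3.11.4 (R.mk s.3.11.1.2 s.3.11.1.1) s.3.11.2 s.3.11.7 (R.mk s.3.11.8.2 s.3.11.8.1) s.3.11.5 (R.mk s.3.11.6.2 s.3.11.6.1))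
  (@T16.mk R (R.mk s.3.10.11.2 s.3.10.11.1) s.3.10.12 (R.mk s.3.10.9.2 s.3.10.9.1) s.3.10.10 s.3.10.15 (R.mk s.3.10.16.2 s.3.10.16.1) s.3.10.13 (R.mk s.3.10.14.2 s.3.10.14.1) (R.mk s.3.10.3.2 s.3.10.3.1) s.3.10.4 (R.mk s.3.10.1.2 s.3.10.1.1) s.3.10.2 s.3.10.7 (R.mk s.3.10.8.2 s.3.10.8.1) s.3.10.5 (R.mk s.3.10.6.2 s.3.10.6.1))
  (@T16.mk R s.3.9.11 (R.mk s.3.9.12.2 s.3.9.12.1) s.3.9.9 (R.mk s.3.9.10.2 s.3.9.10.1) (R.mk s.3.9.15.2 s.3.9.15.1) s.3.9.16 (R.mk s.3.9.13.2 s.3.9.13.1) s.3.9.14 s.3.9.3 (R.mk s.3.9.4.2 s.3.9.4.1) s.3.9.1 (R.mk s.3.9.2.2 s.3.9.2.1) (R.mk s.3.9.7.2 s.3.9.7.1) s.3.9.8 (R.mk s.3.9.5.2 s.3.9.5.1) s.3.9.6)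
  (@T16.mk R (R.mk s.3.8.11.2 s.3.8.11.1) s.3.8.12 (R.mk s.3.8.9.2 s.3.8.9.1) s.3.8.10 s.3.8.15 (R.mk s.3.8.16.2 s.3.8.16.1) s.3.8.13 (R.mk s.3.8.14.2 s.3.8.14.1) (R.mk s.3.8.3.2 s.3.8.3.1) s.3.8.4 (R.mk s.3.8.1.2 s.3.8.1.1) s.3.8.2 s.3.8.7 (R.mk s.3.8.8.2 s.3.8.8.1) s.3.8.5 (R.mk s.3.8.6.2 s.3.8.6.1))
  (@T16.mk R s.3.7.11 (R.mk s.3.7.12.2 s.3.7.12.1) s.3.7.9 (R.mk s.3.7.10.2 s.3.7.10.1) (R.mk s.3.7.15.2 s.3.7.15.1) s.3.7.16 (R.mk s.3.7.13.2 s.3.7.13.1) s.3.7.14 s.3.7.3 (R.mk s.3.7.4.2 s.3.7.4.1) s.3.7.1 (R.mk s.3.7.2.2 s.3.7.2.1) (R.mk s.3.7.7.2 s.3.7.7.1) s.3.7.8 (R.mk s.3.7.5.2 s.3.7.5.1) s.3.7.6)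
  (@T16.mk R (R.mk s.3.6.11.2 s.3.6.11.1) s.3.6.12 (R.mk s.3.6.9.2 s.3.6.9.1) s.3.6.10 s.3.6.15 (R.mk s.3.6.16.2 s.3.6.16.1) s.3.6.13 (R.mk s.3.6.14.2 s.3.6.14.1) (R.mk s.3.6.3.2 s.3.6.3.1) s.3.6.4 (R.mk s.3.6.1.2 s.3.6.1.1) s.3.6.2 s.3.6.7 (R.mk s.3.6.8.2 s.3.6.8.1) s.3.6.5 (R.mk s.3.6.6.2 s.3.6.6.1))
  (@T16.mk R (R.mk s.3.5.11.2 s.3.5.11.1) s.3.5.12 (R.mk s.3.5.9.2 s.3.5.9.1) s.3.5.10 s.3.5.15 (R.mk s.3.5.16.2 s.3.5.16.1) s.3.5.13 (R.mk s.3.5.14.2 s.3.5.14.1) (R.mk s.3.5.3.2 s.3.5.3.1) s.3.5.4 (R.mk s.3.5.1.2 s.3.5.1.1) s.3.5.2 s.3.5.7 (R.mk s.3.5.8.2 s.3.5.8.1) s.3.5.5 (R.mk s.3.5.6.2 s.3.5.6.1))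
  (@T16.mk R s.3.4.11 (R.mk s.3.4.12.2 s.3.4.12.1) s.3.4.9 (R.mk s.3.4.10.2 s.3.4.10.1) (R.mk s.3.4.15.2 s.3.4.15.1) s.3.4.16 (R.mk s.3.4.13.2 s.3.4.13.1) s.3.4.14 s.3.4.3 (R.mk s.3.4.4.2 s.3.4.4.1) s.3.4.1 (R.mk s.3.4.2.2 s.3.4.2.1) (R.mk s.3.4.7.2 s.3.4.7.1) s.3.4.8 (R.mk s.3.4.5.2 s.3.4.5.1) s.3.4.6)
  (@T16.mk R s.3.3.11 (R.mk s.3.3.12.2 s.3.3.12.1) s.3.3.9 (R.mk s.3.3.10.2 s.3.3.10.1) (R.mk s.3.3.15.2 s.3.3.15.1) s.3.3.16 (R.mk s.3.3.13.2 s.3.3.13.1) s.3.3.14 s.3.3.3 (R.mk s.3.3.4.2 s.3.3.4.1) s.3.3.1 (R.mk s.3.3.2.2 s.3.3.2.1) (R.mk s.3.3.7.2 s.3.3.7.1) s.3.3.8 (R.mk s.3.3.5.2 s.3.3.5.1) s.3.3.6)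
  (@T16.mk R s.3.2.11 (R.mk s.3.2.12.2 s.3.2.12.1) s.3.2.9 (R.mk s.3.2.10.2 s.3.2.10.1) (R.mk s.3.2.15.2 s.3.2.15.1) s.3.2.16 (R.mk s.3.2.13.2 s.3.2.13.1) s.3.2.14 s.3.2.3 (R.mk s.3.2.4.2 s.3.2.4.1) s.3.2.1 (R.mk s.3.2.2.2 s.3.2.2.1) (R.mk s.3.2.7.2 s.3.2.7.1) s.3.2.8 (R.mk s.3.2.5.2 s.3.2.5.1) s.3.2.6)
  (@T16.mk R s.3.1.11 (R.mk s.3.1.12.2 s.3.1.12.1) s.3.1.9 (R.mk s.3.1.10.2 s.3.1.10.1) (R.mk s.3.1.15.2 s.3.1.15.1) s.3.1.16 (R.mk s.3.1.13.2 s.3.1.13.1) s.3.1.14 s.3.1.3 (R.mk s.3.1.4.2 s.3.1.4.1) s.3.1.1 (R.mk s.3.1.2.2 s.3.1.2.1) (R.mk s.3.1.7.2 s.3.1.7.1) s.3.1.8 (R.mk s.3.1.5.2 s.3.1.5.1) s.3.1.6)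
 )
 (@T16.mk (T16 R)
  (@T16.mk R s.6.16.11 (R.mk s.6.16.12.2 s.6.16.12.1) s.6.16.9 (R.mk s.6.16.10.2 s.6.16.10.1) (R.mk s.6.16.15.2 s.6.16.15.1) s.6.16.16 (R.mk s.6.16.13.2 s.6.16.13.1) s.6.16.14 s.6.16.3 (R.mk s.6.16.4.2 s.6.16.4.1) s.6.16.1 (R.mk s.6.16.2.2 s.6.16.2.1) (R.mk s.6.16.7.2 s.6.16.7.1) s.6.16.8 (R.mk s.6.16.5.2 s.6.16.5.1) s.6.16.6)
  (@T16.mk R (R.mk s.6.15.11.2 s.6.15.11.1) s.6.15.12 (R.mk s.6.15.9.2 s.6.15.9.1) s.6.15.10 s.6.15.15 (R.mk s.6.15.16.2 s.6.15.16.1) s.6.15.13 (R.mk s.6.15.14.2 s.6.15.14.1) (R.mk s.6.15.3.2 s.6.15.3.1) s.6.15.4 (R.mk s.6.15.1.2 s.6.15.1.1) s.6.15.2 s.6.15.7 (R.mk s.6.15.8.2 s.6.15.8.1) s.6.15.5 (R.mk s.6.15.6.2 s.6.15.6.1))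
  (@T16.mk R s.6.14.11 (R.mk s.6.14.12.2 s.6.14.12.1) s.6.14.9 (R.mk s.6.14.10.2 s.6.14.10.1) (R.mk s.6.14.15.2 s.6.14.15.1) s.6.14.16 (R.mk s.6.14.13.2 s.6.14.13.1) s.6.14.14 s.6.14.3 (R.mk s.6.14.4.2 s.6.14.4.1) s.6.14.1 (R.mk s.6.14.2.2 s.6.14.2.1) (R.mk s.6.14.7.2 s.6.14.7.1) s.6.14.8 (R.mk s.6.14.5.2 s.6.14.5.1) s.6.14.6)
  (@T16.mk R (R.mk s.6.13.11.2 s.6.13.11.1) s.6.13.12 (R.mk s.6.13.9.2 s.6.13.9.1) s.6.13.10 s.6.13.15 (R.mk s.6.13.16.2 s.6.13.16.1) s.6.13.13 (R.mk s.6.13.14.2 s.6.13.14.1) (R.mk s.6.13.3.2 s.6.13.3.1) s.6.13.4 (R.mk s.6.13.1.2 s.6.13.1.1) s.6.13.2 s.6.13.7 (R.mk s.6.13.8.2 s.6.13.8.1) s.6.13.5 (R.mk s.6.13.6.2 s.6.13.6.1))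
  (@T16.mk R s.6.12.11 (R.mk s.6.12.12.2 s.6.12.12.1) s.6.12.9 (R.mk s.6.12.10.2 s.6.12.10.1) (R.mk s.6.12.15.2 s.6.12.15.1) s.6.12.16 (R.mk s.6.12.13.2 s.6.12.13.1) s.6.12.14 s.6.12.3 (R.mk s.6.12.4.2 s.6.12.4.1) s.6.12.1 (R.mk s.6.12.2.2 s.6.12.2.1) (R.mk s.6.12.7.2 s.6.12.7.1) s.6.12.8 (R.mk s.6.12.5.2 s.6.12.5.1) s.6.12.6)
  (@T16.mk R (R.mk s.6.11.11.2 s.6.11.11.1) s.6.11.12 (R.mk s.6.11.9.2 s.6.11.9.1) s.6.11.10 s.6.11.15 (R.mk s.6.11.16.2 s.6.11.16.1) s.6.11.13 (R.mk s.6.11.14.2 s.6.11.14.1) (R.mk s.6.11.3.2 s.6.11.3.1) s.6.11.4 (R.mk s.6.11.1.2 s.6.11.1.1) s.6.11.2 s.6.11.7 (R.mk s.6.11.8.2 s.6.11.8.1) s.6.11.5 (R.mk s.6.11.6.2 s.6.11.6.1))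
  (@T16.mk R (R.mk s.6.10.11.2 s.6.10.11.1) s.6.10.12 (R.mk s.6.10.9.2 s.6.10.9.1) s.6.10.10 s.6.10.15 (R.mk s.6.10.16.2 s.6.10.16.1) s.6.10.13 (R.mk s.6.10.14.2 s.6.10.14.1) (R.mk s.6.10.3.2 s.6.10.3.1) s.6.10.4 (R.mk s.6.10.1.2 s.6.10.1.1) s.6.10.2 s.6.10.7 (R.mk s.6.10.8.2 s.6.10.8.1) s.6.10.5 (R.mk s.6.10.6.2 s.6.10.6.1))
  (@T16.mk R (R.mk s.6.9.11.2 s.6.9.11.1) s.6.9.12 (R.mk s.6.9.9.2 s.6.9.9.1) s.6.9.10 s.6.9.15 (R.mk s.6.9.16.2 s.6.9.16.1) s.6.9.13 (R.mk s.6.9.14.2 s.6.9.14.1) (R.mk s.6.9.3.2 s.6.9.3.1) s.6.9.4 (R.mk s.6.9.1.2 s.6.9.1.1) s.6.9.2 s.6.9.7 (R.mk s.6.9.8.2 s.6.9.8.1) s.6.9.5 (R.mk s.6.9.6.2 s.6.9.6.1))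
  (@T16.mk R s.6.8.11 (R.mk s.6.8.12.2 s.6.8.12.1) s.6.8.9 (R.mk s.6.8.10.2 s.6.8.10.1) (R.mk s.6.8.15.2 s.6.8.15.1) s.6.8.16 (R.mk s.6.8.13.2 s.6.8.13.1) s.6.8.14 s.6.8.3 (R.mk s.6.8.4.2 s.6.8.4.1) s.6.8.1 (R.mk s.6.8.2.2 s.6.8.2.1) (R.mk s.6.8.7.2 s.6.8.7.1) s.6.8.8 (R.mk s.6.8.5.2 s.6.8.5.1) s.6.8.6)
  (@T16.mk R (R.mk s.6.7.11.2 s.6.7.11.1) s.6.7.12 (R.mk s.6.7.9.2 s.6.7.9.1) s.6.7.10 s.6.7.15 (R.mk s.6.7.16.2 s.6.7.16.1) s.6.7.13 (R.mk s.6.7.14.2 s.6.7.14.1) (R.mk s.6.7.3.2 s.6.7.3.1) s.6.7.4 (R.mk s.6.7.1.2 s.6.7.1.1) s.6.7.2 s.6.7.7 (R.mk s.6.7.8.2 s.6.7.8.1) s.6.7.5 (R.mk s.6.7.6.2 s.6.7.6.1))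
  (@T16.mk R s.6.6.11 (R.mk s.6.6.12.2 s.6.6.12.1) s.6.6.9 (R.mk s.6.6.10.2 s.6.6.10.1) (R.mk s.6.6.15.2 s.6.6.15.1) s.6.6.16 (R.mk s.6.6.13.2 s.6.6.13.1) s.6.6.14 s.6.6.3 (R.mk s.6.6.4.2 s.6.6.4.1) s.6.6.1 (R.mk s.6.6.2.2 s.6.6.2.1) (R.mk s.6.6.7.2 s.6.6.7.1) s.6.6.8 (R.mk s.6.6.5.2 s.6.6.5.1) s.6.6.6)
  (@T16.mk R s.6.5.11 (R.mk s.6.5.12.2 s.6.5.12.1) s.6.5.9 (R.mk s.6.5.10.2 s.6.5.10.1) (R.mk s.6.5.15.2 s.6.5.15.1) s.6.5.16 (R.mk s.6.5.13.2 s.6.5.13.1) s.6.5.14 s.6.5.3 (R.mk s.6.5.4.2 s.6.5.4.1) s.6.5.1 (R.mk s.6.5.2.2 s.6.5.2.1) (R.mk s.6.5.7.2 s.6.5.7.1) s.6.5.8 (R.mk s.6.5.5.2 s.6.5.5.1) s.6.5.6)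
  (@T16.mk R (R.mk s.6.4.11.2 s.6.4.11.1) s.6.4.12 (R.mk s.6.4.9.2 s.6.4.9.1) s.6.4.10 s.6.4.15 (R.mk s.6.4.16.2 s.6.4.16.1) s.6.4.13 (R.mk s.6.4.14.2 s.6.4.14.1) (R.mk s.6.4.3.2 s.6.4.3.1) s.6.4.4 (R.mk s.6.4.1.2 s.6.4.1.1) s.6.4.2 s.6.4.7 (R.mk s.6.4.8.2 s.6.4.8.1) s.6.4.5 (R.mk s.6.4.6.2 s.6.4.6.1))
  (@T16.mk R s.6.3.11 (R.mk s.6.3.12.2 s.6.3.12.1) s.6.3.9 (R.mk s.6.3.10.2 s.6.3.10.1) (R.mk s.6.3.15.2 s.6.3.15.1) s.6.3.16 (R.mk s.6.3.13.2 s.6.3.13.1) s.6.3.14 s.6.3.3 (R.mk s.6.3.4.2 s.6.3.4.1) s.6.3.1 (R.mk s.6.3.2.2 s.6.3.2.1) (R.mk s.6.3.7.2 s.6.3.7.1) s.6.3.8 (R.mk s.6.3.5.2 s.6.3.5.1) s.6.3.6)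
  (@T16.mk R s.6.2.11 (R.mk s.6.2.12.2 s.6.2.12.1) s.6.2.9 (R.mk s.6.2.10.2 s.6.2.10.1) (R.mk s.6.2.15.2 s.6.2.15.1) s.6.2.16 (R.mk s.6.2.13.2 s.6.2.13.1) s.6.2.14 s.6.2.3 (R.mk s.6.2.4.2 s.6.2.4.1) s.6.2.1 (R.mk s.6.2.2.2 s.6.2.2.1) (R.mk s.6.2.7.2 s.6.2.7.1) s.6.2.8 (R.mk s.6.2.5.2 s.6.2.5.1) s.6.2.6)
  (@T16.mk R (R.mk s.6.1.11.2 s.6.1.11.1) s.6.1.12 (R.mk s.6.1.9.2 s.6.1.9.1) s.6.1.10 s.6.1.15 (R.mk s.6.1.16.2 s.6.1.16.1) s.6.1.13 (R.mk s.6.1.14.2 s.6.1.14.1) (R.mk s.6.1.3.2 s.6.1.3.1) s.6.1.4 (R.mk s.6.1.1.2 s.6.1.1.1) s.6.1.2 s.6.1.7 (R.mk s.6.1.8.2 s.6.1.8.1) s.6.1.5 (R.mk s.6.1.6.2 s.6.1.6.1))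
 )
 (@T16.mk (T16 R)
  (@T16.mk R (R.mk s.5.16.11.2 s.5.16.11.1) s.5.16.12 (R.mk s.5.16.9.2 s.5.16.9.1) s.5.16.10 s.5.16.15 (R.mk s.5.16.16.2 s.5.16.16.1) s.5.16.13 (R.mk s.5.16.14.2 s.5.16.14.1) (R.mk s.5.16.3.2 s.5.16.3.1) s.5.16.4 (R.mk s.5.16.1.2 s.5.16.1.1) s.5.16.2 s.5.16.7 (R.mk s.5.16.8.2 s.5.16.8.1) s.5.16.5 (R.mk s.5.16.6.2 s.5.16.6.1))
  (@T16.mk R s.5.15.11 (R.mk s.5.15.12.2 s.5.15.12.1) s.5.15.9 (R.mk s.5.15.10.2 s.5.15.10.1) (R.mk s.5.15.15.2 s.5.15.15.1) s.5.15.16 (R.mk s.5.15.13.2 s.5.15.13.1) s.5.15.14 s.5.15.3 (R.mk s.5.15.4.2 s.5.15.4.1) s.5.15.1 (R.mk s.5.15.2.2 s.5.15.2.1) (R.mk s.5.15.7.2 s.5.15.7.1) s.5.15.8 (R.mk s.5.15.5.2 s.5.15.5.1) s.5.15.6)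
  (@T16.mk R s.5.14.11 (R.mk s.5.14.12.2 s.5.14.12.1) s.5.14.9 (R.mk s.5.14.10.2 s.5.14.10.1) (R.mk s.5.14.15.2 s.5.14.15.1) s.5.14.16 (R.mk s.5.14.13.2 s.5.14.13.1) s.5.14.14 s.5.14.3 (R.mk s.5.14.4.2 s.5.14.4.1) s.5.14.1 (R.mk s.5.14.2.2 s.5.14.2.1) (R.mk s.5.14.7.2 s.5.14.7.1) s.5.14.8 (R.mk s.5.14.5.2 s.5.14.5.1) s.5.14.6)
  (@T16.mk R (R.mk s.5.13.11.2 s.5.13.11.1) s.5.13.12 (R.mk s.5.13.9.2 s.5.13.9.1) s.5.13.10 s.5.13.15 (R.mk s.5.13.16.2 s.5.13.16.1) s.5.13.13 (R.mk s.5.13.14.2 s.5.13.14.1) (R.mk s.5.13.3.2 s.5.13.3.1) s.5.13.4 (R.mk s.5.13.1.2 s.5.13.1.1) s.5.13.2 s.5.13.7 (R.mk s.5.13.8.2 s.5.13.8.1) s.5.13.5 (R.mk s.5.13.6.2 s.5.13.6.1))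
  (@T16.mk R s.5.12.11 (R.mk s.5.12.12.2 s.5.12.12.1) s.5.12.9 (R.mk s.5.12.10.2 s.5.12.10.1) (R.mk s.5.12.15.2 s.5.12.15.1) s.5.12.16 (R.mk s.5.12.13.2 s.5.12.13.1) s.5.12.14 s.5.12.3 (R.mk s.5.12.4.2 s.5.12.4.1) s.5.12.1 (R.mk s.5.12.2.2 s.5.12.2.1) (R.mk s.5.12.7.2 s.5.12.7.1) s.5.12.8 (R.mk s.5.12.5.2 s.5.12.5.1) s.5.12.6)
  (@T16.mk R s.5.11.11 (R.mk s.5.11.12.2 s.5.11.12.1) s.5.11.9 (R.mk s.5.11.10.2 s.5.11.10.1) (R.mk s.5.11.15.2 s.5.11.15.1) s.5.11.16 (R.mk s.5.11.13.2 s.5.11.13.1) s.5.11.14 s.5.11.3 (R.mk s.5.11.4.2 s.5.11.4.1) s.5.11.1 (R.mk s.5.11.2.2 s.5.11.2.1) (R.mk s.5.11.7.2 s.5.11.7.1) s.5.11.8 (R.mk s.5.11.5.2 s.5.11.5.1) s.5.11.6)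
  (@T16.mk R (R.mk s.5.10.11.2 s.5.10.11.1) s.5.10.12 (R.mk s.5.10.9.2 s.5.10.9.1) s.5.10.10 s.5.10.15 (R.mk s.5.10.16.2 s.5.10.16.1) s.5.10.13 (R.mk s.5.10.14.2 s.5.10.14.1) (R.mk s.5.10.3.2 s.5.10.3.1) s.5.10.4 (R.mk s.5.10.1.2 s.5.10.1.1) s.5.10.2 s.5.10.7 (R.mk s.5.10.8.2 s.5.10.8.1) s.5.10.5 (R.mk s.5.10.6.2 s.5.10.6.1))
  (@T16.mk R s.5.9.11 (R.mk s.5.9.12.2 s.5.9.12.1) s.5.9.9 (R.mk s.5.9.10.2 s.5.9.10.1) (R.mk s.5.9.15.2 s.5.9.15.1) s.5.9.16 (R.mk s.5.9.13.2 s.5.9.13.1) s.5.9.14 s.5.9.3 (R.mk s.5.9.4.2 s.5.9.4.1) s.5.9.1 (R.mk s.5.9.2.2 s.5.9.2.1) (R.mk s.5.9.7.2 s.5.9.7.1) s.5.9.8 (R.mk s.5.9.5.2 s.5.9.5.1) s.5.9.6)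
  (@T16.mk R (R.mk s.5.8.11.2 s.5.8.11.1) s.5.8.12 (R.mk s.5.8.9.2 s.5.8.9.1) s.5.8.10 s.5.8.15 (R.mk s.5.8.16.2 s.5.8.16.1) s.5.8.13 (R.mk s.5.8.14.2 s.5.8.14.1) (R.mk s.5.8.3.2 s.5.8.3.1) s.5.8.4 (R.mk s.5.8.1.2 s.5.8.1.1) s.5.8.2 s.5.8.7 (R.mk s.5.8.8.2 s.5.8.8.1) s.5.8.5 (R.mk s.5.8.6.2 s.5.8.6.1))
  (@T16.mk R (R.mk s.5.7.11.2 s.5.7.11.1) s.5.7.12 (R.mk s.5.7.9.2 s.5.7.9.1) s.5.7.10 s.5.7.15 (R.mk s.5.7.16.2 s.5.7.16.1) s.5.7.13 (R.mk s.5.7.14.2 s.5.7.14.1) (R.mk s.5.7.3.2 s.5.7.3.1) s.5.7.4 (R.mk s.5.7.1.2 s.5.7.1.1) s.5.7.2 s.5.7.7 (R.mk s.5.7.8.2 s.5.7.8.1) s.5.7.5 (R.mk s.5.7.6.2 s.5.7.6.1))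
  (@T16.mk R (R.mk s.5.6.11.2 s.5.6.11.1) s.5.6.12 (R.mk s.5.6.9.2 s.5.6.9.1) s.5.6.10 s.5.6.15 (R.mk s.5.6.16.2 s.5.6.16.1) s.5.6.13 (R.mk s.5.6.14.2 s.5.6.14.1) (R.mk s.5.6.3.2 s.5.6.3.1) s.5.6.4 (R.mk s.5.6.1.2 s.5.6.1.1) s.5.6.2 s.5.6.7 (R.mk s.5.6.8.2 s.5.6.8.1) s.5.6.5 (R.mk s.5.6.6.2 s.5.6.6.1))
  (@T16.mk R s.5.5.11 (R.mk s.5.5.12.2 s.5.5.12.1) s.5.5.9 (R.mk s.5.5.10.2 s.5.5.10.1) (R.mk s.5.5.15.2 s.5.5.15.1) s.5.5.16 (R.mk s.5.5.13.2 s.5.5.13.1) s.5.5.14 s.5.5.3 (R.mk s.5.5.4.2 s.5.5.4.1) s.5.5.1 (R.mk s.5.5.2.2 s.5.5.2.1) (R.mk s.5.5.7.2 s.5.5.7.1) s.5.5.8 (R.mk s.5.5.5.2 s.5.5.5.1) s.5.5.6)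
  (@T16.mk R (R.mk s.5.4.11.2 s.5.4.11.1) s.5.4.12 (R.mk s.5.4.9.2 s.5.4.9.1) s.5.4.10 s.5.4.15 (R.mk s.5.4.16.2 s.5.4.16.1) s.5.4.13 (R.mk s.5.4.14.2 s.5.4.14.1) (R.mk s.5.4.3.2 s.5.4.3.1) s.5.4.4 (R.mk s.5.4.1.2 s.5.4.1.1) s.5.4.2 s.5.4.7 (R.mk s.5.4.8.2 s.5.4.8.1) s.5.4.5 (R.mk s.5.4.6.2 s.5.4.6.1))
  (@T16.mk R s.5.3.11 (R.mk s.5.3.12.2 s.5.3.12.1) s.5.3.9 (R.mk s.5.3.10.2 s.5.3.10.1) (R.mk s.5.3.15.2 s.5.3.15.1) s.5.3.16 (R.mk s.5.3.13.2 s.5.3.13.1) s.5.3.14 s.5.3.3 (R.mk s.5.3.4.2 s.5.3.4.1) s.5.3.1 (R.mk s.5.3.2.2 s.5.3.2.1) (R.mk s.5.3.7.2 s.5.3.7.1) s.5.3.8 (R.mk s.5.3.5.2 s.5.3.5.1) s.5.3.6)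
  (@T16.mk R (R.mk s.5.2.11.2 s.5.2.11.1) s.5.2.12 (R.mk s.5.2.9.2 s.5.2.9.1) s.5.2.10 s.5.2.15 (R.mk s.5.2.16.2 s.5.2.16.1) s.5.2.13 (R.mk s.5.2.14.2 s.5.2.14.1) (R.mk s.5.2.3.2 s.5.2.3.1) s.5.2.4 (R.mk s.5.2.1.2 s.5.2.1.1) s.5.2.2 s.5.2.7 (R.mk s.5.2.8.2 s.5.2.8.1) s.5.2.5 (R.mk s.5.2.6.2 s.5.2.6.1))
  (@T16.mk R s.5.1.11 (R.mk s.5.1.12.2 s.5.1.12.1) s.5.1.9 (R.mk s.5.1.10.2 s.5.1.10.1) (R.mk s.5.1.15.2 s.5.1.15.1) s.5.1.16 (R.mk s.5.1.13.2 s.5.1.13.1) s.5.1.14 s.5.1.3 (R.mk s.5.1.4.2 s.5.1.4.1) s.5.1.1 (R.mk s.5.1.2.2 s.5.1.2.1) (R.mk s.5.1.7.2 s.5.1.7.1) s.5.1.8 (R.mk s.5.1.5.2 s.5.1.5.1) s.5.1.6)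
 )
 (@T16.mk (T16 R)
  (@T16.mk R (R.mk s.8.16.11.2 s.8.16.11.1) s.8.16.12 (R.mk s.8.16.9.2 s.8.16.9.1) s.8.16.10 s.8.16.15 (R.mk s.8.16.16.2 s.8.16.16.1) s.8.16.13 (R.mk s.8.16.14.2 s.8.16.14.1) (R.mk s.8.16.3.2 s.8.16.3.1) s.8.16.4 (R.mk s.8.16.1.2 s.8.16.1.1) s.8.16.2 s.8.16.7 (R.mk s.8.16.8.2 s.8.16.8.1) s.8.16.5 (R.mk s.8.16.6.2 s.8.16.6.1))
  (@T16.mk R (R.mk s.8.15.11.2 s.8.15.11.1) s.8.15.12 (R.mk s.8.15.9.2 s.8.15.9.1) s.8.15.10 s.8.15.15 (R.mk s.8.15.16.2 s.8.15.16.1) s.8.15.13 (R.mk s.8.15.14.2 s.8.15.14.1) (R.mk s.8.15.3.2 s.8.15.3.1) s.8.15.4 (R.mk s.8.15.1.2 s.8.15.1.1) s.8.15.2 s.8.15.7 (R.mk s.8.15.8.2 s.8.15.8.1) s.8.15.5 (R.mk s.8.15.6.2 s.8.15.6.1))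
  (@T16.mk R (R.mk s.8.14.11.2 s.8.14.11.1) s.8.14.12 (R.mk s.8.14.9.2 s.8.14.9.1) s.8.14.10 s.8.14.15 (R.mk s.8.14.16.2 s.8.14.16.1) s.8.14.13 (R.mk s.8.14.14.2 s.8.14.14.1) (R.mk s.8.14.3.2 s.8.14.3.1) s.8.14.4 (R.mk s.8.14.1.2 s.8.14.1.1) s.8.14.2 s.8.14.7 (R.mk s.8.14.8.2 s.8.14.8.1) s.8.14.5 (R.mk s.8.14.6.2 s.8.14.6.1))
  (@T16.mk R (R.mk s.8.13.11.2 s.8.13.11.1) s.8.13.12 (R.mk s.8.13.9.2 s.8.13.9.1) s.8.13.10 s.8.13.15 (R.mk s.8.13.16.2 s.8.13.16.1) s.8.13.13 (R.mk s.8.13.14.2 s.8.13.14.1) (R.mk s.8.13.3.2 s.8.13.3.1) s.8.13.4 (R.mk s.8.13.1.2 s.8.13.1.1) s.8.13.2 s.8.13.7 (R.mk s.8.13.8.2 s.8.13.8.1) s.8.13.5 (R.mk s.8.13.6.2 s.8.13.6.1))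
  (@T16.mk R (R.mk s.8.12.11.2 s.8.12.11.1) s.8.12.12 (R.mk s.8.12.9.2 s.8.12.9.1) s.8.12.10 s.8.12.15 (R.mk s.8.12.16.2 s.8.12.16.1) s.8.12.13 (R.mk s.8.12.14.2 s.8.12.14.1) (R.mk s.8.12.3.2 s.8.12.3.1) s.8.12.4 (R.mk s.8.12.1.2 s.8.12.1.1) s.8.12.2 s.8.12.7 (R.mk s.8.12.8.2 s.8.12.8.1) s.8.12.5 (R.mk s.8.12.6.2 s.8.12.6.1))
  (@T16.mk R (R.mk s.8.11.11.2 s.8.11.11.1) s.8.11.12 (R.mk s.8.11.9.2 s.8.11.9.1) s.8.11.10 s.8.11.15 (R.mk s.8.11.16.2 s.8.11.16.1) s.8.11.13 (R.mk s.8.11.14.2 s.8.11.14.1) (R.mk s.8.11.3.2 s.8.11.3.1) s.8.11.4 (R.mk s.8.11.1.2 s.8.11.1.1) s.8.11.2 s.8.11.7 (R.mk s.8.11.8.2 s.8.11.8.1) s.8.11.5 (R.mk s.8.11.6.2 s.8.11.6.1))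
  (@T16.mk R s.8.10.11 (R.mk s.8.10.12.2 s.8.10.12.1) s.8.10.9 (R.mk s.8.10.10.2 s.8.10.10.1) (R.mk s.8.10.15.2 s.8.10.15.1) s.8.10.16 (R.mk s.8.10.13.2 s.8.10.13.1) s.8.10.14 s.8.10.3 (R.mk s.8.10.4.2 s.8.10.4.1) s.8.10.1 (R.mk s.8.10.2.2 s.8.10.2.1) (R.mk s.8.10.7.2 s.8.10.7.1) s.8.10.8 (R.mk s.8.10.5.2 s.8.10.5.1) s.8.10.6)
  (@T16.mk R (R.mk s.8.9.11.2 s.8.9.11.1) s.8.9.12 (R.mk s.8.9.9.2 s.8.9.9.1) s.8.9.10 s.8.9.15 (R.mk s.8.9.16.2 s.8.9.16.1) s.8.9.13 (R.mk s.8.9.14.2 s.8.9.14.1) (R.mk s.8.9.3.2 s.8.9.3.1) s.8.9.4 (R.mk s.8.9.1.2 s.8.9.1.1) s.8.9.2 s.8.9.7 (R.mk s.8.9.8.2 s.8.9.8.1) s.8.9.5 (R.mk s.8.9.6.2 s.8.9.6.1))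
  (@T16.mk R s.8.8.11 (R.mk s.8.8.12.2 s.8.8.12.1) s.8.8.9 (R.mk s.8.8.10.2 s.8.8.10.1) (R.mk s.8.8.15.2 s.8.8.15.1) s.8.8.16 (R.mk s.8.8.13.2 s.8.8.13.1) s.8.8.14 s.8.8.3 (R.mk s.8.8.4.2 s.8.8.4.1) s.8.8.1 (R.mk s.8.8.2.2 s.8.8.2.1) (R.mk s.8.8.7.2 s.8.8.7.1) s.8.8.8 (R.mk s.8.8.5.2 s.8.8.5.1) s.8.8.6)
  (@T16.mk R s.8.7.11 (R.mk s.8.7.12.2 s.8.7.12.1) s.8.7.9 (R.mk s.8.7.10.2 s.8.7.10.1) (R.mk s.8.7.15.2 s.8.7.15.1) s.8.7.16 (R.mk s.8.7.13.2 s.8.7.13.1) s.8.7.14 s.8.7.3 (R.mk s.8.7.4.2 s.8.7.4.1) s.8.7.1 (R.mk s.8.7.2.2 s.8.7.2.1) (R.mk s.8.7.7.2 s.8.7.7.1) s.8.7.8 (R.mk s.8.7.5.2 s.8.7.5.1) s.8.7.6)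
  (@T16.mk R (R.mk s.8.6.11.2 s.8.6.11.1) s.8.6.12 (R.mk s.8.6.9.2 s.8.6.9.1) s.8.6.10 s.8.6.15 (R.mk s.8.6.16.2 s.8.6.16.1) s.8.6.13 (R.mk s.8.6.14.2 s.8.6.14.1) (R.mk s.8.6.3.2 s.8.6.3.1) s.8.6.4 (R.mk s.8.6.1.2 s.8.6.1.1) s.8.6.2 s.8.6.7 (R.mk s.8.6.8.2 s.8.6.8.1) s.8.6.5 (R.mk s.8.6.6.2 s.8.6.6.1))
  (@T16.mk R s.8.5.11 (R.mk s.8.5.12.2 s.8.5.12.1) s.8.5.9 (R.mk s.8.5.10.2 s.8.5.10.1) (R.mk s.8.5.15.2 s.8.5.15.1) s.8.5.16 (R.mk s.8.5.13.2 s.8.5.13.1) s.8.5.14 s.8.5.3 (R.mk s.8.5.4.2 s.8.5.4.1) s.8.5.1 (R.mk s.8.5.2.2 s.8.5.2.1) (R.mk s.8.5.7.2 s.8.5.7.1) s.8.5.8 (R.mk s.8.5.5.2 s.8.5.5.1) s.8.5.6)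
  (@T16.mk R (R.mk s.8.4.11.2 s.8.4.11.1) s.8.4.12 (R.mk s.8.4.9.2 s.8.4.9.1) s.8.4.10 s.8.4.15 (R.mk s.8.4.16.2 s.8.4.16.1) s.8.4.13 (R.mk s.8.4.14.2 s.8.4.14.1) (R.mk s.8.4.3.2 s.8.4.3.1) s.8.4.4 (R.mk s.8.4.1.2 s.8.4.1.1) s.8.4.2 s.8.4.7 (R.mk s.8.4.8.2 s.8.4.8.1) s.8.4.5 (R.mk s.8.4.6.2 s.8.4.6.1))
  (@T16.mk R (R.mk s.8.3.11.2 s.8.3.11.1) s.8.3.12 (R.mk s.8.3.9.2 s.8.3.9.1) s.8.3.10 s.8.3.15 (R.mk s.8.3.16.2 s.8.3.16.1) s.8.3.13 (R.mk s.8.3.14.2 s.8.3.14.1) (R.mk s.8.3.3.2 s.8.3.3.1) s.8.3.4 (R.mk s.8.3.1.2 s.8.3.1.1) s.8.3.2 s.8.3.7 (R.mk s.8.3.8.2 s.8.3.8.1) s.8.3.5 (R.mk s.8.3.6.2 s.8.3.6.1))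
  (@T16.mk R (R.mk s.8.2.11.2 s.8.2.11.1) s.8.2.12 (R.mk s.8.2.9.2 s.8.2.9.1) s.8.2.10 s.8.2.15 (R.mk s.8.2.16.2 s.8.2.16.1) s.8.2.13 (R.mk s.8.2.14.2 s.8.2.14.1) (R.mk s.8.2.3.2 s.8.2.3.1) s.8.2.4 (R.mk s.8.2.1.2 s.8.2.1.1) s.8.2.2 s.8.2.7 (R.mk s.8.2.8.2 s.8.2.8.1) s.8.2.5 (R.mk s.8.2.6.2 s.8.2.6.1))
  (@T16.mk R (R.mk s.8.1.11.2 s.8.1.11.1) s.8.1.12 (R.mk s.8.1.9.2 s.8.1.9.1) s.8.1.10 s.8.1.15 (R.mk s.8.1.16.2 s.8.1.16.1) s.8.1.13 (R.mk s.8.1.14.2 s.8.1.14.1) (R.mk s.8.1.3.2 s.8.1.3.1) s.8.1.4 (R.mk s.8.1.1.2 s.8.1.1.1) s.8.1.2 s.8.1.7 (R.mk s.8.1.8.2 s.8.1.8.1) s.8.1.5 (R.mk s.8.1.6.2 s.8.1.6.1))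
 )
 (@T16.mk (T16 R)
  (@T16.mk R (R.mk s.7.16.11.2 s.7.16.11.1) s.7.16.12 (R.mk s.7.16.9.2 s.7.16.9.1) s.7.16.10 s.7.16.15 (R.mk s.7.16.16.2 s.7.16.16.1) s.7.16.13 (R.mk s.7.16.14.2 s.7.16.14.1) (R.mk s.7.16.3.2 s.7.16.3.1) s.7.16.4 (R.mk s.7.16.1.2 s.7.16.1.1) s.7.16.2 s.7.16.7 (R.mk s.7.16.8.2 s.7.16.8.1) s.7.16.5 (R.mk s.7.16.6.2 s.7.16.6.1))
  (@T16.mk R (R.mk s.7.15.11.2 s.7.15.11.1) s.7.15.12 (R.mk s.7.15.9.2 s.7.15.9.1) s.7.15.10 s.7.15.15 (R.mk s.7.15.16.2 s.7.15.16.1) s.7.15.13 (R.mk s.7.15.14.2 s.7.15.14.1) (R.mk s.7.15.3.2 s.7.15.3.1) s.7.15.4 (R.mk s.7.15.1.2 s.7.15.1.1) s.7.15.2 s.7.15.7 (R.mk s.7.15.8.2 s.7.15.8.1) s.7.15.5 (R.mk s.7.15.6.2 s.7.15.6.1))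
  (@T16.mk R (R.mk s.7.14.11.2 s.7.14.11.1) s.7.14.12 (R.mk s.7.14.9.2 s.7.14.9.1) s.7.14.10 s.7.14.15 (R.mk s.7.14.16.2 s.7.14.16.1) s.7.14.13 (R.mk s.7.14.14.2 s.7.14.14.1) (R.mk s.7.14.3.2 s.7.14.3.1) s.7.14.4 (R.mk s.7.14.1.2 s.7.14.1.1) s.7.14.2 s.7.14.7 (R.mk s.7.14.8.2 s.7.14.8.1) s.7.14.5 (R.mk s.7.14.6.2 s.7.14.6.1))
  (@T16.mk R (R.mk s.7.13.11.2 s.7.13.11.1) s.7.13.12 (R.mk s.7.13.9.2 s.7.13.9.1) s.7.13.10 s.7.13.15 (R.mk s.7.13.16.2 s.7.13.16.1) s.7.13.13 (R.mk s.7.13.14.2 s.7.13.14.1) (R.mk s.7.13.3.2 s.7.13.3.1) s.7.13.4 (R.mk s.7.13.1.2 s.7.13.1.1) s.7.13.2 s.7.13.7 (R.mk s.7.13.8.2 s.7.13.8.1) s.7.13.5 (R.mk s.7.13.6.2 s.7.13.6.1))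
  (@T16.mk R s.7.12.11 (R.mk s.7.12.12.2 s.7.12.12.1) s.7.12.9 (R.mk s.7.12.10.2 s.7.12.10.1) (R.mk s.7.12.15.2 s.7.12.15.1) s.7.12.16 (R.mk s.7.12.13.2 s.7.12.13.1) s.7.12.14 s.7.12.3 (R.mk s.7.12.4.2 s.7.12.4.1) s.7.12.1 (R.mk s.7.12.2.2 s.7.12.2.1) (R.mk s.7.12.7.2 s.7.12.7.1) s.7.12.8 (R.mk s.7.12.5.2 s.7.12.5.1) s.7.12.6)
  (@T16.mk R (R.mk s.7.11.11.2 s.7.11.11.1) s.7.11.12 (R.mk s.7.11.9.2 s.7.11.9.1) s.7.11.10 s.7.11.15 (R.mk s.7.11.16.2 s.7.11.16.1) s.7.11.13 (R.mk s.7.11.14.2 s.7.11.14.1) (R.mk s.7.11.3.2 s.7.11.3.1) s.7.11.4 (R.mk s.7.11.1.2 s.7.11.1.1) s.7.11.2 s.7.11.7 (R.mk s.7.11.8.2 s.7.11.8.1) s.7.11.5 (R.mk s.7.11.6.2 s.7.11.6.1))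
  (@T16.mk R s.7.10.11 (R.mk s.7.10.12.2 s.7.10.12.1) s.7.10.9 (R.mk s.7.10.10.2 s.7.10.10.1) (R.mk s.7.10.15.2 s.7.10.15.1) s.7.10.16 (R.mk s.7.10.13.2 s.7.10.13.1) s.7.10.14 s.7.10.3 (R.mk s.7.10.4.2 s.7.10.4.1) s.7.10.1 (R.mk s.7.10.2.2 s.7.10.2.1) (R.mk s.7.10.7.2 s.7.10.7.1) s.7.10.8 (R.mk s.7.10.5.2 s.7.10.5.1) s.7.10.6)
  (@T16.mk R s.7.9.11 (R.mk s.7.9.12.2 s.7.9.12.1) s.7.9.9 (R.mk s.7.9.10.2 s.7.9.10.1) (R.mk s.7.9.15.2 s.7.9.15.1) s.7.9.16 (R.mk s.7.9.13.2 s.7.9.13.1) s.7.9.14 s.7.9.3 (R.mk s.7.9.4.2 s.7.9.4.1) s.7.9.1 (R.mk s.7.9.2.2 s.7.9.2.1) (R.mk s.7.9.7.2 s.7.9.7.1) s.7.9.8 (R.mk s.7.9.5.2 s.7.9.5.1) s.7.9.6)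
  (@T16.mk R (R.mk s.7.8.11.2 s.7.8.11.1) s.7.8.12 (R.mk s.7.8.9.2 s.7.8.9.1) s.7.8.10 s.7.8.15 (R.mk s.7.8.16.2 s.7.8.16.1) s.7.8.13 (R.mk s.7.8.14.2 s.7.8.14.1) (R.mk s.7.8.3.2 s.7.8.3.1) s.7.8.4 (R.mk s.7.8.1.2 s.7.8.1.1) s.7.8.2 s.7.8.7 (R.mk s.7.8.8.2 s.7.8.8.1) s.7.8.5 (R.mk s.7.8.6.2 s.7.8.6.1))
  (@T16.mk R s.7.7.11 (R.mk s.7.7.12.2 s.7.7.12.1) s.7.7.9 (R.mk s.7.7.10.2 s.7.7.10.1) (R.mk s.7.7.15.2 s.7.7.15.1) s.7.7.16 (R.mk s.7.7.13.2 s.7.7.13.1) s.7.7.14 s.7.7.3 (R.mk s.7.7.4.2 s.7.7.4.1) s.7.7.1 (R.mk s.7.7.2.2 s.7.7.2.1) (R.mk s.7.7.7.2 s.7.7.7.1) s.7.7.8 (R.mk s.7.7.5.2 s.7.7.5.1) s.7.7.6)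
  (@T16.mk R (R.mk s.7.6.11.2 s.7.6.11.1) s.7.6.12 (R.mk s.7.6.9.2 s.7.6.9.1) s.7.6.10 s.7.6.15 (R.mk s.7.6.16.2 s.7.6.16.1) s.7.6.13 (R.mk s.7.6.14.2 s.7.6.14.1) (R.mk s.7.6.3.2 s.7.6.3.1) s.7.6.4 (R.mk s.7.6.1.2 s.7.6.1.1) s.7.6.2 s.7.6.7 (R.mk s.7.6.8.2 s.7.6.8.1) s.7.6.5 (R.mk s.7.6.6.2 s.7.6.6.1))
  (@T16.mk R (R.mk s.7.5.11.2 s.7.5.11.1) s.7.5.12 (R.mk s.7.5.9.2 s.7.5.9.1) s.7.5.10 s.7.5.15 (R.mk s.7.5.16.2 s.7.5.16.1) s.7.5.13 (R.mk s.7.5.14.2 s.7.5.14.1) (R.mk s.7.5.3.2 s.7.5.3.1) s.7.5.4 (R.mk s.7.5.1.2 s.7.5.1.1) s.7.5.2 s.7.5.7 (R.mk s.7.5.8.2 s.7.5.8.1) s.7.5.5 (R.mk s.7.5.6.2 s.7.5.6.1))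
  (@T16.mk R (R.mk s.7.4.11.2 s.7.4.11.1) s.7.4.12 (R.mk s.7.4.9.2 s.7.4.9.1) s.7.4.10 s.7.4.15 (R.mk s.7.4.16.2 s.7.4.16.1) s.7.4.13 (R.mk s.7.4.14.2 s.7.4.14.1) (R.mk s.7.4.3.2 s.7.4.3.1) s.7.4.4 (R.mk s.7.4.1.2 s.7.4.1.1) s.7.4.2 s.7.4.7 (R.mk s.7.4.8.2 s.7.4.8.1) s.7.4.5 (R.mk s.7.4.6.2 s.7.4.6.1))
  (@T16.mk R (R.mk s.7.3.11.2 s.7.3.11.1) s.7.3.12 (R.mk s.7.3.9.2 s.7.3.9.1) s.7.3.10 s.7.3.15 (R.mk s.7.3.16.2 s.7.3.16.1) s.7.3.13 (R.mk s.7.3.14.2 s.7.3.14.1) (R.mk s.7.3.3.2 s.7.3.3.1) s.7.3.4 (R.mk s.7.3.1.2 s.7.3.1.1) s.7.3.2 s.7.3.7 (R.mk s.7.3.8.2 s.7.3.8.1) s.7.3.5 (R.mk s.7.3.6.2 s.7.3.6.1))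
  (@T16.mk R (R.mk s.7.2.11.2 s.7.2.11.1) s.7.2.12 (R.mk s.7.2.9.2 s.7.2.9.1) s.7.2.10 s.7.2.15 (R.mk s.7.2.16.2 s.7.2.16.1) s.7.2.13 (R.mk s.7.2.14.2 s.7.2.14.1) (R.mk s.7.2.3.2 s.7.2.3.1) s.7.2.4 (R.mk s.7.2.1.2 s.7.2.1.1) s.7.2.2 s.7.2.7 (R.mk s.7.2.8.2 s.7.2.8.1) s.7.2.5 (R.mk s.7.2.6.2 s.7.2.6.1))
  (@T16.mk R (R.mk s.7.1.11.2 s.7.1.11.1) s.7.1.12 (R.mk s.7.1.9.2 s.7.1.9.1) s.7.1.10 s.7.1.15 (R.mk s.7.1.16.2 s.7.1.16.1) s.7.1.13 (R.mk s.7.1.14.2 s.7.1.14.1) (R.mk s.7.1.3.2 s.7.1.3.1) s.7.1.4 (R.mk s.7.1.1.2 s.7.1.1.1) s.7.1.2 s.7.1.7 (R.mk s.7.1.8.2 s.7.1.8.1) s.7.1.5 (R.mk s.7.1.6.2 s.7.1.6.1))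
 )
 (@T16.mk (T16 R)
  (@T16.mk R (R.mk s.9.1.1.2 s.9.1.1.1) s.9.1.2 (R.mk s.9.1.3.2 s.9.1.3.1) s.9.1.4 s.9.1.5 (R.mk s.9.1.6.2 s.9.1.6.1) s.9.1.7 (R.mk s.9.1.8.2 s.9.1.8.1) s.9.1.9 (R.mk s.9.1.10.2 s.9.1.10.1) s.9.1.11 (R.mk s.9.1.12.2 s.9.1.12.1) (R.mk s.9.1.13.2 s.9.1.13.1) s.9.1.14 (R.mk s.9.1.15.2 s.9.1.15.1) s.9.1.16)
  (@T16.mk R s.9.2.1 s.9.2.2 (R.mk s.9.2.3.2 s.9.2.3.1) (R.mk s.9.2.4.2 s.9.2.4.1) s.9.2.5 s.9.2.6 (R.mk s.9.2.7.2 s.9.2.7.1) (R.mk s.9.2.8.2 s.9.2.8.1) s.9.2.9 s.9.2.10 (R.mk s.9.2.11.2 s.9.2.11.1) (R.mk s.9.2.12.2 s.9.2.12.1) s.9.2.13 s.9.2.14 (R.mk s.9.2.15.2 s.9.2.15.1) (R.mk s.9.2.16.2 s.9.2.16.1))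
  (@T16.mk R (R.mk s.9.3.1.2 s.9.3.1.1) (R.mk s.9.3.2.2 s.9.3.2.1) (R.mk s.9.3.3.2 s.9.3.3.1) (R.mk s.9.3.4.2 s.9.3.4.1) (R.mk s.9.3.5.2 s.9.3.5.1) (R.mk s.9.3.6.2 s.9.3.6.1) (R.mk s.9.3.7.2 s.9.3.7.1) (R.mk s.9.3.8.2 s.9.3.8.1) s.9.3.9 s.9.3.10 s.9.3.11 s.9.3.12 s.9.3.13 s.9.3.14 s.9.3.15 s.9.3.16)
  (@T16.mk R (R.mk s.9.4.1.2 s.9.4.1.1) s.9.4.2 s.9.4.3 (R.mk s.9.4.4.2 s.9.4.4.1) (R.mk s.9.4.5.2 s.9.4.5.1) s.9.4.6 s.9.4.7 (R.mk s.9.4.8.2 s.9.4.8.1) (R.mk s.9.4.9.2 s.9.4.9.1) s.9.4.10 s.9.4.11 (R.mk s.9.4.12.2 s.9.4.12.1) (R.mk s.9.4.13.2 s.9.4.13.1) s.9.4.14 s.9.4.15 (R.mk s.9.4.16.2 s.9.4.16.1))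
  (@T16.mk R (R.mk s.9.5.1.2 s.9.5.1.1) (R.mk s.9.5.2.2 s.9.5.2.1) s.9.5.3 s.9.5.4 s.9.5.5 s.9.5.6 (R.mk s.9.5.7.2 s.9.5.7.1) (R.mk s.9.5.8.2 s.9.5.8.1) (R.mk s.9.5.9.2 s.9.5.9.1) (R.mk s.9.5.10.2 s.9.5.10.1) s.9.5.11 s.9.5.12 s.9.5.13 s.9.5.14 (R.mk s.9.5.15.2 s.9.5.15.1) (R.mk s.9.5.16.2 s.9.5.16.1))
  (@T16.mk R (R.mk s.9.6.1.2 s.9.6.1.1) s.9.6.2 (R.mk s.9.6.3.2 s.9.6.3.1) s.9.6.4 (R.mk s.9.6.5.2 s.9.6.5.1) s.9.6.6 (R.mk s.9.6.7.2 s.9.6.7.1) s.9.6.8 s.9.6.9 (R.mk s.9.6.10.2 s.9.6.10.1) s.9.6.11 (R.mk s.9.6.12.2 s.9.6.12.1) s.9.6.13 (R.mk s.9.6.14.2 s.9.6.14.1) s.9.6.15 (R.mk s.9.6.16.2 s.9.6.16.1))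
  (@T16.mk R s.9.7.1 s.9.7.2 s.9.7.3 s.9.7.4 s.9.7.5 s.9.7.6 s.9.7.7 s.9.7.8 s.9.7.9 s.9.7.10 s.9.7.11 s.9.7.12 s.9.7.13 s.9.7.14 s.9.7.15 s.9.7.16)
  (@T16.mk R (R.mk s.9.8.1.2 s.9.8.1.1) s.9.8.2 (R.mk s.9.8.3.2 s.9.8.3.1) s.9.8.4 (R.mk s.9.8.5.2 s.9.8.5.1) s.9.8.6 (R.mk s.9.8.7.2 s.9.8.7.1) s.9.8.8 (R.mk s.9.8.9.2 s.9.8.9.1) s.9.8.10 (R.mk s.9.8.11.2 s.9.8.11.1) s.9.8.12 (R.mk s.9.8.13.2 s.9.8.13.1) s.9.8.14 (R.mk s.9.8.15.2 s.9.8.15.1) s.9.8.16)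
  (@T16.mk R s.9.9.1 (R.mk s.9.9.2.2 s.9.9.2.1) s.9.9.3 (R.mk s.9.9.4.2 s.9.9.4.1) (R.mk s.9.9.5.2 s.9.9.5.1) s.9.9.6 (R.mk s.9.9.7.2 s.9.9.7.1) s.9.9.8 s.9.9.9 (R.mk s.9.9.10.2 s.9.9.10.1) s.9.9.11 (R.mk s.9.9.12.2 s.9.9.12.1) (R.mk s.9.9.13.2 s.9.9.13.1) s.9.9.14 (R.mk s.9.9.15.2 s.9.9.15.1) s.9.9.16)
  (@T16.mk R (R.mk s.9.10.1.2 s.9.10.1.1) (R.mk s.9.10.2.2 s.9.10.2.1) s.9.10.3 s.9.10.4 (R.mk s.9.10.5.2 s.9.10.5.1) (R.mk s.9.10.6.2 s.9.10.6.1) s.9.10.7 s.9.10.8 (R.mk s.9.10.9.2 s.9.10.9.1) (R.mk s.9.10.10.2 s.9.10.10.1) s.9.10.11 s.9.10.12 (R.mk s.9.10.13.2 s.9.10.13.1) (R.mk s.9.10.14.2 s.9.10.14.1) s.9.10.15 s.9.10.16)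
  (@T16.mk R (R.mk s.9.11.1.2 s.9.11.1.1) s.9.11.2 (R.mk s.9.11.3.2 s.9.11.3.1) s.9.11.4 (R.mk s.9.11.5.2 s.9.11.5.1) s.9.11.6 (R.mk s.9.11.7.2 s.9.11.7.1) s.9.11.8 (R.mk s.9.11.9.2 s.9.11.9.1) s.9.11.10 (R.mk s.9.11.11.2 s.9.11.11.1) s.9.11.12 (R.mk s.9.11.13.2 s.9.11.13.1) s.9.11.14 (R.mk s.9.11.15.2 s.9.11.15.1) s.9.11.16)
  (@T16.mk R s.9.12.1 s.9.12.2 s.9.12.3 s.9.12.4 s.9.12.5 s.9.12.6 s.9.12.7 s.9.12.8 s.9.12.9 s.9.12.10 s.9.12.11 s.9.12.12 s.9.12.13 s.9.12.14 s.9.12.15 s.9.12.16)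
  (@T16.mk R (R.mk s.9.13.1.2 s.9.13.1.1) (R.mk s.9.13.2.2 s.9.13.2.1) (R.mk s.9.13.3.2 s.9.13.3.1) (R.mk s.9.13.4.2 s.9.13.4.1) s.9.13.5 s.9.13.6 s.9.13.7 s.9.13.8 (R.mk s.9.13.9.2 s.9.13.9.1) (R.mk s.9.13.10.2 s.9.13.10.1) (R.mk s.9.13.11.2 s.9.13.11.1) (R.mk s.9.13.12.2 s.9.13.12.1) s.9.13.13 s.9.13.14 s.9.13.15 s.9.13.16)
  (@T16.mk R s.9.14.1 s.9.14.2 s.9.14.3 s.9.14.4 s.9.14.5 s.9.14.6 s.9.14.7 s.9.14.8 s.9.14.9 s.9.14.10 s.9.14.11 s.9.14.12 s.9.14.13 s.9.14.14 s.9.14.15 s.9.14.16)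
  (@T16.mk R s.9.15.1 s.9.15.2 (R.mk s.9.15.3.2 s.9.15.3.1) (R.mk s.9.15.4.2 s.9.15.4.1) s.9.15.5 s.9.15.6 (R.mk s.9.15.7.2 s.9.15.7.1) (R.mk s.9.15.8.2 s.9.15.8.1) s.9.15.9 s.9.15.10 (R.mk s.9.15.11.2 s.9.15.11.1) (R.mk s.9.15.12.2 s.9.15.12.1) s.9.15.13 s.9.15.14 (R.mk s.9.15.15.2 s.9.15.15.1) (R.mk s.9.15.16.2 s.9.15.16.1))
  (@T16.mk R (R.mk s.9.16.1.2 s.9.16.1.1) s.9.16.2 (R.mk s.9.16.3.2 s.9.16.3.1) s.9.16.4 s.9.16.5 (R.mk s.9.16.6.2 s.9.16.6.1) s.9.16.7 (R.mk s.9.16.8.2 s.9.16.8.1) s.9.16.9 (R.mk s.9.16.10.2 s.9.16.10.1) s.9.16.11 (R.mk s.9.16.12.2 s.9.16.12.1) (R.mk s.9.16.13.2 s.9.16.13.1) s.9.16.14 (R.mk s.9.16.15.2 s.9.16.15.1) s.9.16.16)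
 )
 (@T16.mk (T16 R)
  (@T16.mk R (R.mk s.10.1.1.2 s.10.1.1.1) s.10.1.2 (R.mk s.10.1.3.2 s.10.1.3.1) s.10.1.4 (R.mk s.10.1.5.2 s.10.1.5.1) s.10.1.6 (R.mk s.10.1.7.2 s.10.1.7.1) s.10.1.8 (R.mk s.10.1.9.2 s.10.1.9.1) s.10.1.10 (R.mk s.10.1.11.2 s.10.1.11.1) s.10.1.12 (R.mk s.10.1.13.2 s.10.1.13.1) s.10.1.14 (R.mk s.10.1.15.2 s.10.1.15.1) s.10.1.16)
  (@T16.mk R s.10.2.1 (R.mk s.10.2.2.2 s.10.2.2.1) s.10.2.3 (R.mk s.10.2.4.2 s.10.2.4.1) s.10.2.5 (R.mk s.10.2.6.2 s.10.2.6.1) s.10.2.7 (R.mk s.10.2.8.2 s.10.2.8.1) s.10.2.9 (R.mk s.10.2.10.2 s.10.2.10.1) s.10.2.11 (R.mk s.10.2.12.2 s.10.2.12.1) s.10.2.13 (R.mk s.10.2.14.2 s.10.2.14.1) s.10.2.15 (R.mk s.10.2.16.2 s.10.2.16.1))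
  (@T16.mk R s.10.3.1 s.10.3.2 s.10.3.3 s.10.3.4 s.10.3.5 s.10.3.6 s.10.3.7 s.10.3.8 s.10.3.9 s.10.3.10 s.10.3.11 s.10.3.12 s.10.3.13 s.10.3.14 s.10.3.15 s.10.3.16)
  (@T16.mk R (R.mk s.10.4.1.2 s.10.4.1.1) s.10.4.2 (R.mk s.10.4.3.2 s.10.4.3.1) s.10.4.4 s.10.4.5 (R.mk s.10.4.6.2 s.10.4.6.1) s.10.4.7 (R.mk s.10.4.8.2 s.10.4.8.1) s.10.4.9 (R.mk s.10.4.10.2 s.10.4.10.1) s.10.4.11 (R.mk s.10.4.12.2 s.10.4.12.1) (R.mk s.10.4.13.2 s.10.4.13.1) s.10.4.14 (R.mk s.10.4.15.2 s.10.4.15.1) s.10.4.16)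
  (@T16.mk R (R.mk s.10.5.1.2 s.10.5.1.1) (R.mk s.10.5.2.2 s.10.5.2.1) s.10.5.3 s.10.5.4 s.10.5.5 s.10.5.6 (R.mk s.10.5.7.2 s.10.5.7.1) (R.mk s.10.5.8.2 s.10.5.8.1) s.10.5.9 s.10.5.10 (R.mk s.10.5.11.2 s.10.5.11.1) (R.mk s.10.5.12.2 s.10.5.12.1) (R.mk s.10.5.13.2 s.10.5.13.1) (R.mk s.10.5.14.2 s.10.5.14.1) s.10.5.15 s.10.5.16)
  (@T16.mk R (R.mk s.10.6.1.2 s.10.6.1.1) s.10.6.2 s.10.6.3 (R.mk s.10.6.4.2 s.10.6.4.1) (R.mk s.10.6.5.2 s.10.6.5.1) s.10.6.6 s.10.6.7 (R.mk s.10.6.8.2 s.10.6.8.1) s.10.6.9 (R.mk s.10.6.10.2 s.10.6.10.1) (R.mk s.10.6.11.2 s.10.6.11.1) s.10.6.12 s.10.6.13 (R.mk s.10.6.14.2 s.10.6.14.1) (R.mk s.10.6.15.2 s.10.6.15.1) s.10.6.16)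
  (@T16.mk R s.10.7.1 s.10.7.2 s.10.7.3 s.10.7.4 s.10.7.5 s.10.7.6 s.10.7.7 s.10.7.8 s.10.7.9 s.10.7.10 s.10.7.11 s.10.7.12 s.10.7.13 s.10.7.14 s.10.7.15 s.10.7.16)
  (@T16.mk R (R.mk s.10.8.1.2 s.10.8.1.1) s.10.8.2 s.10.8.3 (R.mk s.10.8.4.2 s.10.8.4.1) (R.mk s.10.8.5.2 s.10.8.5.1) s.10.8.6 s.10.8.7 (R.mk s.10.8.8.2 s.10.8.8.1) s.10.8.9 (R.mk s.10.8.10.2 s.10.8.10.1) (R.mk s.10.8.11.2 s.10.8.11.1) s.10.8.12 s.10.8.13 (R.mk s.10.8.14.2 s.10.8.14.1) (R.mk s.10.8.15.2 s.10.8.15.1) s.10.8.16)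
  (@T16.mk R s.10.9.1 (R.mk s.10.9.2.2 s.10.9.2.1) (R.mk s.10.9.3.2 s.10.9.3.1) s.10.9.4 (R.mk s.10.9.5.2 s.10.9.5.1) s.10.9.6 s.10.9.7 (R.mk s.10.9.8.2 s.10.9.8.1) s.10.9.9 (R.mk s.10.9.10.2 s.10.9.10.1) (R.mk s.10.9.11.2 s.10.9.11.1) s.10.9.12 (R.mk s.10.9.13.2 s.10.9.13.1) s.10.9.14 s.10.9.15 (R.mk s.10.9.16.2 s.10.9.16.1))
  (@T16.mk R s.10.10.1 s.10.10.2 s.10.10.3 s.10.10.4 s.10.10.5 s.10.10.6 s.10.10.7 s.10.10.8 s.10.10.9 s.10.10.10 s.10.10.11 s.10.10.12 s.10.10.13 s.10.10.14 s.10.10.15 s.10.10.16)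
  (@T16.mk R s.10.11.1 s.10.11.2 s.10.11.3 s.10.11.4 s.10.11.5 s.10.11.6 s.10.11.7 s.10.11.8 s.10.11.9 s.10.11.10 s.10.11.11 s.10.11.12 s.10.11.13 s.10.11.14 s.10.11.15 s.10.11.16)
  (@T16.mk R s.10.12.1 s.10.12.2 (R.mk s.10.12.3.2 s.10.12.3.1) (R.mk s.10.12.4.2 s.10.12.4.1) (R.mk s.10.12.5.2 s.10.12.5.1) (R.mk s.10.12.6.2 s.10.12.6.1) s.10.12.7 s.10.12.8 s.10.12.9 s.10.12.10 (R.mk s.10.12.11.2 s.10.12.11.1) (R.mk s.10.12.12.2 s.10.12.12.1) (R.mk s.10.12.13.2 s.10.12.13.1) (R.mk s.10.12.14.2 s.10.12.14.1) s.10.12.15 s.10.12.16)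
  (@T16.mk R (R.mk s.10.13.1.2 s.10.13.1.1) s.10.13.2 (R.mk s.10.13.3.2 s.10.13.3.1) s.10.13.4 s.10.13.5 (R.mk s.10.13.6.2 s.10.13.6.1) s.10.13.7 (R.mk s.10.13.8.2 s.10.13.8.1) s.10.13.9 (R.mk s.10.13.10.2 s.10.13.10.1) s.10.13.11 (R.mk s.10.13.12.2 s.10.13.12.1) (R.mk s.10.13.13.2 s.10.13.13.1) s.10.13.14 (R.mk s.10.13.15.2 s.10.13.15.1) s.10.13.16)
  (@T16.mk R (R.mk s.10.14.1.2 s.10.14.1.1) s.10.14.2 s.10.14.3 (R.mk s.10.14.4.2 s.10.14.4.1) s.10.14.5 (R.mk s.10.14.6.2 s.10.14.6.1) (R.mk s.10.14.7.2 s.10.14.7.1) s.10.14.8 (R.mk s.10.14.9.2 s.10.14.9.1) s.10.14.10 s.10.14.11 (R.mk s.10.14.12.2 s.10.14.12.1) s.10.14.13 (R.mk s.10.14.14.2 s.10.14.14.1) (R.mk s.10.14.15.2 s.10.14.15.1) s.10.14.16)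
  (@T16.mk R (R.mk s.10.15.1.2 s.10.15.1.1) (R.mk s.10.15.2.2 s.10.15.2.1) s.10.15.3 s.10.15.4 s.10.15.5 s.10.15.6 (R.mk s.10.15.7.2 s.10.15.7.1) (R.mk s.10.15.8.2 s.10.15.8.1) s.10.15.9 s.10.15.10 (R.mk s.10.15.11.2 s.10.15.11.1) (R.mk s.10.15.12.2 s.10.15.12.1) (R.mk s.10.15.13.2 s.10.15.13.1) (R.mk s.10.15.14.2 s.10.15.14.1) s.10.15.15 s.10.15.16)
  (@T16.mk R (R.mk s.10.16.1.2 s.10.16.1.1) (R.mk s.10.16.2.2 s.10.16.2.1) s.10.16.3 s.10.16.4 s.10.16.5 s.10.16.6 (R.mk s.10.16.7.2 s.10.16.7.1) (R.mk s.10.16.8.2 s.10.16.8.1) s.10.16.9 s.10.16.10 (R.mk s.10.16.11.2 s.10.16.11.1) (R.mk s.10.16.12.2 s.10.16.12.1) (R.mk s.10.16.13.2 s.10.16.13.1) (R.mk s.10.16.14.2 s.10.16.14.1) s.10.16.15 s.10.16.16)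
 )
 (@T16.mk (T16 R)
  (@T16.mk R (R.mk s.11.1.1.2 s.11.1.1.1) (R.mk s.11.1.2.2 s.11.1.2.1) s.11.1.3 s.11.1.4 s.11.1.5 s.11.1.6 (R.mk s.11.1.7.2 s.11.1.7.1) (R.mk s.11.1.8.2 s.11.1.8.1) s.11.1.9 s.11.1.10 (R.mk s.11.1.11.2 s.11.1.11.1) (R.mk s.11.1.12.2 s.11.1.12.1) (R.mk s.11.1.13.2 s.11.1.13.1) (R.mk s.11.1.14.2 s.11.1.14.1) s.11.1.15 s.11.1.16)
  (@T16.mk R (R.mk s.11.2.1.2 s.11.2.1.1) s.11.2.2 s.11.2.3 (R.mk s.11.2.4.2 s.11.2.4.1) s.11.2.5 (R.mk s.11.2.6.2 s.11.2.6.1) (R.mk s.11.2.7.2 s.11.2.7.1) s.11.2.8 s.11.2.9 (R.mk s.11.2.10.2 s.11.2.10.1) (R.mk s.11.2.11.2 s.11.2.11.1) s.11.2.12 (R.mk s.11.2.13.2 s.11.2.13.1) s.11.2.14 s.11.2.15 (R.mk s.11.2.16.2 s.11.2.16.1))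
  (@T16.mk R s.11.3.1 s.11.3.2 s.11.3.3 s.11.3.4 (R.mk s.11.3.5.2 s.11.3.5.1) (R.mk s.11.3.6.2 s.11.3.6.1) (R.mk s.11.3.7.2 s.11.3.7.1) (R.mk s.11.3.8.2 s.11.3.8.1) s.11.3.9 s.11.3.10 s.11.3.11 s.11.3.12 (R.mk s.11.3.13.2 s.11.3.13.1) (R.mk s.11.3.14.2 s.11.3.14.1) (R.mk s.11.3.15.2 s.11.3.15.1) (R.mk s.11.3.16.2 s.11.3.16.1))
  (@T16.mk R s.11.4.1 (R.mk s.11.4.2.2 s.11.4.2.1) (R.mk s.11.4.3.2 s.11.4.3.1) s.11.4.4 s.11.4.5 (R.mk s.11.4.6.2 s.11.4.6.1) (R.mk s.11.4.7.2 s.11.4.7.1) s.11.4.8 s.11.4.9 (R.mk s.11.4.10.2 s.11.4.10.1) (R.mk s.11.4.11.2 s.11.4.11.1) s.11.4.12 s.11.4.13 (R.mk s.11.4.14.2 s.11.4.14.1) (R.mk s.11.4.15.2 s.11.4.15.1) s.11.4.16)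
  (@T16.mk R (R.mk s.11.5.1.2 s.11.5.1.1) s.11.5.2 (R.mk s.11.5.3.2 s.11.5.3.1) s.11.5.4 s.11.5.5 (R.mk s.11.5.6.2 s.11.5.6.1) s.11.5.7 (R.mk s.11.5.8.2 s.11.5.8.1) (R.mk s.11.5.9.2 s.11.5.9.1) s.11.5.10 (R.mk s.11.5.11.2 s.11.5.11.1) s.11.5.12 s.11.5.13 (R.mk s.11.5.14.2 s.11.5.14.1) s.11.5.15 (R.mk s.11.5.16.2 s.11.5.16.1))
  (@T16.mk R (R.mk s.11.6.1.2 s.11.6.1.1) s.11.6.2 (R.mk s.11.6.3.2 s.11.6.3.1) s.11.6.4 s.11.6.5 (R.mk s.11.6.6.2 s.11.6.6.1) s.11.6.7 (R.mk s.11.6.8.2 s.11.6.8.1) s.11.6.9 (R.mk s.11.6.10.2 s.11.6.10.1) s.11.6.11 (R.mk s.11.6.12.2 s.11.6.12.1) (R.mk s.11.6.13.2 s.11.6.13.1) s.11.6.14 (R.mk s.11.6.15.2 s.11.6.15.1) s.11.6.16)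
  (@T16.mk R (R.mk s.11.7.1.2 s.11.7.1.1) s.11.7.2 s.11.7.3 (R.mk s.11.7.4.2 s.11.7.4.1) s.11.7.5 (R.mk s.11.7.6.2 s.11.7.6.1) (R.mk s.11.7.7.2 s.11.7.7.1) s.11.7.8 s.11.7.9 (R.mk s.11.7.10.2 s.11.7.10.1) (R.mk s.11.7.11.2 s.11.7.11.1) s.11.7.12 (R.mk s.11.7.13.2 s.11.7.13.1) s.11.7.14 s.11.7.15 (R.mk s.11.7.16.2 s.11.7.16.1))
  (@T16.mk R s.11.8.1 s.11.8.2 (R.mk s.11.8.3.2 s.11.8.3.1) (R.mk s.11.8.4.2 s.11.8.4.1) s.11.8.5 s.11.8.6 (R.mk s.11.8.7.2 s.11.8.7.1) (R.mk s.11.8.8.2 s.11.8.8.1) (R.mk s.11.8.9.2 s.11.8.9.1) (R.mk s.11.8.10.2 s.11.8.10.1) s.11.8.11 s.11.8.12 (R.mk s.11.8.13.2 s.11.8.13.1) (R.mk s.11.8.14.2 s.11.8.14.1) s.11.8.15 s.11.8.16)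
  (@T16.mk R (R.mk s.11.9.1.2 s.11.9.1.1) s.11.9.2 s.11.9.3 (R.mk s.11.9.4.2 s.11.9.4.1) s.11.9.5 (R.mk s.11.9.6.2 s.11.9.6.1) (R.mk s.11.9.7.2 s.11.9.7.1) s.11.9.8 (R.mk s.11.9.9.2 s.11.9.9.1) s.11.9.10 s.11.9.11 (R.mk s.11.9.12.2 s.11.9.12.1) s.11.9.13 (R.mk s.11.9.14.2 s.11.9.14.1) (R.mk s.11.9.15.2 s.11.9.15.1) s.11.9.16)
  (@T16.mk R (R.mk s.11.10.1.2 s.11.10.1.1) s.11.10.2 (R.mk s.11.10.3.2 s.11.10.3.1) s.11.10.4 s.11.10.5 (R.mk s.11.10.6.2 s.11.10.6.1) s.11.10.7 (R.mk s.11.10.8.2 s.11.10.8.1) (R.mk s.11.10.9.2 s.11.10.9.1) s.11.10.10 (R.mk s.11.10.11.2 s.11.10.11.1) s.11.10.12 s.11.10.13 (R.mk s.11.10.14.2 s.11.10.14.1) s.11.10.15 (R.mk s.11.10.16.2 s.11.10.16.1))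
  (@T16.mk R (R.mk s.11.11.1.2 s.11.11.1.1) (R.mk s.11.11.2.2 s.11.11.2.1) (R.mk s.11.11.3.2 s.11.11.3.1) (R.mk s.11.11.4.2 s.11.11.4.1) s.11.11.5 s.11.11.6 s.11.11.7 s.11.11.8 s.11.11.9 s.11.11.10 s.11.11.11 s.11.11.12 (R.mk s.11.11.13.2 s.11.11.13.1) (R.mk s.11.11.14.2 s.11.11.14.1) (R.mk s.11.11.15.2 s.11.11.15.1) (R.mk s.11.11.16.2 s.11.11.16.1))
  (@T16.mk R (R.mk s.11.12.1.2 s.11.12.1.1) s.11.12.2 s.11.12.3 (R.mk s.11.12.4.2 s.11.12.4.1) s.11.12.5 (R.mk s.11.12.6.2 s.11.12.6.1) (R.mk s.11.12.7.2 s.11.12.7.1) s.11.12.8 s.11.12.9 (R.mk s.11.12.10.2 s.11.12.10.1) (R.mk s.11.12.11.2 s.11.12.11.1) s.11.12.12 (R.mk s.11.12.13.2 s.11.12.13.1) s.11.12.14 s.11.12.15 (R.mk s.11.12.16.2 s.11.12.16.1))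
  (@T16.mk R (R.mk s.11.13.1.2 s.11.13.1.1) s.11.13.2 (R.mk s.11.13.3.2 s.11.13.3.1) s.11.13.4 (R.mk s.11.13.5.2 s.11.13.5.1) s.11.13.6 (R.mk s.11.13.7.2 s.11.13.7.1) s.11.13.8 (R.mk s.11.13.9.2 s.11.13.9.1) s.11.13.10 (R.mk s.11.13.11.2 s.11.13.11.1) s.11.13.12 (R.mk s.11.13.13.2 s.11.13.13.1) s.11.13.14 (R.mk s.11.13.15.2 s.11.13.15.1) s.11.13.16)
  (@T16.mk R s.11.14.1 (R.mk s.11.14.2.2 s.11.14.2.1) (R.mk s.11.14.3.2 s.11.14.3.1) s.11.14.4 s.11.14.5 (R.mk s.11.14.6.2 s.11.14.6.1) (R.mk s.11.14.7.2 s.11.14.7.1) s.11.14.8 s.11.14.9 (R.mk s.11.14.10.2 s.11.14.10.1) (R.mk s.11.14.11.2 s.11.14.11.1) s.11.14.12 s.11.14.13 (R.mk s.11.14.14.2 s.11.14.14.1) (R.mk s.11.14.15.2 s.11.14.15.1) s.11.14.16)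
  (@T16.mk R (R.mk s.11.15.1.2 s.11.15.1.1) (R.mk s.11.15.2.2 s.11.15.2.1) s.11.15.3 s.11.15.4 s.11.15.5 s.11.15.6 (R.mk s.11.15.7.2 s.11.15.7.1) (R.mk s.11.15.8.2 s.11.15.8.1) s.11.15.9 s.11.15.10 (R.mk s.11.15.11.2 s.11.15.11.1) (R.mk s.11.15.12.2 s.11.15.12.1) (R.mk s.11.15.13.2 s.11.15.13.1) (R.mk s.11.15.14.2 s.11.15.14.1) s.11.15.15 s.11.15.16)
  (@T16.mk R (R.mk s.11.16.1.2 s.11.16.1.1) (R.mk s.11.16.2.2 s.11.16.2.1) (R.mk s.11.16.3.2 s.11.16.3.1) (R.mk s.11.16.4.2 s.11.16.4.1) (R.mk s.11.16.5.2 s.11.16.5.1) (R.mk s.11.16.6.2 s.11.16.6.1) (R.mk s.11.16.7.2 s.11.16.7.1) (R.mk s.11.16.8.2 s.11.16.8.1) s.11.16.9 s.11.16.10 s.11.16.11 s.11.16.12 s.11.16.13 s.11.16.14 s.11.16.15 s.11.16.16)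
 )
 (@T16.mk (T16 R)
  (@T16.mk R s.12.1.1 (R.mk s.12.1.2.2 s.12.1.2.1) (R.mk s.12.1.3.2 s.12.1.3.1) s.12.1.4 s.12.1.5 (R.mk s.12.1.6.2 s.12.1.6.1) (R.mk s.12.1.7.2 s.12.1.7.1) s.12.1.8 s.12.1.9 (R.mk s.12.1.10.2 s.12.1.10.1) (R.mk s.12.1.11.2 s.12.1.11.1) s.12.1.12 s.12.1.13 (R.mk s.12.1.14.2 s.12.1.14.1) (R.mk s.12.1.15.2 s.12.1.15.1) s.12.1.16)
  (@T16.mk R s.12.2.1 (R.mk s.12.2.2.2 s.12.2.2.1) s.12.2.3 (R.mk s.12.2.4.2 s.12.2.4.1) (R.mk s.12.2.5.2 s.12.2.5.1) s.12.2.6 (R.mk s.12.2.7.2 s.12.2.7.1) s.12.2.8 (R.mk s.12.2.9.2 s.12.2.9.1) s.12.2.10 (R.mk s.12.2.11.2 s.12.2.11.1) s.12.2.12 s.12.2.13 (R.mk s.12.2.14.2 s.12.2.14.1) s.12.2.15 (R.mk s.12.2.16.2 s.12.2.16.1))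
  (@T16.mk R (R.mk s.12.3.1.2 s.12.3.1.1) (R.mk s.12.3.2.2 s.12.3.2.1) s.12.3.3 s.12.3.4 s.12.3.5 s.12.3.6 (R.mk s.12.3.7.2 s.12.3.7.1) (R.mk s.12.3.8.2 s.12.3.8.1) s.12.3.9 s.12.3.10 (R.mk s.12.3.11.2 s.12.3.11.1) (R.mk s.12.3.12.2 s.12.3.12.1) (R.mk s.12.3.13.2 s.12.3.13.1) (R.mk s.12.3.14.2 s.12.3.14.1) s.12.3.15 s.12.3.16)
  (@T16.mk R (R.mk s.12.4.1.2 s.12.4.1.1) s.12.4.2 (R.mk s.12.4.3.2 s.12.4.3.1) s.12.4.4 s.12.4.5 (R.mk s.12.4.6.2 s.12.4.6.1) s.12.4.7 (R.mk s.12.4.8.2 s.12.4.8.1) (R.mk s.12.4.9.2 s.12.4.9.1) s.12.4.10 (R.mk s.12.4.11.2 s.12.4.11.1) s.12.4.12 s.12.4.13 (R.mk s.12.4.14.2 s.12.4.14.1) s.12.4.15 (R.mk s.12.4.16.2 s.12.4.16.1))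
  (@T16.mk R (R.mk s.12.5.1.2 s.12.5.1.1) (R.mk s.12.5.2.2 s.12.5.2.1) s.12.5.3 s.12.5.4 s.12.5.5 s.12.5.6 (R.mk s.12.5.7.2 s.12.5.7.1) (R.mk s.12.5.8.2 s.12.5.8.1) s.12.5.9 s.12.5.10 (R.mk s.12.5.11.2 s.12.5.11.1) (R.mk s.12.5.12.2 s.12.5.12.1) (R.mk s.12.5.13.2 s.12.5.13.1) (R.mk s.12.5.14.2 s.12.5.14.1) s.12.5.15 s.12.5.16)
  (@T16.mk R (R.mk s.12.6.1.2 s.12.6.1.1) s.12.6.2 (R.mk s.12.6.3.2 s.12.6.3.1) s.12.6.4 (R.mk s.12.6.5.2 s.12.6.5.1) s.12.6.6 (R.mk s.12.6.7.2 s.12.6.7.1) s.12.6.8 (R.mk s.12.6.9.2 s.12.6.9.1) s.12.6.10 (R.mk s.12.6.11.2 s.12.6.11.1) s.12.6.12 (R.mk s.12.6.13.2 s.12.6.13.1) s.12.6.14 (R.mk s.12.6.15.2 s.12.6.15.1) s.12.6.16)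
  (@T16.mk R s.12.7.1 (R.mk s.12.7.2.2 s.12.7.2.1) (R.mk s.12.7.3.2 s.12.7.3.1) s.12.7.4 (R.mk s.12.7.5.2 s.12.7.5.1) s.12.7.6 s.12.7.7 (R.mk s.12.7.8.2 s.12.7.8.1) s.12.7.9 (R.mk s.12.7.10.2 s.12.7.10.1) (R.mk s.12.7.11.2 s.12.7.11.1) s.12.7.12 (R.mk s.12.7.13.2 s.12.7.13.1) s.12.7.14 s.12.7.15 (R.mk s.12.7.16.2 s.12.7.16.1))
  (@T16.mk R (R.mk s.12.8.1.2 s.12.8.1.1) s.12.8.2 s.12.8.3 (R.mk s.12.8.4.2 s.12.8.4.1) (R.mk s.12.8.5.2 s.12.8.5.1) s.12.8.6 s.12.8.7 (R.mk s.12.8.8.2 s.12.8.8.1) (R.mk s.12.8.9.2 s.12.8.9.1) s.12.8.10 s.12.8.11 (R.mk s.12.8.12.2 s.12.8.12.1) (R.mk s.12.8.13.2 s.12.8.13.1) s.12.8.14 s.12.8.15 (R.mk s.12.8.16.2 s.12.8.16.1))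
  (@T16.mk R (R.mk s.12.9.1.2 s.12.9.1.1) (R.mk s.12.9.2.2 s.12.9.2.1) (R.mk s.12.9.3.2 s.12.9.3.1) (R.mk s.12.9.4.2 s.12.9.4.1) s.12.9.5 s.12.9.6 s.12.9.7 s.12.9.8 s.12.9.9 s.12.9.10 s.12.9.11 s.12.9.12 (R.mk s.12.9.13.2 s.12.9.13.1) (R.mk s.12.9.14.2 s.12.9.14.1) (R.mk s.12.9.15.2 s.12.9.15.1) (R.mk s.12.9.16.2 s.12.9.16.1))
  (@T16.mk R (R.mk s.12.10.1.2 s.12.10.1.1) s.12.10.2 (R.mk s.12.10.3.2 s.12.10.3.1) s.12.10.4 (R.mk s.12.10.5.2 s.12.10.5.1) s.12.10.6 (R.mk s.12.10.7.2 s.12.10.7.1) s.12.10.8 (R.mk s.12.10.9.2 s.12.10.9.1) s.12.10.10 (R.mk s.12.10.11.2 s.12.10.11.1) s.12.10.12 (R.mk s.12.10.13.2 s.12.10.13.1) s.12.10.14 (R.mk s.12.10.15.2 s.12.10.15.1) s.12.10.16)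
  (@T16.mk R (R.mk s.12.11.1.2 s.12.11.1.1) s.12.11.2 s.12.11.3 (R.mk s.12.11.4.2 s.12.11.4.1) s.12.11.5 (R.mk s.12.11.6.2 s.12.11.6.1) (R.mk s.12.11.7.2 s.12.11.7.1) s.12.11.8 s.12.11.9 (R.mk s.12.11.10.2 s.12.11.10.1) (R.mk s.12.11.11.2 s.12.11.11.1) s.12.11.12 (R.mk s.12.11.13.2 s.12.11.13.1) s.12.11.14 s.12.11.15 (R.mk s.12.11.16.2 s.12.11.16.1))
  (@T16.mk R (R.mk s.12.12.1.2 s.12.12.1.1) s.12.12.2 (R.mk s.12.12.3.2 s.12.12.3.1) s.12.12.4 s.12.12.5 (R.mk s.12.12.6.2 s.12.12.6.1) s.12.12.7 (R.mk s.12.12.8.2 s.12.12.8.1) (R.mk s.12.12.9.2 s.12.12.9.1) s.12.12.10 (R.mk s.12.12.11.2 s.12.12.11.1) s.12.12.12 s.12.12.13 (R.mk s.12.12.14.2 s.12.12.14.1) s.12.12.15 (R.mk s.12.12.16.2 s.12.12.16.1))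
  (@T16.mk R s.12.13.1 s.12.13.2 (R.mk s.12.13.3.2 s.12.13.3.1) (R.mk s.12.13.4.2 s.12.13.4.1) (R.mk s.12.13.5.2 s.12.13.5.1) (R.mk s.12.13.6.2 s.12.13.6.1) s.12.13.7 s.12.13.8 (R.mk s.12.13.9.2 s.12.13.9.1) (R.mk s.12.13.10.2 s.12.13.10.1) s.12.13.11 s.12.13.12 s.12.13.13 s.12.13.14 (R.mk s.12.13.15.2 s.12.13.15.1) (R.mk s.12.13.16.2 s.12.13.16.1))
  (@T16.mk R (R.mk s.12.14.1.2 s.12.14.1.1) (R.mk s.12.14.2.2 s.12.14.2.1) s.12.14.3 s.12.14.4 s.12.14.5 s.12.14.6 (R.mk s.12.14.7.2 s.12.14.7.1) (R.mk s.12.14.8.2 s.12.14.8.1) s.12.14.9 s.12.14.10 (R.mk s.12.14.11.2 s.12.14.11.1) (R.mk s.12.14.12.2 s.12.14.12.1) (R.mk s.12.14.13.2 s.12.14.13.1) (R.mk s.12.14.14.2 s.12.14.14.1) s.12.14.15 s.12.14.16)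
  (@T16.mk R (R.mk s.12.15.1.2 s.12.15.1.1) (R.mk s.12.15.2.2 s.12.15.2.1) (R.mk s.12.15.3.2 s.12.15.3.1) (R.mk s.12.15.4.2 s.12.15.4.1) s.12.15.5 s.12.15.6 s.12.15.7 s.12.15.8 s.12.15.9 s.12.15.10 s.12.15.11 s.12.15.12 (R.mk s.12.15.13.2 s.12.15.13.1) (R.mk s.12.15.14.2 s.12.15.14.1) (R.mk s.12.15.15.2 s.12.15.15.1) (R.mk s.12.15.16.2 s.12.15.16.1))
  (@T16.mk R s.12.16.1 (R.mk s.12.16.2.2 s.12.16.2.1) (R.mk s.12.16.3.2 s.12.16.3.1) s.12.16.4 s.12.16.5 (R.mk s.12.16.6.2 s.12.16.6.1) (R.mk s.12.16.7.2 s.12.16.7.1) s.12.16.8 (R.mk s.12.16.9.2 s.12.16.9.1) s.12.16.10 s.12.16.11 (R.mk s.12.16.12.2 s.12.16.12.1) (R.mk s.12.16.13.2 s.12.16.13.1) s.12.16.14 s.12.16.15 (R.mk s.12.16.16.2 s.12.16.16.1))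
 )
 (@T16.mk (T16 R)
  (@T16.mk R s.13.1.1 s.13.1.2 (R.mk s.13.1.3.2 s.13.1.3.1) (R.mk s.13.1.4.2 s.13.1.4.1) (R.mk s.13.1.5.2 s.13.1.5.1) (R.mk s.13.1.6.2 s.13.1.6.1) s.13.1.7 s.13.1.8 (R.mk s.13.1.9.2 s.13.1.9.1) (R.mk s.13.1.10.2 s.13.1.10.1) s.13.1.11 s.13.1.12 s.13.1.13 s.13.1.14 (R.mk s.13.1.15.2 s.13.1.15.1) (R.mk s.13.1.16.2 s.13.1.16.1))
  (@T16.mk R (R.mk s.13.2.1.2 s.13.2.1.1) s.13.2.2 (R.mk s.13.2.3.2 s.13.2.3.1) s.13.2.4 s.13.2.5 (R.mk s.13.2.6.2 s.13.2.6.1) s.13.2.7 (R.mk s.13.2.8.2 s.13.2.8.1) s.13.2.9 (R.mk s.13.2.10.2 s.13.2.10.1) s.13.2.11 (R.mk s.13.2.12.2 s.13.2.12.1) (R.mk s.13.2.13.2 s.13.2.13.1) s.13.2.14 (R.mk s.13.2.15.2 s.13.2.15.1) s.13.2.16)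
  (@T16.mk R (R.mk s.13.3.1.2 s.13.3.1.1) s.13.3.2 s.13.3.3 (R.mk s.13.3.4.2 s.13.3.4.1) (R.mk s.13.3.5.2 s.13.3.5.1) s.13.3.6 s.13.3.7 (R.mk s.13.3.8.2 s.13.3.8.1) (R.mk s.13.3.9.2 s.13.3.9.1) s.13.3.10 s.13.3.11 (R.mk s.13.3.12.2 s.13.3.12.1) (R.mk s.13.3.13.2 s.13.3.13.1) s.13.3.14 s.13.3.15 (R.mk s.13.3.16.2 s.13.3.16.1))
  (@T16.mk R (R.mk s.13.4.1.2 s.13.4.1.1) s.13.4.2 (R.mk s.13.4.3.2 s.13.4.3.1) s.13.4.4 s.13.4.5 (R.mk s.13.4.6.2 s.13.4.6.1) s.13.4.7 (R.mk s.13.4.8.2 s.13.4.8.1) s.13.4.9 (R.mk s.13.4.10.2 s.13.4.10.1) s.13.4.11 (R.mk s.13.4.12.2 s.13.4.12.1) (R.mk s.13.4.13.2 s.13.4.13.1) s.13.4.14 (R.mk s.13.4.15.2 s.13.4.15.1) s.13.4.16)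
  (@T16.mk R s.13.5.1 s.13.5.2 s.13.5.3 s.13.5.4 (R.mk s.13.5.5.2 s.13.5.5.1) (R.mk s.13.5.6.2 s.13.5.6.1) (R.mk s.13.5.7.2 s.13.5.7.1) (R.mk s.13.5.8.2 s.13.5.8.1) s.13.5.9 s.13.5.10 s.13.5.11 s.13.5.12 (R.mk s.13.5.13.2 s.13.5.13.1) (R.mk s.13.5.14.2 s.13.5.14.1) (R.mk s.13.5.15.2 s.13.5.15.1) (R.mk s.13.5.16.2 s.13.5.16.1))
  (@T16.mk R (R.mk s.13.6.1.2 s.13.6.1.1) s.13.6.2 (R.mk s.13.6.3.2 s.13.6.3.1) s.13.6.4 (R.mk s.13.6.5.2 s.13.6.5.1) s.13.6.6 (R.mk s.13.6.7.2 s.13.6.7.1) s.13.6.8 (R.mk s.13.6.9.2 s.13.6.9.1) s.13.6.10 (R.mk s.13.6.11.2 s.13.6.11.1) s.13.6.12 (R.mk s.13.6.13.2 s.13.6.13.1) s.13.6.14 (R.mk s.13.6.15.2 s.13.6.15.1) s.13.6.16)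
  (@T16.mk R (R.mk s.13.7.1.2 s.13.7.1.1) s.13.7.2 s.13.7.3 (R.mk s.13.7.4.2 s.13.7.4.1) (R.mk s.13.7.5.2 s.13.7.5.1) s.13.7.6 s.13.7.7 (R.mk s.13.7.8.2 s.13.7.8.1) s.13.7.9 (R.mk s.13.7.10.2 s.13.7.10.1) (R.mk s.13.7.11.2 s.13.7.11.1) s.13.7.12 s.13.7.13 (R.mk s.13.7.14.2 s.13.7.14.1) (R.mk s.13.7.15.2 s.13.7.15.1) s.13.7.16)
  (@T16.mk R (R.mk s.13.8.1.2 s.13.8.1.1) s.13.8.2 s.13.8.3 (R.mk s.13.8.4.2 s.13.8.4.1) (R.mk s.13.8.5.2 s.13.8.5.1) s.13.8.6 s.13.8.7 (R.mk s.13.8.8.2 s.13.8.8.1) (R.mk s.13.8.9.2 s.13.8.9.1) s.13.8.10 s.13.8.11 (R.mk s.13.8.12.2 s.13.8.12.1) (R.mk s.13.8.13.2 s.13.8.13.1) s.13.8.14 s.13.8.15 (R.mk s.13.8.16.2 s.13.8.16.1))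
  (@T16.mk R (R.mk s.13.9.1.2 s.13.9.1.1) s.13.9.2 s.13.9.3 (R.mk s.13.9.4.2 s.13.9.4.1) (R.mk s.13.9.5.2 s.13.9.5.1) s.13.9.6 s.13.9.7 (R.mk s.13.9.8.2 s.13.9.8.1) (R.mk s.13.9.9.2 s.13.9.9.1) s.13.9.10 s.13.9.11 (R.mk s.13.9.12.2 s.13.9.12.1) (R.mk s.13.9.13.2 s.13.9.13.1) s.13.9.14 s.13.9.15 (R.mk s.13.9.16.2 s.13.9.16.1))
  (@T16.mk R (R.mk s.13.10.1.2 s.13.10.1.1) s.13.10.2 s.13.10.3 (R.mk s.13.10.4.2 s.13.10.4.1) (R.mk s.13.10.5.2 s.13.10.5.1) s.13.10.6 s.13.10.7 (R.mk s.13.10.8.2 s.13.10.8.1) s.13.10.9 (R.mk s.13.10.10.2 s.13.10.10.1) (R.mk s.13.10.11.2 s.13.10.11.1) s.13.10.12 s.13.10.13 (R.mk s.13.10.14.2 s.13.10.14.1) (R.mk s.13.10.15.2 s.13.10.15.1) s.13.10.16)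
  (@T16.mk R (R.mk s.13.11.1.2 s.13.11.1.1) s.13.11.2 (R.mk s.13.11.3.2 s.13.11.3.1) s.13.11.4 (R.mk s.13.11.5.2 s.13.11.5.1) s.13.11.6 (R.mk s.13.11.7.2 s.13.11.7.1) s.13.11.8 (R.mk s.13.11.9.2 s.13.11.9.1) s.13.11.10 (R.mk s.13.11.11.2 s.13.11.11.1) s.13.11.12 (R.mk s.13.11.13.2 s.13.11.13.1) s.13.11.14 (R.mk s.13.11.15.2 s.13.11.15.1) s.13.11.16)
  (@T16.mk R s.13.12.1 (R.mk s.13.12.2.2 s.13.12.2.1) (R.mk s.13.12.3.2 s.13.12.3.1) s.13.12.4 (R.mk s.13.12.5.2 s.13.12.5.1) s.13.12.6 s.13.12.7 (R.mk s.13.12.8.2 s.13.12.8.1) s.13.12.9 (R.mk s.13.12.10.2 s.13.12.10.1) (R.mk s.13.12.11.2 s.13.12.11.1) s.13.12.12 (R.mk s.13.12.13.2 s.13.12.13.1) s.13.12.14 s.13.12.15 (R.mk s.13.12.16.2 s.13.12.16.1))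
  (@T16.mk R (R.mk s.13.13.1.2 s.13.13.1.1) (R.mk s.13.13.2.2 s.13.13.2.1) (R.mk s.13.13.3.2 s.13.13.3.1) (R.mk s.13.13.4.2 s.13.13.4.1) s.13.13.5 s.13.13.6 s.13.13.7 s.13.13.8 s.13.13.9 s.13.13.10 s.13.13.11 s.13.13.12 (R.mk s.13.13.13.2 s.13.13.13.1) (R.mk s.13.13.14.2 s.13.13.14.1) (R.mk s.13.13.15.2 s.13.13.15.1) (R.mk s.13.13.16.2 s.13.13.16.1))
  (@T16.mk R s.13.14.1 (R.mk s.13.14.2.2 s.13.14.2.1) (R.mk s.13.14.3.2 s.13.14.3.1) (R.mk s.13.14.4.2 s.13.14.4.1) s.13.14.5 (R.mk s.13.14.6.2 s.13.14.6.1) (R.mk s.13.14.7.2 s.13.14.7.1) (R.mk s.13.14.8.2 s.13.14.8.1) (R.mk s.13.14.9.2 s.13.14.9.1) (R.mk s.13.14.10.2 s.13.14.10.1) s.13.14.11 (R.mk s.13.14.12.2 s.13.14.12.1) s.13.14.13 s.13.14.14 (R.mk s.13.14.15.2 s.13.14.15.1) s.13.14.16)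
  (@T16.mk R (R.mk s.13.15.1.2 s.13.15.1.1) s.13.15.2 (R.mk s.13.15.3.2 s.13.15.3.1) (R.mk s.13.15.4.2 s.13.15.4.1) (R.mk s.13.15.5.2 s.13.15.5.1) s.13.15.6 (R.mk s.13.15.7.2 s.13.15.7.1) (R.mk s.13.15.8.2 s.13.15.8.1) (R.mk s.13.15.9.2 s.13.15.9.1) (R.mk s.13.15.10.2 s.13.15.10.1) (R.mk s.13.15.11.2 s.13.15.11.1) s.13.15.12 s.13.15.13 s.13.15.14 s.13.15.15 (R.mk s.13.15.16.2 s.13.15.16.1))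
  (@T16.mk R (R.mk s.13.16.1.2 s.13.16.1.1) (R.mk s.13.16.2.2 s.13.16.2.1) s.13.16.3 (R.mk s.13.16.4.2 s.13.16.4.1) (R.mk s.13.16.5.2 s.13.16.5.1) (R.mk s.13.16.6.2 s.13.16.6.1) s.13.16.7 (R.mk s.13.16.8.2 s.13.16.8.1) s.13.16.9 (R.mk s.13.16.10.2 s.13.16.10.1) (R.mk s.13.16.11.2 s.13.16.11.1) (R.mk s.13.16.12.2 s.13.16.12.1) (R.mk s.13.16.13.2 s.13.16.13.1) s.13.16.14 s.13.16.15 s.13.16.16)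
 )
 (@T16.mk (T16 R)
  (@T16.mk R (R.mk s.14.1.1.2 s.14.1.1.1) (R.mk s.14.1.2.2 s.14.1.2.1) (R.mk s.14.1.3.2 s.14.1.3.1) s.14.1.4 (R.mk s.14.1.5.2 s.14.1.5.1) (R.mk s.14.1.6.2 s.14.1.6.1) (R.mk s.14.1.7.2 s.14.1.7.1) s.14.1.8 (R.mk s.14.1.9.2 s.14.1.9.1) s.14.1.10 (R.mk s.14.1.11.2 s.14.1.11.1) (R.mk s.14.1.12.2 s.14.1.12.1) s.14.1.13 (R.mk s.14.1.14.2 s.14.1.14.1) s.14.1.15 s.14.1.16)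
  (@T16.mk R (R.mk s.14.2.1.2 s.14.2.1.1) s.14.2.2 (R.mk s.14.2.3.2 s.14.2.3.1) (R.mk s.14.2.4.2 s.14.2.4.1) (R.mk s.14.2.5.2 s.14.2.5.1) s.14.2.6 (R.mk s.14.2.7.2 s.14.2.7.1) (R.mk s.14.2.8.2 s.14.2.8.1) (R.mk s.14.2.9.2 s.14.2.9.1) (R.mk s.14.2.10.2 s.14.2.10.1) (R.mk s.14.2.11.2 s.14.2.11.1) s.14.2.12 s.14.2.13 s.14.2.14 s.14.2.15 (R.mk s.14.2.16.2 s.14.2.16.1))
  (@T16.mk R s.14.3.1 (R.mk s.14.3.2.2 s.14.3.2.1) (R.mk s.14.3.3.2 s.14.3.3.1) (R.mk s.14.3.4.2 s.14.3.4.1) s.14.3.5 (R.mk s.14.3.6.2 s.14.3.6.1) (R.mk s.14.3.7.2 s.14.3.7.1) (R.mk s.14.3.8.2 s.14.3.8.1) (R.mk s.14.3.9.2 s.14.3.9.1) (R.mk s.14.3.10.2 s.14.3.10.1) s.14.3.11 (R.mk s.14.3.12.2 s.14.3.12.1) s.14.3.13 s.14.3.14 (R.mk s.14.3.15.2 s.14.3.15.1) s.14.3.16)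
  (@T16.mk R (R.mk s.14.4.1.2 s.14.4.1.1) (R.mk s.14.4.2.2 s.14.4.2.1) (R.mk s.14.4.3.2 s.14.4.3.1) s.14.4.4 (R.mk s.14.4.5.2 s.14.4.5.1) (R.mk s.14.4.6.2 s.14.4.6.1) (R.mk s.14.4.7.2 s.14.4.7.1) s.14.4.8 (R.mk s.14.4.9.2 s.14.4.9.1) s.14.4.10 (R.mk s.14.4.11.2 s.14.4.11.1) (R.mk s.14.4.12.2 s.14.4.12.1) s.14.4.13 (R.mk s.14.4.14.2 s.14.4.14.1) s.14.4.15 s.14.4.16)
  (@T16.mk R (R.mk s.14.5.1.2 s.14.5.1.1) (R.mk s.14.5.2.2 s.14.5.2.1) s.14.5.3 (R.mk s.14.5.4.2 s.14.5.4.1) (R.mk s.14.5.5.2 s.14.5.5.1) (R.mk s.14.5.6.2 s.14.5.6.1) s.14.5.7 (R.mk s.14.5.8.2 s.14.5.8.1) s.14.5.9 (R.mk s.14.5.10.2 s.14.5.10.1) (R.mk s.14.5.11.2 s.14.5.11.1) (R.mk s.14.5.12.2 s.14.5.12.1) (R.mk s.14.5.13.2 s.14.5.13.1) s.14.5.14 s.14.5.15 s.14.5.16)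
  (@T16.mk R (R.mk s.14.6.1.2 s.14.6.1.1) (R.mk s.14.6.2.2 s.14.6.2.1) (R.mk s.14.6.3.2 s.14.6.3.1) s.14.6.4 s.14.6.5 s.14.6.6 s.14.6.7 (R.mk s.14.6.8.2 s.14.6.8.1) (R.mk s.14.6.9.2 s.14.6.9.1) s.14.6.10 (R.mk s.14.6.11.2 s.14.6.11.1) (R.mk s.14.6.12.2 s.14.6.12.1) (R.mk s.14.6.13.2 s.14.6.13.1) s.14.6.14 (R.mk s.14.6.15.2 s.14.6.15.1) (R.mk s.14.6.16.2 s.14.6.16.1))
  (@T16.mk R (R.mk s.14.7.1.2 s.14.7.1.1) (R.mk s.14.7.2.2 s.14.7.2.1) s.14.7.3 (R.mk s.14.7.4.2 s.14.7.4.1) s.14.7.5 s.14.7.6 (R.mk s.14.7.7.2 s.14.7.7.1) s.14.7.8 s.14.7.9 (R.mk s.14.7.10.2 s.14.7.10.1) (R.mk s.14.7.11.2 s.14.7.11.1) (R.mk s.14.7.12.2 s.14.7.12.1) s.14.7.13 (R.mk s.14.7.14.2 s.14.7.14.1) (R.mk s.14.7.15.2 s.14.7.15.1) (R.mk s.14.7.16.2 s.14.7.16.1))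
  (@T16.mk R (R.mk s.14.8.1.2 s.14.8.1.1) s.14.8.2 (R.mk s.14.8.3.2 s.14.8.3.1) (R.mk s.14.8.4.2 s.14.8.4.1) s.14.8.5 (R.mk s.14.8.6.2 s.14.8.6.1) s.14.8.7 s.14.8.8 (R.mk s.14.8.9.2 s.14.8.9.1) (R.mk s.14.8.10.2 s.14.8.10.1) (R.mk s.14.8.11.2 s.14.8.11.1) s.14.8.12 (R.mk s.14.8.13.2 s.14.8.13.1) (R.mk s.14.8.14.2 s.14.8.14.1) (R.mk s.14.8.15.2 s.14.8.15.1) s.14.8.16)
  (@T16.mk R s.14.9.1 (R.mk s.14.9.2.2 s.14.9.2.1) (R.mk s.14.9.3.2 s.14.9.3.1) (R.mk s.14.9.4.2 s.14.9.4.1) (R.mk s.14.9.5.2 s.14.9.5.1) s.14.9.6 s.14.9.7 s.14.9.8 (R.mk s.14.9.9.2 s.14.9.9.1) (R.mk s.14.9.10.2 s.14.9.10.1) s.14.9.11 (R.mk s.14.9.12.2 s.14.9.12.1) (R.mk s.14.9.13.2 s.14.9.13.1) (R.mk s.14.9.14.2 s.14.9.14.1) s.14.9.15 (R.mk s.14.9.16.2 s.14.9.16.1))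
  (@T16.mk R (R.mk s.14.10.1.2 s.14.10.1.1) (R.mk s.14.10.2.2 s.14.10.2.1) s.14.10.3 (R.mk s.14.10.4.2 s.14.10.4.1) s.14.10.5 s.14.10.6 (R.mk s.14.10.7.2 s.14.10.7.1) s.14.10.8 s.14.10.9 (R.mk s.14.10.10.2 s.14.10.10.1) (R.mk s.14.10.11.2 s.14.10.11.1) (R.mk s.14.10.12.2 s.14.10.12.1) s.14.10.13 (R.mk s.14.10.14.2 s.14.10.14.1) (R.mk s.14.10.15.2 s.14.10.15.1) (R.mk s.14.10.16.2 s.14.10.16.1))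
  (@T16.mk R (R.mk s.14.11.1.2 s.14.11.1.1) (R.mk s.14.11.2.2 s.14.11.2.1) (R.mk s.14.11.3.2 s.14.11.3.1) s.14.11.4 s.14.11.5 s.14.11.6 s.14.11.7 (R.mk s.14.11.8.2 s.14.11.8.1) (R.mk s.14.11.9.2 s.14.11.9.1) s.14.11.10 (R.mk s.14.11.11.2 s.14.11.11.1) (R.mk s.14.11.12.2 s.14.11.12.1) (R.mk s.14.11.13.2 s.14.11.13.1) s.14.11.14 (R.mk s.14.11.15.2 s.14.11.15.1) (R.mk s.14.11.16.2 s.14.11.16.1))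
  (@T16.mk R s.14.12.1 (R.mk s.14.12.2.2 s.14.12.2.1) (R.mk s.14.12.3.2 s.14.12.3.1) (R.mk s.14.12.4.2 s.14.12.4.1) (R.mk s.14.12.5.2 s.14.12.5.1) s.14.12.6 s.14.12.7 s.14.12.8 (R.mk s.14.12.9.2 s.14.12.9.1) (R.mk s.14.12.10.2 s.14.12.10.1) s.14.12.11 (R.mk s.14.12.12.2 s.14.12.12.1) (R.mk s.14.12.13.2 s.14.12.13.1) (R.mk s.14.12.14.2 s.14.12.14.1) s.14.12.15 (R.mk s.14.12.16.2 s.14.12.16.1))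
  (@T16.mk R (R.mk s.14.13.1.2 s.14.13.1.1) s.14.13.2 (R.mk s.14.13.3.2 s.14.13.3.1) (R.mk s.14.13.4.2 s.14.13.4.1) s.14.13.5 (R.mk s.14.13.6.2 s.14.13.6.1) s.14.13.7 s.14.13.8 (R.mk s.14.13.9.2 s.14.13.9.1) (R.mk s.14.13.10.2 s.14.13.10.1) (R.mk s.14.13.11.2 s.14.13.11.1) s.14.13.12 (R.mk s.14.13.13.2 s.14.13.13.1) (R.mk s.14.13.14.2 s.14.13.14.1) (R.mk s.14.13.15.2 s.14.13.15.1) s.14.13.16)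
  (@T16.mk R s.14.14.1 s.14.14.2 s.14.14.3 (R.mk s.14.14.4.2 s.14.14.4.1) s.14.14.5 s.14.14.6 s.14.14.7 (R.mk s.14.14.8.2 s.14.14.8.1) (R.mk s.14.14.9.2 s.14.14.9.1) s.14.14.10 (R.mk s.14.14.11.2 s.14.14.11.1) (R.mk s.14.14.12.2 s.14.14.12.1) s.14.14.13 (R.mk s.14.14.14.2 s.14.14.14.1) s.14.14.15 s.14.14.16)
  (@T16.mk R s.14.15.1 s.14.15.2 (R.mk s.14.15.3.2 s.14.15.3.1) s.14.15.4 s.14.15.5 s.14.15.6 (R.mk s.14.15.7.2 s.14.15.7.1) s.14.15.8 s.14.15.9 (R.mk s.14.15.10.2 s.14.15.10.1) (R.mk s.14.15.11.2 s.14.15.11.1) (R.mk s.14.15.12.2 s.14.15.12.1) (R.mk s.14.15.13.2 s.14.15.13.1) s.14.15.14 s.14.15.15 s.14.15.16)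
  (@T16.mk R s.14.16.1 (R.mk s.14.16.2.2 s.14.16.2.1) s.14.16.3 s.14.16.4 s.14.16.5 (R.mk s.14.16.6.2 s.14.16.6.1) s.14.16.7 s.14.16.8 (R.mk s.14.16.9.2 s.14.16.9.1) (R.mk s.14.16.10.2 s.14.16.10.1) (R.mk s.14.16.11.2 s.14.16.11.1) s.14.16.12 s.14.16.13 s.14.16.14 s.14.16.15 (R.mk s.14.16.16.2 s.14.16.16.1))
 )
 (@T16.mk (T16 R)
  (@T16.mk R (R.mk s.15.1.1.2 s.15.1.1.1) s.15.1.2 s.15.1.3 s.15.1.4 (R.mk s.15.1.5.2 s.15.1.5.1) s.15.1.6 s.15.1.7 s.15.1.8 (R.mk s.15.1.9.2 s.15.1.9.1) (R.mk s.15.1.10.2 s.15.1.10.1) s.15.1.11 (R.mk s.15.1.12.2 s.15.1.12.1) s.15.1.13 s.15.1.14 (R.mk s.15.1.15.2 s.15.1.15.1) s.15.1.16)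
  (@T16.mk R s.15.2.1 s.15.2.2 (R.mk s.15.2.3.2 s.15.2.3.1) s.15.2.4 s.15.2.5 s.15.2.6 (R.mk s.15.2.7.2 s.15.2.7.1) s.15.2.8 s.15.2.9 (R.mk s.15.2.10.2 s.15.2.10.1) (R.mk s.15.2.11.2 s.15.2.11.1) (R.mk s.15.2.12.2 s.15.2.12.1) (R.mk s.15.2.13.2 s.15.2.13.1) s.15.2.14 s.15.2.15 s.15.2.16)
  (@T16.mk R s.15.3.1 s.15.3.2 s.15.3.3 (R.mk s.15.3.4.2 s.15.3.4.1) s.15.3.5 s.15.3.6 s.15.3.7 (R.mk s.15.3.8.2 s.15.3.8.1) (R.mk s.15.3.9.2 s.15.3.9.1) s.15.3.10 (R.mk s.15.3.11.2 s.15.3.11.1) (R.mk s.15.3.12.2 s.15.3.12.1) s.15.3.13 (R.mk s.15.3.14.2 s.15.3.14.1) s.15.3.15 s.15.3.16)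
  (@T16.mk R (R.mk s.15.4.1.2 s.15.4.1.1) s.15.4.2 s.15.4.3 s.15.4.4 (R.mk s.15.4.5.2 s.15.4.5.1) s.15.4.6 s.15.4.7 s.15.4.8 (R.mk s.15.4.9.2 s.15.4.9.1) (R.mk s.15.4.10.2 s.15.4.10.1) s.15.4.11 (R.mk s.15.4.12.2 s.15.4.12.1) s.15.4.13 s.15.4.14 (R.mk s.15.4.15.2 s.15.4.15.1) s.15.4.16)
  (@T16.mk R s.15.5.1 (R.mk s.15.5.2.2 s.15.5.2.1) s.15.5.3 s.15.5.4 s.15.5.5 (R.mk s.15.5.6.2 s.15.5.6.1) s.15.5.7 s.15.5.8 (R.mk s.15.5.9.2 s.15.5.9.1) (R.mk s.15.5.10.2 s.15.5.10.1) (R.mk s.15.5.11.2 s.15.5.11.1) s.15.5.12 s.15.5.13 s.15.5.14 s.15.5.15 (R.mk s.15.5.16.2 s.15.5.16.1))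
  (@T16.mk R s.15.6.1 (R.mk s.15.6.2.2 s.15.6.2.1) (R.mk s.15.6.3.2 s.15.6.3.1) (R.mk s.15.6.4.2 s.15.6.4.1) (R.mk s.15.6.5.2 s.15.6.5.1) s.15.6.6 s.15.6.7 s.15.6.8 s.15.6.9 s.15.6.10 (R.mk s.15.6.11.2 s.15.6.11.1) s.15.6.12 s.15.6.13 s.15.6.14 (R.mk s.15.6.15.2 s.15.6.15.1) s.15.6.16)
  (@T16.mk R (R.mk s.15.7.1.2 s.15.7.1.1) s.15.7.2 (R.mk s.15.7.3.2 s.15.7.3.1) (R.mk s.15.7.4.2 s.15.7.4.1) s.15.7.5 (R.mk s.15.7.6.2 s.15.7.6.1) s.15.7.7 s.15.7.8 s.15.7.9 s.15.7.10 s.15.7.11 (R.mk s.15.7.12.2 s.15.7.12.1) s.15.7.13 s.15.7.14 s.15.7.15 (R.mk s.15.7.16.2 s.15.7.16.1))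
  (@T16.mk R (R.mk s.15.8.1.2 s.15.8.1.1) (R.mk s.15.8.2.2 s.15.8.2.1) s.15.8.3 (R.mk s.15.8.4.2 s.15.8.4.1) s.15.8.5 s.15.8.6 (R.mk s.15.8.7.2 s.15.8.7.1) s.15.8.8 (R.mk s.15.8.9.2 s.15.8.9.1) s.15.8.10 s.15.8.11 s.15.8.12 (R.mk s.15.8.13.2 s.15.8.13.1) s.15.8.14 s.15.8.15 s.15.8.16)
  (@T16.mk R (R.mk s.15.9.1.2 s.15.9.1.1) (R.mk s.15.9.2.2 s.15.9.2.1) (R.mk s.15.9.3.2 s.15.9.3.1) s.15.9.4 s.15.9.5 s.15.9.6 s.15.9.7 (R.mk s.15.9.8.2 s.15.9.8.1) s.15.9.9 (R.mk s.15.9.10.2 s.15.9.10.1) s.15.9.11 s.15.9.12 s.15.9.13 (R.mk s.15.9.14.2 s.15.9.14.1) s.15.9.15 s.15.9.16)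
  (@T16.mk R (R.mk s.15.10.1.2 s.15.10.1.1) s.15.10.2 (R.mk s.15.10.3.2 s.15.10.3.1) (R.mk s.15.10.4.2 s.15.10.4.1) s.15.10.5 (R.mk s.15.10.6.2 s.15.10.6.1) s.15.10.7 s.15.10.8 s.15.10.9 s.15.10.10 s.15.10.11 (R.mk s.15.10.12.2 s.15.10.12.1) s.15.10.13 s.15.10.14 s.15.10.15 (R.mk s.15.10.16.2 s.15.10.16.1))
  (@T16.mk R s.15.11.1 (R.mk s.15.11.2.2 s.15.11.2.1) (R.mk s.15.11.3.2 s.15.11.3.1) (R.mk s.15.11.4.2 s.15.11.4.1) (R.mk s.15.11.5.2 s.15.11.5.1) s.15.11.6 s.15.11.7 s.15.11.8 s.15.11.9 s.15.11.10 (R.mk s.15.11.11.2 s.15.11.11.1) s.15.11.12 s.15.11.13 s.15.11.14 (R.mk s.15.11.15.2 s.15.11.15.1) s.15.11.16)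
  (@T16.mk R (R.mk s.15.12.1.2 s.15.12.1.1) (R.mk s.15.12.2.2 s.15.12.2.1) (R.mk s.15.12.3.2 s.15.12.3.1) s.15.12.4 s.15.12.5 s.15.12.6 s.15.12.7 (R.mk s.15.12.8.2 s.15.12.8.1) s.15.12.9 (R.mk s.15.12.10.2 s.15.12.10.1) s.15.12.11 s.15.12.12 s.15.12.13 (R.mk s.15.12.14.2 s.15.12.14.1) s.15.12.15 s.15.12.16)
  (@T16.mk R (R.mk s.15.13.1.2 s.15.13.1.1) (R.mk s.15.13.2.2 s.15.13.2.1) s.15.13.3 (R.mk s.15.13.4.2 s.15.13.4.1) s.15.13.5 s.15.13.6 (R.mk s.15.13.7.2 s.15.13.7.1) s.15.13.8 (R.mk s.15.13.9.2 s.15.13.9.1) s.15.13.10 s.15.13.11 s.15.13.12 (R.mk s.15.13.13.2 s.15.13.13.1) s.15.13.14 s.15.13.15 s.15.13.16)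
  (@T16.mk R (R.mk s.15.14.1.2 s.15.14.1.1) s.15.14.2 s.15.14.3 s.15.14.4 (R.mk s.15.14.5.2 s.15.14.5.1) s.15.14.6 s.15.14.7 s.15.14.8 (R.mk s.15.14.9.2 s.15.14.9.1) (R.mk s.15.14.10.2 s.15.14.10.1) s.15.14.11 (R.mk s.15.14.12.2 s.15.14.12.1) s.15.14.13 s.15.14.14 (R.mk s.15.14.15.2 s.15.14.15.1) s.15.14.16)
  (@T16.mk R s.15.15.1 (R.mk s.15.15.2.2 s.15.15.2.1) s.15.15.3 s.15.15.4 s.15.15.5 (R.mk s.15.15.6.2 s.15.15.6.1) s.15.15.7 s.15.15.8 (R.mk s.15.15.9.2 s.15.15.9.1) (R.mk s.15.15.10.2 s.15.15.10.1) (R.mk s.15.15.11.2 s.15.15.11.1) s.15.15.12 s.15.15.13 s.15.15.14 s.15.15.15 (R.mk s.15.15.16.2 s.15.15.16.1))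
  (@T16.mk R s.15.16.1 s.15.16.2 (R.mk s.15.16.3.2 s.15.16.3.1) s.15.16.4 s.15.16.5 s.15.16.6 (R.mk s.15.16.7.2 s.15.16.7.1) s.15.16.8 s.15.16.9 (R.mk s.15.16.10.2 s.15.16.10.1) (R.mk s.15.16.11.2 s.15.16.11.1) (R.mk s.15.16.12.2 s.15.16.12.1) (R.mk s.15.16.13.2 s.15.16.13.1) s.15.16.14 s.15.16.15 s.15.16.16)
 )
 (@T16.mk (T16 R)
  (@T16.mk R s.16.1.1 s.16.1.2 s.16.1.3 (R.mk s.16.1.4.2 s.16.1.4.1) s.16.1.5 s.16.1.6 s.16.1.7 (R.mk s.16.1.8.2 s.16.1.8.1) (R.mk s.16.1.9.2 s.16.1.9.1) s.16.1.10 (R.mk s.16.1.11.2 s.16.1.11.1) (R.mk s.16.1.12.2 s.16.1.12.1) s.16.1.13 (R.mk s.16.1.14.2 s.16.1.14.1) s.16.1.15 s.16.1.16)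
  (@T16.mk R s.16.2.1 (R.mk s.16.2.2.2 s.16.2.2.1) s.16.2.3 s.16.2.4 s.16.2.5 (R.mk s.16.2.6.2 s.16.2.6.1) s.16.2.7 s.16.2.8 (R.mk s.16.2.9.2 s.16.2.9.1) (R.mk s.16.2.10.2 s.16.2.10.1) (R.mk s.16.2.11.2 s.16.2.11.1) s.16.2.12 s.16.2.13 s.16.2.14 s.16.2.15 (R.mk s.16.2.16.2 s.16.2.16.1))
  (@T16.mk R (R.mk s.16.3.1.2 s.16.3.1.1) s.16.3.2 s.16.3.3 s.16.3.4 (R.mk s.16.3.5.2 s.16.3.5.1) s.16.3.6 s.16.3.7 s.16.3.8 (R.mk s.16.3.9.2 s.16.3.9.1) (R.mk s.16.3.10.2 s.16.3.10.1) s.16.3.11 (R.mk s.16.3.12.2 s.16.3.12.1) s.16.3.13 s.16.3.14 (R.mk s.16.3.15.2 s.16.3.15.1) s.16.3.16)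
  (@T16.mk R s.16.4.1 s.16.4.2 s.16.4.3 (R.mk s.16.4.4.2 s.16.4.4.1) s.16.4.5 s.16.4.6 s.16.4.7 (R.mk s.16.4.8.2 s.16.4.8.1) (R.mk s.16.4.9.2 s.16.4.9.1) s.16.4.10 (R.mk s.16.4.11.2 s.16.4.11.1) (R.mk s.16.4.12.2 s.16.4.12.1) s.16.4.13 (R.mk s.16.4.14.2 s.16.4.14.1) s.16.4.15 s.16.4.16)
  (@T16.mk R s.16.5.1 s.16.5.2 (R.mk s.16.5.3.2 s.16.5.3.1) s.16.5.4 s.16.5.5 s.16.5.6 (R.mk s.16.5.7.2 s.16.5.7.1) s.16.5.8 s.16.5.9 (R.mk s.16.5.10.2 s.16.5.10.1) (R.mk s.16.5.11.2 s.16.5.11.1) (R.mk s.16.5.12.2 s.16.5.12.1) (R.mk s.16.5.13.2 s.16.5.13.1) s.16.5.14 s.16.5.15 s.16.5.16)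
  (@T16.mk R (R.mk s.16.6.1.2 s.16.6.1.1) (R.mk s.16.6.2.2 s.16.6.2.1) (R.mk s.16.6.3.2 s.16.6.3.1) s.16.6.4 s.16.6.5 s.16.6.6 s.16.6.7 (R.mk s.16.6.8.2 s.16.6.8.1) s.16.6.9 (R.mk s.16.6.10.2 s.16.6.10.1) s.16.6.11 s.16.6.12 s.16.6.13 (R.mk s.16.6.14.2 s.16.6.14.1) s.16.6.15 s.16.6.16)
  (@T16.mk R (R.mk s.16.7.1.2 s.16.7.1.1) (R.mk s.16.7.2.2 s.16.7.2.1) s.16.7.3 (R.mk s.16.7.4.2 s.16.7.4.1) s.16.7.5 s.16.7.6 (R.mk s.16.7.7.2 s.16.7.7.1) s.16.7.8 (R.mk s.16.7.9.2 s.16.7.9.1) s.16.7.10 s.16.7.11 s.16.7.12 (R.mk s.16.7.13.2 s.16.7.13.1) s.16.7.14 s.16.7.15 s.16.7.16)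
  (@T16.mk R (R.mk s.16.8.1.2 s.16.8.1.1) s.16.8.2 (R.mk s.16.8.3.2 s.16.8.3.1) (R.mk s.16.8.4.2 s.16.8.4.1) s.16.8.5 (R.mk s.16.8.6.2 s.16.8.6.1) s.16.8.7 s.16.8.8 s.16.8.9 s.16.8.10 s.16.8.11 (R.mk s.16.8.12.2 s.16.8.12.1) s.16.8.13 s.16.8.14 s.16.8.15 (R.mk s.16.8.16.2 s.16.8.16.1))
  (@T16.mk R s.16.9.1 (R.mk s.16.9.2.2 s.16.9.2.1) (R.mk s.16.9.3.2 s.16.9.3.1) (R.mk s.16.9.4.2 s.16.9.4.1) (R.mk s.16.9.5.2 s.16.9.5.1) s.16.9.6 s.16.9.7 s.16.9.8 s.16.9.9 s.16.9.10 (R.mk s.16.9.11.2 s.16.9.11.1) s.16.9.12 s.16.9.13 s.16.9.14 (R.mk s.16.9.15.2 s.16.9.15.1) s.16.9.16)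
  (@T16.mk R (R.mk s.16.10.1.2 s.16.10.1.1) (R.mk s.16.10.2.2 s.16.10.2.1) s.16.10.3 (R.mk s.16.10.4.2 s.16.10.4.1) s.16.10.5 s.16.10.6 (R.mk s.16.10.7.2 s.16.10.7.1) s.16.10.8 (R.mk s.16.10.9.2 s.16.10.9.1) s.16.10.10 s.16.10.11 s.16.10.12 (R.mk s.16.10.13.2 s.16.10.13.1) s.16.10.14 s.16.10.15 s.16.10.16)
  (@T16.mk R (R.mk s.16.11.1.2 s.16.11.1.1) (R.mk s.16.11.2.2 s.16.11.2.1) (R.mk s.16.11.3.2 s.16.11.3.1) s.16.11.4 s.16.11.5 s.16.11.6 s.16.11.7 (R.mk s.16.11.8.2 s.16.11.8.1) s.16.11.9 (R.mk s.16.11.10.2 s.16.11.10.1) s.16.11.11 s.16.11.12 s.16.11.13 (R.mk s.16.11.14.2 s.16.11.14.1) s.16.11.15 s.16.11.16)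
  (@T16.mk R s.16.12.1 (R.mk s.16.12.2.2 s.16.12.2.1) (R.mk s.16.12.3.2 s.16.12.3.1) (R.mk s.16.12.4.2 s.16.12.4.1) (R.mk s.16.12.5.2 s.16.12.5.1) s.16.12.6 s.16.12.7 s.16.12.8 s.16.12.9 s.16.12.10 (R.mk s.16.12.11.2 s.16.12.11.1) s.16.12.12 s.16.12.13 s.16.12.14 (R.mk s.16.12.15.2 s.16.12.15.1) s.16.12.16)
  (@T16.mk R (R.mk s.16.13.1.2 s.16.13.1.1) s.16.13.2 (R.mk s.16.13.3.2 s.16.13.3.1) (R.mk s.16.13.4.2 s.16.13.4.1) s.16.13.5 (R.mk s.16.13.6.2 s.16.13.6.1) s.16.13.7 s.16.13.8 s.16.13.9 s.16.13.10 s.16.13.11 (R.mk s.16.13.12.2 s.16.13.12.1) s.16.13.13 s.16.13.14 s.16.13.15 (R.mk s.16.13.16.2 s.16.13.16.1))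
  (@T16.mk R s.16.14.1 s.16.14.2 s.16.14.3 (R.mk s.16.14.4.2 s.16.14.4.1) s.16.14.5 s.16.14.6 s.16.14.7 (R.mk s.16.14.8.2 s.16.14.8.1) s.16.14.9 (R.mk s.16.14.10.2 s.16.14.10.1) s.16.14.11 s.16.14.12 (R.mk s.16.14.13.2 s.16.14.13.1) s.16.14.14 (R.mk s.16.14.15.2 s.16.14.15.1) (R.mk s.16.14.16.2 s.16.14.16.1))
  (@T16.mk R s.16.15.1 s.16.15.2 (R.mk s.16.15.3.2 s.16.15.3.1) s.16.15.4 s.16.15.5 s.16.15.6 (R.mk s.16.15.7.2 s.16.15.7.1) s.16.15.8 (R.mk s.16.15.9.2 s.16.15.9.1) s.16.15.10 s.16.15.11 s.16.15.12 s.16.15.13 (R.mk s.16.15.14.2 s.16.15.14.1) (R.mk s.16.15.15.2 s.16.15.15.1) (R.mk s.16.15.16.2 s.16.15.16.1))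
  (@T16.mk R s.16.16.1 (R.mk s.16.16.2.2 s.16.16.2.1) s.16.16.3 s.16.16.4 s.16.16.5 (R.mk s.16.16.6.2 s.16.16.6.1) s.16.16.7 s.16.16.8 s.16.16.9 s.16.16.10 s.16.16.11 (R.mk s.16.16.12.2 s.16.16.12.1) (R.mk s.16.16.13.2 s.16.16.13.1) (R.mk s.16.16.14.2 s.16.16.14.1) (R.mk s.16.16.15.2 s.16.16.15.1) s.16.16.16)
 )
 (@T16.mk (T16 R)
  (@T16.mk R (R.mk s.17.1.1.2 s.17.1.1.1) s.17.1.2 s.17.1.3 s.17.1.4 (R.mk s.17.1.5.2 s.17.1.5.1) s.17.1.6 s.17.1.7 s.17.1.8 s.17.1.9 s.17.1.10 (R.mk s.17.1.11.2 s.17.1.11.1) s.17.1.12 (R.mk s.17.1.13.2 s.17.1.13.1) (R.mk s.17.1.14.2 s.17.1.14.1) s.17.1.15 (R.mk s.17.1.16.2 s.17.1.16.1))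
  (@T16.mk R s.17.2.1 s.17.2.2 (R.mk s.17.2.3.2 s.17.2.3.1) s.17.2.4 s.17.2.5 s.17.2.6 (R.mk s.17.2.7.2 s.17.2.7.1) s.17.2.8 (R.mk s.17.2.9.2 s.17.2.9.1) s.17.2.10 s.17.2.11 s.17.2.12 s.17.2.13 (R.mk s.17.2.14.2 s.17.2.14.1) (R.mk s.17.2.15.2 s.17.2.15.1) (R.mk s.17.2.16.2 s.17.2.16.1))
  (@T16.mk R s.17.3.1 s.17.3.2 s.17.3.3 (R.mk s.17.3.4.2 s.17.3.4.1) s.17.3.5 s.17.3.6 s.17.3.7 (R.mk s.17.3.8.2 s.17.3.8.1) s.17.3.9 (R.mk s.17.3.10.2 s.17.3.10.1) s.17.3.11 s.17.3.12 (R.mk s.17.3.13.2 s.17.3.13.1) s.17.3.14 (R.mk s.17.3.15.2 s.17.3.15.1) (R.mk s.17.3.16.2 s.17.3.16.1))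
  (@T16.mk R (R.mk s.17.4.1.2 s.17.4.1.1) s.17.4.2 s.17.4.3 s.17.4.4 (R.mk s.17.4.5.2 s.17.4.5.1) s.17.4.6 s.17.4.7 s.17.4.8 s.17.4.9 s.17.4.10 (R.mk s.17.4.11.2 s.17.4.11.1) s.17.4.12 (R.mk s.17.4.13.2 s.17.4.13.1) (R.mk s.17.4.14.2 s.17.4.14.1) s.17.4.15 (R.mk s.17.4.16.2 s.17.4.16.1))
  (@T16.mk R s.17.5.1 (R.mk s.17.5.2.2 s.17.5.2.1) s.17.5.3 s.17.5.4 s.17.5.5 (R.mk s.17.5.6.2 s.17.5.6.1) s.17.5.7 s.17.5.8 s.17.5.9 s.17.5.10 s.17.5.11 (R.mk s.17.5.12.2 s.17.5.12.1) (R.mk s.17.5.13.2 s.17.5.13.1) (R.mk s.17.5.14.2 s.17.5.14.1) (R.mk s.17.5.15.2 s.17.5.15.1) s.17.5.16)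
  (@T16.mk R (R.mk s.17.6.1.2 s.17.6.1.1) s.17.6.2 s.17.6.3 s.17.6.4 s.17.6.5 (R.mk s.17.6.6.2 s.17.6.6.1) (R.mk s.17.6.7.2 s.17.6.7.1) (R.mk s.17.6.8.2 s.17.6.8.1) s.17.6.9 s.17.6.10 (R.mk s.17.6.11.2 s.17.6.11.1) s.17.6.12 s.17.6.13 s.17.6.14 (R.mk s.17.6.15.2 s.17.6.15.1) s.17.6.16)
  (@T16.mk R s.17.7.1 (R.mk s.17.7.2.2 s.17.7.2.1) s.17.7.3 s.17.7.4 (R.mk s.17.7.5.2 s.17.7.5.1) s.17.7.6 (R.mk s.17.7.7.2 s.17.7.7.1) (R.mk s.17.7.8.2 s.17.7.8.1) s.17.7.9 s.17.7.10 s.17.7.11 (R.mk s.17.7.12.2 s.17.7.12.1) s.17.7.13 s.17.7.14 s.17.7.15 (R.mk s.17.7.16.2 s.17.7.16.1))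
  (@T16.mk R s.17.8.1 s.17.8.2 (R.mk s.17.8.3.2 s.17.8.3.1) s.17.8.4 (R.mk s.17.8.5.2 s.17.8.5.1) (R.mk s.17.8.6.2 s.17.8.6.1) s.17.8.7 (R.mk s.17.8.8.2 s.17.8.8.1) (R.mk s.17.8.9.2 s.17.8.9.1) s.17.8.10 s.17.8.11 s.17.8.12 (R.mk s.17.8.13.2 s.17.8.13.1) s.17.8.14 s.17.8.15 s.17.8.16)
  (@T16.mk R s.17.9.1 s.17.9.2 s.17.9.3 (R.mk s.17.9.4.2 s.17.9.4.1) (R.mk s.17.9.5.2 s.17.9.5.1) (R.mk s.17.9.6.2 s.17.9.6.1) (R.mk s.17.9.7.2 s.17.9.7.1) s.17.9.8 s.17.9.9 (R.mk s.17.9.10.2 s.17.9.10.1) s.17.9.11 s.17.9.12 s.17.9.13 (R.mk s.17.9.14.2 s.17.9.14.1) s.17.9.15 s.17.9.16)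
  (@T16.mk R s.17.10.1 (R.mk s.17.10.2.2 s.17.10.2.1) s.17.10.3 s.17.10.4 (R.mk s.17.10.5.2 s.17.10.5.1) s.17.10.6 (R.mk s.17.10.7.2 s.17.10.7.1) (R.mk s.17.10.8.2 s.17.10.8.1) s.17.10.9 s.17.10.10 s.17.10.11 (R.mk s.17.10.12.2 s.17.10.12.1) s.17.10.13 s.17.10.14 s.17.10.15 (R.mk s.17.10.16.2 s.17.10.16.1))
  (@T16.mk R (R.mk s.17.11.1.2 s.17.11.1.1) s.17.11.2 s.17.11.3 s.17.11.4 s.17.11.5 (R.mk s.17.11.6.2 s.17.11.6.1) (R.mk s.17.11.7.2 s.17.11.7.1) (R.mk s.17.11.8.2 s.17.11.8.1) s.17.11.9 s.17.11.10 (R.mk s.17.11.11.2 s.17.11.11.1) s.17.11.12 s.17.11.13 s.17.11.14 (R.mk s.17.11.15.2 s.17.11.15.1) s.17.11.16)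
  (@T16.mk R s.17.12.1 s.17.12.2 s.17.12.3 (R.mk s.17.12.4.2 s.17.12.4.1) (R.mk s.17.12.5.2 s.17.12.5.1) (R.mk s.17.12.6.2 s.17.12.6.1) (R.mk s.17.12.7.2 s.17.12.7.1) s.17.12.8 s.17.12.9 (R.mk s.17.12.10.2 s.17.12.10.1) s.17.12.11 s.17.12.12 s.17.12.13 (R.mk s.17.12.14.2 s.17.12.14.1) s.17.12.15 s.17.12.16)
  (@T16.mk R s.17.13.1 s.17.13.2 (R.mk s.17.13.3.2 s.17.13.3.1) s.17.13.4 (R.mk s.17.13.5.2 s.17.13.5.1) (R.mk s.17.13.6.2 s.17.13.6.1) s.17.13.7 (R.mk s.17.13.8.2 s.17.13.8.1) (R.mk s.17.13.9.2 s.17.13.9.1) s.17.13.10 s.17.13.11 s.17.13.12 (R.mk s.17.13.13.2 s.17.13.13.1) s.17.13.14 s.17.13.15 s.17.13.16)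
  (@T16.mk R s.17.14.1 s.17.14.2 s.17.14.3 s.17.14.4 s.17.14.5 s.17.14.6 s.17.14.7 s.17.14.8 s.17.14.9 s.17.14.10 s.17.14.11 s.17.14.12 s.17.14.13 s.17.14.14 s.17.14.15 s.17.14.16)
  (@T16.mk R s.17.15.1 s.17.15.2 s.17.15.3 s.17.15.4 s.17.15.5 s.17.15.6 s.17.15.7 s.17.15.8 (R.mk s.17.15.9.2 s.17.15.9.1) s.17.15.10 s.17.15.11 s.17.15.12 s.17.15.13 s.17.15.14 (R.mk s.17.15.15.2 s.17.15.15.1) (R.mk s.17.15.16.2 s.17.15.16.1))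
  (@T16.mk R (R.mk s.17.16.1.2 s.17.16.1.1) s.17.16.2 s.17.16.3 s.17.16.4 s.17.16.5 (R.mk s.17.16.6.2 s.17.16.6.1) (R.mk s.17.16.7.2 s.17.16.7.1) (R.mk s.17.16.8.2 s.17.16.8.1) s.17.16.9 s.17.16.10 s.17.16.11 (R.mk s.17.16.12.2 s.17.16.12.1) s.17.16.13 s.17.16.14 (R.mk s.17.16.15.2 s.17.16.15.1) s.17.16.16)
 )
 (@T16.mk (T16 R)
  (@T16.mk R s.18.1.1 s.18.1.2 s.18.1.3 s.18.1.4 (R.mk s.18.1.5.2 s.18.1.5.1) (R.mk s.18.1.6.2 s.18.1.6.1) (R.mk s.18.1.7.2 s.18.1.7.1) s.18.1.8 s.18.1.9 s.18.1.10 s.18.1.11 (R.mk s.18.1.12.2 s.18.1.12.1) (R.mk s.18.1.13.2 s.18.1.13.1) (R.mk s.18.1.14.2 s.18.1.14.1) s.18.1.15 s.18.1.16)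
  (@T16.mk R s.18.2.1 (R.mk s.18.2.2.2 s.18.2.2.1) s.18.2.3 s.18.2.4 s.18.2.5 s.18.2.6 s.18.2.7 s.18.2.8 s.18.2.9 s.18.2.10 s.18.2.11 s.18.2.12 s.18.2.13 s.18.2.14 s.18.2.15 s.18.2.16)
  (@T16.mk R s.18.3.1 s.18.3.2 s.18.3.3 s.18.3.4 s.18.3.5 s.18.3.6 s.18.3.7 s.18.3.8 s.18.3.9 s.18.3.10 s.18.3.11 s.18.3.12 s.18.3.13 s.18.3.14 s.18.3.15 s.18.3.16)
  (@T16.mk R s.18.4.1 s.18.4.2 s.18.4.3 s.18.4.4 s.18.4.5 s.18.4.6 s.18.4.7 s.18.4.8 s.18.4.9 s.18.4.10 s.18.4.11 s.18.4.12 s.18.4.13 s.18.4.14 s.18.4.15 s.18.4.16)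
  (@T16.mk R s.18.5.1 s.18.5.2 s.18.5.3 s.18.5.4 s.18.5.5 s.18.5.6 s.18.5.7 s.18.5.8 s.18.5.9 s.18.5.10 s.18.5.11 s.18.5.12 s.18.5.13 s.18.5.14 s.18.5.15 s.18.5.16)
  (@T16.mk R s.18.6.1 s.18.6.2 s.18.6.3 s.18.6.4 s.18.6.5 s.18.6.6 s.18.6.7 s.18.6.8 s.18.6.9 s.18.6.10 s.18.6.11 s.18.6.12 s.18.6.13 s.18.6.14 s.18.6.15 s.18.6.16)
  (@T16.mk R s.18.7.1 s.18.7.2 s.18.7.3 s.18.7.4 s.18.7.5 s.18.7.6 s.18.7.7 s.18.7.8 s.18.7.9 s.18.7.10 s.18.7.11 s.18.7.12 s.18.7.13 s.18.7.14 s.18.7.15 s.18.7.16)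
  (@T16.mk R s.18.8.1 s.18.8.2 s.18.8.3 s.18.8.4 s.18.8.5 s.18.8.6 s.18.8.7 s.18.8.8 s.18.8.9 s.18.8.10 s.18.8.11 s.18.8.12 s.18.8.13 s.18.8.14 s.18.8.15 s.18.8.16)
  (@T16.mk R s.18.9.1 s.18.9.2 s.18.9.3 s.18.9.4 s.18.9.5 s.18.9.6 s.18.9.7 s.18.9.8 s.18.9.9 s.18.9.10 s.18.9.11 s.18.9.12 s.18.9.13 s.18.9.14 s.18.9.15 s.18.9.16)
  (@T16.mk R s.18.10.1 s.18.10.2 s.18.10.3 s.18.10.4 s.18.10.5 s.18.10.6 s.18.10.7 s.18.10.8 s.18.10.9 s.18.10.10 s.18.10.11 s.18.10.12 s.18.10.13 s.18.10.14 s.18.10.15 s.18.10.16)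
  (@T16.mk R s.18.11.1 s.18.11.2 s.18.11.3 s.18.11.4 s.18.11.5 s.18.11.6 s.18.11.7 s.18.11.8 s.18.11.9 s.18.11.10 s.18.11.11 s.18.11.12 s.18.11.13 s.18.11.14 s.18.11.15 s.18.11.16)
  (@T16.mk R s.18.12.1 s.18.12.2 s.18.12.3 s.18.12.4 s.18.12.5 s.18.12.6 s.18.12.7 s.18.12.8 s.18.12.9 s.18.12.10 s.18.12.11 s.18.12.12 s.18.12.13 s.18.12.14 s.18.12.15 s.18.12.16)
  (@T16.mk R s.18.13.1 s.18.13.2 s.18.13.3 s.18.13.4 s.18.13.5 s.18.13.6 s.18.13.7 s.18.13.8 s.18.13.9 s.18.13.10 s.18.13.11 s.18.13.12 s.18.13.13 s.18.13.14 s.18.13.15 s.18.13.16)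
  (@T16.mk R s.18.14.1 s.18.14.2 s.18.14.3 s.18.14.4 s.18.14.5 s.18.14.6 s.18.14.7 s.18.14.8 s.18.14.9 s.18.14.10 s.18.14.11 s.18.14.12 s.18.14.13 s.18.14.14 s.18.14.15 s.18.14.16)
  (@T16.mk R s.18.15.1 s.18.15.2 s.18.15.3 s.18.15.4 s.18.15.5 s.18.15.6 s.18.15.7 s.18.15.8 s.18.15.9 s.18.15.10 s.18.15.11 s.18.15.12 s.18.15.13 s.18.15.14 s.18.15.15 s.18.15.16)
  (@T16.mk R s.18.16.1 s.18.16.2 s.18.16.3 s.18.16.4 s.18.16.5 s.18.16.6 s.18.16.7 s.18.16.8 s.18.16.9 s.18.16.10 s.18.16.11 s.18.16.12 s.18.16.13 s.18.16.14 s.18.16.15 s.18.16.16)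
 )
theorem cd21_eq (s : St) : cd21 s = gather tb21 s := by rfl
noncomputable def tb22 : Tab :=
@T18.mk (T16 (T16 E))
 (@T16.mk (T16 E)
  (@T16.mk E (p j1 i8 i6) (n j1 i8 i7) (n j1 i8 i4) (p j1 i8 i5) (p j1 i8 i2) (n j1 i8 i3) (n j1 i8 i0) (p j1 i8 i1) (n j1 i8 i14) (p j1 i8 i15) (p j1 i8 i12) (n j1 i8 i13) (n j1 i8 i10) (p j1 i8 i11) (p j1 i8 i8) (n j1 i8 i9))
  (@T16.mk E (p j1 i9 i6) (n j1 i9 i7) (n j1 i9 i4) (p j1 i9 i5) (p j1 i9 i2) (n j1 i9 i3) (n j1 i9 i0) (p j1 i9 i1) (n j1 i9 i14) (p j1 i9 i15) (p j1 i9 i12) (n j1 i9 i13) (n j1 i9 i10) (p j1 i9 i11) (p j1 i9 i8) (n j1 i9 i9))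
  (@T16.mk E (p j1 i10 i6) (n j1 i10 i7) (n j1 i10 i4) (p j1 i10 i5) (p j1 i10 i2) (n j1 i10 i3) (n j1 i10 i0) (p j1 i10 i1) (n j1 i10 i14) (p j1 i10 i15) (p j1 i10 i12) (n j1 i10 i13) (n j1 i10 i10) (p j1 i10 i11) (p j1 i10 i8) (n j1 i10 i9))
  (@T16.mk E (p j1 i11 i6) (n j1 i11 i7) (n j1 i11 i4) (p j1 i11 i5) (p j1 i11 i2) (n j1 i11 i3) (n j1 i11 i0) (p j1 i11 i1) (n j1 i11 i14) (p j1 i11 i15) (p j1 i11 i12) (n j1 i11 i13) (n j1 i11 i10) (p j1 i11 i11) (p j1 i11 i8) (n j1 i11 i9))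
  (@T16.mk E (p j1 i12 i6) (n j1 i12 i7) (n j1 i12 i4) (p j1 i12 i5) (p j1 i12 i2) (n j1 i12 i3) (n j1 i12 i0) (p j1 i12 i1) (n j1 i12 i14) (p j1 i12 i15) (p j1 i12 i12) (n j1 i12 i13) (n j1 i12 i10) (p j1 i12 i11) (p j1 i12 i8) (n j1 i12 i9))
  (@T16.mk E (p j1 i13 i6) (n j1 i13 i7) (n j1 i13 i4) (p j1 i13 i5) (p j1 i13 i2) (n j1 i13 i3) (n j1 i13 i0) (p j1 i13 i1) (n j1 i13 i14) (p j1 i13 i15) (p j1 i13 i12) (n j1 i13 i13) (n j1 i13 i10) (p j1 i13 i11) (p j1 i13 i8) (n j1 i13 i9))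
  (@T16.mk E (n j1 i14 i6) (p j1 i14 i7) (p j1 i14 i4) (n j1 i14 i5) (n j1 i14 i2) (p j1 i14 i3) (p j1 i14 i0) (n j1 i14 i1) (p j1 i14 i14) (n j1 i14 i15) (n j1 i14 i12) (p j1 i14 i13) (p j1 i14 i10) (n j1 i14 i11) (n j1 i14 i8) (p j1 i14 i9))
  (@T16.mk E (p j1 i15 i6) (n j1 i15 i7) (n j1 i15 i4) (p j1 i15 i5) (p j1 i15 i2) (n j1 i15 i3) (n j1 i15 i0) (p j1 i15 i1) (n j1 i15 i14) (p j1 i15 i15) (p j1 i15 i12) (n j1 i15 i13) (n j1 i15 i10) (p j1 i15 i11) (p j1 i15 i8) (n j1 i15 i9))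
  (@T16.mk E (p j1 i0 i6) (n j1 i0 i7) (n j1 i0 i4) (p j1 i0 i5) (p j1 i0 i2) (n j1 i0 i3) (n j1 i0 i0) (p j1 i0 i1) (n j1 i0 i14) (p j1 i0 i15) (p j1 i0 i12) (n j1 i0 i13) (n j1 i0 i10) (p j1 i0 i11) (p j1 i0 i8) (n j1 i0 i9))
  (@T16.mk E (p j1 i1 i6) (n j1 i1 i7) (n j1 i1 i4) (p j1 i1 i5) (p j1 i1 i2) (n j1 i1 i3) (n j1 i1 i0) (p j1 i1 i1) (n j1 i1 i14) (p j1 i1 i15) (p j1 i1 i12) (n j1 i1 i13) (n j1 i1 i10) (p j1 i1 i11) (p j1 i1 i8) (n j1 i1 i9))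
  (@T16.mk E (p j1 i2 i6) (n j1 i2 i7) (n j1 i2 i4) (p j1 i2 i5) (p j1 i2 i2) (n j1 i2 i3) (n j1 i2 i0) (p j1 i2 i1) (n j1 i2 i14) (p j1 i2 i15) (p j1 i2 i12) (n j1 i2 i13) (n j1 i2 i10) (p j1 i2 i11) (p j1 i2 i8) (n j1 i2 i9))
  (@T16.mk E (n j1 i3 i6) (p j1 i3 i7) (p j1 i3 i4) (n j1 i3 i5) (n j1 i3 i2) (p j1 i3 i3) (p j1 i3 i0) (n j1 i3 i1) (p j1 i3 i14) (n j1 i3 i15) (n j1 i3 i12) (p j1 i3 i13) (p j1 i3 i10) (n j1 i3 i11) (n j1 i3 i8) (p j1 i3 i9))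
  (@T16.mk E (p j1 i4 i6) (n j1 i4 i7) (n j1 i4 i4) (p j1 i4 i5) (p j1 i4 i2) (n j1 i4 i3) (n j1 i4 i0) (p j1 i4 i1) (n j1 i4 i14) (p j1 i4 i15) (p j1 i4 i12) (n j1 i4 i13) (n j1 i4 i10) (p j1 i4 i11) (p j1 i4 i8) (n j1 i4 i9))
  (@T16.mk E (p j1 i5 i6) (n j1 i5 i7) (n j1 i5 i4) (p j1 i5 i5) (p j1 i5 i2) (n j1 i5 i3) (n j1 i5 i0) (p j1 i5 i1) (n j1 i5 i14) (p j1 i5 i15) (p j1 i5 i12) (n j1 i5 i13) (n j1 i5 i10) (p j1 i5 i11) (p j1 i5 i8) (n j1 i5 i9))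
  (@T16.mk E (n j1 i6 i6) (p j1 i6 i7) (p j1 i6 i4) (n j1 i6 i5) (n j1 i6 i2) (p j1 i6 i3) (p j1 i6 i0) (n j1 i6 i1) (p j1 i6 i14) (n j1 i6 i15) (n j1 i6 i12) (p j1 i6 i13) (p j1 i6 i10) (n j1 i6 i11) (n j1 i6 i8) (p j1 i6 i9))
  (@T16.mk E (n j1 i7 i6) (p j1 i7 i7) (p j1 i7 i4) (n j1 i7 i5) (n j1 i7 i2) (p j1 i7 i3) (p j1 i7 i0) (n j1 i7 i1) (p j1 i7 i14) (n j1 i7 i15) (n j1 i7 i12) (p j1 i7 i13) (p j1 i7 i10) (n j1 i7 i11) (n j1 i7 i8) (p j1 i7 i9))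
 )
 (@T16.mk (T16 E)
  (@T16.mk E (n j0 i8 i6) (p j0 i8 i7) (p j0 i8 i4) (n j0 i8 i5) (n j0 i8 i2) (p j0 i8 i3) (p j0 i8 i0) (n j0 i8 i1) (p j0 i8 i14) (n j0 i8 i15) (n j0 i8 i12) (p j0 i8 i13) (p j0 i8 i10) (n j0 i8 i11) (n j0 i8 i8) (p j0 i8 i9))
  (@T16.mk E (n j0 i9 i6) (p j0 i9 i7) (p j0 i9 i4) (n j0 i9 i5) (n j0 i9 i2) (p j0 i9 i3) (p j0 i9 i0) (n j0 i9 i1) (p j0 i9 i14) (n j0 i9 i15) (n j0 i9 i12) (p j0 i9 i13) (p j0 i9 i10) (n j0 i9 i11) (n j0 i9 i8) (p j0 i9 i9))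
  (@T16.mk E (n j0 i10 i6) (p j0 i10 i7) (p j0 i10 i4) (n j0 i10 i5) (n j0 i10 i2) (p j0 i10 i3) (p j0 i10 i0) (n j0 i10 i1) (p j0 i10 i14) (n j0 i10 i15) (n j0 i10 i12) (p j0 i10 i13) (p j0 i10 i10) (n j0 i10 i11) (n j0 i10 i8) (p j0 i10 i9))
  (@T16.mk E (p j0 i11 i6) (n j0 i11 i7) (n j0 i11 i4) (p j0 i11 i5) (p j0 i11 i2) (n j0 i11 i3) (n j0 i11 i0) (p j0 i11 i1) (n j0 i11 i14) (p j0 i11 i15) (p j0 i11 i12) (n j0 i11 i13) (n j0 i11 i10) (p j0 i11 i11) (p j0 i11 i8) (n j0 i11 i9))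
  (@T16.mk E (n j0 i12 i6) (p j0 i12 i7) (p j0 i12 i4) (n j0 i12 i5) (n j0 i12 i2) (p j0 i12 i3) (p j0 i12 i0) (n j0 i12 i1) (p j0 i12 i14) (n j0 i12 i15) (n j0 i12 i12) (p j0 i12 i13) (p j0 i12 i10) (n j0 i12 i11) (n j0 i12 i8) (p j0 i12 i9))
  (@T16.mk E (n j0 i13 i6) (p j0 i13 i7) (p j0 i13 i4) (n j0 i13 i5) (n j0 i13 i2) (p j0 i13 i3) (p j0 i13 i0) (n j0 i13 i1) (p j0 i13 i14) (n j0 i13 i15) (n j0 i13 i12) (p j0 i13 i13) (p j0 i13 i10) (n j0 i13 i11) (n j0 i13 i8) (p j0 i13 i9))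
  (@T16.mk E (p j0 i14 i6) (n j0 i14 i7) (n j0 i14 i4) (p j0 i14 i5) (p j0 i14 i2) (n j0 i14 i3) (n j0 i14 i0) (p j0 i14 i1) (n j0 i14 i14) (p j0 i14 i15) (p j0 i14 i12) (n j0 i14 i13) (n j0 i14 i10) (p j0 i14 i11) (p j0 i14 i8) (n j0 i14 i9))
  (@T16.mk E (p j0 i15 i6) (n j0 i15 i7) (n j0 i15 i4) (p j0 i15 i5) (p j0 i15 i2) (n j0 i15 i3) (n j0 i15 i0) (p j0 i15 i1) (n j0 i15 i14) (p j0 i15 i15) (p j0 i15 i12) (n j0 i15 i13) (n j0 i15 i10) (p j0 i15 i11) (p j0 i15 i8) (n j0 i15 i9))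
  (@T16.mk E (n j0 i0 i6) (p j0 i0 i7) (p j0 i0 i4) (n j0 i0 i5) (n j0 i0 i2) (p j0 i0 i3) (p j0 i0 i0) (n j0 i0 i1) (p j0 i0 i14) (n j0 i0 i15) (n j0 i0 i12) (p j0 i0 i13) (p j0 i0 i10) (n j0 i0 i11) (n j0 i0 i8) (p j0 i0 i9))
  (@T16.mk E (n j0 i1 i6) (p j0 i1 i7) (p j0 i1 i4) (n j0 i1 i5) (n j0 i1 i2) (p j0 i1 i3) (p j0 i1 i0) (n j0 i1 i1) (p j0 i1 i14) (n j0 i1 i15) (n j0 i1 i12) (p j0 i1 i13) (p j0 i1 i10) (n j0 i1 i11) (n j0 i1 i8) (p j0 i1 i9))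
  (@T16.mk E (n j0 i2 i6) (p j0 i2 i7) (p j0 i2 i4) (n j0 i2 i5) (n j0 i2 i2) (p j0 i2 i3) (p j0 i2 i0) (n j0 i2 i1) (p j0 i2 i14) (n j0 i2 i15) (n j0 i2 i12) (p j0 i2 i13) (p j0 i2 i10) (n j0 i2 i11) (n j0 i2 i8) (p j0 i2 i9))
  (@T16.mk E (n j0 i3 i6) (p j0 i3 i7) (p j0 i3 i4) (n j0 i3 i5) (n j0 i3 i2) (p j0 i3 i3) (p j0 i3 i0) (n j0 i3 i1) (p j0 i3 i14) (n j0 i3 i15) (n j0 i3 i12) (p j0 i3 i13) (p j0 i3 i10) (n j0 i3 i11) (n j0 i3 i8) (p j0 i3 i9))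
  (@T16.mk E (n j0 i4 i6) (p j0 i4 i7) (p j0 i4 i4) (n j0 i4 i5) (n j0 i4 i2) (p j0 i4 i3) (p j0 i4 i0) (n j0 i4 i1) (p j0 i4 i14) (n j0 i4 i15) (n j0 i4 i12) (p j0 i4 i13) (p j0 i4 i10) (n j0 i4 i11) (n j0 i4 i8) (p j0 i4 i9))
  (@T16.mk E (n j0 i5 i6) (p j0 i5 i7) (p j0 i5 i4) (n j0 i5 i5) (n j0 i5 i2) (p j0 i5 i3) (p j0 i5 i0) (n j0 i5 i1) (p j0 i5 i14) (n j0 i5 i15) (n j0 i5 i12) (p j0 i5 i13) (p j0 i5 i10) (n j0 i5 i11) (n j0 i5 i8) (p j0 i5 i9))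
  (@T16.mk E (p j0 i6 i6) (n j0 i6 i7) (n j0 i6 i4) (p j0 i6 i5) (p j0 i6 i2) (n j0 i6 i3) (n j0 i6 i0) (p j0 i6 i1) (n j0 i6 i14) (p j0 i6 i15) (p j0 i6 i12) (n j0 i6 i13) (n j0 i6 i10) (p j0 i6 i11) (p j0 i6 i8) (n j0 i6 i9))
  (@T16.mk E (n j0 i7 i6) (p j0 i7 i7) (p j0 i7 i4) (n j0 i7 i5) (n j0 i7 i2) (p j0 i7 i3) (p j0 i7 i0) (n j0 i7 i1) (p j0 i7 i14) (n j0 i7 i15) (n j0 i7 i12) (p j0 i7 i13) (p j0 i7 i10) (n j0 i7 i11) (n j0 i7 i8) (p j0 i7 i9))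
 )
 (@T16.mk (T16 E)
  (@T16.mk E (n j3 i8 i6) (p j3 i8 i7) (p j3 i8 i4) (n j3 i8 i5) (n j3 i8 i2) (p j3 i8 i3) (p j3 i8 i0) (n j3 i8 i1) (p j3 i8 i14) (n j3 i8 i15) (n j3 i8 i12) (p j3 i8 i13) (p j3 i8 i10) (n j3 i8 i11) (n j3 i8 i8) (p j3 i8 i9))
  (@T16.mk E (n j3 i9 i6) (p j3 i9 i7) (p j3 i9 i4) (n j3 i9 i5) (n j3 i9 i2) (p j3 i9 i3) (p j3 i9 i0) (n j3 i9 i1) (p j3 i9 i14) (n j3 i9 i15) (n j3 i9 i12) (p j3 i9 i13) (p j3 i9 i10) (n j3 i9 i11) (n j3 i9 i8) (p j3 i9 i9))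
  (@T16.mk E (n j3 i10 i6) (p j3 i10 i7) (p j3 i10 i4) (n j3 i10 i5) (n j3 i10 i2) (p j3 i10 i3) (p j3 i10 i0) (n j3 i10 i1) (p j3 i10 i14) (n j3 i10 i15) (n j3 i10 i12) (p j3 i10 i13) (p j3 i10 i10) (n j3 i10 i11) (n j3 i10 i8) (p j3 i10 i9))
  (@T16.mk E (n j3 i11 i6) (p j3 i11 i7) (p j3 i11 i4) (n j3 i11 i5) (n j3 i11 i2) (p j3 i11 i3) (p j3 i11 i0) (n j3 i11 i1) (p j3 i11 i14) (n j3 i11 i15) (n j3 i11 i12) (p j3 i11 i13) (p j3 i11 i10) (n j3 i11 i11) (n j3 i11 i8) (p j3 i11 i9))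
  (@T16.mk E (n j3 i12 i6) (p j3 i12 i7) (p j3 i12 i4) (n j3 i12 i5) (n j3 i12 i2) (p j3 i12 i3) (p j3 i12 i0) (n j3 i12 i1) (p j3 i12 i14) (n j3 i12 i15) (n j3 i12 i12) (p j3 i12 i13) (p j3 i12 i10) (n j3 i12 i11) (n j3 i12 i8) (p j3 i12 i9))
  (@T16.mk E (n j3 i13 i6) (p j3 i13 i7) (p j3 i13 i4) (n j3 i13 i5) (n j3 i13 i2) (p j3 i13 i3) (p j3 i13 i0) (n j3 i13 i1) (p j3 i13 i14) (n j3 i13 i15) (n j3 i13 i12) (p j3 i13 i13) (p j3 i13 i10) (n j3 i13 i11) (n j3 i13 i8) (p j3 i13 i9))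
  (@T16.mk E (p j3 i14 i6) (n j3 i14 i7) (n j3 i14 i4) (p j3 i14 i5) (p j3 i14 i2) (n j3 i14 i3) (n j3 i14 i0) (p j3 i14 i1) (n j3 i14 i14) (p j3 i14 i15) (p j3 i14 i12) (n j3 i14 i13) (n j3 i14 i10) (p j3 i14 i11) (p j3 i14 i8) (n j3 i14 i9))
  (@T16.mk E (n j3 i15 i6) (p j3 i15 i7) (p j3 i15 i4) (n j3 i15 i5) (n j3 i15 i2) (p j3 i15 i3) (p j3 i15 i0) (n j3 i15 i1) (p j3 i15 i14) (n j3 i15 i15) (n j3 i15 i12) (p j3 i15 i13) (p j3 i15 i10) (n j3 i15 i11) (n j3 i15 i8) (p j3 i15 i9))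
  (@T16.mk E (n j3 i0 i6) (p j3 i0 i7) (p j3 i0 i4) (n j3 i0 i5) (n j3 i0 i2) (p j3 i0 i3) (p j3 i0 i0) (n j3 i0 i1) (p j3 i0 i14) (n j3 i0 i15) (n j3 i0 i12) (p j3 i0 i13) (p j3 i0 i10) (n j3 i0 i11) (n j3 i0 i8) (p j3 i0 i9))
  (@T16.mk E (n j3 i1 i6) (p j3 i1 i7) (p j3 i1 i4) (n j3 i1 i5) (n j3 i1 i2) (p j3 i1 i3) (p j3 i1 i0) (n j3 i1 i1) (p j3 i1 i14) (n j3 i1 i15) (n j3 i1 i12) (p j3 i1 i13) (p j3 i1 i10) (n j3 i1 i11) (n j3 i1 i8) (p j3 i1 i9))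
  (@T16.mk E (p j3 i2 i6) (n j3 i2 i7) (n j3 i2 i4) (p j3 i2 i5) (p j3 i2 i2) (n j3 i2 i3) (n j3 i2 i0) (p j3 i2 i1) (n j3 i2 i14) (p j3 i2 i15) (p j3 i2 i12) (n j3 i2 i13) (n j3 i2 i10) (p j3 i2 i11) (p j3 i2 i8) (n j3 i2 i9))
  (@T16.mk E (n j3 i3 i6) (p j3 i3 i7) (p j3 i3 i4) (n j3 i3 i5) (n j3 i3 i2) (p j3 i3 i3) (p j3 i3 i0) (n j3 i3 i1) (p j3 i3 i14) (n j3 i3 i15) (n j3 i3 i12) (p j3 i3 i13) (p j3 i3 i10) (n j3 i3 i11) (n j3 i3 i8) (p j3 i3 i9))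
  (@T16.mk E (n j3 i4 i6) (p j3 i4 i7) (p j3 i4 i4) (n j3 i4 i5) (n j3 i4 i2) (p j3 i4 i3) (p j3 i4 i0) (n j3 i4 i1) (p j3 i4 i14) (n j3 i4 i15) (n j3 i4 i12) (p j3 i4 i13) (p j3 i4 i10) (n j3 i4 i11) (n j3 i4 i8) (p j3 i4 i9))
  (@T16.mk E (n j3 i5 i6) (p j3 i5 i7) (p j3 i5 i4) (n j3 i5 i5) (n j3 i5 i2) (p j3 i5 i3) (p j3 i5 i0) (n j3 i5 i1) (p j3 i5 i14) (n j3 i5 i15) (n j3 i5 i12) (p j3 i5 i13) (p j3 i5 i10) (n j3 i5 i11) (n j3 i5 i8) (p j3 i5 i9))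
  (@T16.mk E (n j3 i6 i6) (p j3 i6 i7) (p j3 i6 i4) (n j3 i6 i5) (n j3 i6 i2) (p j3 i6 i3) (p j3 i6 i0) (n j3 i6 i1) (p j3 i6 i14) (n j3 i6 i15) (n j3 i6 i12) (p j3 i6 i13) (p j3 i6 i10) (n j3 i6 i11) (n j3 i6 i8) (p j3 i6 i9))
  (@T16.mk E (n j3 i7 i6) (p j3 i7 i7) (p j3 i7 i4) (n j3 i7 i5) (n j3 i7 i2) (p j3 i7 i3) (p j3 i7 i0) (n j3 i7 i1) (p j3 i7 i14) (n j3 i7 i15) (n j3 i7 i12) (p j3 i7 i13) (p j3 i7 i10) (n j3 i7 i11) (n j3 i7 i8) (p j3 i7 i9))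
 )
 (@T16.mk (T16 E)
  (@T16.mk E (p j2 i8 i6) (n j2 i8 i7) (n j2 i8 i4) (p j2 i8 i5) (p j2 i8 i2) (n j2 i8 i3) (n j2 i8 i0) (p j2 i8 i1) (n j2 i8 i14) (p j2 i8 i15) (p j2 i8 i12) (n j2 i8 i13) (n j2 i8 i10) (p j2 i8 i11) (p j2 i8 i8) (n j2 i8 i9))
  (@T16.mk E (p j2 i9 i6) (n j2 i9 i7) (n j2 i9 i4) (p j2 i9 i5) (p j2 i9 i2) (n j2 i9 i3) (n j2 i9 i0) (p j2 i9 i1) (n j2 i9 i14) (p j2 i9 i15) (p j2 i9 i12) (n j2 i9 i13) (n j2 i9 i10) (p j2 i9 i11) (p j2 i9 i8) (n j2 i9 i9))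
  (@T16.mk E (n j2 i10 i6) (p j2 i10 i7) (p j2 i10 i4) (n j2 i10 i5) (n j2 i10 i2) (p j2 i10 i3) (p j2 i10 i0) (n j2 i10 i1) (p j2 i10 i14) (n j2 i10 i15) (n j2 i10 i12) (p j2 i10 i13) (p j2 i10 i10) (n j2 i10 i11) (n j2 i10 i8) (p j2 i10 i9))
  (@T16.mk E (p j2 i11 i6) (n j2 i11 i7) (n j2 i11 i4) (p j2 i11 i5) (p j2 i11 i2) (n j2 i11 i3) (n j2 i11 i0) (p j2 i11 i1) (n j2 i11 i14) (p j2 i11 i15) (p j2 i11 i12) (n j2 i11 i13) (n j2 i11 i10) (p j2 i11 i11) (p j2 i11 i8) (n j2 i11 i9))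
  (@T16.mk E (p j2 i12 i6) (n j2 i12 i7) (n j2 i12 i4) (p j2 i12 i5) (p j2 i12 i2) (n j2 i12 i3) (n j2 i12 i0) (p j2 i12 i1) (n j2 i12 i14) (p j2 i12 i15) (p j2 i12 i12) (n j2 i12 i13) (n j2 i12 i10) (p j2 i12 i11) (p j2 i12 i8) (n j2 i12 i9))
  (@T16.mk E (p j2 i13 i6) (n j2 i13 i7) (n j2 i13 i4) (p j2 i13 i5) (p j2 i13 i2) (n j2 i13 i3) (n j2 i13 i0) (p j2 i13 i1) (n j2 i13 i14) (p j2 i13 i15) (p j2 i13 i12) (n j2 i13 i13) (n j2 i13 i10) (p j2 i13 i11) (p j2 i13 i8) (n j2 i13 i9))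
  (@T16.mk E (p j2 i14 i6) (n j2 i14 i7) (n j2 i14 i4) (p j2 i14 i5) (p j2 i14 i2) (n j2 i14 i3) (n j2 i14 i0) (p j2 i14 i1) (n j2 i14 i14) (p j2 i14 i15) (p j2 i14 i12) (n j2 i14 i13) (n j2 i14 i10) (p j2 i14 i11) (p j2 i14 i8) (n j2 i14 i9))
  (@T16.mk E (p j2 i15 i6) (n j2 i15 i7) (n j2 i15 i4) (p j2 i15 i5) (p j2 i15 i2) (n j2 i15 i3) (n j2 i15 i0) (p j2 i15 i1) (n j2 i15 i14) (p j2 i15 i15) (p j2 i15 i12) (n j2 i15 i13) (n j2 i15 i10) (p j2 i15 i11) (p j2 i15 i8) (n j2 i15 i9))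
  (@T16.mk E (p j2 i0 i6) (n j2 i0 i7) (n j2 i0 i4) (p j2 i0 i5) (p j2 i0 i2) (n j2 i0 i3) (n j2 i0 i0) (p j2 i0 i1) (n j2 i0 i14) (p j2 i0 i15) (p j2 i0 i12) (n j2 i0 i13) (n j2 i0 i10) (p j2 i0 i11) (p j2 i0 i8) (n j2 i0 i9))
  (@T16.mk E (p j2 i1 i6) (n j2 i1 i7) (n j2 i1 i4) (p j2 i1 i5) (p j2 i1 i2) (n j2 i1 i3) (n j2 i1 i0) (p j2 i1 i1) (n j2 i1 i14) (p j2 i1 i15) (p j2 i1 i12) (n j2 i1 i13) (n j2 i1 i10) (p j2 i1 i11) (p j2 i1 i8) (n j2 i1 i9))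
  (@T16.mk E (p j2 i2 i6) (n j2 i2 i7) (n j2 i2 i4) (p j2 i2 i5) (p j2 i2 i2) (n j2 i2 i3) (n j2 i2 i0) (p j2 i2 i1) (n j2 i2 i14) (p j2 i2 i15) (p j2 i2 i12) (n j2 i2 i13) (n j2 i2 i10) (p j2 i2 i11) (p j2 i2 i8) (n j2 i2 i9))
  (@T16.mk E (p j2 i3 i6) (n j2 i3 i7) (n j2 i3 i4) (p j2 i3 i5) (p j2 i3 i2) (n j2 i3 i3) (n j2 i3 i0) (p j2 i3 i1) (n j2 i3 i14) (p j2 i3 i15) (p j2 i3 i12) (n j2 i3 i13) (n j2 i3 i10) (p j2 i3 i11) (p j2 i3 i8) (n j2 i3 i9))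
  (@T16.mk E (p j2 i4 i6) (n j2 i4 i7) (n j2 i4 i4) (p j2 i4 i5) (p j2 i4 i2) (n j2 i4 i3) (n j2 i4 i0) (p j2 i4 i1) (n j2 i4 i14) (p j2 i4 i15) (p j2 i4 i12) (n j2 i4 i13) (n j2 i4 i10) (p j2 i4 i11) (p j2 i4 i8) (n j2 i4 i9))
  (@T16.mk E (p j2 i5 i6) (n j2 i5 i7) (n j2 i5 i4) (p j2 i5 i5) (p j2 i5 i2) (n j2 i5 i3) (n j2 i5 i0) (p j2 i5 i1) (n j2 i5 i14) (p j2 i5 i15) (p j2 i5 i12) (n j2 i5 i13) (n j2 i5 i10) (p j2 i5 i11) (p j2 i5 i8) (n j2 i5 i9))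
  (@T16.mk E (n j2 i6 i6) (p j2 i6 i7) (p j2 i6 i4) (n j2 i6 i5) (n j2 i6 i2) (p j2 i6 i3) (p j2 i6 i0) (n j2 i6 i1) (p j2 i6 i14) (n j2 i6 i15) (n j2 i6 i12) (p j2 i6 i13) (p j2 i6 i10) (n j2 i6 i11) (n j2 i6 i8) (p j2 i6 i9))
  (@T16.mk E (p j2 i7 i6) (n j2 i7 i7) (n j2 i7 i4) (p j2 i7 i5) (p j2 i7 i2) (n j2 i7 i3) (n j2 i7 i0) (p j2 i7 i1) (n j2 i7 i14) (p j2 i7 i15) (p j2 i7 i12) (n j2 i7 i13) (n j2 i7 i10) (p j2 i7 i11) (p j2 i7 i8) (n j2 i7 i9))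
 )
 (@T16.mk (T16 E)
  (@T16.mk E (p j5 i8 i6) (n j5 i8 i7) (n j5 i8 i4) (p j5 i8 i5) (p j5 i8 i2) (n j5 i8 i3) (n j5 i8 i0) (p j5 i8 i1) (n j5 i8 i14) (p j5 i8 i15) (p j5 i8 i12) (n j5 i8 i13) (n j5 i8 i10) (p j5 i8 i11) (p j5 i8 i8) (n j5 i8 i9))
  (@T16.mk E (n j5 i9 i6) (p j5 i9 i7) (p j5 i9 i4) (n j5 i9 i5) (n j5 i9 i2) (p j5 i9 i3) (p j5 i9 i0) (n j5 i9 i1) (p j5 i9 i14) (n j5 i9 i15) (n j5 i9 i12) (p j5 i9 i13) (p j5 i9 i10) (n j5 i9 i11) (n j5 i9 i8) (p j5 i9 i9))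
  (@T16.mk E (p j5 i10 i6) (n j5 i10 i7) (n j5 i10 i4) (p j5 i10 i5) (p j5 i10 i2) (n j5 i10 i3) (n j5 i10 i0) (p j5 i10 i1) (n j5 i10 i14) (p j5 i10 i15) (p j5 i10 i12) (n j5 i10 i13) (n j5 i10 i10) (p j5 i10 i11) (p j5 i10 i8) (n j5 i10 i9))
  (@T16.mk E (p j5 i11 i6) (n j5 i11 i7) (n j5 i11 i4) (p j5 i11 i5) (p j5 i11 i2) (n j5 i11 i3) (n j5 i11 i0) (p j5 i11 i1) (n j5 i11 i14) (p j5 i11 i15) (p j5 i11 i12) (n j5 i11 i13) (n j5 i11 i10) (p j5 i11 i11) (p j5 i11 i8) (n j5 i11 i9))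
  (@T16.mk E (p j5 i12 i6) (n j5 i12 i7) (n j5 i12 i4) (p j5 i12 i5) (p j5 i12 i2) (n j5 i12 i3) (n j5 i12 i0) (p j5 i12 i1) (n j5 i12 i14) (p j5 i12 i15) (p j5 i12 i12) (n j5 i12 i13) (n j5 i12 i10) (p j5 i12 i11) (p j5 i12 i8) (n j5 i12 i9))
  (@T16.mk E (p j5 i13 i6) (n j5 i13 i7) (n j5 i13 i4) (p j5 i13 i5) (p j5 i13 i2) (n j5 i13 i3) (n j5 i13 i0) (p j5 i13 i1) (n j5 i13 i14) (p j5 i13 i15) (p j5 i13 i12) (n j5 i13 i13) (n j5 i13 i10) (p j5 i13 i11) (p j5 i13 i8) (n j5 i13 i9))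
  (@T16.mk E (p j5 i14 i6) (n j5 i14 i7) (n j5 i14 i4) (p j5 i14 i5) (p j5 i14 i2) (n j5 i14 i3) (n j5 i14 i0) (p j5 i14 i1) (n j5 i14 i14) (p j5 i14 i15) (p j5 i14 i12) (n j5 i14 i13) (n j5 i14 i10) (p j5 i14 i11) (p j5 i14 i8) (n j5 i14 i9))
  (@T16.mk E (p j5 i15 i6) (n j5 i15 i7) (n j5 i15 i4) (p j5 i15 i5) (p j5 i15 i2) (n j5 i15 i3) (n j5 i15 i0) (p j5 i15 i1) (n j5 i15 i14) (p j5 i15 i15) (p j5 i15 i12) (n j5 i15 i13) (n j5 i15 i10) (p j5 i15 i11) (p j5 i15 i8) (n j5 i15 i9))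
  (@T16.mk E (p j5 i0 i6) (n j5 i0 i7) (n j5 i0 i4) (p j5 i0 i5) (p j5 i0 i2) (n j5 i0 i3) (n j5 i0 i0) (p j5 i0 i1) (n j5 i0 i14) (p j5 i0 i15) (p j5 i0 i12) (n j5 i0 i13) (n j5 i0 i10) (p j5 i0 i11) (p j5 i0 i8) (n j5 i0 i9))
  (@T16.mk E (p j5 i1 i6) (n j5 i1 i7) (n j5 i1 i4) (p j5 i1 i5) (p j5 i1 i2) (n j5 i1 i3) (n j5 i1 i0) (p j5 i1 i1) (n j5 i1 i14) (p j5 i1 i15) (p j5 i1 i12) (n j5 i1 i13) (n j5 i1 i10) (p j5 i1 i11) (p j5 i1 i8) (n j5 i1 i9))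
  (@T16.mk E (p j5 i2 i6) (n j5 i2 i7) (n j5 i2 i4) (p j5 i2 i5) (p j5 i2 i2) (n j5 i2 i3) (n j5 i2 i0) (p j5 i2 i1) (n j5 i2 i14) (p j5 i2 i15) (p j5 i2 i12) (n j5 i2 i13) (n j5 i2 i10) (p j5 i2 i11) (p j5 i2 i8) (n j5 i2 i9))
  (@T16.mk E (p j5 i3 i6) (n j5 i3 i7) (n j5 i3 i4) (p j5 i3 i5) (p j5 i3 i2) (n j5 i3 i3) (n j5 i3 i0) (p j5 i3 i1) (n j5 i3 i14) (p j5 i3 i15) (p j5 i3 i12) (n j5 i3 i13) (n j5 i3 i10) (p j5 i3 i11) (p j5 i3 i8) (n j5 i3 i9))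
  (@T16.mk E (p j5 i4 i6) (n j5 i4 i7) (n j5 i4 i4) (p j5 i4 i5) (p j5 i4 i2) (n j5 i4 i3) (n j5 i4 i0) (p j5 i4 i1) (n j5 i4 i14) (p j5 i4 i15) (p j5 i4 i12) (n j5 i4 i13) (n j5 i4 i10) (p j5 i4 i11) (p j5 i4 i8) (n j5 i4 i9))
  (@T16.mk E (n j5 i5 i6) (p j5 i5 i7) (p j5 i5 i4) (n j5 i5 i5) (n j5 i5 i2) (p j5 i5 i3) (p j5 i5 i0) (n j5 i5 i1) (p j5 i5 i14) (n j5 i5 i15) (n j5 i5 i12) (p j5 i5 i13) (p j5 i5 i10) (n j5 i5 i11) (n j5 i5 i8) (p j5 i5 i9))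
  (@T16.mk E (p j5 i6 i6) (n j5 i6 i7) (n j5 i6 i4) (p j5 i6 i5) (p j5 i6 i2) (n j5 i6 i3) (n j5 i6 i0) (p j5 i6 i1) (n j5 i6 i14) (p j5 i6 i15) (p j5 i6 i12) (n j5 i6 i13) (n j5 i6 i10) (p j5 i6 i11) (p j5 i6 i8) (n j5 i6 i9))
  (@T16.mk E (p j5 i7 i6) (n j5 i7 i7) (n j5 i7 i4) (p j5 i7 i5) (p j5 i7 i2) (n j5 i7 i3) (n j5 i7 i0) (p j5 i7 i1) (n j5 i7 i14) (p j5 i7 i15) (p j5 i7 i12) (n j5 i7 i13) (n j5 i7 i10) (p j5 i7 i11) (p j5 i7 i8) (n j5 i7 i9))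
 )
 (@T16.mk (T16 E)
  (@T16.mk E (n j4 i8 i6) (p j4 i8 i7) (p j4 i8 i4) (n j4 i8 i5) (n j4 i8 i2) (p j4 i8 i3) (p j4 i8 i0) (n j4 i8 i1) (p j4 i8 i14) (n j4 i8 i15) (n j4 i8 i12) (p j4 i8 i13) (p j4 i8 i10) (n j4 i8 i11) (n j4 i8 i8) (p j4 i8 i9))
  (@T16.mk E (n j4 i9 i6) (p j4 i9 i7) (p j4 i9 i4) (n j4 i9 i5) (n j4 i9 i2) (p j4 i9 i3) (p j4 i9 i0) (n j4 i9 i1) (p j4 i9 i14) (n j4 i9 i15) (n j4 i9 i12) (p j4 i9 i13) (p j4 i9 i10) (n j4 i9 i11) (n j4 i9 i8) (p j4 i9 i9))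
  (@T16.mk E (n j4 i10 i6) (p j4 i10 i7) (p j4 i10 i4) (n j4 i10 i5) (n j4 i10 i2) (p j4 i10 i3) (p j4 i10 i0) (n j4 i10 i1) (p j4 i10 i14) (n j4 i10 i15) (n j4 i10 i12) (p j4 i10 i13) (p j4 i10 i10) (n j4 i10 i11) (n j4 i10 i8) (p j4 i10 i9))
  (@T16.mk E (n j4 i11 i6) (p j4 i11 i7) (p j4 i11 i4) (n j4 i11 i5) (n j4 i11 i2) (p j4 i11 i3) (p j4 i11 i0) (n j4 i11 i1) (p j4 i11 i14) (n j4 i11 i15) (n j4 i11 i12) (p j4 i11 i13) (p j4 i11 i10) (n j4 i11 i11) (n j4 i11 i8) (p j4 i11 i9))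
  (@T16.mk E (n j4 i12 i6) (p j4 i12 i7) (p j4 i12 i4) (n j4 i12 i5) (n j4 i12 i2) (p j4 i12 i3) (p j4 i12 i0) (n j4 i12 i1) (p j4 i12 i14) (n j4 i12 i15) (n j4 i12 i12) (p j4 i12 i13) (p j4 i12 i10) (n j4 i12 i11) (n j4 i12 i8) (p j4 i12 i9))
  (@T16.mk E (p j4 i13 i6) (n j4 i13 i7) (n j4 i13 i4) (p j4 i13 i5) (p j4 i13 i2) (n j4 i13 i3) (n j4 i13 i0) (p j4 i13 i1) (n j4 i13 i14) (p j4 i13 i15) (p j4 i13 i12) (n j4 i13 i13) (n j4 i13 i10) (p j4 i13 i11) (p j4 i13 i8) (n j4 i13 i9))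
  (@T16.mk E (n j4 i14 i6) (p j4 i14 i7) (p j4 i14 i4) (n j4 i14 i5) (n j4 i14 i2) (p j4 i14 i3) (p j4 i14 i0) (n j4 i14 i1) (p j4 i14 i14) (n j4 i14 i15) (n j4 i14 i12) (p j4 i14 i13) (p j4 i14 i10) (n j4 i14 i11) (n j4 i14 i8) (p j4 i14 i9))
  (@T16.mk E (n j4 i15 i6) (p j4 i15 i7) (p j4 i15 i4) (n j4 i15 i5) (n j4 i15 i2) (p j4 i15 i3) (p j4 i15 i0) (n j4 i15 i1) (p j4 i15 i14) (n j4 i15 i15) (n j4 i15 i12) (p j4 i15 i13) (p j4 i15 i10) (n j4 i15 i11) (n j4 i15 i8) (p j4 i15 i9))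
  (@T16.mk E (n j4 i0 i6) (p j4 i0 i7) (p j4 i0 i4) (n j4 i0 i5) (n j4 i0 i2) (p j4 i0 i3) (p j4 i0 i0) (n j4 i0 i1) (p j4 i0 i14) (n j4 i0 i15) (n j4 i0 i12) (p j4 i0 i13) (p j4 i0 i10) (n j4 i0 i11) (n j4 i0 i8) (p j4 i0 i9))
  (@T16.mk E (p j4 i1 i6) (n j4 i1 i7) (n j4 i1 i4) (p j4 i1 i5) (p j4 i1 i2) (n j4 i1 i3) (n j4 i1 i0) (p j4 i1 i1) (n j4 i1 i14) (p j4 i1 i15) (p j4 i1 i12) (n j4 i1 i13) (n j4 i1 i10) (p j4 i1 i11) (p j4 i1 i8) (n j4 i1 i9))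
  (@T16.mk E (n j4 i2 i6) (p j4 i2 i7) (p j4 i2 i4) (n j4 i2 i5) (n j4 i2 i2) (p j4 i2 i3) (p j4 i2 i0) (n j4 i2 i1) (p j4 i2 i14) (n j4 i2 i15) (n j4 i2 i12) (p j4 i2 i13) (p j4 i2 i10) (n j4 i2 i11) (n j4 i2 i8) (p j4 i2 i9))
  (@T16.mk E (n j4 i3 i6) (p j4 i3 i7) (p j4 i3 i4) (n j4 i3 i5) (n j4 i3 i2) (p j4 i3 i3) (p j4 i3 i0) (n j4 i3 i1) (p j4 i3 i14) (n j4 i3 i15) (n j4 i3 i12) (p j4 i3 i13) (p j4 i3 i10) (n j4 i3 i11) (n j4 i3 i8) (p j4 i3 i9))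
  (@T16.mk E (n j4 i4 i6) (p j4 i4 i7) (p j4 i4 i4) (n j4 i4 i5) (n j4 i4 i2) (p j4 i4 i3) (p j4 i4 i0) (n j4 i4 i1) (p j4 i4 i14) (n j4 i4 i15) (n j4 i4 i12) (p j4 i4 i13) (p j4 i4 i10) (n j4 i4 i11) (n j4 i4 i8) (p j4 i4 i9))
  (@T16.mk E (n j4 i5 i6) (p j4 i5 i7) (p j4 i5 i4) (n j4 i5 i5) (n j4 i5 i2) (p j4 i5 i3) (p j4 i5 i0) (n j4 i5 i1) (p j4 i5 i14) (n j4 i5 i15) (n j4 i5 i12) (p j4 i5 i13) (p j4 i5 i10) (n j4 i5 i11) (n j4 i5 i8) (p j4 i5 i9))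
  (@T16.mk E (n j4 i6 i6) (p j4 i6 i7) (p j4 i6 i4) (n j4 i6 i5) (n j4 i6 i2) (p j4 i6 i3) (p j4 i6 i0) (n j4 i6 i1) (p j4 i6 i14) (n j4 i6 i15) (n j4 i6 i12) (p j4 i6 i13) (p j4 i6 i10) (n j4 i6 i11) (n j4 i6 i8) (p j4 i6 i9))
  (@T16.mk E (n j4 i7 i6) (p j4 i7 i7) (p j4 i7 i4) (n j4 i7 i5) (n j4 i7 i2) (p j4 i7 i3) (p j4 i7 i0) (n j4 i7 i1) (p j4 i7 i14) (n j4 i7 i15) (n j4 i7 i12) (p j4 i7 i13) (p j4 i7 i10) (n j4 i7 i11) (n j4 i7 i8) (p j4 i7 i9))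
 )
 (@T16.mk (T16 E)
  (@T16.mk E (p j7 i8 i6) (n j7 i8 i7) (n j7 i8 i4) (p j7 i8 i5) (p j7 i8 i2) (n j7 i8 i3) (n j7 i8 i0) (p j7 i8 i1) (n j7 i8 i14) (p j7 i8 i15) (p j7 i8 i12) (n j7 i8 i13) (n j7 i8 i10) (p j7 i8 i11) (p j7 i8 i8) (n j7 i8 i9))
  (@T16.mk E (n j7 i9 i6) (p j7 i9 i7) (p j7 i9 i4) (n j7 i9 i5) (n j7 i9 i2) (p j7 i9 i3) (p j7 i9 i0) (n j7 i9 i1) (p j7 i9 i14) (n j7 i9 i15) (n j7 i9 i12) (p j7 i9 i13) (p j7 i9 i10) (n j7 i9 i11) (n j7 i9 i8) (p j7 i9 i9))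
  (@T16.mk E (n j7 i10 i6) (p j7 i10 i7) (p j7 i10 i4) (n j7 i10 i5) (n j7 i10 i2) (p j7 i10 i3) (p j7 i10 i0) (n j7 i10 i1) (p j7 i10 i14) (n j7 i10 i15) (n j7 i10 i12) (p j7 i10 i13) (p j7 i10 i10) (n j7 i10 i11) (n j7 i10 i8) (p j7 i10 i9))
  (@T16.mk E (n j7 i11 i6) (p j7 i11 i7) (p j7 i11 i4) (n j7 i11 i5) (n j7 i11 i2) (p j7 i11 i3) (p j7 i11 i0) (n j7 i11 i1) (p j7 i11 i14) (n j7 i11 i15) (n j7 i11 i12) (p j7 i11 i13) (p j7 i11 i10) (n j7 i11 i11) (n j7 i11 i8) (p j7 i11 i9))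
  (@T16.mk E (p j7 i12 i6) (n j7 i12 i7) (n j7 i12 i4) (p j7 i12 i5) (p j7 i12 i2) (n j7 i12 i3) (n j7 i12 i0) (p j7 i12 i1) (n j7 i12 i14) (p j7 i12 i15) (p j7 i12 i12) (n j7 i12 i13) (n j7 i12 i10) (p j7 i12 i11) (p j7 i12 i8) (n j7 i12 i9))
  (@T16.mk E (p j7 i13 i6) (n j7 i13 i7) (n j7 i13 i4) (p j7 i13 i5) (p j7 i13 i2) (n j7 i13 i3) (n j7 i13 i0) (p j7 i13 i1) (n j7 i13 i14) (p j7 i13 i15) (p j7 i13 i12) (n j7 i13 i13) (n j7 i13 i10) (p j7 i13 i11) (p j7 i13 i8) (n j7 i13 i9))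
  (@T16.mk E (n j7 i14 i6) (p j7 i14 i7) (p j7 i14 i4) (n j7 i14 i5) (n j7 i14 i2) (p j7 i14 i3) (p j7 i14 i0) (n j7 i14 i1) (p j7 i14 i14) (n j7 i14 i15) (n j7 i14 i12) (p j7 i14 i13) (p j7 i14 i10) (n j7 i14 i11) (n j7 i14 i8) (p j7 i14 i9))
  (@T16.mk E (n j7 i15 i6) (p j7 i15 i7) (p j7 i15 i4) (n j7 i15 i5) (n j7 i15 i2) (p j7 i15 i3) (p j7 i15 i0) (n j7 i15 i1) (p j7 i15 i14) (n j7 i15 i15) (n j7 i15 i12) (p j7 i15 i13) (p j7 i15 i10) (n j7 i15 i11) (n j7 i15 i8) (p j7 i15 i9))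
  (@T16.mk E (n j7 i0 i6) (p j7 i0 i7) (p j7 i0 i4) (n j7 i0 i5) (n j7 i0 i2) (p j7 i0 i3) (p j7 i0 i0) (n j7 i0 i1) (p j7 i0 i14) (n j7 i0 i15) (n j7 i0 i12) (p j7 i0 i13) (p j7 i0 i10) (n j7 i0 i11) (n j7 i0 i8) (p j7 i0 i9))
  (@T16.mk E (n j7 i1 i6) (p j7 i1 i7) (p j7 i1 i4) (n j7 i1 i5) (n j7 i1 i2) (p j7 i1 i3) (p j7 i1 i0) (n j7 i1 i1) (p j7 i1 i14) (n j7 i1 i15) (n j7 i1 i12) (p j7 i1 i13) (p j7 i1 i10) (n j7 i1 i11) (n j7 i1 i8) (p j7 i1 i9))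
  (@T16.mk E (n j7 i2 i6) (p j7 i2 i7) (p j7 i2 i4) (n j7 i2 i5) (n j7 i2 i2) (p j7 i2 i3) (p j7 i2 i0) (n j7 i2 i1) (p j7 i2 i14) (n j7 i2 i15) (n j7 i2 i12) (p j7 i2 i13) (p j7 i2 i10) (n j7 i2 i11) (n j7 i2 i8) (p j7 i2 i9))
  (@T16.mk E (n j7 i3 i6) (p j7 i3 i7) (p j7 i3 i4) (n j7 i3 i5) (n j7 i3 i2) (p j7 i3 i3) (p j7 i3 i0) (n j7 i3 i1) (p j7 i3 i14) (n j7 i3 i15) (n j7 i3 i12) (p j7 i3 i13) (p j7 i3 i10) (n j7 i3 i11) (n j7 i3 i8) (p j7 i3 i9))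
  (@T16.mk E (n j7 i4 i6) (p j7 i4 i7) (p j7 i4 i4) (n j7 i4 i5) (n j7 i4 i2) (p j7 i4 i3) (p j7 i4 i0) (n j7 i4 i1) (p j7 i4 i14) (n j7 i4 i15) (n j7 i4 i12) (p j7 i4 i13) (p j7 i4 i10) (n j7 i4 i11) (n j7 i4 i8) (p j7 i4 i9))
  (@T16.mk E (p j7 i5 i6) (n j7 i5 i7) (n j7 i5 i4) (p j7 i5 i5) (p j7 i5 i2) (n j7 i5 i3) (n j7 i5 i0) (p j7 i5 i1) (n j7 i5 i14) (p j7 i5 i15) (p j7 i5 i12) (n j7 i5 i13) (n j7 i5 i10) (p j7 i5 i11) (p j7 i5 i8) (n j7 i5 i9))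
  (@T16.mk E (n j7 i6 i6) (p j7 i6 i7) (p j7 i6 i4) (n j7 i6 i5) (n j7 i6 i2) (p j7 i6 i3) (p j7 i6 i0) (n j7 i6 i1) (p j7 i6 i14) (n j7 i6 i15) (n j7 i6 i12) (p j7 i6 i13) (p j7 i6 i10) (n j7 i6 i11) (n j7 i6 i8) (p j7 i6 i9))
  (@T16.mk E (n j7 i7 i6) (p j7 i7 i7) (p j7 i7 i4) (n j7 i7 i5) (n j7 i7 i2) (p j7 i7 i3) (p j7 i7 i0) (n j7 i7 i1) (p j7 i7 i14) (n j7 i7 i15) (n j7 i7 i12) (p j7 i7 i13) (p j7 i7 i10) (n j7 i7 i11) (n j7 i7 i8) (p j7 i7 i9))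
 )
 (@T16.mk (T16 E)
  (@T16.mk E (p j6 i8 i6) (n j6 i8 i7) (n j6 i8 i4) (p j6 i8 i5) (p j6 i8 i2) (n j6 i8 i3) (n j6 i8 i0) (p j6 i8 i1) (n j6 i8 i14) (p j6 i8 i15) (p j6 i8 i12) (n j6 i8 i13) (n j6 i8 i10) (p j6 i8 i11) (p j6 i8 i8) (n j6 i8 i9))
  (@T16.mk E (p j6 i9 i6) (n j6 i9 i7) (n j6 i9 i4) (p j6 i9 i5) (p j6 i9 i2) (n j6 i9 i3) (n j6 i9 i0) (p j6 i9 i1) (n j6 i9 i14) (p j6 i9 i15) (p j6 i9 i12) (n j6 i9 i13) (n j6 i9 i10) (p j6 i9 i11) (p j6 i9 i8) (n j6 i9 i9))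
  (@T16.mk E (p j6 i10 i6) (n j6 i10 i7) (n j6 i10 i4) (p j6 i10 i5) (p j6 i10 i2) (n j6 i10 i3) (n j6 i10 i0) (p j6 i10 i1) (n j6 i10 i14) (p j6 i10 i15) (p j6 i10 i12) (n j6 i10 i13) (n j6 i10 i10) (p j6 i10 i11) (p j6 i10 i8) (n j6 i10 i9))
  (@T16.mk E (p j6 i11 i6) (n j6 i11 i7) (n j6 i11 i4) (p j6 i11 i5) (p j6 i11 i2) (n j6 i11 i3) (n j6 i11 i0) (p j6 i11 i1) (n j6 i11 i14) (p j6 i11 i15) (p j6 i11 i12) (n j6 i11 i13) (n j6 i11 i10) (p j6 i11 i11) (p j6 i11 i8) (n j6 i11 i9))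
  (@T16.mk E (p j6 i12 i6) (n j6 i12 i7) (n j6 i12 i4) (p j6 i12 i5) (p j6 i12 i2) (n j6 i12 i3) (n j6 i12 i0) (p j6 i12 i1) (n j6 i12 i14) (p j6 i12 i15) (p j6 i12 i12) (n j6 i12 i13) (n j6 i12 i10) (p j6 i12 i11) (p j6 i12 i8) (n j6 i12 i9))
  (@T16.mk E (n j6 i13 i6) (p j6 i13 i7) (p j6 i13 i4) (n j6 i13 i5) (n j6 i13 i2) (p j6 i13 i3) (p j6 i13 i0) (n j6 i13 i1) (p j6 i13 i14) (n j6 i13 i15) (n j6 i13 i12) (p j6 i13 i13) (p j6 i13 i10) (n j6 i13 i11) (n j6 i13 i8) (p j6 i13 i9))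
  (@T16.mk E (p j6 i14 i6) (n j6 i14 i7) (n j6 i14 i4) (p j6 i14 i5) (p j6 i14 i2) (n j6 i14 i3) (n j6 i14 i0) (p j6 i14 i1) (n j6 i14 i14) (p j6 i14 i15) (p j6 i14 i12) (n j6 i14 i13) (n j6 i14 i10) (p j6 i14 i11) (p j6 i14 i8) (n j6 i14 i9))
  (@T16.mk E (p j6 i15 i6) (n j6 i15 i7) (n j6 i15 i4) (p j6 i15 i5) (p j6 i15 i2) (n j6 i15 i3) (n j6 i15 i0) (p j6 i15 i1) (n j6 i15 i14) (p j6 i15 i15) (p j6 i15 i12) (n j6 i15 i13) (n j6 i15 i10) (p j6 i15 i11) (p j6 i15 i8) (n j6 i15 i9))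
  (@T16.mk E (n j6 i0 i6) (p j6 i0 i7) (p j6 i0 i4) (n j6 i0 i5) (n j6 i0 i2) (p j6 i0 i3) (p j6 i0 i0) (n j6 i0 i1) (p j6 i0 i14) (n j6 i0 i15) (n j6 i0 i12) (p j6 i0 i13) (p j6 i0 i10) (n j6 i0 i11) (n j6 i0 i8) (p j6 i0 i9))
  (@T16.mk E (p j6 i1 i6) (n j6 i1 i7) (n j6 i1 i4) (p j6 i1 i5) (p j6 i1 i2) (n j6 i1 i3) (n j6 i1 i0) (p j6 i1 i1) (n j6 i1 i14) (p j6 i1 i15) (p j6 i1 i12) (n j6 i1 i13) (n j6 i1 i10) (p j6 i1 i11) (p j6 i1 i8) (n j6 i1 i9))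
  (@T16.mk E (p j6 i2 i6) (n j6 i2 i7) (n j6 i2 i4) (p j6 i2 i5) (p j6 i2 i2) (n j6 i2 i3) (n j6 i2 i0) (p j6 i2 i1) (n j6 i2 i14) (p j6 i2 i15) (p j6 i2 i12) (n j6 i2 i13) (n j6 i2 i10) (p j6 i2 i11) (p j6 i2 i8) (n j6 i2 i9))
  (@T16.mk E (p j6 i3 i6) (n j6 i3 i7) (n j6 i3 i4) (p j6 i3 i5) (p j6 i3 i2) (n j6 i3 i3) (n j6 i3 i0) (p j6 i3 i1) (n j6 i3 i14) (p j6 i3 i15) (p j6 i3 i12) (n j6 i3 i13) (n j6 i3 i10) (p j6 i3 i11) (p j6 i3 i8) (n j6 i3 i9))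
  (@T16.mk E (n j6 i4 i6) (p j6 i4 i7) (p j6 i4 i4) (n j6 i4 i5) (n j6 i4 i2) (p j6 i4 i3) (p j6 i4 i0) (n j6 i4 i1) (p j6 i4 i14) (n j6 i4 i15) (n j6 i4 i12) (p j6 i4 i13) (p j6 i4 i10) (n j6 i4 i11) (n j6 i4 i8) (p j6 i4 i9))
  (@T16.mk E (n j6 i5 i6) (p j6 i5 i7) (p j6 i5 i4) (n j6 i5 i5) (n j6 i5 i2) (p j6 i5 i3) (p j6 i5 i0) (n j6 i5 i1) (p j6 i5 i14) (n j6 i5 i15) (n j6 i5 i12) (p j6 i5 i13) (p j6 i5 i10) (n j6 i5 i11) (n j6 i5 i8) (p j6 i5 i9))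
  (@T16.mk E (p j6 i6 i6) (n j6 i6 i7) (n j6 i6 i4) (p j6 i6 i5) (p j6 i6 i2) (n j6 i6 i3) (n j6 i6 i0) (p j6 i6 i1) (n j6 i6 i14) (p j6 i6 i15) (p j6 i6 i12) (n j6 i6 i13) (n j6 i6 i10) (p j6 i6 i11) (p j6 i6 i8) (n j6 i6 i9))
  (@T16.mk E (p j6 i7 i6) (n j6 i7 i7) (n j6 i7 i4) (p j6 i7 i5) (p j6 i7 i2) (n j6 i7 i3) (n j6 i7 i0) (p j6 i7 i1) (n j6 i7 i14) (p j6 i7 i15) (p j6 i7 i12) (n j6 i7 i13) (n j6 i7 i10) (p j6 i7 i11) (p j6 i7 i8) (n j6 i7 i9))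
 )
 (@T16.mk (T16 E)
  (@T16.mk E (p j8 i0 i0) (p j8 i0 i1) (p j8 i0 i2) (p j8 i0 i3) (p j8 i0 i4) (p j8 i0 i5) (p j8 i0 i6) (p j8 i0 i7) (p j8 i0 i8) (p j8 i0 i9) (p j8 i0 i10) (p j8 i0 i11) (p j8 i0 i12) (p j8 i0 i13) (p j8 i0 i14) (p j8 i0 i15))
  (@T16.mk E (n j8 i1 i0) (n j8 i1 i1) (p j8 i1 i2) (p j8 i1 i3) (p j8 i1 i4) (p j8 i1 i5) (n j8 i1 i6) (n j8 i1 i7) (p j8 i1 i8) (p j8 i1 i9) (n j8 i1 i10) (n j8 i1 i11) (n j8 i1 i12) (n j8 i1 i13) (p j8 i1 i14) (p j8 i1 i15))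
  (@T16.mk E (n j8 i2 i0) (p j8 i2 i1) (p j8 i2 i2) (n j8 i2 i3) (n j8 i2 i4) (p j8 i2 i5) (p j8 i2 i6) (n j8 i2 i7) (p j8 i2 i8) (n j8 i2 i9) (n j8 i2 i10) (p j8 i2 i11) (p j8 i2 i12) (n j8 i2 i13) (n j8 i2 i14) (p j8 i2 i15))
  (@T16.mk E (p j8 i3 i0) (p j8 i3 i1) (n j8 i3 i2) (n j8 i3 i3) (p j8 i3 i4) (p j8 i3 i5) (n j8 i3 i6) (n j8 i3 i7) (p j8 i3 i8) (p j8 i3 i9) (n j8 i3 i10) (n j8 i3 i11) (p j8 i3 i12) (p j8 i3 i13) (n j8 i3 i14) (n j8 i3 i15))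
  (@T16.mk E (p j8 i4 i0) (p j8 i4 i1) (n j8 i4 i2) (n j8 i4 i3) (n j8 i4 i4) (n j8 i4 i5) (p j8 i4 i6) (p j8 i4 i7) (n j8 i4 i8) (n j8 i4 i9) (p j8 i4 i10) (p j8 i4 i11) (p j8 i4 i12) (p j8 i4 i13) (n j8 i4 i14) (n j8 i4 i15))
  (@T16.mk E (p j8 i5 i0) (p j8 i5 i1) (p j8 i5 i2) (p j8 i5 i3) (p j8 i5 i4) (p j8 i5 i5) (p j8 i5 i6) (p j8 i5 i7) (p j8 i5 i8) (p j8 i5 i9) (p j8 i5 i10) (p j8 i5 i11) (p j8 i5 i12) (p j8 i5 i13) (p j8 i5 i14) (p j8 i5 i15))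
  (@T16.mk E (n j8 i6 i0) (n j8 i6 i1) (n j8 i6 i2) (n j8 i6 i3) (p j8 i6 i4) (p j8 i6 i5) (p j8 i6 i6) (p j8 i6 i7) (n j8 i6 i8) (n j8 i6 i9) (n j8 i6 i10) (n j8 i6 i11) (p j8 i6 i12) (p j8 i6 i13) (p j8 i6 i14) (p j8 i6 i15))
  (@T16.mk E (n j8 i7 i0) (p j8 i7 i1) (p j8 i7 i2) (n j8 i7 i3) (n j8 i7 i4) (p j8 i7 i5) (p j8 i7 i6) (n j8 i7 i7) (n j8 i7 i8) (p j8 i7 i9) (p j8 i7 i10) (n j8 i7 i11) (n j8 i7 i12) (p j8 i7 i13) (p j8 i7 i14) (n j8 i7 i15))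
  (@T16.mk E (n j8 i8 i0) (p j8 i8 i1) (n j8 i8 i2) (p j8 i8 i3) (n j8 i8 i4) (p j8 i8 i5) (n j8 i8 i6) (p j8 i8 i7) (n j8 i8 i8) (p j8 i8 i9) (n j8 i8 i10) (p j8 i8 i11) (n j8 i8 i12) (p j8 i8 i13) (n j8 i8 i14) (p j8 i8 i15))
  (@T16.mk E (n j8 i9 i0) (p j8 i9 i1) (n j8 i9 i2) (p j8 i9 i3) (p j8 i9 i4) (n j8 i9 i5) (p j8 i9 i6) (n j8 i9 i7) (p j8 i9 i8) (n j8 i9 i9) (p j8 i9 i10) (n j8 i9 i11) (n j8 i9 i12) (p j8 i9 i13) (n j8 i9 i14) (p j8 i9 i15))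
  (@T16.mk E (n j8 i10 i0) (p j8 i10 i1) (p j8 i10 i2) (n j8 i10 i3) (n j8 i10 i4) (p j8 i10 i5) (p j8 i10 i6) (n j8 i10 i7) (n j8 i10 i8) (p j8 i10 i9) (p j8 i10 i10) (n j8 i10 i11) (n j8 i10 i12) (p j8 i10 i13) (p j8 i10 i14) (n j8 i10 i15))
  (@T16.mk E (n j8 i11 i0) (p j8 i11 i1) (p j8 i11 i2) (n j8 i11 i3) (n j8 i11 i4) (p j8 i11 i5) (p j8 i11 i6) (n j8 i11 i7) (p j8 i11 i8) (n j8 i11 i9) (n j8 i11 i10) (p j8 i11 i11) (p j8 i11 i12) (n j8 i11 i13) (n j8 i11 i14) (p j8 i11 i15))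
  (@T16.mk E (p j8 i12 i0) (n j8 i12 i1) (p j8 i12 i2) (n j8 i12 i3) (p j8 i12 i4) (n j8 i12 i5) (p j8 i12 i6) (n j8 i12 i7) (p j8 i12 i8) (n j8 i12 i9) (p j8 i12 i10) (n j8 i12 i11) (p j8 i12 i12) (n j8 i12 i13) (p j8 i12 i14) (n j8 i12 i15))
  (@T16.mk E (p j8 i13 i0) (n j8 i13 i1) (n j8 i13 i2) (p j8 i13 i3) (p j8 i13 i4) (n j8 i13 i5) (n j8 i13 i6) (p j8 i13 i7) (n j8 i13 i8) (p j8 i13 i9) (p j8 i13 i10) (n j8 i13 i11) (n j8 i13 i12) (p j8 i13 i13) (p j8 i13 i14) (n j8 i13 i15))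
  (@T16.mk E (n j8 i14 i0) (p j8 i14 i1) (n j8 i14 i2) (p j8 i14 i3) (n j8 i14 i4) (p j8 i14 i5) (n j8 i14 i6) (p j8 i14 i7) (n j8 i14 i8) (p j8 i14 i9) (n j8 i14 i10) (p j8 i14 i11) (n j8 i14 i12) (p j8 i14 i13) (n j8 i14 i14) (p j8 i14 i15))
  (@T16.mk E (n j8 i15 i0) (n j8 i15 i1) (n j8 i15 i2) (n j8 i15 i3) (n j8 i15 i4) (n j8 i15 i5) (n j8 i15 i6) (n j8 i15 i7) (p j8 i15 i8) (p j8 i15 i9) (p j8 i15 i10) (p j8 i15 i11) (p j8 i15 i12) (p j8 i15 i13) (p j8 i15 i14) (p j8 i15 i15))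
 )
 (@T16.mk (T16 E)
  (@T16.mk E (n j9 i0 i0) (p j9 i0 i1) (n j9 i0 i2) (p j9 i0 i3) (n j9 i0 i4) (p j9 i0 i5) (n j9 i0 i6) (p j9 i0 i7) (n j9 i0 i8) (p j9 i0 i9) (n j9 i0 i10) (p j9 i0 i11) (n j9 i0 i12) (p j9 i0 i13) (n j9 i0 i14) (p j9 i0 i15))
  (@T16.mk E (n j9 i1 i0) (p j9 i1 i1) (n j9 i1 i2) (p j9 i1 i3) (p j9 i1 i4) (n j9 i1 i5) (p j9 i1 i6) (n j9 i1 i7) (n j9 i1 i8) (p j9 i1 i9) (n j9 i1 i10) (p j9 i1 i11) (p j9 i1 i12) (n j9 i1 i13) (p j9 i1 i14) (n j9 i1 i15))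
  (@T16.mk E (n j9 i2 i0) (p j9 i2 i1) (n j9 i2 i2) (p j9 i2 i3) (p j9 i2 i4) (n j9 i2 i5) (p j9 i2 i6) (n j9 i2 i7) (n j9 i2 i8) (p j9 i2 i9) (n j9 i2 i10) (p j9 i2 i11) (p j9 i2 i12) (n j9 i2 i13) (p j9 i2 i14) (n j9 i2 i15))
  (@T16.mk E (p j9 i3 i0) (p j9 i3 i1) (n j9 i3 i2) (n j9 i3 i3) (p j9 i3 i4) (p j9 i3 i5) (n j9 i3 i6) (n j9 i3 i7) (n j9 i3 i8) (n j9 i3 i9) (p j9 i3 i10) (p j9 i3 i11) (n j9 i3 i12) (n j9 i3 i13) (p j9 i3 i14) (p j9 i3 i15))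
  (@T16.mk E (n j9 i4 i0) (n j9 i4 i1) (n j9 i4 i2) (n j9 i4 i3) (n j9 i4 i4) (n j9 i4 i5) (n j9 i4 i6) (n j9 i4 i7) (p j9 i4 i8) (p j9 i4 i9) (p j9 i4 i10) (p j9 i4 i11) (p j9 i4 i12) (p j9 i4 i13) (p j9 i4 i14) (p j9 i4 i15))
  (@T16.mk E (p j9 i5 i0) (p j9 i5 i1) (p j9 i5 i2) (p j9 i5 i3) (p j9 i5 i4) (p j9 i5 i5) (p j9 i5 i6) (p j9 i5 i7) (p j9 i5 i8) (p j9 i5 i9) (p j9 i5 i10) (p j9 i5 i11) (p j9 i5 i12) (p j9 i5 i13) (p j9 i5 i14) (p j9 i5 i15))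
  (@T16.mk E (p j9 i6 i0) (p j9 i6 i1) (p j9 i6 i2) (p j9 i6 i3) (n j9 i6 i4) (n j9 i6 i5) (n j9 i6 i6) (n j9 i6 i7) (p j9 i6 i8) (p j9 i6 i9) (p j9 i6 i10) (p j9 i6 i11) (n j9 i6 i12) (n j9 i6 i13) (n j9 i6 i14) (n j9 i6 i15))
  (@T16.mk E (p j9 i7 i0) (p j9 i7 i1) (p j9 i7 i2) (p j9 i7 i3) (p j9 i7 i4) (p j9 i7 i5) (p j9 i7 i6) (p j9 i7 i7) (p j9 i7 i8) (p j9 i7 i9) (p j9 i7 i10) (p j9 i7 i11) (p j9 i7 i12) (p j9 i7 i13) (p j9 i7 i14) (p j9 i7 i15))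
  (@T16.mk E (n j9 i8 i0) (p j9 i8 i1) (n j9 i8 i2) (p j9 i8 i3) (n j9 i8 i4) (p j9 i8 i5) (n j9 i8 i6) (p j9 i8 i7) (n j9 i8 i8) (p j9 i8 i9) (n j9 i8 i10) (p j9 i8 i11) (n j9 i8 i12) (p j9 i8 i13) (n j9 i8 i14) (p j9 i8 i15))
  (@T16.mk E (p j9 i9 i0) (n j9 i9 i1) (n j9 i9 i2) (p j9 i9 i3) (p j9 i9 i4) (n j9 i9 i5) (n j9 i9 i6) (p j9 i9 i7) (n j9 i9 i8) (p j9 i9 i9) (p j9 i9 i10) (n j9 i9 i11) (n j9 i9 i12) (p j9 i9 i13) (p j9 i9 i14) (n j9 i9 i15))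
  (@T16.mk E (n j9 i10 i0) (n j9 i10 i1) (p j9 i10 i2) (p j9 i10 i3) (p j9 i10 i4) (p j9 i10 i5) (n j9 i10 i6) (n j9 i10 i7) (n j9 i10 i8) (n j9 i10 i9) (p j9 i10 i10) (p j9 i10 i11) (p j9 i10 i12) (p j9 i10 i13) (n j9 i10 i14) (n j9 i10 i15))
  (@T16.mk E (n j9 i11 i0) (p j9 i11 i1) (p j9 i11 i2) (n j9 i11 i3) (p j9 i11 i4) (n j9 i11 i5) (n j9 i11 i6) (p j9 i11 i7) (p j9 i11 i8) (n j9 i11 i9) (n j9 i11 i10) (p j9 i11 i11) (n j9 i11 i12) (p j9 i11 i13) (p j9 i11 i14) (n j9 i11 i15))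
  (@T16.mk E (n j9 i12 i0) (n j9 i12 i1) (p j9 i12 i2) (p j9 i12 i3) (p j9 i12 i4) (p j9 i12 i5) (n j9 i12 i6) (n j9 i12 i7) (n j9 i12 i8) (n j9 i12 i9) (p j9 i12 i10) (p j9 i12 i11) (p j9 i12 i12) (p j9 i12 i13) (n j9 i12 i14) (n j9 i12 i15))
  (@T16.mk E (n j9 i13 i0) (p j9 i13 i1) (p j9 i13 i2) (n j9 i13 i3) (p j9 i13 i4) (n j9 i13 i5) (n j9 i13 i6) (p j9 i13 i7) (p j9 i13 i8) (n j9 i13 i9) (n j9 i13 i10) (p j9 i13 i11) (n j9 i13 i12) (p j9 i13 i13) (p j9 i13 i14) (n j9 i13 i15))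
  (@T16.mk E (n j9 i14 i0) (p j9 i14 i1) (n j9 i14 i2) (p j9 i14 i3) (n j9 i14 i4) (p j9 i14 i5) (n j9 i14 i6) (p j9 i14 i7) (p j9 i14 i8) (n j9 i14 i9) (p j9 i14 i10) (n j9 i14 i11) (p j9 i14 i12) (n j9 i14 i13) (p j9 i14 i14) (n j9 i14 i15))
  (@T16.mk E (n j9 i15 i0) (p j9 i15 i1) (p j9 i15 i2) (n j9 i15 i3) (p j9 i15 i4) (n j9 i15 i5) (n j9 i15 i6) (p j9 i15 i7) (n j9 i15 i8) (p j9 i15 i9) (p j9 i15 i10) (n j9 i15 i11) (p j9 i15 i12) (n j9 i15 i13) (n j9 i15 i14) (p j9 i15 i15))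
 )
 (@T16.mk (T16 E)
  (@T16.mk E (p j10 i0 i0) (n j10 i0 i1) (n j10 i0 i2) (p j10 i0 i3) (p j10 i0 i4) (n j10 i0 i5) (n j10 i0 i6) (p j10 i0 i7) (n j10 i0 i8) (p j10 i0 i9) (p j10 i0 i10) (n j10 i0 i11) (n j10 i0 i12) (p j10 i0 i13) (p j10 i0 i14) (n j10 i0 i15))
  (@T16.mk E (n j10 i1 i0) (p j10 i1 i1) (n j10 i1 i2) (p j10 i1 i3) (n j10 i1 i4) (p j10 i1 i5) (n j10 i1 i6) (p j10 i1 i7) (n j10 i1 i8) (p j10 i1 i9) (n j10 i1 i10) (p j10 i1 i11) (n j10 i1 i12) (p j10 i1 i13) (n j10 i1 i14) (p j10 i1 i15))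
  (@T16.mk E (n j10 i2 i0) (n j10 i2 i1) (n j10 i2 i2) (n j10 i2 i3) (p j10 i2 i4) (p j10 i2 i5) (p j10 i2 i6) (p j10 i2 i7) (p j10 i2 i8) (p j10 i2 i9) (p j10 i2 i10) (p j10 i2 i11) (n j10 i2 i12) (n j10 i2 i13) (n j10 i2 i14) (n j10 i2 i15))
  (@T16.mk E (p j10 i3 i0) (n j10 i3 i1) (p j10 i3 i2) (n j10 i3 i3) (n j10 i3 i4) (p j10 i3 i5) (n j10 i3 i6) (p j10 i3 i7) (n j10 i3 i8) (p j10 i3 i9) (n j10 i3 i10) (p j10 i3 i11) (p j10 i3 i12) (n j10 i3 i13) (p j10 i3 i14) (n j10 i3 i15))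
  (@T16.mk E (n j10 i4 i0) (n j10 i4 i1) (p j10 i4 i2) (p j10 i4 i3) (n j10 i4 i4) (n j10 i4 i5) (p j10 i4 i6) (p j10 i4 i7) (p j10 i4 i8) (p j10 i4 i9) (n j10 i4 i10) (n j10 i4 i11) (p j10 i4 i12) (p j10 i4 i13) (n j10 i4 i14) (n j10 i4 i15))
  (@T16.mk E (n j10 i5 i0) (p j10 i5 i1) (p j10 i5 i2) (n j10 i5 i3) (n j10 i5 i4) (p j10 i5 i5) (p j10 i5 i6) (n j10 i5 i7) (n j10 i5 i8) (p j10 i5 i9) (p j10 i5 i10) (n j10 i5 i11) (n j10 i5 i12) (p j10 i5 i13) (p j10 i5 i14) (n j10 i5 i15))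
  (@T16.mk E (p j10 i6 i0) (n j10 i6 i1) (p j10 i6 i2) (n j10 i6 i3) (p j10 i6 i4) (n j10 i6 i5) (p j10 i6 i6) (n j10 i6 i7) (p j10 i6 i8) (n j10 i6 i9) (p j10 i6 i10) (n j10 i6 i11) (p j10 i6 i12) (n j10 i6 i13) (p j10 i6 i14) (n j10 i6 i15))
  (@T16.mk E (n j10 i7 i0) (p j10 i7 i1) (p j10 i7 i2) (n j10 i7 i3) (n j10 i7 i4) (p j10 i7 i5) (p j10 i7 i6) (n j10 i7 i7) (p j10 i7 i8) (n j10 i7 i9) (n j10 i7 i10) (p j10 i7 i11) (p j10 i7 i12) (n j10 i7 i13) (n j10 i7 i14) (p j10 i7 i15))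
  (@T16.mk E (n j10 i8 i0) (p j10 i8 i1) (p j10 i8 i2) (n j10 i8 i3) (p j10 i8 i4) (n j10 i8 i5) (n j10 i8 i6) (p j10 i8 i7) (n j10 i8 i8) (p j10 i8 i9) (p j10 i8 i10) (n j10 i8 i11) (p j10 i8 i12) (n j10 i8 i13) (n j10 i8 i14) (p j10 i8 i15))
  (@T16.mk E (n j10 i9 i0) (n j10 i9 i1) (n j10 i9 i2) (n j10 i9 i3) (p j10 i9 i4) (p j10 i9 i5) (p j10 i9 i6) (p j10 i9 i7) (p j10 i9 i8) (p j10 i9 i9) (p j10 i9 i10) (p j10 i9 i11) (n j10 i9 i12) (n j10 i9 i13) (n j10 i9 i14) (n j10 i9 i15))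
  (@T16.mk E (n j10 i10 i0) (p j10 i10 i1) (n j10 i10 i2) (p j10 i10 i3) (n j10 i10 i4) (p j10 i10 i5) (n j10 i10 i6) (p j10 i10 i7) (p j10 i10 i8) (n j10 i10 i9) (p j10 i10 i10) (n j10 i10 i11) (p j10 i10 i12) (n j10 i10 i13) (p j10 i10 i14) (n j10 i10 i15))
  (@T16.mk E (p j10 i11 i0) (p j10 i11 i1) (n j10 i11 i2) (n j10 i11 i3) (n j10 i11 i4) (n j10 i11 i5) (p j10 i11 i6) (p j10 i11 i7) (p j10 i11 i8) (p j10 i11 i9) (n j10 i11 i10) (n j10 i11 i11) (n j10 i11 i12) (n j10 i11 i13) (p j10 i11 i14) (p j10 i11 i15))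
  (@T16.mk E (p j10 i12 i0) (p j10 i12 i1) (p j10 i12 i2) (p j10 i12 i3) (p j10 i12 i4) (p j10 i12 i5) (p j10 i12 i6) (p j10 i12 i7) (p j10 i12 i8) (p j10 i12 i9) (p j10 i12 i10) (p j10 i12 i11) (p j10 i12 i12) (p j10 i12 i13) (p j10 i12 i14) (p j10 i12 i15))
  (@T16.mk E (p j10 i13 i0) (p j10 i13 i1) (p j10 i13 i2) (p j10 i13 i3) (p j10 i13 i4) (p j10 i13 i5) (p j10 i13 i6) (p j10 i13 i7) (p j10 i13 i8) (p j10 i13 i9) (p j10 i13 i10) (p j10 i13 i11) (p j10 i13 i12) (p j10 i13 i13) (p j10 i13 i14) (p j10 i13 i15))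
  (@T16.mk E (p j10 i14 i0) (p j10 i14 i1) (n j10 i14 i2) (n j10 i14 i3) (n j10 i14 i4) (n j10 i14 i5) (p j10 i14 i6) (p j10 i14 i7) (p j10 i14 i8) (p j10 i14 i9) (n j10 i14 i10) (n j10 i14 i11) (n j10 i14 i12) (n j10 i14 i13) (p j10 i14 i14) (p j10 i14 i15))
  (@T16.mk E (p j10 i15 i0) (n j10 i15 i1) (n j10 i15 i2) (p j10 i15 i3) (p j10 i15 i4) (n j10 i15 i5) (n j10 i15 i6) (p j10 i15 i7) (n j10 i15 i8) (p j10 i15 i9) (p j10 i15 i10) (n j10 i15 i11) (n j10 i15 i12) (p j10 i15 i13) (p j10 i15 i14) (n j10 i15 i15))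
 )
 (@T16.mk (T16 E)
  (@T16.mk E (n j11 i0 i0) (n j11 i0 i1) (n j11 i0 i2) (n j11 i0 i3) (n j11 i0 i4) (n j11 i0 i5) (n j11 i0 i6) (n j11 i0 i7) (p j11 i0 i8) (p j11 i0 i9) (p j11 i0 i10) (p j11 i0 i11) (p j11 i0 i12) (p j11 i0 i13) (p j11 i0 i14) (p j11 i0 i15))
  (@T16.mk E (n j11 i1 i0) (n j11 i1 i1) (p j11 i1 i2) (p j11 i1 i3) (n j11 i1 i4) (n j11 i1 i5) (p j11 i1 i6) (p j11 i1 i7) (n j11 i1 i8) (n j11 i1 i9) (p j11 i1 i10) (p j11 i1 i11) (n j11 i1 i12) (n j11 i1 i13) (p j11 i1 i14) (p j11 i1 i15))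
  (@T16.mk E (p j11 i2 i0) (p j11 i2 i1) (p j11 i2 i2) (p j11 i2 i3) (p j11 i2 i4) (p j11 i2 i5) (p j11 i2 i6) (p j11 i2 i7) (p j11 i2 i8) (p j11 i2 i9) (p j11 i2 i10) (p j11 i2 i11) (p j11 i2 i12) (p j11 i2 i13) (p j11 i2 i14) (p j11 i2 i15))
  (@T16.mk E (p j11 i3 i0) (p j11 i3 i1) (p j11 i3 i2) (p j11 i3 i3) (n j11 i3 i4) (n j11 i3 i5) (n j11 i3 i6) (n j11 i3 i7) (n j11 i3 i8) (n j11 i3 i9) (n j11 i3 i10) (n j11 i3 i11) (p j11 i3 i12) (p j11 i3 i13) (p j11 i3 i14) (p j11 i3 i15))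
  (@T16.mk E (n j11 i4 i0) (p j11 i4 i1) (n j11 i4 i2) (p j11 i4 i3) (p j11 i4 i4) (n j11 i4 i5) (p j11 i4 i6) (n j11 i4 i7) (n j11 i4 i8) (p j11 i4 i9) (n j11 i4 i10) (p j11 i4 i11) (p j11 i4 i12) (n j11 i4 i13) (p j11 i4 i14) (n j11 i4 i15))
  (@T16.mk E (n j11 i5 i0) (n j11 i5 i1) (n j11 i5 i2) (n j11 i5 i3) (n j11 i5 i4) (n j11 i5 i5) (n j11 i5 i6) (n j11 i5 i7) (p j11 i5 i8) (p j11 i5 i9) (p j11 i5 i10) (p j11 i5 i11) (p j11 i5 i12) (p j11 i5 i13) (p j11 i5 i14) (p j11 i5 i15))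
  (@T16.mk E (p j11 i6 i0) (p j11 i6 i1) (p j11 i6 i2) (p j11 i6 i3) (p j11 i6 i4) (p j11 i6 i5) (p j11 i6 i6) (p j11 i6 i7) (n j11 i6 i8) (n j11 i6 i9) (n j11 i6 i10) (n j11 i6 i11) (n j11 i6 i12) (n j11 i6 i13) (n j11 i6 i14) (n j11 i6 i15))
  (@T16.mk E (n j11 i7 i0) (n j11 i7 i1) (p j11 i7 i2) (p j11 i7 i3) (p j11 i7 i4) (p j11 i7 i5) (n j11 i7 i6) (n j11 i7 i7) (p j11 i7 i8) (p j11 i7 i9) (n j11 i7 i10) (n j11 i7 i11) (n j11 i7 i12) (n j11 i7 i13) (p j11 i7 i14) (p j11 i7 i15))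
  (@T16.mk E (n j11 i8 i0) (n j11 i8 i1) (p j11 i8 i2) (p j11 i8 i3) (p j11 i8 i4) (p j11 i8 i5) (n j11 i8 i6) (n j11 i8 i7) (n j11 i8 i8) (n j11 i8 i9) (p j11 i8 i10) (p j11 i8 i11) (p j11 i8 i12) (p j11 i8 i13) (n j11 i8 i14) (n j11 i8 i15))
  (@T16.mk E (n j11 i9 i0) (n j11 i9 i1) (p j11 i9 i2) (p j11 i9 i3) (p j11 i9 i4) (p j11 i9 i5) (n j11 i9 i6) (n j11 i9 i7) (p j11 i9 i8) (p j11 i9 i9) (n j11 i9 i10) (n j11 i9 i11) (n j11 i9 i12) (n j11 i9 i13) (p j11 i9 i14) (p j11 i9 i15))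
  (@T16.mk E (p j11 i10 i0) (p j11 i10 i1) (p j11 i10 i2) (p j11 i10 i3) (n j11 i10 i4) (n j11 i10 i5) (n j11 i10 i6) (n j11 i10 i7) (n j11 i10 i8) (n j11 i10 i9) (n j11 i10 i10) (n j11 i10 i11) (p j11 i10 i12) (p j11 i10 i13) (p j11 i10 i14) (p j11 i10 i15))
  (@T16.mk E (n j11 i11 i0) (p j11 i11 i1) (p j11 i11 i2) (n j11 i11 i3) (p j11 i11 i4) (n j11 i11 i5) (n j11 i11 i6) (p j11 i11 i7) (p j11 i11 i8) (n j11 i11 i9) (n j11 i11 i10) (p j11 i11 i11) (n j11 i11 i12) (p j11 i11 i13) (p j11 i11 i14) (n j11 i11 i15))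
  (@T16.mk E (p j11 i12 i0) (n j11 i12 i1) (p j11 i12 i2) (n j11 i12 i3) (p j11 i12 i4) (n j11 i12 i5) (p j11 i12 i6) (n j11 i12 i7) (p j11 i12 i8) (n j11 i12 i9) (p j11 i12 i10) (n j11 i12 i11) (p j11 i12 i12) (n j11 i12 i13) (p j11 i12 i14) (n j11 i12 i15))
  (@T16.mk E (n j11 i13 i0) (p j11 i13 i1) (n j11 i13 i2) (p j11 i13 i3) (p j11 i13 i4) (n j11 i13 i5) (p j11 i13 i6) (n j11 i13 i7) (p j11 i13 i8) (n j11 i13 i9) (p j11 i13 i10) (n j11 i13 i11) (n j11 i13 i12) (p j11 i13 i13) (n j11 i13 i14) (p j11 i13 i15))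
  (@T16.mk E (n j11 i14 i0) (n j11 i14 i1) (p j11 i14 i2) (p j11 i14 i3) (p j11 i14 i4) (p j11 i14 i5) (n j11 i14 i6) (n j11 i14 i7) (n j11 i14 i8) (n j11 i14 i9) (p j11 i14 i10) (p j11 i14 i11) (p j11 i14 i12) (p j11 i14 i13) (n j11 i14 i14) (n j11 i14 i15))
  (@T16.mk E (n j11 i15 i0) (p j11 i15 i1) (n j11 i15 i2) (p j11 i15 i3) (p j11 i15 i4) (n j11 i15 i5) (p j11 i15 i6) (n j11 i15 i7) (p j11 i15 i8) (n j11 i15 i9) (p j11 i15 i10) (n j11 i15 i11) (n j11 i15 i12) (p j11 i15 i13) (n j11 i15 i14) (p j11 i15 i15))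
 )
 (@T16.mk (T16 E)
  (@T16.mk E (n j12 i0 i0) (p j12 i0 i1) (n j12 i0 i2) (p j12 i0 i3) (p j12 i0 i4) (n j12 i0 i5) (p j12 i0 i6) (n j12 i0 i7) (p j12 i0 i8) (n j12 i0 i9) (p j12 i0 i10) (n j12 i0 i11) (n j12 i0 i12) (p j12 i0 i13) (n j12 i0 i14) (p j12 i0 i15))
  (@T16.mk E (n j12 i1 i0) (p j12 i1 i1) (n j12 i1 i2) (p j12 i1 i3) (n j12 i1 i4) (p j12 i1 i5) (n j12 i1 i6) (p j12 i1 i7) (n j12 i1 i8) (p j12 i1 i9) (n j12 i1 i10) (p j12 i1 i11) (n j12 i1 i12) (p j12 i1 i13) (n j12 i1 i14) (p j12 i1 i15))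
  (@T16.mk E (n j12 i2 i0) (p j12 i2 i1) (p j12 i2 i2) (n j12 i2 i3) (p j12 i2 i4) (n j12 i2 i5) (n j12 i2 i6) (p j12 i2 i7) (p j12 i2 i8) (n j12 i2 i9) (n j12 i2 i10) (p j12 i2 i11) (n j12 i2 i12) (p j12 i2 i13) (p j12 i2 i14) (n j12 i2 i15))
  (@T16.mk E (n j12 i3 i0) (n j12 i3 i1) (n j12 i3 i2) (n j12 i3 i3) (p j12 i3 i4) (p j12 i3 i5) (p j12 i3 i6) (p j12 i3 i7) (p j12 i3 i8) (p j12 i3 i9) (p j12 i3 i10) (p j12 i3 i11) (n j12 i3 i12) (n j12 i3 i13) (n j12 i3 i14) (n j12 i3 i15))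
  (@T16.mk E (n j12 i4 i0) (p j12 i4 i1) (n j12 i4 i2) (p j12 i4 i3) (p j12 i4 i4) (n j12 i4 i5) (p j12 i4 i6) (n j12 i4 i7) (n j12 i4 i8) (p j12 i4 i9) (n j12 i4 i10) (p j12 i4 i11) (p j12 i4 i12) (n j12 i4 i13) (p j12 i4 i14) (n j12 i4 i15))
  (@T16.mk E (p j12 i5 i0) (n j12 i5 i1) (p j12 i5 i2) (n j12 i5 i3) (n j12 i5 i4) (p j12 i5 i5) (n j12 i5 i6) (p j12 i5 i7) (p j12 i5 i8) (n j12 i5 i9) (p j12 i5 i10) (n j12 i5 i11) (n j12 i5 i12) (p j12 i5 i13) (n j12 i5 i14) (p j12 i5 i15))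
  (@T16.mk E (n j12 i6 i0) (p j12 i6 i1) (p j12 i6 i2) (n j12 i6 i3) (n j12 i6 i4) (p j12 i6 i5) (p j12 i6 i6) (n j12 i6 i7) (n j12 i6 i8) (p j12 i6 i9) (p j12 i6 i10) (n j12 i6 i11) (n j12 i6 i12) (p j12 i6 i13) (p j12 i6 i14) (n j12 i6 i15))
  (@T16.mk E (p j12 i7 i0) (n j12 i7 i1) (p j12 i7 i2) (n j12 i7 i3) (p j12 i7 i4) (n j12 i7 i5) (p j12 i7 i6) (n j12 i7 i7) (p j12 i7 i8) (n j12 i7 i9) (p j12 i7 i10) (n j12 i7 i11) (p j12 i7 i12) (n j12 i7 i13) (p j12 i7 i14) (n j12 i7 i15))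
  (@T16.mk E (n j12 i8 i0) (p j12 i8 i1) (p j12 i8 i2) (n j12 i8 i3) (p j12 i8 i4) (n j12 i8 i5) (n j12 i8 i6) (p j12 i8 i7) (p j12 i8 i8) (n j12 i8 i9) (n j12 i8 i10) (p j12 i8 i11) (n j12 i8 i12) (p j12 i8 i13) (p j12 i8 i14) (n j12 i8 i15))
  (@T16.mk E (n j12 i9 i0) (n j12 i9 i1) (p j12 i9 i2) (p j12 i9 i3) (p j12 i9 i4) (p j12 i9 i5) (n j12 i9 i6) (n j12 i9 i7) (p j12 i9 i8) (p j12 i9 i9) (n j12 i9 i10) (n j12 i9 i11) (n j12 i9 i12) (n j12 i9 i13) (p j12 i9 i14) (p j12 i9 i15))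
  (@T16.mk E (n j12 i10 i0) (n j12 i10 i1) (n j12 i10 i2) (n j12 i10 i3) (p j12 i10 i4) (p j12 i10 i5) (p j12 i10 i6) (p j12 i10 i7) (p j12 i10 i8) (p j12 i10 i9) (p j12 i10 i10) (p j12 i10 i11) (n j12 i10 i12) (n j12 i10 i13) (n j12 i10 i14) (n j12 i10 i15))
  (@T16.mk E (n j12 i11 i0) (n j12 i11 i1) (p j12 i11 i2) (p j12 i11 i3) (p j12 i11 i4) (p j12 i11 i5) (n j12 i11 i6) (n j12 i11 i7) (p j12 i11 i8) (p j12 i11 i9) (n j12 i11 i10) (n j12 i11 i11) (n j12 i11 i12) (n j12 i11 i13) (p j12 i11 i14) (p j12 i11 i15))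
  (@T16.mk E (n j12 i12 i0) (p j12 i12 i1) (n j12 i12 i2) (p j12 i12 i3) (n j12 i12 i4) (p j12 i12 i5) (n j12 i12 i6) (p j12 i12 i7) (p j12 i12 i8) (n j12 i12 i9) (p j12 i12 i10) (n j12 i12 i11) (p j12 i12 i12) (n j12 i12 i13) (p j12 i12 i14) (n j12 i12 i15))
  (@T16.mk E (p j12 i13 i0) (p j12 i13 i1) (n j12 i13 i2) (n j12 i13 i3) (n j12 i13 i4) (n j12 i13 i5) (n j12 i13 i6) (n j12 i13 i7) (n j12 i13 i8) (n j12 i13 i9) (p j12 i13 i10) (p j12 i13 i11) (n j12 i13 i12) (n j12 i13 i13) (n j12 i13 i14) (n j12 i13 i15))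
  (@T16.mk E (p j12 i14 i0) (p j12 i14 i1) (p j12 i14 i2) (p j12 i14 i3) (p j12 i14 i4) (p j12 i14 i5) (n j12 i14 i6) (n j12 i14 i7) (p j12 i14 i8) (p j12 i14 i9) (p j12 i14 i10) (p j12 i14 i11) (n j12 i14 i12) (n j12 i14 i13) (p j12 i14 i14) (p j12 i14 i15))
  (@T16.mk E (n j12 i15 i0) (n j12 i15 i1) (p j12 i15 i2) (p j12 i15 i3) (n j12 i15 i4) (n j12 i15 i5) (n j12 i15 i6) (n j12 i15 i7) (p j12 i15 i8) (p j12 i15 i9) (n j12 i15 i10) (n j12 i15 i11) (n j12 i15 i12) (n j12 i15 i13) (n j12 i15 i14) (n j12 i15 i15))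
 )
 (@T16.mk (T16 E)
  (@T16.mk E (n j13 i0 i0) (n j13 i0 i1) (n j13 i0 i2) (n j13 i0 i3) (p j13 i0 i4) (p j13 i0 i5) (n j13 i0 i6) (n j13 i0 i7) (n j13 i0 i8) (n j13 i0 i9) (n j13 i0 i10) (n j13 i0 i11) (n j13 i0 i12) (n j13 i0 i13) (p j13 i0 i14) (p j13 i0 i15))
  (@T16.mk E (p j13 i1 i0) (p j13 i1 i1) (n j13 i1 i2) (n j13 i1 i3) (p j13 i1 i4) (p j13 i1 i5) (p j13 i1 i6) (p j13 i1 i7) (n j13 i1 i8) (n j13 i1 i9) (p j13 i1 i10) (p j13 i1 i11) (p j13 i1 i12) (p j13 i1 i13) (p j13 i1 i14) (p j13 i1 i15))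
  (@T16.mk E (p j13 i2 i0) (p j13 i2 i1) (p j13 i2 i2) (p j13 i2 i3) (n j13 i2 i4) (n j13 i2 i5) (p j13 i2 i6) (p j13 i2 i7) (p j13 i2 i8) (p j13 i2 i9) (p j13 i2 i10) (p j13 i2 i11) (p j13 i2 i12) (p j13 i2 i13) (n j13 i2 i14) (n j13 i2 i15))
  (@T16.mk E (p j13 i3 i0) (p j13 i3 i1) (n j13 i3 i2) (n j13 i3 i3) (n j13 i3 i4) (n j13 i3 i5) (n j13 i3 i6) (n j13 i3 i7) (n j13 i3 i8) (n j13 i3 i9) (p j13 i3 i10) (p j13 i3 i11) (n j13 i3 i12) (n j13 i3 i13) (n j13 i3 i14) (n j13 i3 i15))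
  (@T16.mk E (p j13 i4 i0) (p j13 i4 i1) (p j13 i4 i2) (p j13 i4 i3) (p j13 i4 i4) (p j13 i4 i5) (n j13 i4 i6) (n j13 i4 i7) (p j13 i4 i8) (p j13 i4 i9) (p j13 i4 i10) (p j13 i4 i11) (n j13 i4 i12) (n j13 i4 i13) (p j13 i4 i14) (p j13 i4 i15))
  (@T16.mk E (n j13 i5 i0) (n j13 i5 i1) (n j13 i5 i2) (n j13 i5 i3) (n j13 i5 i4) (n j13 i5 i5) (p j13 i5 i6) (p j13 i5 i7) (n j13 i5 i8) (n j13 i5 i9) (n j13 i5 i10) (n j13 i5 i11) (p j13 i5 i12) (p j13 i5 i13) (n j13 i5 i14) (n j13 i5 i15))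
  (@T16.mk E (n j13 i6 i0) (n j13 i6 i1) (p j13 i6 i2) (p j13 i6 i3) (p j13 i6 i4) (p j13 i6 i5) (p j13 i6 i6) (p j13 i6 i7) (p j13 i6 i8) (p j13 i6 i9) (n j13 i6 i10) (n j13 i6 i11) (p j13 i6 i12) (p j13 i6 i13) (p j13 i6 i14) (p j13 i6 i15))
  (@T16.mk E (n j13 i7 i0) (n j13 i7 i1) (n j13 i7 i2) (n j13 i7 i3) (p j13 i7 i4) (p j13 i7 i5) (n j13 i7 i6) (n j13 i7 i7) (n j13 i7 i8) (n j13 i7 i9) (n j13 i7 i10) (n j13 i7 i11) (n j13 i7 i12) (n j13 i7 i13) (p j13 i7 i14) (p j13 i7 i15))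
  (@T16.mk E (n j13 i8 i0) (n j13 i8 i1) (p j13 i8 i2) (p j13 i8 i3) (n j13 i8 i4) (n j13 i8 i5) (n j13 i8 i6) (n j13 i8 i7) (p j13 i8 i8) (p j13 i8 i9) (n j13 i8 i10) (n j13 i8 i11) (n j13 i8 i12) (n j13 i8 i13) (n j13 i8 i14) (n j13 i8 i15))
  (@T16.mk E (p j13 i9 i0) (p j13 i9 i1) (p j13 i9 i2) (p j13 i9 i3) (n j13 i9 i4) (n j13 i9 i5) (p j13 i9 i6) (p j13 i9 i7) (p j13 i9 i8) (p j13 i9 i9) (p j13 i9 i10) (p j13 i9 i11) (p j13 i9 i12) (p j13 i9 i13) (n j13 i9 i14) (n j13 i9 i15))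
  (@T16.mk E (p j13 i10 i0) (p j13 i10 i1) (n j13 i10 i2) (n j13 i10 i3) (p j13 i10 i4) (p j13 i10 i5) (p j13 i10 i6) (p j13 i10 i7) (n j13 i10 i8) (n j13 i10 i9) (p j13 i10 i10) (p j13 i10 i11) (p j13 i10 i12) (p j13 i10 i13) (p j13 i10 i14) (p j13 i10 i15))
  (@T16.mk E (n j13 i11 i0) (n j13 i11 i1) (n j13 i11 i2) (n j13 i11 i3) (n j13 i11 i4) (n j13 i11 i5) (p j13 i11 i6) (p j13 i11 i7) (n j13 i11 i8) (n j13 i11 i9) (n j13 i11 i10) (n j13 i11 i11) (p j13 i11 i12) (p j13 i11 i13) (n j13 i11 i14) (n j13 i11 i15))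
  (@T16.mk E (n j13 i12 i0) (n j13 i12 i1) (p j13 i12 i2) (p j13 i12 i3) (p j13 i12 i4) (p j13 i12 i5) (p j13 i12 i6) (p j13 i12 i7) (p j13 i12 i8) (p j13 i12 i9) (n j13 i12 i10) (n j13 i12 i11) (p j13 i12 i12) (p j13 i12 i13) (p j13 i12 i14) (p j13 i12 i15))
  (@T16.mk E (p j13 i13 i0) (p j13 i13 i1) (p j13 i13 i2) (p j13 i13 i3) (p j13 i13 i4) (p j13 i13 i5) (n j13 i13 i6) (n j13 i13 i7) (p j13 i13 i8) (p j13 i13 i9) (p j13 i13 i10) (p j13 i13 i11) (n j13 i13 i12) (n j13 i13 i13) (p j13 i13 i14) (p j13 i13 i15))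
  (@T16.mk E (n j13 i14 i0) (n j13 i14 i1) (p j13 i14 i2) (p j13 i14 i3) (p j13 i14 i4) (p j13 i14 i5) (p j13 i14 i6) (p j13 i14 i7) (p j13 i14 i8) (p j13 i14 i9) (n j13 i14 i10) (n j13 i14 i11) (p j13 i14 i12) (p j13 i14 i13) (p j13 i14 i14) (p j13 i14 i15))
  (@T16.mk E (n j13 i15 i0) (n j13 i15 i1) (n j13 i15 i2) (n j13 i15 i3) (p j13 i15 i4) (p j13 i15 i5) (n j13 i15 i6) (n j13 i15 i7) (n j13 i15 i8) (n j13 i15 i9) (n j13 i15 i10) (n j13 i15 i11) (n j13 i15 i12) (n j13 i15 i13) (p j13 i15 i14) (p j13 i15 i15))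
 )
 (@T16.mk (T16 E)
  (@T16.mk E (p j14 i0 i0) (p j14 i0 i1) (n j14 i0 i2) (n j14 i0 i3) (p j14 i0 i4) (p j14 i0 i5) (p j14 i0 i6) (p j14 i0 i7) (n j14 i0 i8) (n j14 i0 i9) (p j14 i0 i10) (p j14 i0 i11) (p j14 i0 i12) (p j14 i0 i13) (p j14 i0 i14) (p j14 i0 i15))
  (@T16.mk E (p j14 i1 i0) (p j14 i1 i1) (p j14 i1 i2) (p j14 i1 i3) (n j14 i1 i4) (n j14 i1 i5) (p j14 i1 i6) (p j14 i1 i7) (p j14 i1 i8) (p j14 i1 i9) (p j14 i1 i10) (p j14 i1 i11) (p j14 i1 i12) (p j14 i1 i13) (n j14 i1 i14) (n j14 i1 i15))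
  (@T16.mk E (n j14 i2 i0) (n j14 i2 i1) (p j14 i2 i2) (p j14 i2 i3) (n j14 i2 i4) (n j14 i2 i5) (n j14 i2 i6) (n j14 i2 i7) (p j14 i2 i8) (p j14 i2 i9) (n j14 i2 i10) (n j14 i2 i11) (n j14 i2 i12) (n j14 i2 i13) (n j14 i2 i14) (n j14 i2 i15))
  (@T16.mk E (p j14 i3 i0) (p j14 i3 i1) (p j14 i3 i2) (p j14 i3 i3) (p j14 i3 i4) (p j14 i3 i5) (n j14 i3 i6) (n j14 i3 i7) (p j14 i3 i8) (p j14 i3 i9) (p j14 i3 i10) (p j14 i3 i11) (n j14 i3 i12) (n j14 i3 i13) (p j14 i3 i14) (p j14 i3 i15))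
  (@T16.mk E (n j14 i4 i0) (n j14 i4 i1) (p j14 i4 i2) (p j14 i4 i3) (p j14 i4 i4) (p j14 i4 i5) (p j14 i4 i6) (p j14 i4 i7) (p j14 i4 i8) (p j14 i4 i9) (n j14 i4 i10) (n j14 i4 i11) (p j14 i4 i12) (p j14 i4 i13) (p j14 i4 i14) (p j14 i4 i15))
  (@T16.mk E (n j14 i5 i0) (n j14 i5 i1) (p j14 i5 i2) (p j14 i5 i3) (p j14 i5 i4) (p j14 i5 i5) (p j14 i5 i6) (p j14 i5 i7) (p j14 i5 i8) (p j14 i5 i9) (n j14 i5 i10) (n j14 i5 i11) (p j14 i5 i12) (p j14 i5 i13) (p j14 i5 i14) (p j14 i5 i15))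
  (@T16.mk E (p j14 i6 i0) (p j14 i6 i1) (p j14 i6 i2) (p j14 i6 i3) (p j14 i6 i4) (p j14 i6 i5) (n j14 i6 i6) (n j14 i6 i7) (p j14 i6 i8) (p j14 i6 i9) (p j14 i6 i10) (p j14 i6 i11) (n j14 i6 i12) (n j14 i6 i13) (p j14 i6 i14) (p j14 i6 i15))
  (@T16.mk E (n j14 i7 i0) (n j14 i7 i1) (p j14 i7 i2) (p j14 i7 i3) (n j14 i7 i4) (n j14 i7 i5) (n j14 i7 i6) (n j14 i7 i7) (p j14 i7 i8) (p j14 i7 i9) (n j14 i7 i10) (n j14 i7 i11) (n j14 i7 i12) (n j14 i7 i13) (n j14 i7 i14) (n j14 i7 i15))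
  (@T16.mk E (p j14 i8 i0) (p j14 i8 i1) (p j14 i8 i2) (p j14 i8 i3) (n j14 i8 i4) (n j14 i8 i5) (p j14 i8 i6) (p j14 i8 i7) (p j14 i8 i8) (p j14 i8 i9) (p j14 i8 i10) (p j14 i8 i11) (p j14 i8 i12) (p j14 i8 i13) (n j14 i8 i14) (n j14 i8 i15))
  (@T16.mk E (p j14 i9 i0) (p j14 i9 i1) (n j14 i9 i2) (n j14 i9 i3) (p j14 i9 i4) (p j14 i9 i5) (p j14 i9 i6) (p j14 i9 i7) (n j14 i9 i8) (n j14 i9 i9) (p j14 i9 i10) (p j14 i9 i11) (p j14 i9 i12) (p j14 i9 i13) (p j14 i9 i14) (p j14 i9 i15))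
  (@T16.mk E (n j14 i10 i0) (n j14 i10 i1) (n j14 i10 i2) (n j14 i10 i3) (p j14 i10 i4) (p j14 i10 i5) (n j14 i10 i6) (n j14 i10 i7) (n j14 i10 i8) (n j14 i10 i9) (n j14 i10 i10) (n j14 i10 i11) (n j14 i10 i12) (n j14 i10 i13) (p j14 i10 i14) (p j14 i10 i15))
  (@T16.mk E (n j14 i11 i0) (n j14 i11 i1) (p j14 i11 i2) (p j14 i11 i3) (p j14 i11 i4) (p j14 i11 i5) (p j14 i11 i6) (p j14 i11 i7) (p j14 i11 i8) (p j14 i11 i9) (n j14 i11 i10) (n j14 i11 i11) (p j14 i11 i12) (p j14 i11 i13) (p j14 i11 i14) (p j14 i11 i15))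
  (@T16.mk E (p j14 i12 i0) (p j14 i12 i1) (p j14 i12 i2) (p j14 i12 i3) (p j14 i12 i4) (p j14 i12 i5) (n j14 i12 i6) (n j14 i12 i7) (p j14 i12 i8) (p j14 i12 i9) (p j14 i12 i10) (p j14 i12 i11) (n j14 i12 i12) (n j14 i12 i13) (p j14 i12 i14) (p j14 i12 i15))
  (@T16.mk E (p j14 i13 i0) (p j14 i13 i1) (n j14 i13 i2) (n j14 i13 i3) (n j14 i13 i4) (n j14 i13 i5) (n j14 i13 i6) (n j14 i13 i7) (n j14 i13 i8) (n j14 i13 i9) (p j14 i13 i10) (p j14 i13 i11) (n j14 i13 i12) (n j14 i13 i13) (n j14 i13 i14) (n j14 i13 i15))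
  (@T16.mk E (n j14 i14 i0) (n j14 i14 i1) (n j14 i14 i2) (n j14 i14 i3) (n j14 i14 i4) (n j14 i14 i5) (p j14 i14 i6) (p j14 i14 i7) (n j14 i14 i8) (n j14 i14 i9) (n j14 i14 i10) (n j14 i14 i11) (p j14 i14 i12) (p j14 i14 i13) (n j14 i14 i14) (n j14 i14 i15))
  (@T16.mk E (n j14 i15 i0) (n j14 i15 i1) (p j14 i15 i2) (p j14 i15 i3) (n j14 i15 i4) (n j14 i15 i5) (n j14 i15 i6) (n j14 i15 i7) (p j14 i15 i8) (p j14 i15 i9) (n j14 i15 i10) (n j14 i15 i11) (n j14 i15 i12) (n j14 i15 i13) (n j14 i15 i14) (n j14 i15 i15))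
 )
 (@T16.mk (T16 E)
  (@T16.mk E (p j15 i0 i0) (p j15 i0 i1) (p j15 i0 i2) (p j15 i0 i3) (n j15 i0 i4) (n j15 i0 i5) (p j15 i0 i6) (p j15 i0 i7) (p j15 i0 i8) (p j15 i0 i9) (p j15 i0 i10) (p j15 i0 i11) (p j15 i0 i12) (p j15 i0 i13) (n j15 i0 i14) (n j15 i0 i15))
  (@T16.mk E (n j15 i1 i0) (n j15 i1 i1) (p j15 i1 i2) (p j15 i1 i3) (n j15 i1 i4) (n j15 i1 i5) (n j15 i1 i6) (n j15 i1 i7) (p j15 i1 i8) (p j15 i1 i9) (n j15 i1 i10) (n j15 i1 i11) (n j15 i1 i12) (n j15 i1 i13) (n j15 i1 i14) (n j15 i1 i15))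
  (@T16.mk E (p j15 i2 i0) (p j15 i2 i1) (p j15 i2 i2) (p j15 i2 i3) (n j15 i2 i4) (n j15 i2 i5) (p j15 i2 i6) (p j15 i2 i7) (p j15 i2 i8) (p j15 i2 i9) (p j15 i2 i10) (p j15 i2 i11) (p j15 i2 i12) (p j15 i2 i13) (n j15 i2 i14) (n j15 i2 i15))
  (@T16.mk E (n j15 i3 i0) (n j15 i3 i1) (p j15 i3 i2) (p j15 i3 i3) (p j15 i3 i4) (p j15 i3 i5) (p j15 i3 i6) (p j15 i3 i7) (p j15 i3 i8) (p j15 i3 i9) (n j15 i3 i10) (n j15 i3 i11) (p j15 i3 i12) (p j15 i3 i13) (p j15 i3 i14) (p j15 i3 i15))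
  (@T16.mk E (p j15 i4 i0) (p j15 i4 i1) (p j15 i4 i2) (p j15 i4 i3) (p j15 i4 i4) (p j15 i4 i5) (n j15 i4 i6) (n j15 i4 i7) (p j15 i4 i8) (p j15 i4 i9) (p j15 i4 i10) (p j15 i4 i11) (n j15 i4 i12) (n j15 i4 i13) (p j15 i4 i14) (p j15 i4 i15))
  (@T16.mk E (n j15 i5 i0) (n j15 i5 i1) (n j15 i5 i2) (n j15 i5 i3) (n j15 i5 i4) (n j15 i5 i5) (p j15 i5 i6) (p j15 i5 i7) (n j15 i5 i8) (n j15 i5 i9) (n j15 i5 i10) (n j15 i5 i11) (p j15 i5 i12) (p j15 i5 i13) (n j15 i5 i14) (n j15 i5 i15))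
  (@T16.mk E (p j15 i6 i0) (p j15 i6 i1) (n j15 i6 i2) (n j15 i6 i3) (n j15 i6 i4) (n j15 i6 i5) (n j15 i6 i6) (n j15 i6 i7) (n j15 i6 i8) (n j15 i6 i9) (p j15 i6 i10) (p j15 i6 i11) (n j15 i6 i12) (n j15 i6 i13) (n j15 i6 i14) (n j15 i6 i15))
  (@T16.mk E (n j15 i7 i0) (n j15 i7 i1) (n j15 i7 i2) (n j15 i7 i3) (p j15 i7 i4) (p j15 i7 i5) (n j15 i7 i6) (n j15 i7 i7) (n j15 i7 i8) (n j15 i7 i9) (n j15 i7 i10) (n j15 i7 i11) (n j15 i7 i12) (n j15 i7 i13) (p j15 i7 i14) (p j15 i7 i15))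
  (@T16.mk E (p j15 i8 i0) (p j15 i8 i1) (n j15 i8 i2) (n j15 i8 i3) (p j15 i8 i4) (p j15 i8 i5) (p j15 i8 i6) (p j15 i8 i7) (n j15 i8 i8) (n j15 i8 i9) (p j15 i8 i10) (p j15 i8 i11) (p j15 i8 i12) (p j15 i8 i13) (p j15 i8 i14) (p j15 i8 i15))
  (@T16.mk E (n j15 i9 i0) (n j15 i9 i1) (n j15 i9 i2) (n j15 i9 i3) (p j15 i9 i4) (p j15 i9 i5) (n j15 i9 i6) (n j15 i9 i7) (n j15 i9 i8) (n j15 i9 i9) (n j15 i9 i10) (n j15 i9 i11) (n j15 i9 i12) (n j15 i9 i13) (p j15 i9 i14) (p j15 i9 i15))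
  (@T16.mk E (p j15 i10 i0) (p j15 i10 i1) (n j15 i10 i2) (n j15 i10 i3) (p j15 i10 i4) (p j15 i10 i5) (p j15 i10 i6) (p j15 i10 i7) (n j15 i10 i8) (n j15 i10 i9) (p j15 i10 i10) (p j15 i10 i11) (p j15 i10 i12) (p j15 i10 i13) (p j15 i10 i14) (p j15 i10 i15))
  (@T16.mk E (p j15 i11 i0) (p j15 i11 i1) (p j15 i11 i2) (p j15 i11 i3) (p j15 i11 i4) (p j15 i11 i5) (n j15 i11 i6) (n j15 i11 i7) (p j15 i11 i8) (p j15 i11 i9) (p j15 i11 i10) (p j15 i11 i11) (n j15 i11 i12) (n j15 i11 i13) (p j15 i11 i14) (p j15 i11 i15))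
  (@T16.mk E (n j15 i12 i0) (n j15 i12 i1) (p j15 i12 i2) (p j15 i12 i3) (p j15 i12 i4) (p j15 i12 i5) (p j15 i12 i6) (p j15 i12 i7) (p j15 i12 i8) (p j15 i12 i9) (n j15 i12 i10) (n j15 i12 i11) (p j15 i12 i12) (p j15 i12 i13) (p j15 i12 i14) (p j15 i12 i15))
  (@T16.mk E (n j15 i13 i0) (n j15 i13 i1) (n j15 i13 i2) (n j15 i13 i3) (n j15 i13 i4) (n j15 i13 i5) (p j15 i13 i6) (p j15 i13 i7) (n j15 i13 i8) (n j15 i13 i9) (n j15 i13 i10) (n j15 i13 i11) (p j15 i13 i12) (p j15 i13 i13) (n j15 i13 i14) (n j15 i13 i15))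
  (@T16.mk E (n j15 i14 i0) (n j15 i14 i1) (p j15 i14 i2) (p j15 i14 i3) (p j15 i14 i4) (p j15 i14 i5) (p j15 i14 i6) (p j15 i14 i7) (p j15 i14 i8) (p j15 i14 i9) (n j15 i14 i10) (n j15 i14 i11) (p j15 i14 i12) (p j15 i14 i13) (p j15 i14 i14) (p j15 i14 i15))
  (@T16.mk E (p j15 i15 i0) (p j15 i15 i1) (p j15 i15 i2) (p j15 i15 i3) (n j15 i15 i4) (n j15 i15 i5) (p j15 i15 i6) (p j15 i15 i7) (p j15 i15 i8) (p j15 i15 i9) (p j15 i15 i10) (p j15 i15 i11) (p j15 i15 i12) (p j15 i15 i13) (n j15 i15 i14) (n j15 i15 i15))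
 )
 (@T16.mk (T16 E)
  (@T16.mk E (p j16 i0 i0) (p j16 i0 i1) (n j16 i0 i2) (n j16 i0 i3) (p j16 i0 i4) (p j16 i0 i5) (p j16 i0 i6) (p j16 i0 i7) (n j16 i0 i8) (n j16 i0 i9) (p j16 i0 i10) (p j16 i0 i11) (p j16 i0 i12) (p j16 i0 i13) (p j16 i0 i14) (p j16 i0 i15))
  (@T16.mk E (p j16 i1 i0) (p j16 i1 i1) (p j16 i1 i2) (p j16 i1 i3) (n j16 i1 i4) (n j16 i1 i5) (p j16 i1 i6) (p j16 i1 i7) (p j16 i1 i8) (p j16 i1 i9) (p j16 i1 i10) (p j16 i1 i11) (p j16 i1 i12) (p j16 i1 i13) (n j16 i1 i14) (n j16 i1 i15))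
  (@T16.mk E (p j16 i2 i0) (p j16 i2 i1) (n j16 i2 i2) (n j16 i2 i3) (p j16 i2 i4) (p j16 i2 i5) (p j16 i2 i6) (p j16 i2 i7) (n j16 i2 i8) (n j16 i2 i9) (p j16 i2 i10) (p j16 i2 i11) (p j16 i2 i12) (p j16 i2 i13) (p j16 i2 i14) (p j16 i2 i15))
  (@T16.mk E (p j16 i3 i0) (p j16 i3 i1) (p j16 i3 i2) (p j16 i3 i3) (p j16 i3 i4) (p j16 i3 i5) (n j16 i3 i6) (n j16 i3 i7) (p j16 i3 i8) (p j16 i3 i9) (p j16 i3 i10) (p j16 i3 i11) (n j16 i3 i12) (n j16 i3 i13) (p j16 i3 i14) (p j16 i3 i15))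
  (@T16.mk E (p j16 i4 i0) (p j16 i4 i1) (n j16 i4 i2) (n j16 i4 i3) (n j16 i4 i4) (n j16 i4 i5) (n j16 i4 i6) (n j16 i4 i7) (n j16 i4 i8) (n j16 i4 i9) (p j16 i4 i10) (p j16 i4 i11) (n j16 i4 i12) (n j16 i4 i13) (n j16 i4 i14) (n j16 i4 i15))
  (@T16.mk E (p j16 i5 i0) (p j16 i5 i1) (n j16 i5 i2) (n j16 i5 i3) (n j16 i5 i4) (n j16 i5 i5) (n j16 i5 i6) (n j16 i5 i7) (n j16 i5 i8) (n j16 i5 i9) (p j16 i5 i10) (p j16 i5 i11) (n j16 i5 i12) (n j16 i5 i13) (n j16 i5 i14) (n j16 i5 i15))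
  (@T16.mk E (p j16 i6 i0) (p j16 i6 i1) (p j16 i6 i2) (p j16 i6 i3) (p j16 i6 i4) (p j16 i6 i5) (n j16 i6 i6) (n j16 i6 i7) (p j16 i6 i8) (p j16 i6 i9) (p j16 i6 i10) (p j16 i6 i11) (n j16 i6 i12) (n j16 i6 i13) (p j16 i6 i14) (p j16 i6 i15))
  (@T16.mk E (p j16 i7 i0) (p j16 i7 i1) (n j16 i7 i2) (n j16 i7 i3) (p j16 i7 i4) (p j16 i7 i5) (p j16 i7 i6) (p j16 i7 i7) (n j16 i7 i8) (n j16 i7 i9) (p j16 i7 i10) (p j16 i7 i11) (p j16 i7 i12) (p j16 i7 i13) (p j16 i7 i14) (p j16 i7 i15))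
  (@T16.mk E (p j16 i8 i0) (p j16 i8 i1) (p j16 i8 i2) (p j16 i8 i3) (n j16 i8 i4) (n j16 i8 i5) (p j16 i8 i6) (p j16 i8 i7) (p j16 i8 i8) (p j16 i8 i9) (p j16 i8 i10) (p j16 i8 i11) (p j16 i8 i12) (p j16 i8 i13) (n j16 i8 i14) (n j16 i8 i15))
  (@T16.mk E (p j16 i9 i0) (p j16 i9 i1) (n j16 i9 i2) (n j16 i9 i3) (p j16 i9 i4) (p j16 i9 i5) (p j16 i9 i6) (p j16 i9 i7) (n j16 i9 i8) (n j16 i9 i9) (p j16 i9 i10) (p j16 i9 i11) (p j16 i9 i12) (p j16 i9 i13) (p j16 i9 i14) (p j16 i9 i15))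
  (@T16.mk E (p j16 i10 i0) (p j16 i10 i1) (p j16 i10 i2) (p j16 i10 i3) (n j16 i10 i4) (n j16 i10 i5) (p j16 i10 i6) (p j16 i10 i7) (p j16 i10 i8) (p j16 i10 i9) (p j16 i10 i10) (p j16 i10 i11) (p j16 i10 i12) (p j16 i10 i13) (n j16 i10 i14) (n j16 i10 i15))
  (@T16.mk E (n j16 i11 i0) (n j16 i11 i1) (p j16 i11 i2) (p j16 i11 i3) (p j16 i11 i4) (p j16 i11 i5) (p j16 i11 i6) (p j16 i11 i7) (p j16 i11 i8) (p j16 i11 i9) (n j16 i11 i10) (n j16 i11 i11) (p j16 i11 i12) (p j16 i11 i13) (p j16 i11 i14) (p j16 i11 i15))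
  (@T16.mk E (n j16 i12 i0) (n j16 i12 i1) (n j16 i12 i2) (n j16 i12 i3) (n j16 i12 i4) (n j16 i12 i5) (p j16 i12 i6) (p j16 i12 i7) (n j16 i12 i8) (n j16 i12 i9) (n j16 i12 i10) (n j16 i12 i11) (p j16 i12 i12) (p j16 i12 i13) (n j16 i12 i14) (n j16 i12 i15))
  (@T16.mk E (p j16 i13 i0) (p j16 i13 i1) (p j16 i13 i2) (p j16 i13 i3) (p j16 i13 i4) (p j16 i13 i5) (p j16 i13 i6) (p j16 i13 i7) (p j16 i13 i8) (p j16 i13 i9) (p j16 i13 i10) (p j16 i13 i11) (p j16 i13 i12) (p j16 i13 i13) (p j16 i13 i14) (p j16 i13 i15))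
  (@T16.mk E (p j16 i14 i0) (p j16 i14 i1) (p j16 i14 i2) (p j16 i14 i3) (p j16 i14 i4) (p j16 i14 i5) (p j16 i14 i6) (p j16 i14 i7) (p j16 i14 i8) (p j16 i14 i9) (n j16 i14 i10) (p j16 i14 i11) (n j16 i14 i12) (p j16 i14 i13) (n j16 i14 i14) (p j16 i14 i15))
  (@T16.mk E (n j16 i15 i0) (n j16 i15 i1) (p j16 i15 i2) (n j16 i15 i3) (p j16 i15 i4) (p j16 i15 i5) (p j16 i15 i6) (p j16 i15 i7) (p j16 i15 i8) (n j16 i15 i9) (n j16 i15 i10) (p j16 i15 i11) (p j16 i15 i12) (p j16 i15 i13) (p j16 i15 i14) (p j16 i15 i15))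
 )
 (@T16.mk (T16 E)
  (@T16.mk E (n j17 i0 i0) (p j17 i0 i1) (n j17 i0 i2) (p j17 i0 i3) (n j17 i0 i4) (p j17 i0 i5) (n j17 i0 i6) (n j17 i0 i7) (p j17 i0 i8) (n j17 i0 i9) (p j17 i0 i10) (p j17 i0 i11) (p j17 i0 i12) (p j17 i0 i13) (p j17 i0 i14) (n j17 i0 i15))
  (@T16.mk E (n j17 i1 i0) (p j17 i1 i1) (p j17 i1 i2) (p j17 i1 i3) (p j17 i1 i4) (p j17 i1 i5) (p j17 i1 i6) (p j17 i1 i7) (p j17 i1 i8) (p j17 i1 i9) (p j17 i1 i10) (p j17 i1 i11) (p j17 i1 i12) (p j17 i1 i13) (p j17 i1 i14) (p j17 i1 i15))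
  (@T16.mk E (p j17 i2 i0) (p j17 i2 i1) (p j17 i2 i2) (p j17 i2 i3) (p j17 i2 i4) (p j17 i2 i5) (p j17 i2 i6) (p j17 i2 i7) (p j17 i2 i8) (p j17 i2 i9) (p j17 i2 i10) (p j17 i2 i11) (p j17 i2 i12) (p j17 i2 i13) (p j17 i2 i14) (p j17 i2 i15))
  (@T16.mk E (p j17 i3 i0) (p j17 i3 i1) (p j17 i3 i2) (p j17 i3 i3) (p j17 i3 i4) (p j17 i3 i5) (p j17 i3 i6) (p j17 i3 i7) (p j17 i3 i8) (p j17 i3 i9) (p j17 i3 i10) (p j17 i3 i11) (p j17 i3 i12) (p j17 i3 i13) (p j17 i3 i14) (p j17 i3 i15))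
  (@T16.mk E (p j17 i4 i0) (p j17 i4 i1) (p j17 i4 i2) (p j17 i4 i3) (p j17 i4 i4) (p j17 i4 i5) (p j17 i4 i6) (p j17 i4 i7) (p j17 i4 i8) (p j17 i4 i9) (p j17 i4 i10) (p j17 i4 i11) (p j17 i4 i12) (p j17 i4 i13) (p j17 i4 i14) (p j17 i4 i15))
  (@T16.mk E (p j17 i5 i0) (p j17 i5 i1) (p j17 i5 i2) (p j17 i5 i3) (p j17 i5 i4) (p j17 i5 i5) (p j17 i5 i6) (p j17 i5 i7) (p j17 i5 i8) (p j17 i5 i9) (p j17 i5 i10) (p j17 i5 i11) (p j17 i5 i12) (p j17 i5 i13) (p j17 i5 i14) (p j17 i5 i15))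
  (@T16.mk E (p j17 i6 i0) (p j17 i6 i1) (p j17 i6 i2) (p j17 i6 i3) (p j17 i6 i4) (p j17 i6 i5) (p j17 i6 i6) (p j17 i6 i7) (p j17 i6 i8) (p j17 i6 i9) (p j17 i6 i10) (p j17 i6 i11) (p j17 i6 i12) (p j17 i6 i13) (p j17 i6 i14) (p j17 i6 i15))
  (@T16.mk E (p j17 i7 i0) (p j17 i7 i1) (p j17 i7 i2) (p j17 i7 i3) (p j17 i7 i4) (p j17 i7 i5) (p j17 i7 i6) (p j17 i7 i7) (p j17 i7 i8) (p j17 i7 i9) (p j17 i7 i10) (p j17 i7 i11) (p j17 i7 i12) (p j17 i7 i13) (p j17 i7 i14) (p j17 i7 i15))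
  (@T16.mk E (p j17 i8 i0) (p j17 i8 i1) (p j17 i8 i2) (p j17 i8 i3) (p j17 i8 i4) (p j17 i8 i5) (p j17 i8 i6) (p j17 i8 i7) (p j17 i8 i8) (p j17 i8 i9) (p j17 i8 i10) (p j17 i8 i11) (p j17 i8 i12) (p j17 i8 i13) (p j17 i8 i14) (p j17 i8 i15))
  (@T16.mk E (p j17 i9 i0) (p j17 i9 i1) (p j17 i9 i2) (p j17 i9 i3) (p j17 i9 i4) (p j17 i9 i5) (p j17 i9 i6) (p j17 i9 i7) (p j17 i9 i8) (p j17 i9 i9) (p j17 i9 i10) (p j17 i9 i11) (p j17 i9 i12) (p j17 i9 i13) (p j17 i9 i14) (p j17 i9 i15))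
  (@T16.mk E (p j17 i10 i0) (p j17 i10 i1) (p j17 i10 i2) (p j17 i10 i3) (p j17 i10 i4) (p j17 i10 i5) (p j17 i10 i6) (p j17 i10 i7) (p j17 i10 i8) (p j17 i10 i9) (p j17 i10 i10) (p j17 i10 i11) (p j17 i10 i12) (p j17 i10 i13) (p j17 i10 i14) (p j17 i10 i15))
  (@T16.mk E (p j17 i11 i0) (p j17 i11 i1) (p j17 i11 i2) (p j17 i11 i3) (p j17 i11 i4) (p j17 i11 i5) (p j17 i11 i6) (p j17 i11 i7) (p j17 i11 i8) (p j17 i11 i9) (p j17 i11 i10) (p j17 i11 i11) (p j17 i11 i12) (p j17 i11 i13) (p j17 i11 i14) (p j17 i11 i15))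
  (@T16.mk E (p j17 i12 i0) (p j17 i12 i1) (p j17 i12 i2) (p j17 i12 i3) (p j17 i12 i4) (p j17 i12 i5) (p j17 i12 i6) (p j17 i12 i7) (p j17 i12 i8) (p j17 i12 i9) (p j17 i12 i10) (p j17 i12 i11) (p j17 i12 i12) (p j17 i12 i13) (p j17 i12 i14) (p j17 i12 i15))
  (@T16.mk E (p j17 i13 i0) (p j17 i13 i1) (p j17 i13 i2) (p j17 i13 i3) (p j17 i13 i4) (p j17 i13 i5) (p j17 i13 i6) (p j17 i13 i7) (p j17 i13 i8) (p j17 i13 i9) (p j17 i13 i10) (p j17 i13 i11) (p j17 i13 i12) (p j17 i13 i13) (p j17 i13 i14) (p j17 i13 i15))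
  (@T16.mk E (p j17 i14 i0) (p j17 i14 i1) (p j17 i14 i2) (p j17 i14 i3) (p j17 i14 i4) (p j17 i14 i5) (p j17 i14 i6) (p j17 i14 i7) (p j17 i14 i8) (p j17 i14 i9) (p j17 i14 i10) (p j17 i14 i11) (p j17 i14 i12) (p j17 i14 i13) (p j17 i14 i14) (p j17 i14 i15))
  (@T16.mk E (p j17 i15 i0) (p j17 i15 i1) (p j17 i15 i2) (p j17 i15 i3) (p j17 i15 i4) (p j17 i15 i5) (p j17 i15 i6) (p j17 i15 i7) (p j17 i15 i8) (p j17 i15 i9) (p j17 i15 i10) (p j17 i15 i11) (p j17 i15 i12) (p j17 i15 i13) (p j17 i15 i14) (p j17 i15 i15))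
 )
theorem tb22_ok : okTab tb22 = true := by decide +kernel
noncomputable def cd22 (s : St) : St :=
@T18.mk (T16 (T16 R))
 (@T16.mk (T16 R)
  (@T16.mk R s.2.9.7 (R.mk s.2.9.8.2 s.2.9.8.1) (R.mk s.2.9.5.2 s.2.9.5.1) s.2.9.6 s.2.9.3 (R.mk s.2.9.4.2 s.2.9.4.1) (R.mk s.2.9.1.2 s.2.9.1.1) s.2.9.2 (R.mk s.2.9.15.2 s.2.9.15.1) s.2.9.16 s.2.9.13 (R.mk s.2.9.14.2 s.2.9.14.1) (R.mk s.2.9.11.2 s.2.9.11.1) s.2.9.12 s.2.9.9 (R.mk s.2.9.10.2 s.2.9.10.1))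
  (@T16.mk R s.2.10.7 (R.mk s.2.10.8.2 s.2.10.8.1) (R.mk s.2.10.5.2 s.2.10.5.1) s.2.10.6 s.2.10.3 (R.mk s.2.10.4.2 s.2.10.4.1) (R.mk s.2.10.1.2 s.2.10.1.1) s.2.10.2 (R.mk s.2.10.15.2 s.2.10.15.1) s.2.10.16 s.2.10.13 (R.mk s.2.10.14.2 s.2.10.14.1) (R.mk s.2.10.11.2 s.2.10.11.1) s.2.10.12 s.2.10.9 (R.mk s.2.10.10.2 s.2.10.10.1))
  (@T16.mk R s.2.11.7 (R.mk s.2.11.8.2 s.2.11.8.1) (R.mk s.2.11.5.2 s.2.11.5.1) s.2.11.6 s.2.11.3 (R.mk s.2.11.4.2 s.2.11.4.1) (R.mk s.2.11.1.2 s.2.11.1.1) s.2.11.2 (R.mk s.2.11.15.2 s.2.11.15.1) s.2.11.16 s.2.11.13 (R.mk s.2.11.14.2 s.2.11.14.1) (R.mk s.2.11.11.2 s.2.11.11.1) s.2.11.12 s.2.11.9 (R.mk s.2.11.10.2 s.2.11.10.1))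
  (@T16.mk R s.2.12.7 (R.mk s.2.12.8.2 s.2.12.8.1) (R.mk s.2.12.5.2 s.2.12.5.1) s.2.12.6 s.2.12.3 (R.mk s.2.12.4.2 s.2.12.4.1) (R.mk s.2.12.1.2 s.2.12.1.1) s.2.12.2 (R.mk s.2.12.15.2 s.2.12.15.1) s.2.12.16 s.2.12.13 (R.mk s.2.12.14.2 s.2.12.14.1) (R.mk s.2.12.11.2 s.2.12.11.1) s.2.12.12 s.2.12.9 (R.mk s.2.12.10.2 s.2.12.10.1))
  (@T16.mk R s.2.13.7 (R.mk s.2.13.8.2 s.2.13.8.1) (R.mk s.2.13.5.2 s.2.13.5.1) s.2.13.6 s.2.13.3 (R.mk s.2.13.4.2 s.2.13.4.1) (R.mk s.2.13.1.2 s.2.13.1.1) s.2.13.2 (R.mk s.2.13.15.2 s.2.13.15.1) s.2.13.16 s.2.13.13 (R.mk s.2.13.14.2 s.2.13.14.1) (R.mk s.2.13.11.2 s.2.13.11.1) s.2.13.12 s.2.13.9 (R.mk s.2.13.10.2 s.2.13.10.1))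
  (@T16.mk R s.2.14.7 (R.mk s.2.14.8.2 s.2.14.8.1) (R.mk s.2.14.5.2 s.2.14.5.1) s.2.14.6 s.2.14.3 (R.mk s.2.14.4.2 s.2.14.4.1) (R.mk s.2.14.1.2 s.2.14.1.1) s.2.14.2 (R.mk s.2.14.15.2 s.2.14.15.1) s.2.14.16 s.2.14.13 (R.mk s.2.14.14.2 s.2.14.14.1) (R.mk s.2.14.11.2 s.2.14.11.1) s.2.14.12 s.2.14.9 (R.mk s.2.14.10.2 s.2.14.10.1))
  (@T16.mk R (R.mk s.2.15.7.2 s.2.15.7.1) s.2.15.8 s.2.15.5 (R.mk s.2.15.6.2 s.2.15.6.1) (R.mk s.2.15.3.2 s.2.15.3.1) s.2.15.4 s.2.15.1 (R.mk s.2.15.2.2 s.2.15.2.1) s.2.15.15 (R.mk s.2.15.16.2 s.2.15.16.1) (R.mk s.2.15.13.2 s.2.15.13.1) s.2.15.14 s.2.15.11 (R.mk s.2.15.12.2 s.2.15.12.1) (R.mk s.2.15.9.2 s.2.15.9.1) s.2.15.10)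
  (@T16.mk R s.2.16.7 (R.mk s.2.16.8.2 s.2.16.8.1) (R.mk s.2.16.5.2 s.2.16.5.1) s.2.16.6 s.2.16.3 (R.mk s.2.16.4.2 s.2.16.4.1) (R.mk s.2.16.1.2 s.2.16.1.1) s.2.16.2 (R.mk s.2.16.15.2 s.2.16.15.1) s.2.16.16 s.2.16.13 (R.mk s.2.16.14.2 s.2.16.14.1) (R.mk s.2.16.11.2 s.2.16.11.1) s.2.16.12 s.2.16.9 (R.mk s.2.16.10.2 s.2.16.10.1))
  (@T16.mk R s.2.1.7 (R.mk s.2.1.8.2 s.2.1.8.1) (R.mk s.2.1.5.2 s.2.1.5.1) s.2.1.6 s.2.1.3 (R.mk s.2.1.4.2 s.2.1.4.1) (R.mk s.2.1.1.2 s.2.1.1.1) s.2.1.2 (R.mk s.2.1.15.2 s.2.1.15.1) s.2.1.16 s.2.1.13 (R.mk s.2.1.14.2 s.2.1.14.1) (R.mk s.2.1.11.2 s.2.1.11.1) s.2.1.12 s.2.1.9 (R.mk s.2.1.10.2 s.2.1.10.1))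
  (@T16.mk R s.2.2.7 (R.mk s.2.2.8.2 s.2.2.8.1) (R.mk s.2.2.5.2 s.2.2.5.1) s.2.2.6 s.2.2.3 (R.mk s.2.2.4.2 s.2.2.4.1) (R.mk s.2.2.1.2 s.2.2.1.1) s.2.2.2 (R.mk s.2.2.15.2 s.2.2.15.1) s.2.2.16 s.2.2.13 (R.mk s.2.2.14.2 s.2.2.14.1) (R.mk s.2.2.11.2 s.2.2.11.1) s.2.2.12 s.2.2.9 (R.mk s.2.2.10.2 s.2.2.10.1))
  (@T16.mk R s.2.3.7 (R.mk s.2.3.8.2 s.2.3.8.1) (R.mk s.2.3.5.2 s.2.3.5.1) s.2.3.6 s.2.3.3 (R.mk s.2.3.4.2 s.2.3.4.1) (R.mk s.2.3.1.2 s.2.3.1.1) s.2.3.2 (R.mk s.2.3.15.2 s.2.3.15.1) s.2.3.16 s.2.3.13 (R.mk s.2.3.14.2 s.2.3.14.1) (R.mk s.2.3.11.2 s.2.3.11.1) s.2.3.12 s.2.3.9 (R.mk s.2.3.10.2 s.2.3.10.1))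
  (@T16.mk R (R.mk s.2.4.7.2 s.2.4.7.1) s.2.4.8 s.2.4.5 (R.mk s.2.4.6.2 s.2.4.6.1) (R.mk s.2.4.3.2 s.2.4.3.1) s.2.4.4 s.2.4.1 (R.mk s.2.4.2.2 s.2.4.2.1) s.2.4.15 (R.mk s.2.4.16.2 s.2.4.16.1) (R.mk s.2.4.13.2 s.2.4.13.1) s.2.4.14 s.2.4.11 (R.mk s.2.4.12.2 s.2.4.12.1) (R.mk s.2.4.9.2 s.2.4.9.1) s.2.4.10)
  (@T16.mk R s.2.5.7 (R.mk s.2.5.8.2 s.2.5.8.1) (R.mk s.2.5.5.2 s.2.5.5.1) s.2.5.6 s.2.5.3 (R.mk s.2.5.4.2 s.2.5.4.1) (R.mk s.2.5.1.2 s.2.5.1.1) s.2.5.2 (R.mk s.2.5.15.2 s.2.5.15.1) s.2.5.16 s.2.5.13 (R.mk s.2.5.14.2 s.2.5.14.1) (R.mk s.2.5.11.2 s.2.5.11.1) s.2.5.12 s.2.5.9 (R.mk s.2.5.10.2 s.2.5.10.1))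
  (@T16.mk R s.2.6.7 (R.mk s.2.6.8.2 s.2.6.8.1) (R.mk s.2.6.5.2 s.2.6.5.1) s.2.6.6 s.2.6.3 (R.mk s.2.6.4.2 s.2.6.4.1) (R.mk s.2.6.1.2 s.2.6.1.1) s.2.6.2 (R.mk s.2.6.15.2 s.2.6.15.1) s.2.6.16 s.2.6.13 (R.mk s.2.6.14.2 s.2.6.14.1) (R.mk s.2.6.11.2 s.2.6.11.1) s.2.6.12 s.2.6.9 (R.mk s.2.6.10.2 s.2.6.10.1))
  (@T16.mk R (R.mk s.2.7.7.2 s.2.7.7.1) s.2.7.8 s.2.7.5 (R.mk s.2.7.6.2 s.2.7.6.1) (R.mk s.2.7.3.2 s.2.7.3.1) s.2.7.4 s.2.7.1 (R.mk s.2.7.2.2 s.2.7.2.1) s.2.7.15 (R.mk s.2.7.16.2 s.2.7.16.1) (R.mk s.2.7.13.2 s.2.7.13.1) s.2.7.14 s.2.7.11 (R.mk s.2.7.12.2 s.2.7.12.1) (R.mk s.2.7.9.2 s.2.7.9.1) s.2.7.10)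
  (@T16.mk R (R.mk s.2.8.7.2 s.2.8.7.1) s.2.8.8 s.2.8.5 (R.mk s.2.8.6.2 s.2.8.6.1) (R.mk s.2.8.3.2 s.2.8.3.1) s.2.8.4 s.2.8.1 (R.mk s.2.8.2.2 s.2.8.2.1) s.2.8.15 (R.mk s.2.8.16.2 s.2.8.16.1) (R.mk s.2.8.13.2 s.2.8.13.1) s.2.8.14 s.2.8.11 (R.mk s.2.8.12.2 s.2.8.12.1) (R.mk s.2.8.9.2 s.2.8.9.1) s.2.8.10)
 )
 (@T16.mk (T16 R)
  (@T16.mk R (R.mk s.1.9.7.2 s.1.9.7.1) s.1.9.8 s.1.9.5 (R.mk s.1.9.6.2 s.1.9.6.1) (R.mk s.1.9.3.2 s.1.9.3.1) s.1.9.4 s.1.9.1 (R.mk s.1.9.2.2 s.1.9.2.1) s.1.9.15 (R.mk s.1.9.16.2 s.1.9.16.1) (R.mk s.1.9.13.2 s.1.9.13.1) s.1.9.14 s.1.9.11 (R.mk s.1.9.12.2 s.1.9.12.1) (R.mk s.1.9.9.2 s.1.9.9.1) s.1.9.10)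
  (@T16.mk R (R.mk s.1.10.7.2 s.1.10.7.1) s.1.10.8 s.1.10.5 (R.mk s.1.10.6.2 s.1.10.6.1) (R.mk s.1.10.3.2 s.1.10.3.1) s.1.10.4 s.1.10.1 (R.mk s.1.10.2.2 s.1.10.2.1) s.1.10.15 (R.mk s.1.10.16.2 s.1.10.16.1) (R.mk s.1.10.13.2 s.1.10.13.1) s.1.10.14 s.1.10.11 (R.mk s.1.10.12.2 s.1.10.12.1) (R.mk s.1.10.9.2 s.1.10.9.1) s.1.10.10)
  (@T16.mk R (R.mk s.1.11.7.2 s.1.11.7.1) s.1.11.8 s.1.11.5 (R.mk s.1.11.6.2 s.1.11.6.1) (R.mk s.1.11.3.2 s.1.11.3.1) s.1.11.4 s.1.11.1 (R.mk s.1.11.2.2 s.1.11.2.1) s.1.11.15 (R.mk s.1.11.16.2 s.1.11.16.1) (R.mk s.1.11.13.2 s.1.11.13.1) s.1.11.14 s.1.11.11 (R.mk s.1.11.12.2 s.1.11.12.1) (R.mk s.1.11.9.2 s.1.11.9.1) s.1.11.10)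
  (@T16.mk R s.1.12.7 (R.mk s.1.12.8.2 s.1.12.8.1) (R.mk s.1.12.5.2 s.1.12.5.1) s.1.12.6 s.1.12.3 (R.mk s.1.12.4.2 s.1.12.4.1) (R.mk s.1.12.1.2 s.1.12.1.1) s.1.12.2 (R.mk s.1.12.15.2 s.1.12.15.1) s.1.12.16 s.1.12.13 (R.mk s.1.12.14.2 s.1.12.14.1) (R.mk s.1.12.11.2 s.1.12.11.1) s.1.12.12 s.1.12.9 (R.mk s.1.12.10.2 s.1.12.10.1))
  (@T16.mk R (R.mk s.1.13.7.2 s.1.13.7.1) s.1.13.8 s.1.13.5 (R.mk s.1.13.6.2 s.1.13.6.1) (R.mk s.1.13.3.2 s.1.13.3.1) s.1.13.4 s.1.13.1 (R.mk s.1.13.2.2 s.1.13.2.1) s.1.13.15 (R.mk s.1.13.16.2 s.1.13.16.1) (R.mk s.1.13.13.2 s.1.13.13.1) s.1.13.14 s.1.13.11 (R.mk s.1.13.12.2 s.1.13.12.1) (R.mk s.1.13.9.2 s.1.13.9.1) s.1.13.10)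
  (@T16.mk R (R.mk s.1.14.7.2 s.1.14.7.1) s.1.14.8 s.1.14.5 (R.mk s.1.14.6.2 s.1.14.6.1) (R.mk s.1.14.3.2 s.1.14.3.1) s.1.14.4 s.1.14.1 (R.mk s.1.14.2.2 s.1.14.2.1) s.1.14.15 (R.mk s.1.14.16.2 s.1.14.16.1) (R.mk s.1.14.13.2 s.1.14.13.1) s.1.14.14 s.1.14.11 (R.mk s.1.14.12.2 s.1.14.12.1) (R.mk s.1.14.9.2 s.1.14.9.1) s.1.14.10)
  (@T16.mk R s.1.15.7 (R.mk s.1.15.8.2 s.1.15.8.1) (R.mk s.1.15.5.2 s.1.15.5.1) s.1.15.6 s.1.15.3 (R.mk s.1.15.4.2 s.1.15.4.1) (R.mk s.1.15.1.2 s.1.15.1.1) s.1.15.2 (R.mk s.1.15.15.2 s.1.15.15.1) s.1.15.16 s.1.15.13 (R.mk s.1.15.14.2 s.1.15.14.1) (R.mk s.1.15.11.2 s.1.15.11.1) s.1.15.12 s.1.15.9 (R.mk s.1.15.10.2 s.1.15.10.1))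
  (@T16.mk R s.1.16.7 (R.mk s.1.16.8.2 s.1.16.8.1) (R.mk s.1.16.5.2 s.1.16.5.1) s.1.16.6 s.1.16.3 (R.mk s.1.16.4.2 s.1.16.4.1) (R.mk s.1.16.1.2 s.1.16.1.1) s.1.16.2 (R.mk s.1.16.15.2 s.1.16.15.1) s.1.16.16 s.1.16.13 (R.mk s.1.16.14.2 s.1.16.14.1) (R.mk s.1.16.11.2 s.1.16.11.1) s.1.16.12 s.1.16.9 (R.mk s.1.16.10.2 s.1.16.10.1))
  (@T16.mk R (R.mk s.1.1.7.2 s.1.1.7.1) s.1.1.8 s.1.1.5 (R.mk s.1.1.6.2 s.1.1.6.1) (R.mk s.1.1.3.2 s.1.1.3.1) s.1.1.4 s.1.1.1 (R.mk s.1.1.2.2 s.1.1.2.1) s.1.1.15 (R.mk s.1.1.16.2 s.1.1.16.1) (R.mk s.1.1.13.2 s.1.1.13.1) s.1.1.14 s.1.1.11 (R.mk s.1.1.12.2 s.1.1.12.1) (R.mk s.1.1.9.2 s.1.1.9.1) s.1.1.10)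
  (@T16.mk R (R.mk s.1.2.7.2 s.1.2.7.1) s.1.2.8 s.1.2.5 (R.mk s.1.2.6.2 s.1.2.6.1) (R.mk s.1.2.3.2 s.1.2.3.1) s.1.2.4 s.1.2.1 (R.mk s.1.2.2.2 s.1.2.2.1) s.1.2.15 (R.mk s.1.2.16.2 s.1.2.16.1) (R.mk s.1.2.13.2 s.1.2.13.1) s.1.2.14 s.1.2.11 (R.mk s.1.2.12.2 s.1.2.12.1) (R.mk s.1.2.9.2 s.1.2.9.1) s.1.2.10)
  (@T16.mk R (R.mk s.1.3.7.2 s.1.3.7.1) s.1.3.8 s.1.3.5 (R.mk s.1.3.6.2 s.1.3.6.1) (R.mk s.1.3.3.2 s.1.3.3.1) s.1.3.4 s.1.3.1 (R.mk s.1.3.2.2 s.1.3.2.1) s.1.3.15 (R.mk s.1.3.16.2 s.1.3.16.1) (R.mk s.1.3.13.2 s.1.3.13.1) s.1.3.14 s.1.3.11 (R.mk s.1.3.12.2 s.1.3.12.1) (R.mk s.1.3.9.2 s.1.3.9.1) s.1.3.10)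
  (@T16.mk R (R.mk s.1.4.7.2 s.1.4.7.1) s.1.4.8 s.1.4.5 (R.mk s.1.4.6.2 s.1.4.6.1) (R.mk s.1.4.3.2 s.1.4.3.1) s.1.4.4 s.1.4.1 (R.mk s.1.4.2.2 s.1.4.2.1) s.1.4.15 (R.mk s.1.4.16.2 s.1.4.16.1) (R.mk s.1.4.13.2 s.1.4.13.1) s.1.4.14 s.1.4.11 (R.mk s.1.4.12.2 s.1.4.12.1) (R.mk s.1.4.9.2 s.1.4.9.1) s.1.4.10)
  (@T16.mk R (R.mk s.1.5.7.2 s.1.5.7.1) s.1.5.8 s.1.5.5 (R.mk s.1.5.6.2 s.1.5.6.1) (R.mk s.1.5.3.2 s.1.5.3.1) s.1.5.4 s.1.5.1 (R.mk s.1.5.2.2 s.1.5.2.1) s.1.5.15 (R.mk s.1.5.16.2 s.1.5.16.1) (R.mk s.1.5.13.2 s.1.5.13.1) s.1.5.14 s.1.5.11 (R.mk s.1.5.12.2 s.1.5.12.1) (R.mk s.1.5.9.2 s.1.5.9.1) s.1.5.10)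
  (@T16.mk R (R.mk s.1.6.7.2 s.1.6.7.1) s.1.6.8 s.1.6.5 (R.mk s.1.6.6.2 s.1.6.6.1) (R.mk s.1.6.3.2 s.1.6.3.1) s.1.6.4 s.1.6.1 (R.mk s.1.6.2.2 s.1.6.2.1) s.1.6.15 (R.mk s.1.6.16.2 s.1.6.16.1) (R.mk s.1.6.13.2 s.1.6.13.1) s.1.6.14 s.1.6.11 (R.mk s.1.6.12.2 s.1.6.12.1) (R.mk s.1.6.9.2 s.1.6.9.1) s.1.6.10)
  (@T16.mk R s.1.7.7 (R.mk s.1.7.8.2 s.1.7.8.1) (R.mk s.1.7.5.2 s.1.7.5.1) s.1.7.6 s.1.7.3 (R.mk s.1.7.4.2 s.1.7.4.1) (R.mk s.1.7.1.2 s.1.7.1.1) s.1.7.2 (R.mk s.1.7.15.2 s.1.7.15.1) s.1.7.16 s.1.7.13 (R.mk s.1.7.14.2 s.1.7.14.1) (R.mk s.1.7.11.2 s.1.7.11.1) s.1.7.12 s.1.7.9 (R.mk s.1.7.10.2 s.1.7.10.1))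
  (@T16.mk R (R.mk s.1.8.7.2 s.1.8.7.1) s.1.8.8 s.1.8.5 (R.mk s.1.8.6.2 s.1.8.6.1) (R.mk s.1.8.3.2 s.1.8.3.1) s.1.8.4 s.1.8.1 (R.mk s.1.8.2.2 s.1.8.2.1) s.1.8.15 (R.mk s.1.8.16.2 s.1.8.16.1) (R.mk s.1.8.13.2 s.1.8.13.1) s.1.8.14 s.1.8.11 (R.mk s.1.8.12.2 s.1.8.12.1) (R.mk s.1.8.9.2 s.1.8.9.1) s.1.8.10)
 )
 (@T16.mk (T16 R)
  (@T16.mk R (R.mk s.4.9.7.2 s.4.9.7.1) s.4.9.8 s.4.9.5 (R.mk s.4.9.6.2 s.4.9.6.1) (R.mk s.4.9.3.2 s.4.9.3.1) s.4.9.4 s.4.9.1 (R.mk s.4.9.2.2 s.4.9.2.1) s.4.9.15 (R.mk s.4.9.16.2 s.4.9.16.1) (R.mk s.4.9.13.2 s.4.9.13.1) s.4.9.14 s.4.9.11 (R.mk s.4.9.12.2 s.4.9.12.1) (R.mk s.4.9.9.2 s.4.9.9.1) s.4.9.10)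
  (@T16.mk R (R.mk s.4.10.7.2 s.4.10.7.1) s.4.10.8 s.4.10.5 (R.mk s.4.10.6.2 s.4.10.6.1) (R.mk s.4.10.3.2 s.4.10.3.1) s.4.10.4 s.4.10.1 (R.mk s.4.10.2.2 s.4.10.2.1) s.4.10.15 (R.mk s.4.10.16.2 s.4.10.16.1) (R.mk s.4.10.13.2 s.4.10.13.1) s.4.10.14 s.4.10.11 (R.mk s.4.10.12.2 s.4.10.12.1) (R.mk s.4.10.9.2 s.4.10.9.1) s.4.10.10)
  (@T16.mk R (R.mk s.4.11.7.2 s.4.11.7.1) s.4.11.8 s.4.11.5 (R.mk s.4.11.6.2 s.4.11.6.1) (R.mk s.4.11.3.2 s.4.11.3.1) s.4.11.4 s.4.11.1 (R.mk s.4.11.2.2 s.4.11.2.1) s.4.11.15 (R.mk s.4.11.16.2 s.4.11.16.1) (R.mk s.4.11.13.2 s.4.11.13.1) s.4.11.14 s.4.11.11 (R.mk s.4.11.12.2 s.4.11.12.1) (R.mk s.4.11.9.2 s.4.11.9.1) s.4.11.10)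
  (@T16.mk R (R.mk s.4.12.7.2 s.4.12.7.1) s.4.12.8 s.4.12.5 (R.mk s.4.12.6.2 s.4.12.6.1) (R.mk s.4.12.3.2 s.4.12.3.1) s.4.12.4 s.4.12.1 (R.mk s.4.12.2.2 s.4.12.2.1) s.4.12.15 (R.mk s.4.12.16.2 s.4.12.16.1) (R.mk s.4.12.13.2 s.4.12.13.1) s.4.12.14 s.4.12.11 (R.mk s.4.12.12.2 s.4.12.12.1) (R.mk s.4.12.9.2 s.4.12.9.1) s.4.12.10)
  (@T16.mk R (R.mk s.4.13.7.2 s.4.13.7.1) s.4.13.8 s.4.13.5 (R.mk s.4.13.6.2 s.4.13.6.1) (R.mk s.4.13.3.2 s.4.13.3.1) s.4.13.4 s.4.13.1 (R.mk s.4.13.2.2 s.4.13.2.1) s.4.13.15 (R.mk s.4.13.16.2 s.4.13.16.1) (R.mk s.4.13.13.2 s.4.13.13.1) s.4.13.14 s.4.13.11 (R.mk s.4.13.12.2 s.4.13.12.1) (R.mk s.4.13.9.2 s.4.13.9.1) s.4.13.10)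
  (@T16.mk R (R.mk s.4.14.7.2 s.4.14.7.1) s.4.14.8 s.4.14.5 (R.mk s.4.14.6.2 s.4.14.6.1) (R.mk s.4.14.3.2 s.4.14.3.1) s.4.14.4 s.4.14.1 (R.mk s.4.14.2.2 s.4.14.2.1) s.4.14.15 (R.mk s.4.14.16.2 s.4.14.16.1) (R.mk s.4.14.13.2 s.4.14.13.1) s.4.14.14 s.4.14.11 (R.mk s.4.14.12.2 s.4.14.12.1) (R.mk s.4.14.9.2 s.4.14.9.1) s.4.14.10)
  (@T16.mk R s.4.15.7 (R.mk s.4.15.8.2 s.4.15.8.1) (R.mk s.4.15.5.2 s.4.15.5.1) s.4.15.6 s.4.15.3 (R.mk s.4.15.4.2 s.4.15.4.1) (R.mk s.4.15.1.2 s.4.15.1.1) s.4.15.2 (R.mk s.4.15.15.2 s.4.15.15.1) s.4.15.16 s.4.15.13 (R.mk s.4.15.14.2 s.4.15.14.1) (R.mk s.4.15.11.2 s.4.15.11.1) s.4.15.12 s.4.15.9 (R.mk s.4.15.10.2 s.4.15.10.1))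
  (@T16.mk R (R.mk s.4.16.7.2 s.4.16.7.1) s.4.16.8 s.4.16.5 (R.mk s.4.16.6.2 s.4.16.6.1) (R.mk s.4.16.3.2 s.4.16.3.1) s.4.16.4 s.4.16.1 (R.mk s.4.16.2.2 s.4.16.2.1) s.4.16.15 (R.mk s.4.16.16.2 s.4.16.16.1) (R.mk s.4.16.13.2 s.4.16.13.1) s.4.16.14 s.4.16.11 (R.mk s.4.16.12.2 s.4.16.12.1) (R.mk s.4.16.9.2 s.4.16.9.1) s.4.16.10)
  (@T16.mk R (R.mk s.4.1.7.2 s.4.1.7.1) s.4.1.8 s.4.1.5 (R.mk s.4.1.6.2 s.4.1.6.1) (R.mk s.4.1.3.2 s.4.1.3.1) s.4.1.4 s.4.1.1 (R.mk s.4.1.2.2 s.4.1.2.1) s.4.1.15 (R.mk s.4.1.16.2 s.4.1.16.1) (R.mk s.4.1.13.2 s.4.1.13.1) s.4.1.14 s.4.1.11 (R.mk s.4.1.12.2 s.4.1.12.1) (R.mk s.4.1.9.2 s.4.1.9.1) s.4.1.10)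
  (@T16.mk R (R.mk s.4.2.7.2 s.4.2.7.1) s.4.2.8 s.4.2.5 (R.mk s.4.2.6.2 s.4.2.6.1) (R.mk s.4.2.3.2 s.4.2.3.1) s.4.2.4 s.4.2.1 (R.mk s.4.2.2.2 s.4.2.2.1) s.4.2.15 (R.mk s.4.2.16.2 s.4.2.16.1) (R.mk s.4.2.13.2 s.4.2.13.1) s.4.2.14 s.4.2.11 (R.mk s.4.2.12.2 s.4.2.12.1) (R.mk s.4.2.9.2 s.4.2.9.1) s.4.2.10)
  (@T16.mk R s.4.3.7 (R.mk s.4.3.8.2 s.4.3.8.1) (R.mk s.4.3.5.2 s.4.3.5.1) s.4.3.6 s.4.3.3 (R.mk s.4.3.4.2 s.4.3.4.1) (R.mk s.4.3.1.2 s.4.3.1.1) s.4.3.2 (R.mk s.4.3.15.2 s.4.3.15.1) s.4.3.16 s.4.3.13 (R.mk s.4.3.14.2 s.4.3.14.1) (R.mk s.4.3.11.2 s.4.3.11.1) s.4.3.12 s.4.3.9 (R.mk s.4.3.10.2 s.4.3.10.1))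
  (@T16.mk R (R.mk s.4.4.7.2 s.4.4.7.1) s.4.4.8 s.4.4.5 (R.mk s.4.4.6.2 s.4.4.6.1) (R.mk s.4.4.3.2 s.4.4.3.1) s.4.4.4 s.4.4.1 (R.mk s.4.4.2.2 s.4.4.2.1) s.4.4.15 (R.mk s.4.4.16.2 s.4.4.16.1) (R.mk s.4.4.13.2 s.4.4.13.1) s.4.4.14 s.4.4.11 (R.mk s.4.4.12.2 s.4.4.12.1) (R.mk s.4.4.9.2 s.4.4.9.1) s.4.4.10)
  (@T16.mk R (R.mk s.4.5.7.2 s.4.5.7.1) s.4.5.8 s.4.5.5 (R.mk s.4.5.6.2 s.4.5.6.1) (R.mk s.4.5.3.2 s.4.5.3.1) s.4.5.4 s.4.5.1 (R.mk s.4.5.2.2 s.4.5.2.1) s.4.5.15 (R.mk s.4.5.16.2 s.4.5.16.1) (R.mk s.4.5.13.2 s.4.5.13.1) s.4.5.14 s.4.5.11 (R.mk s.4.5.12.2 s.4.5.12.1) (R.mk s.4.5.9.2 s.4.5.9.1) s.4.5.10)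
  (@T16.mk R (R.mk s.4.6.7.2 s.4.6.7.1) s.4.6.8 s.4.6.5 (R.mk s.4.6.6.2 s.4.6.6.1) (R.mk s.4.6.3.2 s.4.6.3.1) s.4.6.4 s.4.6.1 (R.mk s.4.6.2.2 s.4.6.2.1) s.4.6.15 (R.mk s.4.6.16.2 s.4.6.16.1) (R.mk s.4.6.13.2 s.4.6.13.1) s.4.6.14 s.4.6.11 (R.mk s.4.6.12.2 s.4.6.12.1) (R.mk s.4.6.9.2 s.4.6.9.1) s.4.6.10)
  (@T16.mk R (R.mk s.4.7.7.2 s.4.7.7.1) s.4.7.8 s.4.7.5 (R.mk s.4.7.6.2 s.4.7.6.1) (R.mk s.4.7.3.2 s.4.7.3.1) s.4.7.4 s.4.7.1 (R.mk s.4.7.2.2 s.4.7.2.1) s.4.7.15 (R.mk s.4.7.16.2 s.4.7.16.1) (R.mk s.4.7.13.2 s.4.7.13.1) s.4.7.14 s.4.7.11 (R.mk s.4.7.12.2 s.4.7.12.1) (R.mk s.4.7.9.2 s.4.7.9.1) s.4.7.10)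
  (@T16.mk R (R.mk s.4.8.7.2 s.4.8.7.1) s.4.8.8 s.4.8.5 (R.mk s.4.8.6.2 s.4.8.6.1) (R.mk s.4.8.3.2 s.4.8.3.1) s.4.8.4 s.4.8.1 (R.mk s.4.8.2.2 s.4.8.2.1) s.4.8.15 (R.mk s.4.8.16.2 s.4.8.16.1) (R.mk s.4.8.13.2 s.4.8.13.1) s.4.8.14 s.4.8.11 (R.mk s.4.8.12.2 s.4.8.12.1) (R.mk s.4.8.9.2 s.4.8.9.1) s.4.8.10)
 )
 (@T16.mk (T16 R)
  (@T16.mk R s.3.9.7 (R.mk s.3.9.8.2 s.3.9.8.1) (R.mk s.3.9.5.2 s.3.9.5.1) s.3.9.6 s.3.9.3 (R.mk s.3.9.4.2 s.3.9.4.1) (R.mk s.3.9.1.2 s.3.9.1.1) s.3.9.2 (R.mk s.3.9.15.2 s.3.9.15.1) s.3.9.16 s.3.9.13 (R.mk s.3.9.14.2 s.3.9.14.1) (R.mk s.3.9.11.2 s.3.9.11.1) s.3.9.12 s.3.9.9 (R.mk s.3.9.10.2 s.3.9.10.1))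
  (@T16.mk R s.3.10.7 (R.mk s.3.10.8.2 s.3.10.8.1) (R.mk s.3.10.5.2 s.3.10.5.1) s.3.10.6 s.3.10.3 (R.mk s.3.10.4.2 s.3.10.4.1) (R.mk s.3.10.1.2 s.3.10.1.1) s.3.10.2 (R.mk s.3.10.15.2 s.3.10.15.1) s.3.10.16 s.3.10.13 (R.mk s.3.10.14.2 s.3.10.14.1) (R.mk s.3.10.11.2 s.3.10.11.1) s.3.10.12 s.3.10.9 (R.mk s.3.10.10.2 s.3.10.10.1))
  (@T16.mk R (R.mk s.3.11.7.2 s.3.11.7.1) s.3.11.8 s.3.11.5 (R.mk s.3.11.6.2 s.3.11.6.1) (R.mk s.3.11.3.2 s.3.11.3.1) s.3.11.4 s.3.11.1 (R.mk s.3.11.2.2 s.3.11.2.1) s.3.11.15 (R.mk s.3.11.16.2 s.3.11.16.1) (R.mk s.3.11.13.2 s.3.11.13.1) s.3.11.14 s.3.11.11 (R.mk s.3.11.12.2 s.3.11.12.1) (R.mk s.3.11.9.2 s.3.11.9.1) s.3.11.10)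
  (@T16.mk R s.3.12.7 (R.mk s.3.12.8.2 s.3.12.8.1) (R.mk s.3.12.5.2 s.3.12.5.1) s.3.12.6 s.3.12.3 (R.mk s.3.12.4.2 s.3.12.4.1) (R.mk s.3.12.1.2 s.3.12.1.1) s.3.12.2 (R.mk s.3.12.15.2 s.3.12.15.1) s.3.12.16 s.3.12.13 (R.mk s.3.12.14.2 s.3.12.14.1) (R.mk s.3.12.11.2 s.3.12.11.1) s.3.12.12 s.3.12.9 (R.mk s.3.12.10.2 s.3.12.10.1))
  (@T16.mk R s.3.13.7 (R.mk s.3.13.8.2 s.3.13.8.1) (R.mk s.3.13.5.2 s.3.13.5.1) s.3.13.6 s.3.13.3 (R.mk s.3.13.4.2 s.3.13.4.1) (R.mk s.3.13.1.2 s.3.13.1.1) s.3.13.2 (R.mk s.3.13.15.2 s.3.13.15.1) s.3.13.16 s.3.13.13 (R.mk s.3.13.14.2 s.3.13.14.1) (R.mk s.3.13.11.2 s.3.13.11.1) s.3.13.12 s.3.13.9 (R.mk s.3.13.10.2 s.3.13.10.1))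
  (@T16.mk R s.3.14.7 (R.mk s.3.14.8.2 s.3.14.8.1) (R.mk s.3.14.5.2 s.3.14.5.1) s.3.14.6 s.3.14.3 (R.mk s.3.14.4.2 s.3.14.4.1) (R.mk s.3.14.1.2 s.3.14.1.1) s.3.14.2 (R.mk s.3.14.15.2 s.3.14.15.1) s.3.14.16 s.3.14.13 (R.mk s.3.14.14.2 s.3.14.14.1) (R.mk s.3.14.11.2 s.3.14.11.1) s.3.14.12 s.3.14.9 (R.mk s.3.14.10.2 s.3.14.10.1))
  (@T16.mk R s.3.15.7 (R.mk s.3.15.8.2 s.3.15.8.1) (R.mk s.3.15.5.2 s.3.15.5.1) s.3.15.6 s.3.15.3 (R.mk s.3.15.4.2 s.3.15.4.1) (R.mk s.3.15.1.2 s.3.15.1.1) s.3.15.2 (R.mk s.3.15.15.2 s.3.15.15.1) s.3.15.16 s.3.15.13 (R.mk s.3.15.14.2 s.3.15.14.1) (R.mk s.3.15.11.2 s.3.15.11.1) s.3.15.12 s.3.15.9 (R.mk s.3.15.10.2 s.3.15.10.1))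
  (@T16.mk R s.3.16.7 (R.mk s.3.16.8.2 s.3.16.8.1) (R.mk s.3.16.5.2 s.3.16.5.1) s.3.16.6 s.3.16.3 (R.mk s.3.16.4.2 s.3.16.4.1) (R.mk s.3.16.1.2 s.3.16.1.1) s.3.16.2 (R.mk s.3.16.15.2 s.3.16.15.1) s.3.16.16 s.3.16.13 (R.mk s.3.16.14.2 s.3.16.14.1) (R.mk s.3.16.11.2 s.3.16.11.1) s.3.16.12 s.3.16.9 (R.mk s.3.16.10.2 s.3.16.10.1))
  (@T16.mk R s.3.1.7 (R.mk s.3.1.8.2 s.3.1.8.1) (R.mk s.3.1.5.2 s.3.1.5.1) s.3.1.6 s.3.1.3 (R.mk s.3.1.4.2 s.3.1.4.1) (R.mk s.3.1.1.2 s.3.1.1.1) s.3.1.2 (R.mk s.3.1.15.2 s.3.1.15.1) s.3.1.16 s.3.1.13 (R.mk s.3.1.14.2 s.3.1.14.1) (R.mk s.3.1.11.2 s.3.1.11.1) s.3.1.12 s.3.1.9 (R.mk s.3.1.10.2 s.3.1.10.1))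
  (@T16.mk R s.3.2.7 (R.mk s.3.2.8.2 s.3.2.8.1) (R.mk s.3.2.5.2 s.3.2.5.1) s.3.2.6 s.3.2.3 (R.mk s.3.2.4.2 s.3.2.4.1) (R.mk s.3.2.1.2 s.3.2.1.1) s.3.2.2 (R.mk s.3.2.15.2 s.3.2.15.1) s.3.2.16 s.3.2.13 (R.mk s.3.2.14.2 s.3.2.14.1) (R.mk s.3.2.11.2 s.3.2.11.1) s.3.2.12 s.3.2.9 (R.mk s.3.2.10.2 s.3.2.10.1))
  (@T16.mk R s.3.3.7 (R.mk s.3.3.8.2 s.3.3.8.1) (R.mk s.3.3.5.2 s.3.3.5.1) s.3.3.6 s.3.3.3 (R.mk s.3.3.4.2 s.3.3.4.1) (R.mk s.3.3.1.2 s.3.3.1.1) s.3.3.2 (R.mk s.3.3.15.2 s.3.3.15.1) s.3.3.16 s.3.3.13 (R.mk s.3.3.14.2 s.3.3.14.1) (R.mk s.3.3.11.2 s.3.3.11.1) s.3.3.12 s.3.3.9 (R.mk s.3.3.10.2 s.3.3.10.1))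
  (@T16.mk R s.3.4.7 (R.mk s.3.4.8.2 s.3.4.8.1) (R.mk s.3.4.5.2 s.3.4.5.1) s.3.4.6 s.3.4.3 (R.mk s.3.4.4.2 s.3.4.4.1) (R.mk s.3.4.1.2 s.3.4.1.1) s.3.4.2 (R.mk s.3.4.15.2 s.3.4.15.1) s.3.4.16 s.3.4.13 (R.mk s.3.4.14.2 s.3.4.14.1) (R.mk s.3.4.11.2 s.3.4.11.1) s.3.4.12 s.3.4.9 (R.mk s.3.4.10.2 s.3.4.10.1))
  (@T16.mk R s.3.5.7 (R.mk s.3.5.8.2 s.3.5.8.1) (R.mk s.3.5.5.2 s.3.5.5.1) s.3.5.6 s.3.5.3 (R.mk s.3.5.4.2 s.3.5.4.1) (R.mk s.3.5.1.2 s.3.5.1.1) s.3.5.2 (R.mk s.3.5.15.2 s.3.5.15.1) s.3.5.16 s.3.5.13 (R.mk s.3.5.14.2 s.3.5.14.1) (R.mk s.3.5.11.2 s.3.5.11.1) s.3.5.12 s.3.5.9 (R.mk s.3.5.10.2 s.3.5.10.1))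
  (@T16.mk R s.3.6.7 (R.mk s.3.6.8.2 s.3.6.8.1) (R.mk s.3.6.5.2 s.3.6.5.1) s.3.6.6 s.3.6.3 (R.mk s.3.6.4.2 s.3.6.4.1) (R.mk s.3.6.1.2 s.3.6.1.1) s.3.6.2 (R.mk s.3.6.15.2 s.3.6.15.1) s.3.6.16 s.3.6.13 (R.mk s.3.6.14.2 s.3.6.14.1) (R.mk s.3.6.11.2 s.3.6.11.1) s.3.6.12 s.3.6.9 (R.mk s.3.6.10.2 s.3.6.10.1))
  (@T16.mk R (R.mk s.3.7.7.2 s.3.7.7.1) s.3.7.8 s.3.7.5 (R.mk s.3.7.6.2 s.3.7.6.1) (R.mk s.3.7.3.2 s.3.7.3.1) s.3.7.4 s.3.7.1 (R.mk s.3.7.2.2 s.3.7.2.1) s.3.7.15 (R.mk s.3.7.16.2 s.3.7.16.1) (R.mk s.3.7.13.2 s.3.7.13.1) s.3.7.14 s.3.7.11 (R.mk s.3.7.12.2 s.3.7.12.1) (R.mk s.3.7.9.2 s.3.7.9.1) s.3.7.10)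
  (@T16.mk R s.3.8.7 (R.mk s.3.8.8.2 s.3.8.8.1) (R.mk s.3.8.5.2 s.3.8.5.1) s.3.8.6 s.3.8.3 (R.mk s.3.8.4.2 s.3.8.4.1) (R.mk s.3.8.1.2 s.3.8.1.1) s.3.8.2 (R.mk s.3.8.15.2 s.3.8.15.1) s.3.8.16 s.3.8.13 (R.mk s.3.8.14.2 s.3.8.14.1) (R.mk s.3.8.11.2 s.3.8.11.1) s.3.8.12 s.3.8.9 (R.mk s.3.8.10.2 s.3.8.10.1))
 )
 (@T16.mk (T16 R)
  (@T16.mk R s.6.9.7 (R.mk s.6.9.8.2 s.6.9.8.1) (R.mk s.6.9.5.2 s.6.9.5.1) s.6.9.6 s.6.9.3 (R.mk s.6.9.4.2 s.6.9.4.1) (R.mk s.6.9.1.2 s.6.9.1.1) s.6.9.2 (R.mk s.6.9.15.2 s.6.9.15.1) s.6.9.16 s.6.9.13 (R.mk s.6.9.14.2 s.6.9.14.1) (R.mk s.6.9.11.2 s.6.9.11.1) s.6.9.12 s.6.9.9 (R.mk s.6.9.10.2 s.6.9.10.1))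
  (@T16.mk R (R.mk s.6.10.7.2 s.6.10.7.1) s.6.10.8 s.6.10.5 (R.mk s.6.10.6.2 s.6.10.6.1) (R.mk s.6.10.3.2 s.6.10.3.1) s.6.10.4 s.6.10.1 (R.mk s.6.10.2.2 s.6.10.2.1) s.6.10.15 (R.mk s.6.10.16.2 s.6.10.16.1) (R.mk s.6.10.13.2 s.6.10.13.1) s.6.10.14 s.6.10.11 (R.mk s.6.10.12.2 s.6.10.12.1) (R.mk s.6.10.9.2 s.6.10.9.1) s.6.10.10)
  (@T16.mk R s.6.11.7 (R.mk s.6.11.8.2 s.6.11.8.1) (R.mk s.6.11.5.2 s.6.11.5.1) s.6.11.6 s.6.11.3 (R.mk s.6.11.4.2 s.6.11.4.1) (R.mk s.6.11.1.2 s.6.11.1.1) s.6.11.2 (R.mk s.6.11.15.2 s.6.11.15.1) s.6.11.16 s.6.11.13 (R.mk s.6.11.14.2 s.6.11.14.1) (R.mk s.6.11.11.2 s.6.11.11.1) s.6.11.12 s.6.11.9 (R.mk s.6.11.10.2 s.6.11.10.1))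
  (@T16.mk R s.6.12.7 (R.mk s.6.12.8.2 s.6.12.8.1) (R.mk s.6.12.5.2 s.6.12.5.1) s.6.12.6 s.6.12.3 (R.mk s.6.12.4.2 s.6.12.4.1) (R.mk s.6.12.1.2 s.6.12.1.1) s.6.12.2 (R.mk s.6.12.15.2 s.6.12.15.1) s.6.12.16 s.6.12.13 (R.mk s.6.12.14.2 s.6.12.14.1) (R.mk s.6.12.11.2 s.6.12.11.1) s.6.12.12 s.6.12.9 (R.mk s.6.12.10.2 s.6.12.10.1))
  (@T16.mk R s.6.13.7 (R.mk s.6.13.8.2 s.6.13.8.1) (R.mk s.6.13.5.2 s.6.13.5.1) s.6.13.6 s.6.13.3 (R.mk s.6.13.4.2 s.6.13.4.1) (R.mk s.6.13.1.2 s.6.13.1.1) s.6.13.2 (R.mk s.6.13.15.2 s.6.13.15.1) s.6.13.16 s.6.13.13 (R.mk s.6.13.14.2 s.6.13.14.1) (R.mk s.6.13.11.2 s.6.13.11.1) s.6.13.12 s.6.13.9 (R.mk s.6.13.10.2 s.6.13.10.1))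
  (@T16.mk R s.6.14.7 (R.mk s.6.14.8.2 s.6.14.8.1) (R.mk s.6.14.5.2 s.6.14.5.1) s.6.14.6 s.6.14.3 (R.mk s.6.14.4.2 s.6.14.4.1) (R.mk s.6.14.1.2 s.6.14.1.1) s.6.14.2 (R.mk s.6.14.15.2 s.6.14.15.1) s.6.14.16 s.6.14.13 (R.mk s.6.14.14.2 s.6.14.14.1) (R.mk s.6.14.11.2 s.6.14.11.1) s.6.14.12 s.6.14.9 (R.mk s.6.14.10.2 s.6.14.10.1))
  (@T16.mk R s.6.15.7 (R.mk s.6.15.8.2 s.6.15.8.1) (R.mk s.6.15.5.2 s.6.15.5.1) s.6.15.6 s.6.15.3 (R.mk s.6.15.4.2 s.6.15.4.1) (R.mk s.6.15.1.2 s.6.15.1.1) s.6.15.2 (R.mk s.6.15.15.2 s.6.15.15.1) s.6.15.16 s.6.15.13 (R.mk s.6.15.14.2 s.6.15.14.1) (R.mk s.6.15.11.2 s.6.15.11.1) s.6.15.12 s.6.15.9 (R.mk s.6.15.10.2 s.6.15.10.1))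
  (@T16.mk R s.6.16.7 (R.mk s.6.16.8.2 s.6.16.8.1) (R.mk s.6.16.5.2 s.6.16.5.1) s.6.16.6 s.6.16.3 (R.mk s.6.16.4.2 s.6.16.4.1) (R.mk s.6.16.1.2 s.6.16.1.1) s.6.16.2 (R.mk s.6.16.15.2 s.6.16.15.1) s.6.16.16 s.6.16.13 (R.mk s.6.16.14.2 s.6.16.14.1) (R.mk s.6.16.11.2 s.6.16.11.1) s.6.16.12 s.6.16.9 (R.mk s.6.16.10.2 s.6.16.10.1))
  (@T16.mk R s.6.1.7 (R.mk s.6.1.8.2 s.6.1.8.1) (R.mk s.6.1.5.2 s.6.1.5.1) s.6.1.6 s.6.1.3 (R.mk s.6.1.4.2 s.6.1.4.1) (R.mk s.6.1.1.2 s.6.1.1.1) s.6.1.2 (R.mk s.6.1.15.2 s.6.1.15.1) s.6.1.16 s.6.1.13 (R.mk s.6.1.14.2 s.6.1.14.1) (R.mk s.6.1.11.2 s.6.1.11.1) s.6.1.12 s.6.1.9 (R.mk s.6.1.10.2 s.6.1.10.1))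
  (@T16.mk R s.6.2.7 (R.mk s.6.2.8.2 s.6.2.8.1) (R.mk s.6.2.5.2 s.6.2.5.1) s.6.2.6 s.6.2.3 (R.mk s.6.2.4.2 s.6.2.4.1) (R.mk s.6.2.1.2 s.6.2.1.1) s.6.2.2 (R.mk s.6.2.15.2 s.6.2.15.1) s.6.2.16 s.6.2.13 (R.mk s.6.2.14.2 s.6.2.14.1) (R.mk s.6.2.11.2 s.6.2.11.1) s.6.2.12 s.6.2.9 (R.mk s.6.2.10.2 s.6.2.10.1))
  (@T16.mk R s.6.3.7 (R.mk s.6.3.8.2 s.6.3.8.1) (R.mk s.6.3.5.2 s.6.3.5.1) s.6.3.6 s.6.3.3 (R.mk s.6.3.4.2 s.6.3.4.1) (R.mk s.6.3.1.2 s.6.3.1.1) s.6.3.2 (R.mk s.6.3.15.2 s.6.3.15.1) s.6.3.16 s.6.3.13 (R.mk s.6.3.14.2 s.6.3.14.1) (R.mk s.6.3.11.2 s.6.3.11.1) s.6.3.12 s.6.3.9 (R.mk s.6.3.10.2 s.6.3.10.1))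
  (@T16.mk R s.6.4.7 (R.mk s.6.4.8.2 s.6.4.8.1) (R.mk s.6.4.5.2 s.6.4.5.1) s.6.4.6 s.6.4.3 (R.mk s.6.4.4.2 s.6.4.4.1) (R.mk s.6.4.1.2 s.6.4.1.1) s.6.4.2 (R.mk s.6.4.15.2 s.6.4.15.1) s.6.4.16 s.6.4.13 (R.mk s.6.4.14.2 s.6.4.14.1) (R.mk s.6.4.11.2 s.6.4.11.1) s.6.4.12 s.6.4.9 (R.mk s.6.4.10.2 s.6.4.10.1))
  (@T16.mk R s.6.5.7 (R.mk s.6.5.8.2 s.6.5.8.1) (R.mk s.6.5.5.2 s.6.5.5.1) s.6.5.6 s.6.5.3 (R.mk s.6.5.4.2 s.6.5.4.1) (R.mk s.6.5.1.2 s.6.5.1.1) s.6.5.2 (R.mk s.6.5.15.2 s.6.5.15.1) s.6.5.16 s.6.5.13 (R.mk s.6.5.14.2 s.6.5.14.1) (R.mk s.6.5.11.2 s.6.5.11.1) s.6.5.12 s.6.5.9 (R.mk s.6.5.10.2 s.6.5.10.1))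
  (@T16.mk R (R.mk s.6.6.7.2 s.6.6.7.1) s.6.6.8 s.6.6.5 (R.mk s.6.6.6.2 s.6.6.6.1) (R.mk s.6.6.3.2 s.6.6.3.1) s.6.6.4 s.6.6.1 (R.mk s.6.6.2.2 s.6.6.2.1) s.6.6.15 (R.mk s.6.6.16.2 s.6.6.16.1) (R.mk s.6.6.13.2 s.6.6.13.1) s.6.6.14 s.6.6.11 (R.mk s.6.6.12.2 s.6.6.12.1) (R.mk s.6.6.9.2 s.6.6.9.1) s.6.6.10)
  (@T16.mk R s.6.7.7 (R.mk s.6.7.8.2 s.6.7.8.1) (R.mk s.6.7.5.2 s.6.7.5.1) s.6.7.6 s.6.7.3 (R.mk s.6.7.4.2 s.6.7.4.1) (R.mk s.6.7.1.2 s.6.7.1.1) s.6.7.2 (R.mk s.6.7.15.2 s.6.7.15.1) s.6.7.16 s.6.7.13 (R.mk s.6.7.14.2 s.6.7.14.1) (R.mk s.6.7.11.2 s.6.7.11.1) s.6.7.12 s.6.7.9 (R.mk s.6.7.10.2 s.6.7.10.1))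
  (@T16.mk R s.6.8.7 (R.mk s.6.8.8.2 s.6.8.8.1) (R.mk s.6.8.5.2 s.6.8.5.1) s.6.8.6 s.6.8.3 (R.mk s.6.8.4.2 s.6.8.4.1) (R.mk s.6.8.1.2 s.6.8.1.1) s.6.8.2 (R.mk s.6.8.15.2 s.6.8.15.1) s.6.8.16 s.6.8.13 (R.mk s.6.8.14.2 s.6.8.14.1) (R.mk s.6.8.11.2 s.6.8.11.1) s.6.8.12 s.6.8.9 (R.mk s.6.8.10.2 s.6.8.10.1))
 )
 (@T16.mk (T16 R)
  (@T16.mk R (R.mk s.5.9.7.2 s.5.9.7.1) s.5.9.8 s.5.9.5 (R.mk s.5.9.6.2 s.5.9.6.1) (R.mk s.5.9.3.2 s.5.9.3.1) s.5.9.4 s.5.9.1 (R.mk s.5.9.2.2 s.5.9.2.1) s.5.9.15 (R.mk s.5.9.16.2 s.5.9.16.1) (R.mk s.5.9.13.2 s.5.9.13.1) s.5.9.14 s.5.9.11 (R.mk s.5.9.12.2 s.5.9.12.1) (R.mk s.5.9.9.2 s.5.9.9.1) s.5.9.10)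
  (@T16.mk R (R.mk s.5.10.7.2 s.5.10.7.1) s.5.10.8 s.5.10.5 (R.mk s.5.10.6.2 s.5.10.6.1) (R.mk s.5.10.3.2 s.5.10.3.1) s.5.10.4 s.5.10.1 (R.mk s.5.10.2.2 s.5.10.2.1) s.5.10.15 (R.mk s.5.10.16.2 s.5.10.16.1) (R.mk s.5.10.13.2 s.5.10.13.1) s.5.10.14 s.5.10.11 (R.mk s.5.10.12.2 s.5.10.12.1) (R.mk s.5.10.9.2 s.5.10.9.1) s.5.10.10)
  (@T16.mk R (R.mk s.5.11.7.2 s.5.11.7.1) s.5.11.8 s.5.11.5 (R.mk s.5.11.6.2 s.5.11.6.1) (R.mk s.5.11.3.2 s.5.11.3.1) s.5.11.4 s.5.11.1 (R.mk s.5.11.2.2 s.5.11.2.1) s.5.11.15 (R.mk s.5.11.16.2 s.5.11.16.1) (R.mk s.5.11.13.2 s.5.11.13.1) s.5.11.14 s.5.11.11 (R.mk s.5.11.12.2 s.5.11.12.1) (R.mk s.5.11.9.2 s.5.11.9.1) s.5.11.10)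
  (@T16.mk R (R.mk s.5.12.7.2 s.5.12.7.1) s.5.12.8 s.5.12.5 (R.mk s.5.12.6.2 s.5.12.6.1) (R.mk s.5.12.3.2 s.5.12.3.1) s.5.12.4 s.5.12.1 (R.mk s.5.12.2.2 s.5.12.2.1) s.5.12.15 (R.mk s.5.12.16.2 s.5.12.16.1) (R.mk s.5.12.13.2 s.5.12.13.1) s.5.12.14 s.5.12.11 (R.mk s.5.12.12.2 s.5.12.12.1) (R.mk s.5.12.9.2 s.5.12.9.1) s.5.12.10)
  (@T16.mk R (R.mk s.5.13.7.2 s.5.13.7.1) s.5.13.8 s.5.13.5 (R.mk s.5.13.6.2 s.5.13.6.1) (R.mk s.5.13.3.2 s.5.13.3.1) s.5.13.4 s.5.13.1 (R.mk s.5.13.2.2 s.5.13.2.1) s.5.13.15 (R.mk s.5.13.16.2 s.5.13.16.1) (R.mk s.5.13.13.2 s.5.13.13.1) s.5.13.14 s.5.13.11 (R.mk s.5.13.12.2 s.5.13.12.1) (R.mk s.5.13.9.2 s.5.13.9.1) s.5.13.10)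
  (@T16.mk R s.5.14.7 (R.mk s.5.14.8.2 s.5.14.8.1) (R.mk s.5.14.5.2 s.5.14.5.1) s.5.14.6 s.5.14.3 (R.mk s.5.14.4.2 s.5.14.4.1) (R.mk s.5.14.1.2 s.5.14.1.1) s.5.14.2 (R.mk s.5.14.15.2 s.5.14.15.1) s.5.14.16 s.5.14.13 (R.mk s.5.14.14.2 s.5.14.14.1) (R.mk s.5.14.11.2 s.5.14.11.1) s.5.14.12 s.5.14.9 (R.mk s.5.14.10.2 s.5.14.10.1))
  (@T16.mk R (R.mk s.5.15.7.2 s.5.15.7.1) s.5.15.8 s.5.15.5 (R.mk s.5.15.6.2 s.5.15.6.1) (R.mk s.5.15.3.2 s.5.15.3.1) s.5.15.4 s.5.15.1 (R.mk s.5.15.2.2 s.5.15.2.1) s.5.15.15 (R.mk s.5.15.16.2 s.5.15.16.1) (R.mk s.5.15.13.2 s.5.15.13.1) s.5.15.14 s.5.15.11 (R.mk s.5.15.12.2 s.5.15.12.1) (R.mk s.5.15.9.2 s.5.15.9.1) s.5.15.10)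
  (@T16.mk R (R.mk s.5.16.7.2 s.5.16.7.1) s.5.16.8 s.5.16.5 (R.mk s.5.16.6.2 s.5.16.6.1) (R.mk s.5.16.3.2 s.5.16.3.1) s.5.16.4 s.5.16.1 (R.mk s.5.16.2.2 s.5.16.2.1) s.5.16.15 (R.mk s.5.16.16.2 s.5.16.16.1) (R.mk s.5.16.13.2 s.5.16.13.1) s.5.16.14 s.5.16.11 (R.mk s.5.16.12.2 s.5.16.12.1) (R.mk s.5.16.9.2 s.5.16.9.1) s.5.16.10)
  (@T16.mk R (R.mk s.5.1.7.2 s.5.1.7.1) s.5.1.8 s.5.1.5 (R.mk s.5.1.6.2 s.5.1.6.1) (R.mk s.5.1.3.2 s.5.1.3.1) s.5.1.4 s.5.1.1 (R.mk s.5.1.2.2 s.5.1.2.1) s.5.1.15 (R.mk s.5.1.16.2 s.5.1.16.1) (R.mk s.5.1.13.2 s.5.1.13.1) s.5.1.14 s.5.1.11 (R.mk s.5.1.12.2 s.5.1.12.1) (R.mk s.5.1.9.2 s.5.1.9.1) s.5.1.10)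
  (@T16.mk R s.5.2.7 (R.mk s.5.2.8.2 s.5.2.8.1) (R.mk s.5.2.5.2 s.5.2.5.1) s.5.2.6 s.5.2.3 (R.mk s.5.2.4.2 s.5.2.4.1) (R.mk s.5.2.1.2 s.5.2.1.1) s.5.2.2 (R.mk s.5.2.15.2 s.5.2.15.1) s.5.2.16 s.5.2.13 (R.mk s.5.2.14.2 s.5.2.14.1) (R.mk s.5.2.11.2 s.5.2.11.1) s.5.2.12 s.5.2.9 (R.mk s.5.2.10.2 s.5.2.10.1))
  (@T16.mk R (R.mk s.5.3.7.2 s.5.3.7.1) s.5.3.8 s.5.3.5 (R.mk s.5.3.6.2 s.5.3.6.1) (R.mk s.5.3.3.2 s.5.3.3.1) s.5.3.4 s.5.3.1 (R.mk s.5.3.2.2 s.5.3.2.1) s.5.3.15 (R.mk s.5.3.16.2 s.5.3.16.1) (R.mk s.5.3.13.2 s.5.3.13.1) s.5.3.14 s.5.3.11 (R.mk s.5.3.12.2 s.5.3.12.1) (R.mk s.5.3.9.2 s.5.3.9.1) s.5.3.10)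
  (@T16.mk R (R.mk s.5.4.7.2 s.5.4.7.1) s.5.4.8 s.5.4.5 (R.mk s.5.4.6.2 s.5.4.6.1) (R.mk s.5.4.3.2 s.5.4.3.1) s.5.4.4 s.5.4.1 (R.mk s.5.4.2.2 s.5.4.2.1) s.5.4.15 (R.mk s.5.4.16.2 s.5.4.16.1) (R.mk s.5.4.13.2 s.5.4.13.1) s.5.4.14 s.5.4.11 (R.mk s.5.4.12.2 s.5.4.12.1) (R.mk s.5.4.9.2 s.5.4.9.1) s.5.4.10)
  (@T16.mk R (R.mk s.5.5.7.2 s.5.5.7.1) s.5.5.8 s.5.5.5 (R.mk s.5.5.6.2 s.5.5.6.1) (R.mk s.5.5.3.2 s.5.5.3.1) s.5.5.4 s.5.5.1 (R.mk s.5.5.2.2 s.5.5.2.1) s.5.5.15 (R.mk s.5.5.16.2 s.5.5.16.1) (R.mk s.5.5.13.2 s.5.5.13.1) s.5.5.14 s.5.5.11 (R.mk s.5.5.12.2 s.5.5.12.1) (R.mk s.5.5.9.2 s.5.5.9.1) s.5.5.10)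
  (@T16.mk R (R.mk s.5.6.7.2 s.5.6.7.1) s.5.6.8 s.5.6.5 (R.mk s.5.6.6.2 s.5.6.6.1) (R.mk s.5.6.3.2 s.5.6.3.1) s.5.6.4 s.5.6.1 (R.mk s.5.6.2.2 s.5.6.2.1) s.5.6.15 (R.mk s.5.6.16.2 s.5.6.16.1) (R.mk s.5.6.13.2 s.5.6.13.1) s.5.6.14 s.5.6.11 (R.mk s.5.6.12.2 s.5.6.12.1) (R.mk s.5.6.9.2 s.5.6.9.1) s.5.6.10)
  (@T16.mk R (R.mk s.5.7.7.2 s.5.7.7.1) s.5.7.8 s.5.7.5 (R.mk s.5.7.6.2 s.5.7.6.1) (R.mk s.5.7.3.2 s.5.7.3.1) s.5.7.4 s.5.7.1 (R.mk s.5.7.2.2 s.5.7.2.1) s.5.7.15 (R.mk s.5.7.16.2 s.5.7.16.1) (R.mk s.5.7.13.2 s.5.7.13.1) s.5.7.14 s.5.7.11 (R.mk s.5.7.12.2 s.5.7.12.1) (R.mk s.5.7.9.2 s.5.7.9.1) s.5.7.10)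
  (@T16.mk R (R.mk s.5.8.7.2 s.5.8.7.1) s.5.8.8 s.5.8.5 (R.mk s.5.8.6.2 s.5.8.6.1) (R.mk s.5.8.3.2 s.5.8.3.1) s.5.8.4 s.5.8.1 (R.mk s.5.8.2.2 s.5.8.2.1) s.5.8.15 (R.mk s.5.8.16.2 s.5.8.16.1) (R.mk s.5.8.13.2 s.5.8.13.1) s.5.8.14 s.5.8.11 (R.mk s.5.8.12.2 s.5.8.12.1) (R.mk s.5.8.9.2 s.5.8.9.1) s.5.8.10)
 )
 (@T16.mk (T16 R)
  (@T16.mk R s.8.9.7 (R.mk s.8.9.8.2 s.8.9.8.1) (R.mk s.8.9.5.2 s.8.9.5.1) s.8.9.6 s.8.9.3 (R.mk s.8.9.4.2 s.8.9.4.1) (R.mk s.8.9.1.2 s.8.9.1.1) s.8.9.2 (R.mk s.8.9.15.2 s.8.9.15.1) s.8.9.16 s.8.9.13 (R.mk s.8.9.14.2 s.8.9.14.1) (R.mk s.8.9.11.2 s.8.9.11.1) s.8.9.12 s.8.9.9 (R.mk s.8.9.10.2 s.8.9.10.1))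
  (@T16.mk R (R.mk s.8.10.7.2 s.8.10.7.1) s.8.10.8 s.8.10.5 (R.mk s.8.10.6.2 s.8.10.6.1) (R.mk s.8.10.3.2 s.8.10.3.1) s.8.10.4 s.8.10.1 (R.mk s.8.10.2.2 s.8.10.2.1) s.8.10.15 (R.mk s.8.10.16.2 s.8.10.16.1) (R.mk s.8.10.13.2 s.8.10.13.1) s.8.10.14 s.8.10.11 (R.mk s.8.10.12.2 s.8.10.12.1) (R.mk s.8.10.9.2 s.8.10.9.1) s.8.10.10)
  (@T16.mk R (R.mk s.8.11.7.2 s.8.11.7.1) s.8.11.8 s.8.11.5 (R.mk s.8.11.6.2 s.8.11.6.1) (R.mk s.8.11.3.2 s.8.11.3.1) s.8.11.4 s.8.11.1 (R.mk s.8.11.2.2 s.8.11.2.1) s.8.11.15 (R.mk s.8.11.16.2 s.8.11.16.1) (R.mk s.8.11.13.2 s.8.11.13.1) s.8.11.14 s.8.11.11 (R.mk s.8.11.12.2 s.8.11.12.1) (R.mk s.8.11.9.2 s.8.11.9.1) s.8.11.10)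
  (@T16.mk R (R.mk s.8.12.7.2 s.8.12.7.1) s.8.12.8 s.8.12.5 (R.mk s.8.12.6.2 s.8.12.6.1) (R.mk s.8.12.3.2 s.8.12.3.1) s.8.12.4 s.8.12.1 (R.mk s.8.12.2.2 s.8.12.2.1) s.8.12.15 (R.mk s.8.12.16.2 s.8.12.16.1) (R.mk s.8.12.13.2 s.8.12.13.1) s.8.12.14 s.8.12.11 (R.mk s.8.12.12.2 s.8.12.12.1) (R.mk s.8.12.9.2 s.8.12.9.1) s.8.12.10)
  (@T16.mk R s.8.13.7 (R.mk s.8.13.8.2 s.8.13.8.1) (R.mk s.8.13.5.2 s.8.13.5.1) s.8.13.6 s.8.13.3 (R.mk s.8.13.4.2 s.8.13.4.1) (R.mk s.8.13.1.2 s.8.13.1.1) s.8.13.2 (R.mk s.8.13.15.2 s.8.13.15.1) s.8.13.16 s.8.13.13 (R.mk s.8.13.14.2 s.8.13.14.1) (R.mk s.8.13.11.2 s.8.13.11.1) s.8.13.12 s.8.13.9 (R.mk s.8.13.10.2 s.8.13.10.1))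
  (@T16.mk R s.8.14.7 (R.mk s.8.14.8.2 s.8.14.8.1) (R.mk s.8.14.5.2 s.8.14.5.1) s.8.14.6 s.8.14.3 (R.mk s.8.14.4.2 s.8.14.4.1) (R.mk s.8.14.1.2 s.8.14.1.1) s.8.14.2 (R.mk s.8.14.15.2 s.8.14.15.1) s.8.14.16 s.8.14.13 (R.mk s.8.14.14.2 s.8.14.14.1) (R.mk s.8.14.11.2 s.8.14.11.1) s.8.14.12 s.8.14.9 (R.mk s.8.14.10.2 s.8.14.10.1))
  (@T16.mk R (R.mk s.8.15.7.2 s.8.15.7.1) s.8.15.8 s.8.15.5 (R.mk s.8.15.6.2 s.8.15.6.1) (R.mk s.8.15.3.2 s.8.15.3.1) s.8.15.4 s.8.15.1 (R.mk s.8.15.2.2 s.8.15.2.1) s.8.15.15 (R.mk s.8.15.16.2 s.8.15.16.1) (R.mk s.8.15.13.2 s.8.15.13.1) s.8.15.14 s.8.15.11 (R.mk s.8.15.12.2 s.8.15.12.1) (R.mk s.8.15.9.2 s.8.15.9.1) s.8.15.10)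
  (@T16.mk R (R.mk s.8.16.7.2 s.8.16.7.1) s.8.16.8 s.8.16.5 (R.mk s.8.16.6.2 s.8.16.6.1) (R.mk s.8.16.3.2 s.8.16.3.1) s.8.16.4 s.8.16.1 (R.mk s.8.16.2.2 s.8.16.2.1) s.8.16.15 (R.mk s.8.16.16.2 s.8.16.16.1) (R.mk s.8.16.13.2 s.8.16.13.1) s.8.16.14 s.8.16.11 (R.mk s.8.16.12.2 s.8.16.12.1) (R.mk s.8.16.9.2 s.8.16.9.1) s.8.16.10)
  (@T16.mk R (R.mk s.8.1.7.2 s.8.1.7.1) s.8.1.8 s.8.1.5 (R.mk s.8.1.6.2 s.8.1.6.1) (R.mk s.8.1.3.2 s.8.1.3.1) s.8.1.4 s.8.1.1 (R.mk s.8.1.2.2 s.8.1.2.1) s.8.1.15 (R.mk s.8.1.16.2 s.8.1.16.1) (R.mk s.8.1.13.2 s.8.1.13.1) s.8.1.14 s.8.1.11 (R.mk s.8.1.12.2 s.8.1.12.1) (R.mk s.8.1.9.2 s.8.1.9.1) s.8.1.10)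
  (@T16.mk R (R.mk s.8.2.7.2 s.8.2.7.1) s.8.2.8 s.8.2.5 (R.mk s.8.2.6.2 s.8.2.6.1) (R.mk s.8.2.3.2 s.8.2.3.1) s.8.2.4 s.8.2.1 (R.mk s.8.2.2.2 s.8.2.2.1) s.8.2.15 (R.mk s.8.2.16.2 s.8.2.16.1) (R.mk s.8.2.13.2 s.8.2.13.1) s.8.2.14 s.8.2.11 (R.mk s.8.2.12.2 s.8.2.12.1) (R.mk s.8.2.9.2 s.8.2.9.1) s.8.2.10)
  (@T16.mk R (R.mk s.8.3.7.2 s.8.3.7.1) s.8.3.8 s.8.3.5 (R.mk s.8.3.6.2 s.8.3.6.1) (R.mk s.8.3.3.2 s.8.3.3.1) s.8.3.4 s.8.3.1 (R.mk s.8.3.2.2 s.8.3.2.1) s.8.3.15 (R.mk s.8.3.16.2 s.8.3.16.1) (R.mk s.8.3.13.2 s.8.3.13.1) s.8.3.14 s.8.3.11 (R.mk s.8.3.12.2 s.8.3.12.1) (R.mk s.8.3.9.2 s.8.3.9.1) s.8.3.10)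
  (@T16.mk R (R.mk s.8.4.7.2 s.8.4.7.1) s.8.4.8 s.8.4.5 (R.mk s.8.4.6.2 s.8.4.6.1) (R.mk s.8.4.3.2 s.8.4.3.1) s.8.4.4 s.8.4.1 (R.mk s.8.4.2.2 s.8.4.2.1) s.8.4.15 (R.mk s.8.4.16.2 s.8.4.16.1) (R.mk s.8.4.13.2 s.8.4.13.1) s.8.4.14 s.8.4.11 (R.mk s.8.4.12.2 s.8.4.12.1) (R.mk s.8.4.9.2 s.8.4.9.1) s.8.4.10)
  (@T16.mk R (R.mk s.8.5.7.2 s.8.5.7.1) s.8.5.8 s.8.5.5 (R.mk s.8.5.6.2 s.8.5.6.1) (R.mk s.8.5.3.2 s.8.5.3.1) s.8.5.4 s.8.5.1 (R.mk s.8.5.2.2 s.8.5.2.1) s.8.5.15 (R.mk s.8.5.16.2 s.8.5.16.1) (R.mk s.8.5.13.2 s.8.5.13.1) s.8.5.14 s.8.5.11 (R.mk s.8.5.12.2 s.8.5.12.1) (R.mk s.8.5.9.2 s.8.5.9.1) s.8.5.10)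
  (@T16.mk R s.8.6.7 (R.mk s.8.6.8.2 s.8.6.8.1) (R.mk s.8.6.5.2 s.8.6.5.1) s.8.6.6 s.8.6.3 (R.mk s.8.6.4.2 s.8.6.4.1) (R.mk s.8.6.1.2 s.8.6.1.1) s.8.6.2 (R.mk s.8.6.15.2 s.8.6.15.1) s.8.6.16 s.8.6.13 (R.mk s.8.6.14.2 s.8.6.14.1) (R.mk s.8.6.11.2 s.8.6.11.1) s.8.6.12 s.8.6.9 (R.mk s.8.6.10.2 s.8.6.10.1))
  (@T16.mk R (R.mk s.8.7.7.2 s.8.7.7.1) s.8.7.8 s.8.7.5 (R.mk s.8.7.6.2 s.8.7.6.1) (R.mk s.8.7.3.2 s.8.7.3.1) s.8.7.4 s.8.7.1 (R.mk s.8.7.2.2 s.8.7.2.1) s.8.7.15 (R.mk s.8.7.16.2 s.8.7.16.1) (R.mk s.8.7.13.2 s.8.7.13.1) s.8.7.14 s.8.7.11 (R.mk s.8.7.12.2 s.8.7.12.1) (R.mk s.8.7.9.2 s.8.7.9.1) s.8.7.10)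
  (@T16.mk R (R.mk s.8.8.7.2 s.8.8.7.1) s.8.8.8 s.8.8.5 (R.mk s.8.8.6.2 s.8.8.6.1) (R.mk s.8.8.3.2 s.8.8.3.1) s.8.8.4 s.8.8.1 (R.mk s.8.8.2.2 s.8.8.2.1) s.8.8.15 (R.mk s.8.8.16.2 s.8.8.16.1) (R.mk s.8.8.13.2 s.8.8.13.1) s.8.8.14 s.8.8.11 (R.mk s.8.8.12.2 s.8.8.12.1) (R.mk s.8.8.9.2 s.8.8.9.1) s.8.8.10)
 )
 (@T16.mk (T16 R)
  (@T16.mk R s.7.9.7 (R.mk s.7.9.8.2 s.7.9.8.1) (R.mk s.7.9.5.2 s.7.9.5.1) s.7.9.6 s.7.9.3 (R.mk s.7.9.4.2 s.7.9.4.1) (R.mk s.7.9.1.2 s.7.9.1.1) s.7.9.2 (R.mk s.7.9.15.2 s.7.9.15.1) s.7.9.16 s.7.9.13 (R.mk s.7.9.14.2 s.7.9.14.1) (R.mk s.7.9.11.2 s.7.9.11.1) s.7.9.12 s.7.9.9 (R.mk s.7.9.10.2 s.7.9.10.1))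
  (@T16.mk R s.7.10.7 (R.mk s.7.10.8.2 s.7.10.8.1) (R.mk s.7.10.5.2 s.7.10.5.1) s.7.10.6 s.7.10.3 (R.mk s.7.10.4.2 s.7.10.4.1) (R.mk s.7.10.1.2 s.7.10.1.1) s.7.10.2 (R.mk s.7.10.15.2 s.7.10.15.1) s.7.10.16 s.7.10.13 (R.mk s.7.10.14.2 s.7.10.14.1) (R.mk s.7.10.11.2 s.7.10.11.1) s.7.10.12 s.7.10.9 (R.mk s.7.10.10.2 s.7.10.10.1))
  (@T16.mk R s.7.11.7 (R.mk s.7.11.8.2 s.7.11.8.1) (R.mk s.7.11.5.2 s.7.11.5.1) s.7.11.6 s.7.11.3 (R.mk s.7.11.4.2 s.7.11.4.1) (R.mk s.7.11.1.2 s.7.11.1.1) s.7.11.2 (R.mk s.7.11.15.2 s.7.11.15.1) s.7.11.16 s.7.11.13 (R.mk s.7.11.14.2 s.7.11.14.1) (R.mk s.7.11.11.2 s.7.11.11.1) s.7.11.12 s.7.11.9 (R.mk s.7.11.10.2 s.7.11.10.1))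
  (@T16.mk R s.7.12.7 (R.mk s.7.12.8.2 s.7.12.8.1) (R.mk s.7.12.5.2 s.7.12.5.1) s.7.12.6 s.7.12.3 (R.mk s.7.12.4.2 s.7.12.4.1) (R.mk s.7.12.1.2 s.7.12.1.1) s.7.12.2 (R.mk s.7.12.15.2 s.7.12.15.1) s.7.12.16 s.7.12.13 (R.mk s.7.12.14.2 s.7.12.14.1) (R.mk s.7.12.11.2 s.7.12.11.1) s.7.12.12 s.7.12.9 (R.mk s.7.12.10.2 s.7.12.10.1))
  (@T16.mk R s.7.13.7 (R.mk s.7.13.8.2 s.7.13.8.1) (R.mk s.7.13.5.2 s.7.13.5.1) s.7.13.6 s.7.13.3 (R.mk s.7.13.4.2 s.7.13.4.1) (R.mk s.7.13.1.2 s.7.13.1.1) s.7.13.2 (R.mk s.7.13.15.2 s.7.13.15.1) s.7.13.16 s.7.13.13 (R.mk s.7.13.14.2 s.7.13.14.1) (R.mk s.7.13.11.2 s.7.13.11.1) s.7.13.12 s.7.13.9 (R.mk s.7.13.10.2 s.7.13.10.1))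
  (@T16.mk R (R.mk s.7.14.7.2 s.7.14.7.1) s.7.14.8 s.7.14.5 (R.mk s.7.14.6.2 s.7.14.6.1) (R.mk s.7.14.3.2 s.7.14.3.1) s.7.14.4 s.7.14.1 (R.mk s.7.14.2.2 s.7.14.2.1) s.7.14.15 (R.mk s.7.14.16.2 s.7.14.16.1) (R.mk s.7.14.13.2 s.7.14.13.1) s.7.14.14 s.7.14.11 (R.mk s.7.14.12.2 s.7.14.12.1) (R.mk s.7.14.9.2 s.7.14.9.1) s.7.14.10)
  (@T16.mk R s.7.15.7 (R.mk s.7.15.8.2 s.7.15.8.1) (R.mk s.7.15.5.2 s.7.15.5.1) s.7.15.6 s.7.15.3 (R.mk s.7.15.4.2 s.7.15.4.1) (R.mk s.7.15.1.2 s.7.15.1.1) s.7.15.2 (R.mk s.7.15.15.2 s.7.15.15.1) s.7.15.16 s.7.15.13 (R.mk s.7.15.14.2 s.7.15.14.1) (R.mk s.7.15.11.2 s.7.15.11.1) s.7.15.12 s.7.15.9 (R.mk s.7.15.10.2 s.7.15.10.1))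
  (@T16.mk R s.7.16.7 (R.mk s.7.16.8.2 s.7.16.8.1) (R.mk s.7.16.5.2 s.7.16.5.1) s.7.16.6 s.7.16.3 (R.mk s.7.16.4.2 s.7.16.4.1) (R.mk s.7.16.1.2 s.7.16.1.1) s.7.16.2 (R.mk s.7.16.15.2 s.7.16.15.1) s.7.16.16 s.7.16.13 (R.mk s.7.16.14.2 s.7.16.14.1) (R.mk s.7.16.11.2 s.7.16.11.1) s.7.16.12 s.7.16.9 (R.mk s.7.16.10.2 s.7.16.10.1))
  (@T16.mk R (R.mk s.7.1.7.2 s.7.1.7.1) s.7.1.8 s.7.1.5 (R.mk s.7.1.6.2 s.7.1.6.1) (R.mk s.7.1.3.2 s.7.1.3.1) s.7.1.4 s.7.1.1 (R.mk s.7.1.2.2 s.7.1.2.1) s.7.1.15 (R.mk s.7.1.16.2 s.7.1.16.1) (R.mk s.7.1.13.2 s.7.1.13.1) s.7.1.14 s.7.1.11 (R.mk s.7.1.12.2 s.7.1.12.1) (R.mk s.7.1.9.2 s.7.1.9.1) s.7.1.10)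
  (@T16.mk R s.7.2.7 (R.mk s.7.2.8.2 s.7.2.8.1) (R.mk s.7.2.5.2 s.7.2.5.1) s.7.2.6 s.7.2.3 (R.mk s.7.2.4.2 s.7.2.4.1) (R.mk s.7.2.1.2 s.7.2.1.1) s.7.2.2 (R.mk s.7.2.15.2 s.7.2.15.1) s.7.2.16 s.7.2.13 (R.mk s.7.2.14.2 s.7.2.14.1) (R.mk s.7.2.11.2 s.7.2.11.1) s.7.2.12 s.7.2.9 (R.mk s.7.2.10.2 s.7.2.10.1))
  (@T16.mk R s.7.3.7 (R.mk s.7.3.8.2 s.7.3.8.1) (R.mk s.7.3.5.2 s.7.3.5.1) s.7.3.6 s.7.3.3 (R.mk s.7.3.4.2 s.7.3.4.1) (R.mk s.7.3.1.2 s.7.3.1.1) s.7.3.2 (R.mk s.7.3.15.2 s.7.3.15.1) s.7.3.16 s.7.3.13 (R.mk s.7.3.14.2 s.7.3.14.1) (R.mk s.7.3.11.2 s.7.3.11.1) s.7.3.12 s.7.3.9 (R.mk s.7.3.10.2 s.7.3.10.1))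
  (@T16.mk R s.7.4.7 (R.mk s.7.4.8.2 s.7.4.8.1) (R.mk s.7.4.5.2 s.7.4.5.1) s.7.4.6 s.7.4.3 (R.mk s.7.4.4.2 s.7.4.4.1) (R.mk s.7.4.1.2 s.7.4.1.1) s.7.4.2 (R.mk s.7.4.15.2 s.7.4.15.1) s.7.4.16 s.7.4.13 (R.mk s.7.4.14.2 s.7.4.14.1) (R.mk s.7.4.11.2 s.7.4.11.1) s.7.4.12 s.7.4.9 (R.mk s.7.4.10.2 s.7.4.10.1))
  (@T16.mk R (R.mk s.7.5.7.2 s.7.5.7.1) s.7.5.8 s.7.5.5 (R.mk s.7.5.6.2 s.7.5.6.1) (R.mk s.7.5.3.2 s.7.5.3.1) s.7.5.4 s.7.5.1 (R.mk s.7.5.2.2 s.7.5.2.1) s.7.5.15 (R.mk s.7.5.16.2 s.7.5.16.1) (R.mk s.7.5.13.2 s.7.5.13.1) s.7.5.14 s.7.5.11 (R.mk s.7.5.12.2 s.7.5.12.1) (R.mk s.7.5.9.2 s.7.5.9.1) s.7.5.10)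
  (@T16.mk R (R.mk s.7.6.7.2 s.7.6.7.1) s.7.6.8 s.7.6.5 (R.mk s.7.6.6.2 s.7.6.6.1) (R.mk s.7.6.3.2 s.7.6.3.1) s.7.6.4 s.7.6.1 (R.mk s.7.6.2.2 s.7.6.2.1) s.7.6.15 (R.mk s.7.6.16.2 s.7.6.16.1) (R.mk s.7.6.13.2 s.7.6.13.1) s.7.6.14 s.7.6.11 (R.mk s.7.6.12.2 s.7.6.12.1) (R.mk s.7.6.9.2 s.7.6.9.1) s.7.6.10)
  (@T16.mk R s.7.7.7 (R.mk s.7.7.8.2 s.7.7.8.1) (R.mk s.7.7.5.2 s.7.7.5.1) s.7.7.6 s.7.7.3 (R.mk s.7.7.4.2 s.7.7.4.1) (R.mk s.7.7.1.2 s.7.7.1.1) s.7.7.2 (R.mk s.7.7.15.2 s.7.7.15.1) s.7.7.16 s.7.7.13 (R.mk s.7.7.14.2 s.7.7.14.1) (R.mk s.7.7.11.2 s.7.7.11.1) s.7.7.12 s.7.7.9 (R.mk s.7.7.10.2 s.7.7.10.1))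
  (@T16.mk R s.7.8.7 (R.mk s.7.8.8.2 s.7.8.8.1) (R.mk s.7.8.5.2 s.7.8.5.1) s.7.8.6 s.7.8.3 (R.mk s.7.8.4.2 s.7.8.4.1) (R.mk s.7.8.1.2 s.7.8.1.1) s.7.8.2 (R.mk s.7.8.15.2 s.7.8.15.1) s.7.8.16 s.7.8.13 (R.mk s.7.8.14.2 s.7.8.14.1) (R.mk s.7.8.11.2 s.7.8.11.1) s.7.8.12 s.7.8.9 (R.mk s.7.8.10.2 s.7.8.10.1))
 )
 (@T16.mk (T16 R)
  (@T16.mk R s.9.1.1 s.9.1.2 s.9.1.3 s.9.1.4 s.9.1.5 s.9.1.6 s.9.1.7 s.9.1.8 s.9.1.9 s.9.1.10 s.9.1.11 s.9.1.12 s.9.1.13 s.9.1.14 s.9.1.15 s.9.1.16)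
  (@T16.mk R (R.mk s.9.2.1.2 s.9.2.1.1) (R.mk s.9.2.2.2 s.9.2.2.1) s.9.2.3 s.9.2.4 s.9.2.5 s.9.2.6 (R.mk s.9.2.7.2 s.9.2.7.1) (R.mk s.9.2.8.2 s.9.2.8.1) s.9.2.9 s.9.2.10 (R.mk s.9.2.11.2 s.9.2.11.1) (R.mk s.9.2.12.2 s.9.2.12.1) (R.mk s.9.2.13.2 s.9.2.13.1) (R.mk s.9.2.14.2 s.9.2.14.1) s.9.2.15 s.9.2.16)
  (@T16.mk R (R.mk s.9.3.1.2 s.9.3.1.1) s.9.3.2 s.9.3.3 (R.mk s.9.3.4.2 s.9.3.4.1) (R.mk s.9.3.5.2 s.9.3.5.1) s.9.3.6 s.9.3.7 (R.mk s.9.3.8.2 s.9.3.8.1) s.9.3.9 (R.mk s.9.3.10.2 s.9.3.10.1) (R.mk s.9.3.11.2 s.9.3.11.1) s.9.3.12 s.9.3.13 (R.mk s.9.3.14.2 s.9.3.14.1) (R.mk s.9.3.15.2 s.9.3.15.1) s.9.3.16)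
  (@T16.mk R s.9.4.1 s.9.4.2 (R.mk s.9.4.3.2 s.9.4.3.1) (R.mk s.9.4.4.2 s.9.4.4.1) s.9.4.5 s.9.4.6 (R.mk s.9.4.7.2 s.9.4.7.1) (R.mk s.9.4.8.2 s.9.4.8.1) s.9.4.9 s.9.4.10 (R.mk s.9.4.11.2 s.9.4.11.1) (R.mk s.9.4.12.2 s.9.4.12.1) s.9.4.13 s.9.4.14 (R.mk s.9.4.15.2 s.9.4.15.1) (R.mk s.9.4.16.2 s.9.4.16.1))
  (@T16.mk R s.9.5.1 s.9.5.2 (R.mk s.9.5.3.2 s.9.5.3.1) (R.mk s.9.5.4.2 s.9.5.4.1) (R.mk s.9.5.5.2 s.9.5.5.1) (R.mk s.9.5.6.2 s.9.5.6.1) s.9.5.7 s.9.5.8 (R.mk s.9.5.9.2 s.9.5.9.1) (R.mk s.9.5.10.2 s.9.5.10.1) s.9.5.11 s.9.5.12 s.9.5.13 s.9.5.14 (R.mk s.9.5.15.2 s.9.5.15.1) (R.mk s.9.5.16.2 s.9.5.16.1))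
  (@T16.mk R s.9.6.1 s.9.6.2 s.9.6.3 s.9.6.4 s.9.6.5 s.9.6.6 s.9.6.7 s.9.6.8 s.9.6.9 s.9.6.10 s.9.6.11 s.9.6.12 s.9.6.13 s.9.6.14 s.9.6.15 s.9.6.16)
  (@T16.mk R (R.mk s.9.7.1.2 s.9.7.1.1) (R.mk s.9.7.2.2 s.9.7.2.1) (R.mk s.9.7.3.2 s.9.7.3.1) (R.mk s.9.7.4.2 s.9.7.4.1) s.9.7.5 s.9.7.6 s.9.7.7 s.9.7.8 (R.mk s.9.7.9.2 s.9.7.9.1) (R.mk s.9.7.10.2 s.9.7.10.1) (R.mk s.9.7.11.2 s.9.7.11.1) (R.mk s.9.7.12.2 s.9.7.12.1) s.9.7.13 s.9.7.14 s.9.7.15 s.9.7.16)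
  (@T16.mk R (R.mk s.9.8.1.2 s.9.8.1.1) s.9.8.2 s.9.8.3 (R.mk s.9.8.4.2 s.9.8.4.1) (R.mk s.9.8.5.2 s.9.8.5.1) s.9.8.6 s.9.8.7 (R.mk s.9.8.8.2 s.9.8.8.1) (R.mk s.9.8.9.2 s.9.8.9.1) s.9.8.10 s.9.8.11 (R.mk s.9.8.12.2 s.9.8.12.1) (R.mk s.9.8.13.2 s.9.8.13.1) s.9.8.14 s.9.8.15 (R.mk s.9.8.16.2 s.9.8.16.1))
  (@T16.mk R (R.mk s.9.9.1.2 s.9.9.1.1) s.9.9.2 (R.mk s.9.9.3.2 s.9.9.3.1) s.9.9.4 (R.mk s.9.9.5.2 s.9.9.5.1) s.9.9.6 (R.mk s.9.9.7.2 s.9.9.7.1) s.9.9.8 (R.mk s.9.9.9.2 s.9.9.9.1) s.9.9.10 (R.mk s.9.9.11.2 s.9.9.11.1) s.9.9.12 (R.mk s.9.9.13.2 s.9.9.13.1) s.9.9.14 (R.mk s.9.9.15.2 s.9.9.15.1) s.9.9.16)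
  (@T16.mk R (R.mk s.9.10.1.2 s.9.10.1.1) s.9.10.2 (R.mk s.9.10.3.2 s.9.10.3.1) s.9.10.4 s.9.10.5 (R.mk s.9.10.6.2 s.9.10.6.1) s.9.10.7 (R.mk s.9.10.8.2 s.9.10.8.1) s.9.10.9 (R.mk s.9.10.10.2 s.9.10.10.1) s.9.10.11 (R.mk s.9.10.12.2 s.9.10.12.1) (R.mk s.9.10.13.2 s.9.10.13.1) s.9.10.14 (R.mk s.9.10.15.2 s.9.10.15.1) s.9.10.16)
  (@T16.mk R (R.mk s.9.11.1.2 s.9.11.1.1) s.9.11.2 s.9.11.3 (R.mk s.9.11.4.2 s.9.11.4.1) (R.mk s.9.11.5.2 s.9.11.5.1) s.9.11.6 s.9.11.7 (R.mk s.9.11.8.2 s.9.11.8.1) (R.mk s.9.11.9.2 s.9.11.9.1) s.9.11.10 s.9.11.11 (R.mk s.9.11.12.2 s.9.11.12.1) (R.mk s.9.11.13.2 s.9.11.13.1) s.9.11.14 s.9.11.15 (R.mk s.9.11.16.2 s.9.11.16.1))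
  (@T16.mk R (R.mk s.9.12.1.2 s.9.12.1.1) s.9.12.2 s.9.12.3 (R.mk s.9.12.4.2 s.9.12.4.1) (R.mk s.9.12.5.2 s.9.12.5.1) s.9.12.6 s.9.12.7 (R.mk s.9.12.8.2 s.9.12.8.1) s.9.12.9 (R.mk s.9.12.10.2 s.9.12.10.1) (R.mk s.9.12.11.2 s.9.12.11.1) s.9.12.12 s.9.12.13 (R.mk s.9.12.14.2 s.9.12.14.1) (R.mk s.9.12.15.2 s.9.12.15.1) s.9.12.16)
  (@T16.mk R s.9.13.1 (R.mk s.9.13.2.2 s.9.13.2.1) s.9.13.3 (R.mk s.9.13.4.2 s.9.13.4.1) s.9.13.5 (R.mk s.9.13.6.2 s.9.13.6.1) s.9.13.7 (R.mk s.9.13.8.2 s.9.13.8.1) s.9.13.9 (R.mk s.9.13.10.2 s.9.13.10.1) s.9.13.11 (R.mk s.9.13.12.2 s.9.13.12.1) s.9.13.13 (R.mk s.9.13.14.2 s.9.13.14.1) s.9.13.15 (R.mk s.9.13.16.2 s.9.13.16.1))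
  (@T16.mk R s.9.14.1 (R.mk s.9.14.2.2 s.9.14.2.1) (R.mk s.9.14.3.2 s.9.14.3.1) s.9.14.4 s.9.14.5 (R.mk s.9.14.6.2 s.9.14.6.1) (R.mk s.9.14.7.2 s.9.14.7.1) s.9.14.8 (R.mk s.9.14.9.2 s.9.14.9.1) s.9.14.10 s.9.14.11 (R.mk s.9.14.12.2 s.9.14.12.1) (R.mk s.9.14.13.2 s.9.14.13.1) s.9.14.14 s.9.14.15 (R.mk s.9.14.16.2 s.9.14.16.1))
  (@T16.mk R (R.mk s.9.15.1.2 s.9.15.1.1) s.9.15.2 (R.mk s.9.15.3.2 s.9.15.3.1) s.9.15.4 (R.mk s.9.15.5.2 s.9.15.5.1) s.9.15.6 (R.mk s.9.15.7.2 s.9.15.7.1) s.9.15.8 (R.mk s.9.15.9.2 s.9.15.9.1) s.9.15.10 (R.mk s.9.15.11.2 s.9.15.11.1) s.9.15.12 (R.mk s.9.15.13.2 s.9.15.13.1) s.9.15.14 (R.mk s.9.15.15.2 s.9.15.15.1) s.9.15.16)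
  (@T16.mk R (R.mk s.9.16.1.2 s.9.16.1.1) (R.mk s.9.16.2.2 s.9.16.2.1) (R.mk s.9.16.3.2 s.9.16.3.1) (R.mk s.9.16.4.2 s.9.16.4.1) (R.mk s.9.16.5.2 s.9.16.5.1) (R.mk s.9.16.6.2 s.9.16.6.1) (R.mk s.9.16.7.2 s.9.16.7.1) (R.mk s.9.16.8.2 s.9.16.8.1) s.9.16.9 s.9.16.10 s.9.16.11 s.9.16.12 s.9.16.13 s.9.16.14 s.9.16.15 s.9.16.16)
 )
 (@T16.mk (T16 R)
  (@T16.mk R (R.mk s.10.1.1.2 s.10.1.1.1) s.10.1.2 (R.mk s.10.1.3.2 s.10.1.3.1) s.10.1.4 (R.mk s.10.1.5.2 s.10.1.5.1) s.10.1.6 (R.mk s.10.1.7.2 s.10.1.7.1) s.10.1.8 (R.mk s.10.1.9.2 s.10.1.9.1) s.10.1.10 (R.mk s.10.1.11.2 s.10.1.11.1) s.10.1.12 (R.mk s.10.1.13.2 s.10.1.13.1) s.10.1.14 (R.mk s.10.1.15.2 s.10.1.15.1) s.10.1.16)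
  (@T16.mk R (R.mk s.10.2.1.2 s.10.2.1.1) s.10.2.2 (R.mk s.10.2.3.2 s.10.2.3.1) s.10.2.4 s.10.2.5 (R.mk s.10.2.6.2 s.10.2.6.1) s.10.2.7 (R.mk s.10.2.8.2 s.10.2.8.1) (R.mk s.10.2.9.2 s.10.2.9.1) s.10.2.10 (R.mk s.10.2.11.2 s.10.2.11.1) s.10.2.12 s.10.2.13 (R.mk s.10.2.14.2 s.10.2.14.1) s.10.2.15 (R.mk s.10.2.16.2 s.10.2.16.1))
  (@T16.mk R (R.mk s.10.3.1.2 s.10.3.1.1) s.10.3.2 (R.mk s.10.3.3.2 s.10.3.3.1) s.10.3.4 s.10.3.5 (R.mk s.10.3.6.2 s.10.3.6.1) s.10.3.7 (R.mk s.10.3.8.2 s.10.3.8.1) (R.mk s.10.3.9.2 s.10.3.9.1) s.10.3.10 (R.mk s.10.3.11.2 s.10.3.11.1) s.10.3.12 s.10.3.13 (R.mk s.10.3.14.2 s.10.3.14.1) s.10.3.15 (R.mk s.10.3.16.2 s.10.3.16.1))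
  (@T16.mk R s.10.4.1 s.10.4.2 (R.mk s.10.4.3.2 s.10.4.3.1) (R.mk s.10.4.4.2 s.10.4.4.1) s.10.4.5 s.10.4.6 (R.mk s.10.4.7.2 s.10.4.7.1) (R.mk s.10.4.8.2 s.10.4.8.1) (R.mk s.10.4.9.2 s.10.4.9.1) (R.mk s.10.4.10.2 s.10.4.10.1) s.10.4.11 s.10.4.12 (R.mk s.10.4.13.2 s.10.4.13.1) (R.mk s.10.4.14.2 s.10.4.14.1) s.10.4.15 s.10.4.16)
  (@T16.mk R (R.mk s.10.5.1.2 s.10.5.1.1) (R.mk s.10.5.2.2 s.10.5.2.1) (R.mk s.10.5.3.2 s.10.5.3.1) (R.mk s.10.5.4.2 s.10.5.4.1) (R.mk s.10.5.5.2 s.10.5.5.1) (R.mk s.10.5.6.2 s.10.5.6.1) (R.mk s.10.5.7.2 s.10.5.7.1) (R.mk s.10.5.8.2 s.10.5.8.1) s.10.5.9 s.10.5.10 s.10.5.11 s.10.5.12 s.10.5.13 s.10.5.14 s.10.5.15 s.10.5.16)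
  (@T16.mk R s.10.6.1 s.10.6.2 s.10.6.3 s.10.6.4 s.10.6.5 s.10.6.6 s.10.6.7 s.10.6.8 s.10.6.9 s.10.6.10 s.10.6.11 s.10.6.12 s.10.6.13 s.10.6.14 s.10.6.15 s.10.6.16)
  (@T16.mk R s.10.7.1 s.10.7.2 s.10.7.3 s.10.7.4 (R.mk s.10.7.5.2 s.10.7.5.1) (R.mk s.10.7.6.2 s.10.7.6.1) (R.mk s.10.7.7.2 s.10.7.7.1) (R.mk s.10.7.8.2 s.10.7.8.1) s.10.7.9 s.10.7.10 s.10.7.11 s.10.7.12 (R.mk s.10.7.13.2 s.10.7.13.1) (R.mk s.10.7.14.2 s.10.7.14.1) (R.mk s.10.7.15.2 s.10.7.15.1) (R.mk s.10.7.16.2 s.10.7.16.1))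
  (@T16.mk R s.10.8.1 s.10.8.2 s.10.8.3 s.10.8.4 s.10.8.5 s.10.8.6 s.10.8.7 s.10.8.8 s.10.8.9 s.10.8.10 s.10.8.11 s.10.8.12 s.10.8.13 s.10.8.14 s.10.8.15 s.10.8.16)
  (@T16.mk R (R.mk s.10.9.1.2 s.10.9.1.1) s.10.9.2 (R.mk s.10.9.3.2 s.10.9.3.1) s.10.9.4 (R.mk s.10.9.5.2 s.10.9.5.1) s.10.9.6 (R.mk s.10.9.7.2 s.10.9.7.1) s.10.9.8 (R.mk s.10.9.9.2 s.10.9.9.1) s.10.9.10 (R.mk s.10.9.11.2 s.10.9.11.1) s.10.9.12 (R.mk s.10.9.13.2 s.10.9.13.1) s.10.9.14 (R.mk s.10.9.15.2 s.10.9.15.1) s.10.9.16)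
  (@T16.mk R s.10.10.1 (R.mk s.10.10.2.2 s.10.10.2.1) (R.mk s.10.10.3.2 s.10.10.3.1) s.10.10.4 s.10.10.5 (R.mk s.10.10.6.2 s.10.10.6.1) (R.mk s.10.10.7.2 s.10.10.7.1) s.10.10.8 (R.mk s.10.10.9.2 s.10.10.9.1) s.10.10.10 s.10.10.11 (R.mk s.10.10.12.2 s.10.10.12.1) (R.mk s.10.10.13.2 s.10.10.13.1) s.10.10.14 s.10.10.15 (R.mk s.10.10.16.2 s.10.10.16.1))
  (@T16.mk R (R.mk s.10.11.1.2 s.10.11.1.1) (R.mk s.10.11.2.2 s.10.11.2.1) s.10.11.3 s.10.11.4 s.10.11.5 s.10.11.6 (R.mk s.10.11.7.2 s.10.11.7.1) (R.mk s.10.11.8.2 s.10.11.8.1) (R.mk s.10.11.9.2 s.10.11.9.1) (R.mk s.10.11.10.2 s.10.11.10.1) s.10.11.11 s.10.11.12 s.10.11.13 s.10.11.14 (R.mk s.10.11.15.2 s.10.11.15.1) (R.mk s.10.11.16.2 s.10.11.16.1))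
  (@T16.mk R (R.mk s.10.12.1.2 s.10.12.1.1) s.10.12.2 s.10.12.3 (R.mk s.10.12.4.2 s.10.12.4.1) s.10.12.5 (R.mk s.10.12.6.2 s.10.12.6.1) (R.mk s.10.12.7.2 s.10.12.7.1) s.10.12.8 s.10.12.9 (R.mk s.10.12.10.2 s.10.12.10.1) (R.mk s.10.12.11.2 s.10.12.11.1) s.10.12.12 (R.mk s.10.12.13.2 s.10.12.13.1) s.10.12.14 s.10.12.15 (R.mk s.10.12.16.2 s.10.12.16.1))
  (@T16.mk R (R.mk s.10.13.1.2 s.10.13.1.1) (R.mk s.10.13.2.2 s.10.13.2.1) s.10.13.3 s.10.13.4 s.10.13.5 s.10.13.6 (R.mk s.10.13.7.2 s.10.13.7.1) (R.mk s.10.13.8.2 s.10.13.8.1) (R.mk s.10.13.9.2 s.10.13.9.1) (R.mk s.10.13.10.2 s.10.13.10.1) s.10.13.11 s.10.13.12 s.10.13.13 s.10.13.14 (R.mk s.10.13.15.2 s.10.13.15.1) (R.mk s.10.13.16.2 s.10.13.16.1))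
  (@T16.mk R (R.mk s.10.14.1.2 s.10.14.1.1) s.10.14.2 s.10.14.3 (R.mk s.10.14.4.2 s.10.14.4.1) s.10.14.5 (R.mk s.10.14.6.2 s.10.14.6.1) (R.mk s.10.14.7.2 s.10.14.7.1) s.10.14.8 s.10.14.9 (R.mk s.10.14.10.2 s.10.14.10.1) (R.mk s.10.14.11.2 s.10.14.11.1) s.10.14.12 (R.mk s.10.14.13.2 s.10.14.13.1) s.10.14.14 s.10.14.15 (R.mk s.10.14.16.2 s.10.14.16.1))
  (@T16.mk R (R.mk s.10.15.1.2 s.10.15.1.1) s.10.15.2 (R.mk s.10.15.3.2 s.10.15.3.1) s.10.15.4 (R.mk s.10.15.5.2 s.10.15.5.1) s.10.15.6 (R.mk s.10.15.7.2 s.10.15.7.1) s.10.15.8 s.10.15.9 (R.mk s.10.15.10.2 s.10.15.10.1) s.10.15.11 (R.mk s.10.15.12.2 s.10.15.12.1) s.10.15.13 (R.mk s.10.15.14.2 s.10.15.14.1) s.10.15.15 (R.mk s.10.15.16.2 s.10.15.16.1))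
  (@T16.mk R (R.mk s.10.16.1.2 s.10.16.1.1) s.10.16.2 s.10.16.3 (R.mk s.10.16.4.2 s.10.16.4.1) s.10.16.5 (R.mk s.10.16.6.2 s.10.16.6.1) (R.mk s.10.16.7.2 s.10.16.7.1) s.10.16.8 (R.mk s.10.16.9.2 s.10.16.9.1) s.10.16.10 s.10.16.11 (R.mk s.10.16.12.2 s.10.16.12.1) s.10.16.13 (R.mk s.10.16.14.2 s.10.16.14.1) (R.mk s.10.16.15.2 s.10.16.15.1) s.10.16.16)
 )
 (@T16.mk (T16 R)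
  (@T16.mk R s.11.1.1 (R.mk s.11.1.2.2 s.11.1.2.1) (R.mk s.11.1.3.2 s.11.1.3.1) s.11.1.4 s.11.1.5 (R.mk s.11.1.6.2 s.11.1.6.1) (R.mk s.11.1.7.2 s.11.1.7.1) s.11.1.8 (R.mk s.11.1.9.2 s.11.1.9.1) s.11.1.10 s.11.1.11 (R.mk s.11.1.12.2 s.11.1.12.1) (R.mk s.11.1.13.2 s.11.1.13.1) s.11.1.14 s.11.1.15 (R.mk s.11.1.16.2 s.11.1.16.1))
  (@T16.mk R (R.mk s.11.2.1.2 s.11.2.1.1) s.11.2.2 (R.mk s.11.2.3.2 s.11.2.3.1) s.11.2.4 (R.mk s.11.2.5.2 s.11.2.5.1) s.11.2.6 (R.mk s.11.2.7.2 s.11.2.7.1) s.11.2.8 (R.mk s.11.2.9.2 s.11.2.9.1) s.11.2.10 (R.mk s.11.2.11.2 s.11.2.11.1) s.11.2.12 (R.mk s.11.2.13.2 s.11.2.13.1) s.11.2.14 (R.mk s.11.2.15.2 s.11.2.15.1) s.11.2.16)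
  (@T16.mk R (R.mk s.11.3.1.2 s.11.3.1.1) (R.mk s.11.3.2.2 s.11.3.2.1) (R.mk s.11.3.3.2 s.11.3.3.1) (R.mk s.11.3.4.2 s.11.3.4.1) s.11.3.5 s.11.3.6 s.11.3.7 s.11.3.8 s.11.3.9 s.11.3.10 s.11.3.11 s.11.3.12 (R.mk s.11.3.13.2 s.11.3.13.1) (R.mk s.11.3.14.2 s.11.3.14.1) (R.mk s.11.3.15.2 s.11.3.15.1) (R.mk s.11.3.16.2 s.11.3.16.1))
  (@T16.mk R s.11.4.1 (R.mk s.11.4.2.2 s.11.4.2.1) s.11.4.3 (R.mk s.11.4.4.2 s.11.4.4.1) (R.mk s.11.4.5.2 s.11.4.5.1) s.11.4.6 (R.mk s.11.4.7.2 s.11.4.7.1) s.11.4.8 (R.mk s.11.4.9.2 s.11.4.9.1) s.11.4.10 (R.mk s.11.4.11.2 s.11.4.11.1) s.11.4.12 s.11.4.13 (R.mk s.11.4.14.2 s.11.4.14.1) s.11.4.15 (R.mk s.11.4.16.2 s.11.4.16.1))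
  (@T16.mk R (R.mk s.11.5.1.2 s.11.5.1.1) (R.mk s.11.5.2.2 s.11.5.2.1) s.11.5.3 s.11.5.4 (R.mk s.11.5.5.2 s.11.5.5.1) (R.mk s.11.5.6.2 s.11.5.6.1) s.11.5.7 s.11.5.8 s.11.5.9 s.11.5.10 (R.mk s.11.5.11.2 s.11.5.11.1) (R.mk s.11.5.12.2 s.11.5.12.1) s.11.5.13 s.11.5.14 (R.mk s.11.5.15.2 s.11.5.15.1) (R.mk s.11.5.16.2 s.11.5.16.1))
  (@T16.mk R (R.mk s.11.6.1.2 s.11.6.1.1) s.11.6.2 s.11.6.3 (R.mk s.11.6.4.2 s.11.6.4.1) (R.mk s.11.6.5.2 s.11.6.5.1) s.11.6.6 s.11.6.7 (R.mk s.11.6.8.2 s.11.6.8.1) (R.mk s.11.6.9.2 s.11.6.9.1) s.11.6.10 s.11.6.11 (R.mk s.11.6.12.2 s.11.6.12.1) (R.mk s.11.6.13.2 s.11.6.13.1) s.11.6.14 s.11.6.15 (R.mk s.11.6.16.2 s.11.6.16.1))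
  (@T16.mk R s.11.7.1 (R.mk s.11.7.2.2 s.11.7.2.1) s.11.7.3 (R.mk s.11.7.4.2 s.11.7.4.1) s.11.7.5 (R.mk s.11.7.6.2 s.11.7.6.1) s.11.7.7 (R.mk s.11.7.8.2 s.11.7.8.1) s.11.7.9 (R.mk s.11.7.10.2 s.11.7.10.1) s.11.7.11 (R.mk s.11.7.12.2 s.11.7.12.1) s.11.7.13 (R.mk s.11.7.14.2 s.11.7.14.1) s.11.7.15 (R.mk s.11.7.16.2 s.11.7.16.1))
  (@T16.mk R (R.mk s.11.8.1.2 s.11.8.1.1) s.11.8.2 s.11.8.3 (R.mk s.11.8.4.2 s.11.8.4.1) (R.mk s.11.8.5.2 s.11.8.5.1) s.11.8.6 s.11.8.7 (R.mk s.11.8.8.2 s.11.8.8.1) s.11.8.9 (R.mk s.11.8.10.2 s.11.8.10.1) (R.mk s.11.8.11.2 s.11.8.11.1) s.11.8.12 s.11.8.13 (R.mk s.11.8.14.2 s.11.8.14.1) (R.mk s.11.8.15.2 s.11.8.15.1) s.11.8.16)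
  (@T16.mk R (R.mk s.11.9.1.2 s.11.9.1.1) s.11.9.2 s.11.9.3 (R.mk s.11.9.4.2 s.11.9.4.1) s.11.9.5 (R.mk s.11.9.6.2 s.11.9.6.1) (R.mk s.11.9.7.2 s.11.9.7.1) s.11.9.8 (R.mk s.11.9.9.2 s.11.9.9.1) s.11.9.10 s.11.9.11 (R.mk s.11.9.12.2 s.11.9.12.1) s.11.9.13 (R.mk s.11.9.14.2 s.11.9.14.1) (R.mk s.11.9.15.2 s.11.9.15.1) s.11.9.16)
  (@T16.mk R (R.mk s.11.10.1.2 s.11.10.1.1) (R.mk s.11.10.2.2 s.11.10.2.1) (R.mk s.11.10.3.2 s.11.10.3.1) (R.mk s.11.10.4.2 s.11.10.4.1) s.11.10.5 s.11.10.6 s.11.10.7 s.11.10.8 s.11.10.9 s.11.10.10 s.11.10.11 s.11.10.12 (R.mk s.11.10.13.2 s.11.10.13.1) (R.mk s.11.10.14.2 s.11.10.14.1) (R.mk s.11.10.15.2 s.11.10.15.1) (R.mk s.11.10.16.2 s.11.10.16.1))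
  (@T16.mk R (R.mk s.11.11.1.2 s.11.11.1.1) s.11.11.2 (R.mk s.11.11.3.2 s.11.11.3.1) s.11.11.4 (R.mk s.11.11.5.2 s.11.11.5.1) s.11.11.6 (R.mk s.11.11.7.2 s.11.11.7.1) s.11.11.8 s.11.11.9 (R.mk s.11.11.10.2 s.11.11.10.1) s.11.11.11 (R.mk s.11.11.12.2 s.11.11.12.1) s.11.11.13 (R.mk s.11.11.14.2 s.11.11.14.1) s.11.11.15 (R.mk s.11.11.16.2 s.11.11.16.1))
  (@T16.mk R s.11.12.1 s.11.12.2 (R.mk s.11.12.3.2 s.11.12.3.1) (R.mk s.11.12.4.2 s.11.12.4.1) (R.mk s.11.12.5.2 s.11.12.5.1) (R.mk s.11.12.6.2 s.11.12.6.1) s.11.12.7 s.11.12.8 s.11.12.9 s.11.12.10 (R.mk s.11.12.11.2 s.11.12.11.1) (R.mk s.11.12.12.2 s.11.12.12.1) (R.mk s.11.12.13.2 s.11.12.13.1) (R.mk s.11.12.14.2 s.11.12.14.1) s.11.12.15 s.11.12.16)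
  (@T16.mk R s.11.13.1 s.11.13.2 s.11.13.3 s.11.13.4 s.11.13.5 s.11.13.6 s.11.13.7 s.11.13.8 s.11.13.9 s.11.13.10 s.11.13.11 s.11.13.12 s.11.13.13 s.11.13.14 s.11.13.15 s.11.13.16)
  (@T16.mk R s.11.14.1 s.11.14.2 s.11.14.3 s.11.14.4 s.11.14.5 s.11.14.6 s.11.14.7 s.11.14.8 s.11.14.9 s.11.14.10 s.11.14.11 s.11.14.12 s.11.14.13 s.11.14.14 s.11.14.15 s.11.14.16)
  (@T16.mk R s.11.15.1 s.11.15.2 (R.mk s.11.15.3.2 s.11.15.3.1) (R.mk s.11.15.4.2 s.11.15.4.1) (R.mk s.11.15.5.2 s.11.15.5.1) (R.mk s.11.15.6.2 s.11.15.6.1) s.11.15.7 s.11.15.8 s.11.15.9 s.11.15.10 (R.mk s.11.15.11.2 s.11.15.11.1) (R.mk s.11.15.12.2 s.11.15.12.1) (R.mk s.11.15.13.2 s.11.15.13.1) (R.mk s.11.15.14.2 s.11.15.14.1) s.11.15.15 s.11.15.16)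
  (@T16.mk R s.11.16.1 (R.mk s.11.16.2.2 s.11.16.2.1) (R.mk s.11.16.3.2 s.11.16.3.1) s.11.16.4 s.11.16.5 (R.mk s.11.16.6.2 s.11.16.6.1) (R.mk s.11.16.7.2 s.11.16.7.1) s.11.16.8 (R.mk s.11.16.9.2 s.11.16.9.1) s.11.16.10 s.11.16.11 (R.mk s.11.16.12.2 s.11.16.12.1) (R.mk s.11.16.13.2 s.11.16.13.1) s.11.16.14 s.11.16.15 (R.mk s.11.16.16.2 s.11.16.16.1))
 )
 (@T16.mk (T16 R)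
  (@T16.mk R (R.mk s.12.1.1.2 s.12.1.1.1) (R.mk s.12.1.2.2 s.12.1.2.1) (R.mk s.12.1.3.2 s.12.1.3.1) (R.mk s.12.1.4.2 s.12.1.4.1) (R.mk s.12.1.5.2 s.12.1.5.1) (R.mk s.12.1.6.2 s.12.1.6.1) (R.mk s.12.1.7.2 s.12.1.7.1) (R.mk s.12.1.8.2 s.12.1.8.1) s.12.1.9 s.12.1.10 s.12.1.11 s.12.1.12 s.12.1.13 s.12.1.14 s.12.1.15 s.12.1.16)
  (@T16.mk R (R.mk s.12.2.1.2 s.12.2.1.1) (R.mk s.12.2.2.2 s.12.2.2.1) s.12.2.3 s.12.2.4 (R.mk s.12.2.5.2 s.12.2.5.1) (R.mk s.12.2.6.2 s.12.2.6.1) s.12.2.7 s.12.2.8 (R.mk s.12.2.9.2 s.12.2.9.1) (R.mk s.12.2.10.2 s.12.2.10.1) s.12.2.11 s.12.2.12 (R.mk s.12.2.13.2 s.12.2.13.1) (R.mk s.12.2.14.2 s.12.2.14.1) s.12.2.15 s.12.2.16)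
  (@T16.mk R s.12.3.1 s.12.3.2 s.12.3.3 s.12.3.4 s.12.3.5 s.12.3.6 s.12.3.7 s.12.3.8 s.12.3.9 s.12.3.10 s.12.3.11 s.12.3.12 s.12.3.13 s.12.3.14 s.12.3.15 s.12.3.16)
  (@T16.mk R s.12.4.1 s.12.4.2 s.12.4.3 s.12.4.4 (R.mk s.12.4.5.2 s.12.4.5.1) (R.mk s.12.4.6.2 s.12.4.6.1) (R.mk s.12.4.7.2 s.12.4.7.1) (R.mk s.12.4.8.2 s.12.4.8.1) (R.mk s.12.4.9.2 s.12.4.9.1) (R.mk s.12.4.10.2 s.12.4.10.1) (R.mk s.12.4.11.2 s.12.4.11.1) (R.mk s.12.4.12.2 s.12.4.12.1) s.12.4.13 s.12.4.14 s.12.4.15 s.12.4.16)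
  (@T16.mk R (R.mk s.12.5.1.2 s.12.5.1.1) s.12.5.2 (R.mk s.12.5.3.2 s.12.5.3.1) s.12.5.4 s.12.5.5 (R.mk s.12.5.6.2 s.12.5.6.1) s.12.5.7 (R.mk s.12.5.8.2 s.12.5.8.1) (R.mk s.12.5.9.2 s.12.5.9.1) s.12.5.10 (R.mk s.12.5.11.2 s.12.5.11.1) s.12.5.12 s.12.5.13 (R.mk s.12.5.14.2 s.12.5.14.1) s.12.5.15 (R.mk s.12.5.16.2 s.12.5.16.1))
  (@T16.mk R (R.mk s.12.6.1.2 s.12.6.1.1) (R.mk s.12.6.2.2 s.12.6.2.1) (R.mk s.12.6.3.2 s.12.6.3.1) (R.mk s.12.6.4.2 s.12.6.4.1) (R.mk s.12.6.5.2 s.12.6.5.1) (R.mk s.12.6.6.2 s.12.6.6.1) (R.mk s.12.6.7.2 s.12.6.7.1) (R.mk s.12.6.8.2 s.12.6.8.1) s.12.6.9 s.12.6.10 s.12.6.11 s.12.6.12 s.12.6.13 s.12.6.14 s.12.6.15 s.12.6.16)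
  (@T16.mk R s.12.7.1 s.12.7.2 s.12.7.3 s.12.7.4 s.12.7.5 s.12.7.6 s.12.7.7 s.12.7.8 (R.mk s.12.7.9.2 s.12.7.9.1) (R.mk s.12.7.10.2 s.12.7.10.1) (R.mk s.12.7.11.2 s.12.7.11.1) (R.mk s.12.7.12.2 s.12.7.12.1) (R.mk s.12.7.13.2 s.12.7.13.1) (R.mk s.12.7.14.2 s.12.7.14.1) (R.mk s.12.7.15.2 s.12.7.15.1) (R.mk s.12.7.16.2 s.12.7.16.1))
  (@T16.mk R (R.mk s.12.8.1.2 s.12.8.1.1) (R.mk s.12.8.2.2 s.12.8.2.1) s.12.8.3 s.12.8.4 s.12.8.5 s.12.8.6 (R.mk s.12.8.7.2 s.12.8.7.1) (R.mk s.12.8.8.2 s.12.8.8.1) s.12.8.9 s.12.8.10 (R.mk s.12.8.11.2 s.12.8.11.1) (R.mk s.12.8.12.2 s.12.8.12.1) (R.mk s.12.8.13.2 s.12.8.13.1) (R.mk s.12.8.14.2 s.12.8.14.1) s.12.8.15 s.12.8.16)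
  (@T16.mk R (R.mk s.12.9.1.2 s.12.9.1.1) (R.mk s.12.9.2.2 s.12.9.2.1) s.12.9.3 s.12.9.4 s.12.9.5 s.12.9.6 (R.mk s.12.9.7.2 s.12.9.7.1) (R.mk s.12.9.8.2 s.12.9.8.1) (R.mk s.12.9.9.2 s.12.9.9.1) (R.mk s.12.9.10.2 s.12.9.10.1) s.12.9.11 s.12.9.12 s.12.9.13 s.12.9.14 (R.mk s.12.9.15.2 s.12.9.15.1) (R.mk s.12.9.16.2 s.12.9.16.1))
  (@T16.mk R (R.mk s.12.10.1.2 s.12.10.1.1) (R.mk s.12.10.2.2 s.12.10.2.1) s.12.10.3 s.12.10.4 s.12.10.5 s.12.10.6 (R.mk s.12.10.7.2 s.12.10.7.1) (R.mk s.12.10.8.2 s.12.10.8.1) s.12.10.9 s.12.10.10 (R.mk s.12.10.11.2 s.12.10.11.1) (R.mk s.12.10.12.2 s.12.10.12.1) (R.mk s.12.10.13.2 s.12.10.13.1) (R.mk s.12.10.14.2 s.12.10.14.1) s.12.10.15 s.12.10.16)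
  (@T16.mk R s.12.11.1 s.12.11.2 s.12.11.3 s.12.11.4 (R.mk s.12.11.5.2 s.12.11.5.1) (R.mk s.12.11.6.2 s.12.11.6.1) (R.mk s.12.11.7.2 s.12.11.7.1) (R.mk s.12.11.8.2 s.12.11.8.1) (R.mk s.12.11.9.2 s.12.11.9.1) (R.mk s.12.11.10.2 s.12.11.10.1) (R.mk s.12.11.11.2 s.12.11.11.1) (R.mk s.12.11.12.2 s.12.11.12.1) s.12.11.13 s.12.11.14 s.12.11.15 s.12.11.16)
  (@T16.mk R (R.mk s.12.12.1.2 s.12.12.1.1) s.12.12.2 s.12.12.3 (R.mk s.12.12.4.2 s.12.12.4.1) s.12.12.5 (R.mk s.12.12.6.2 s.12.12.6.1) (R.mk s.12.12.7.2 s.12.12.7.1) s.12.12.8 s.12.12.9 (R.mk s.12.12.10.2 s.12.12.10.1) (R.mk s.12.12.11.2 s.12.12.11.1) s.12.12.12 (R.mk s.12.12.13.2 s.12.12.13.1) s.12.12.14 s.12.12.15 (R.mk s.12.12.16.2 s.12.12.16.1))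
  (@T16.mk R s.12.13.1 (R.mk s.12.13.2.2 s.12.13.2.1) s.12.13.3 (R.mk s.12.13.4.2 s.12.13.4.1) s.12.13.5 (R.mk s.12.13.6.2 s.12.13.6.1) s.12.13.7 (R.mk s.12.13.8.2 s.12.13.8.1) s.12.13.9 (R.mk s.12.13.10.2 s.12.13.10.1) s.12.13.11 (R.mk s.12.13.12.2 s.12.13.12.1) s.12.13.13 (R.mk s.12.13.14.2 s.12.13.14.1) s.12.13.15 (R.mk s.12.13.16.2 s.12.13.16.1))
  (@T16.mk R (R.mk s.12.14.1.2 s.12.14.1.1) s.12.14.2 (R.mk s.12.14.3.2 s.12.14.3.1) s.12.14.4 s.12.14.5 (R.mk s.12.14.6.2 s.12.14.6.1) s.12.14.7 (R.mk s.12.14.8.2 s.12.14.8.1) s.12.14.9 (R.mk s.12.14.10.2 s.12.14.10.1) s.12.14.11 (R.mk s.12.14.12.2 s.12.14.12.1) (R.mk s.12.14.13.2 s.12.14.13.1) s.12.14.14 (R.mk s.12.14.15.2 s.12.14.15.1) s.12.14.16)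
  (@T16.mk R (R.mk s.12.15.1.2 s.12.15.1.1) (R.mk s.12.15.2.2 s.12.15.2.1) s.12.15.3 s.12.15.4 s.12.15.5 s.12.15.6 (R.mk s.12.15.7.2 s.12.15.7.1) (R.mk s.12.15.8.2 s.12.15.8.1) (R.mk s.12.15.9.2 s.12.15.9.1) (R.mk s.12.15.10.2 s.12.15.10.1) s.12.15.11 s.12.15.12 s.12.15.13 s.12.15.14 (R.mk s.12.15.15.2 s.12.15.15.1) (R.mk s.12.15.16.2 s.12.15.16.1))
  (@T16.mk R (R.mk s.12.16.1.2 s.12.16.1.1) s.12.16.2 (R.mk s.12.16.3.2 s.12.16.3.1) s.12.16.4 s.12.16.5 (R.mk s.12.16.6.2 s.12.16.6.1) s.12.16.7 (R.mk s.12.16.8.2 s.12.16.8.1) s.12.16.9 (R.mk s.12.16.10.2 s.12.16.10.1) s.12.16.11 (R.mk s.12.16.12.2 s.12.16.12.1) (R.mk s.12.16.13.2 s.12.16.13.1) s.12.16.14 (R.mk s.12.16.15.2 s.12.16.15.1) s.12.16.16)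
 )
 (@T16.mk (T16 R)
  (@T16.mk R (R.mk s.13.1.1.2 s.13.1.1.1) s.13.1.2 (R.mk s.13.1.3.2 s.13.1.3.1) s.13.1.4 s.13.1.5 (R.mk s.13.1.6.2 s.13.1.6.1) s.13.1.7 (R.mk s.13.1.8.2 s.13.1.8.1) s.13.1.9 (R.mk s.13.1.10.2 s.13.1.10.1) s.13.1.11 (R.mk s.13.1.12.2 s.13.1.12.1) (R.mk s.13.1.13.2 s.13.1.13.1) s.13.1.14 (R.mk s.13.1.15.2 s.13.1.15.1) s.13.1.16)
  (@T16.mk R (R.mk s.13.2.1.2 s.13.2.1.1) s.13.2.2 (R.mk s.13.2.3.2 s.13.2.3.1) s.13.2.4 (R.mk s.13.2.5.2 s.13.2.5.1) s.13.2.6 (R.mk s.13.2.7.2 s.13.2.7.1) s.13.2.8 (R.mk s.13.2.9.2 s.13.2.9.1) s.13.2.10 (R.mk s.13.2.11.2 s.13.2.11.1) s.13.2.12 (R.mk s.13.2.13.2 s.13.2.13.1) s.13.2.14 (R.mk s.13.2.15.2 s.13.2.15.1) s.13.2.16)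
  (@T16.mk R (R.mk s.13.3.1.2 s.13.3.1.1) s.13.3.2 s.13.3.3 (R.mk s.13.3.4.2 s.13.3.4.1) s.13.3.5 (R.mk s.13.3.6.2 s.13.3.6.1) (R.mk s.13.3.7.2 s.13.3.7.1) s.13.3.8 s.13.3.9 (R.mk s.13.3.10.2 s.13.3.10.1) (R.mk s.13.3.11.2 s.13.3.11.1) s.13.3.12 (R.mk s.13.3.13.2 s.13.3.13.1) s.13.3.14 s.13.3.15 (R.mk s.13.3.16.2 s.13.3.16.1))
  (@T16.mk R (R.mk s.13.4.1.2 s.13.4.1.1) (R.mk s.13.4.2.2 s.13.4.2.1) (R.mk s.13.4.3.2 s.13.4.3.1) (R.mk s.13.4.4.2 s.13.4.4.1) s.13.4.5 s.13.4.6 s.13.4.7 s.13.4.8 s.13.4.9 s.13.4.10 s.13.4.11 s.13.4.12 (R.mk s.13.4.13.2 s.13.4.13.1) (R.mk s.13.4.14.2 s.13.4.14.1) (R.mk s.13.4.15.2 s.13.4.15.1) (R.mk s.13.4.16.2 s.13.4.16.1))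
  (@T16.mk R (R.mk s.13.5.1.2 s.13.5.1.1) s.13.5.2 (R.mk s.13.5.3.2 s.13.5.3.1) s.13.5.4 s.13.5.5 (R.mk s.13.5.6.2 s.13.5.6.1) s.13.5.7 (R.mk s.13.5.8.2 s.13.5.8.1) (R.mk s.13.5.9.2 s.13.5.9.1) s.13.5.10 (R.mk s.13.5.11.2 s.13.5.11.1) s.13.5.12 s.13.5.13 (R.mk s.13.5.14.2 s.13.5.14.1) s.13.5.15 (R.mk s.13.5.16.2 s.13.5.16.1))
  (@T16.mk R s.13.6.1 (R.mk s.13.6.2.2 s.13.6.2.1) s.13.6.3 (R.mk s.13.6.4.2 s.13.6.4.1) (R.mk s.13.6.5.2 s.13.6.5.1) s.13.6.6 (R.mk s.13.6.7.2 s.13.6.7.1) s.13.6.8 s.13.6.9 (R.mk s.13.6.10.2 s.13.6.10.1) s.13.6.11 (R.mk s.13.6.12.2 s.13.6.12.1) (R.mk s.13.6.13.2 s.13.6.13.1) s.13.6.14 (R.mk s.13.6.15.2 s.13.6.15.1) s.13.6.16)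
  (@T16.mk R (R.mk s.13.7.1.2 s.13.7.1.1) s.13.7.2 s.13.7.3 (R.mk s.13.7.4.2 s.13.7.4.1) (R.mk s.13.7.5.2 s.13.7.5.1) s.13.7.6 s.13.7.7 (R.mk s.13.7.8.2 s.13.7.8.1) (R.mk s.13.7.9.2 s.13.7.9.1) s.13.7.10 s.13.7.11 (R.mk s.13.7.12.2 s.13.7.12.1) (R.mk s.13.7.13.2 s.13.7.13.1) s.13.7.14 s.13.7.15 (R.mk s.13.7.16.2 s.13.7.16.1))
  (@T16.mk R s.13.8.1 (R.mk s.13.8.2.2 s.13.8.2.1) s.13.8.3 (R.mk s.13.8.4.2 s.13.8.4.1) s.13.8.5 (R.mk s.13.8.6.2 s.13.8.6.1) s.13.8.7 (R.mk s.13.8.8.2 s.13.8.8.1) s.13.8.9 (R.mk s.13.8.10.2 s.13.8.10.1) s.13.8.11 (R.mk s.13.8.12.2 s.13.8.12.1) s.13.8.13 (R.mk s.13.8.14.2 s.13.8.14.1) s.13.8.15 (R.mk s.13.8.16.2 s.13.8.16.1))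
  (@T16.mk R (R.mk s.13.9.1.2 s.13.9.1.1) s.13.9.2 s.13.9.3 (R.mk s.13.9.4.2 s.13.9.4.1) s.13.9.5 (R.mk s.13.9.6.2 s.13.9.6.1) (R.mk s.13.9.7.2 s.13.9.7.1) s.13.9.8 s.13.9.9 (R.mk s.13.9.10.2 s.13.9.10.1) (R.mk s.13.9.11.2 s.13.9.11.1) s.13.9.12 (R.mk s.13.9.13.2 s.13.9.13.1) s.13.9.14 s.13.9.15 (R.mk s.13.9.16.2 s.13.9.16.1))
  (@T16.mk R (R.mk s.13.10.1.2 s.13.10.1.1) (R.mk s.13.10.2.2 s.13.10.2.1) s.13.10.3 s.13.10.4 s.13.10.5 s.13.10.6 (R.mk s.13.10.7.2 s.13.10.7.1) (R.mk s.13.10.8.2 s.13.10.8.1) s.13.10.9 s.13.10.10 (R.mk s.13.10.11.2 s.13.10.11.1) (R.mk s.13.10.12.2 s.13.10.12.1) (R.mk s.13.10.13.2 s.13.10.13.1) (R.mk s.13.10.14.2 s.13.10.14.1) s.13.10.15 s.13.10.16)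
  (@T16.mk R (R.mk s.13.11.1.2 s.13.11.1.1) (R.mk s.13.11.2.2 s.13.11.2.1) (R.mk s.13.11.3.2 s.13.11.3.1) (R.mk s.13.11.4.2 s.13.11.4.1) s.13.11.5 s.13.11.6 s.13.11.7 s.13.11.8 s.13.11.9 s.13.11.10 s.13.11.11 s.13.11.12 (R.mk s.13.11.13.2 s.13.11.13.1) (R.mk s.13.11.14.2 s.13.11.14.1) (R.mk s.13.11.15.2 s.13.11.15.1) (R.mk s.13.11.16.2 s.13.11.16.1))
  (@T16.mk R (R.mk s.13.12.1.2 s.13.12.1.1) (R.mk s.13.12.2.2 s.13.12.2.1) s.13.12.3 s.13.12.4 s.13.12.5 s.13.12.6 (R.mk s.13.12.7.2 s.13.12.7.1) (R.mk s.13.12.8.2 s.13.12.8.1) s.13.12.9 s.13.12.10 (R.mk s.13.12.11.2 s.13.12.11.1) (R.mk s.13.12.12.2 s.13.12.12.1) (R.mk s.13.12.13.2 s.13.12.13.1) (R.mk s.13.12.14.2 s.13.12.14.1) s.13.12.15 s.13.12.16)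
  (@T16.mk R (R.mk s.13.13.1.2 s.13.13.1.1) s.13.13.2 (R.mk s.13.13.3.2 s.13.13.3.1) s.13.13.4 (R.mk s.13.13.5.2 s.13.13.5.1) s.13.13.6 (R.mk s.13.13.7.2 s.13.13.7.1) s.13.13.8 s.13.13.9 (R.mk s.13.13.10.2 s.13.13.10.1) s.13.13.11 (R.mk s.13.13.12.2 s.13.13.12.1) s.13.13.13 (R.mk s.13.13.14.2 s.13.13.14.1) s.13.13.15 (R.mk s.13.13.16.2 s.13.13.16.1))
  (@T16.mk R s.13.14.1 s.13.14.2 (R.mk s.13.14.3.2 s.13.14.3.1) (R.mk s.13.14.4.2 s.13.14.4.1) (R.mk s.13.14.5.2 s.13.14.5.1) (R.mk s.13.14.6.2 s.13.14.6.1) (R.mk s.13.14.7.2 s.13.14.7.1) (R.mk s.13.14.8.2 s.13.14.8.1) (R.mk s.13.14.9.2 s.13.14.9.1) (R.mk s.13.14.10.2 s.13.14.10.1) s.13.14.11 s.13.14.12 (R.mk s.13.14.13.2 s.13.14.13.1) (R.mk s.13.14.14.2 s.13.14.14.1) (R.mk s.13.14.15.2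 s.13.14.15.1) (R.mk s.13.14.16.2 s.13.14.16.1))
  (@T16.mk R s.13.15.1 s.13.15.2 s.13.15.3 s.13.15.4 s.13.15.5 s.13.15.6 (R.mk s.13.15.7.2 s.13.15.7.1) (R.mk s.13.15.8.2 s.13.15.8.1) s.13.15.9 s.13.15.10 s.13.15.11 s.13.15.12 (R.mk s.13.15.13.2 s.13.15.13.1) (R.mk s.13.15.14.2 s.13.15.14.1) s.13.15.15 s.13.15.16)
  (@T16.mk R (R.mk s.13.16.1.2 s.13.16.1.1) (R.mk s.13.16.2.2 s.13.16.2.1) s.13.16.3 s.13.16.4 (R.mk s.13.16.5.2 s.13.16.5.1) (R.mk s.13.16.6.2 s.13.16.6.1) (R.mk s.13.16.7.2 s.13.16.7.1) (R.mk s.13.16.8.2 s.13.16.8.1) s.13.16.9 s.13.16.10 (R.mk s.13.16.11.2 s.13.16.11.1) (R.mk s.13.16.12.2 s.13.16.12.1) (R.mk s.13.16.13.2 s.13.16.13.1) (R.mk s.13.16.14.2 s.13.16.14.1) (R.mk s.13.16.15.2 s.13.16.15.1) (R.mk s.13.16.16.2 s.13.16.16.1))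
 )
 (@T16.mk (T16 R)
  (@T16.mk R (R.mk s.14.1.1.2 s.14.1.1.1) (R.mk s.14.1.2.2 s.14.1.2.1) (R.mk s.14.1.3.2 s.14.1.3.1) (R.mk s.14.1.4.2 s.14.1.4.1) s.14.1.5 s.14.1.6 (R.mk s.14.1.7.2 s.14.1.7.1) (R.mk s.14.1.8.2 s.14.1.8.1) (R.mk s.14.1.9.2 s.14.1.9.1) (R.mk s.14.1.10.2 s.14.1.10.1) (R.mk s.14.1.11.2 s.14.1.11.1) (R.mk s.14.1.12.2 s.14.1.12.1) (R.mk s.14.1.13.2 s.14.1.13.1) (R.mk s.14.1.14.2 s.14.1.14.1) s.14.1.15 s.14.1.16)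
  (@T16.mk R s.14.2.1 s.14.2.2 (R.mk s.14.2.3.2 s.14.2.3.1) (R.mk s.14.2.4.2 s.14.2.4.1) s.14.2.5 s.14.2.6 s.14.2.7 s.14.2.8 (R.mk s.14.2.9.2 s.14.2.9.1) (R.mk s.14.2.10.2 s.14.2.10.1) s.14.2.11 s.14.2.12 s.14.2.13 s.14.2.14 s.14.2.15 s.14.2.16)
  (@T16.mk R s.14.3.1 s.14.3.2 s.14.3.3 s.14.3.4 (R.mk s.14.3.5.2 s.14.3.5.1) (R.mk s.14.3.6.2 s.14.3.6.1) s.14.3.7 s.14.3.8 s.14.3.9 s.14.3.10 s.14.3.11 s.14.3.12 s.14.3.13 s.14.3.14 (R.mk s.14.3.15.2 s.14.3.15.1) (R.mk s.14.3.16.2 s.14.3.16.1))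
  (@T16.mk R s.14.4.1 s.14.4.2 (R.mk s.14.4.3.2 s.14.4.3.1) (R.mk s.14.4.4.2 s.14.4.4.1) (R.mk s.14.4.5.2 s.14.4.5.1) (R.mk s.14.4.6.2 s.14.4.6.1) (R.mk s.14.4.7.2 s.14.4.7.1) (R.mk s.14.4.8.2 s.14.4.8.1) (R.mk s.14.4.9.2 s.14.4.9.1) (R.mk s.14.4.10.2 s.14.4.10.1) s.14.4.11 s.14.4.12 (R.mk s.14.4.13.2 s.14.4.13.1) (R.mk s.14.4.14.2 s.14.4.14.1) (R.mk s.14.4.15.2 s.14.4.15.1) (R.mk s.14.4.16.2 s.14.4.16.1))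
  (@T16.mk R s.14.5.1 s.14.5.2 s.14.5.3 s.14.5.4 s.14.5.5 s.14.5.6 (R.mk s.14.5.7.2 s.14.5.7.1) (R.mk s.14.5.8.2 s.14.5.8.1) s.14.5.9 s.14.5.10 s.14.5.11 s.14.5.12 (R.mk s.14.5.13.2 s.14.5.13.1) (R.mk s.14.5.14.2 s.14.5.14.1) s.14.5.15 s.14.5.16)
  (@T16.mk R (R.mk s.14.6.1.2 s.14.6.1.1) (R.mk s.14.6.2.2 s.14.6.2.1) (R.mk s.14.6.3.2 s.14.6.3.1) (R.mk s.14.6.4.2 s.14.6.4.1) (R.mk s.14.6.5.2 s.14.6.5.1) (R.mk s.14.6.6.2 s.14.6.6.1) s.14.6.7 s.14.6.8 (R.mk s.14.6.9.2 s.14.6.9.1) (R.mk s.14.6.10.2 s.14.6.10.1) (R.mk s.14.6.11.2 s.14.6.11.1) (R.mk s.14.6.12.2 s.14.6.12.1) s.14.6.13 s.14.6.14 (R.mk s.14.6.15.2 s.14.6.15.1) (R.mk s.14.6.16.2 s.14.6.16.1))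
  (@T16.mk R (R.mk s.14.7.1.2 s.14.7.1.1) (R.mk s.14.7.2.2 s.14.7.2.1) s.14.7.3 s.14.7.4 s.14.7.5 s.14.7.6 s.14.7.7 s.14.7.8 s.14.7.9 s.14.7.10 (R.mk s.14.7.11.2 s.14.7.11.1) (R.mk s.14.7.12.2 s.14.7.12.1) s.14.7.13 s.14.7.14 s.14.7.15 s.14.7.16)
  (@T16.mk R (R.mk s.14.8.1.2 s.14.8.1.1) (R.mk s.14.8.2.2 s.14.8.2.1) (R.mk s.14.8.3.2 s.14.8.3.1) (R.mk s.14.8.4.2 s.14.8.4.1) s.14.8.5 s.14.8.6 (R.mk s.14.8.7.2 s.14.8.7.1) (R.mk s.14.8.8.2 s.14.8.8.1) (R.mk s.14.8.9.2 s.14.8.9.1) (R.mk s.14.8.10.2 s.14.8.10.1) (R.mk s.14.8.11.2 s.14.8.11.1) (R.mk s.14.8.12.2 s.14.8.12.1) (R.mk s.14.8.13.2 s.14.8.13.1) (R.mk s.14.8.14.2 s.14.8.14.1) s.14.8.15 s.14.8.16)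
  (@T16.mk R (R.mk s.14.9.1.2 s.14.9.1.1) (R.mk s.14.9.2.2 s.14.9.2.1) s.14.9.3 s.14.9.4 (R.mk s.14.9.5.2 s.14.9.5.1) (R.mk s.14.9.6.2 s.14.9.6.1) (R.mk s.14.9.7.2 s.14.9.7.1) (R.mk s.14.9.8.2 s.14.9.8.1) s.14.9.9 s.14.9.10 (R.mk s.14.9.11.2 s.14.9.11.1) (R.mk s.14.9.12.2 s.14.9.12.1) (R.mk s.14.9.13.2 s.14.9.13.1) (R.mk s.14.9.14.2 s.14.9.14.1) (R.mk s.14.9.15.2 s.14.9.15.1) (R.mk s.14.9.16.2 s.14.9.16.1))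
  (@T16.mk R s.14.10.1 s.14.10.2 s.14.10.3 s.14.10.4 (R.mk s.14.10.5.2 s.14.10.5.1) (R.mk s.14.10.6.2 s.14.10.6.1) s.14.10.7 s.14.10.8 s.14.10.9 s.14.10.10 s.14.10.11 s.14.10.12 s.14.10.13 s.14.10.14 (R.mk s.14.10.15.2 s.14.10.15.1) (R.mk s.14.10.16.2 s.14.10.16.1))
  (@T16.mk R s.14.11.1 s.14.11.2 (R.mk s.14.11.3.2 s.14.11.3.1) (R.mk s.14.11.4.2 s.14.11.4.1) s.14.11.5 s.14.11.6 s.14.11.7 s.14.11.8 (R.mk s.14.11.9.2 s.14.11.9.1) (R.mk s.14.11.10.2 s.14.11.10.1) s.14.11.11 s.14.11.12 s.14.11.13 s.14.11.14 s.14.11.15 s.14.11.16)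
  (@T16.mk R (R.mk s.14.12.1.2 s.14.12.1.1) (R.mk s.14.12.2.2 s.14.12.2.1) (R.mk s.14.12.3.2 s.14.12.3.1) (R.mk s.14.12.4.2 s.14.12.4.1) (R.mk s.14.12.5.2 s.14.12.5.1) (R.mk s.14.12.6.2 s.14.12.6.1) s.14.12.7 s.14.12.8 (R.mk s.14.12.9.2 s.14.12.9.1) (R.mk s.14.12.10.2 s.14.12.10.1) (R.mk s.14.12.11.2 s.14.12.11.1) (R.mk s.14.12.12.2 s.14.12.12.1) s.14.12.13 s.14.12.14 (R.mk s.14.12.15.2 s.14.12.15.1) (R.mk s.14.12.16.2 s.14.12.16.1))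
  (@T16.mk R (R.mk s.14.13.1.2 s.14.13.1.1) (R.mk s.14.13.2.2 s.14.13.2.1) s.14.13.3 s.14.13.4 s.14.13.5 s.14.13.6 s.14.13.7 s.14.13.8 s.14.13.9 s.14.13.10 (R.mk s.14.13.11.2 s.14.13.11.1) (R.mk s.14.13.12.2 s.14.13.12.1) s.14.13.13 s.14.13.14 s.14.13.15 s.14.13.16)
  (@T16.mk R s.14.14.1 s.14.14.2 s.14.14.3 s.14.14.4 s.14.14.5 s.14.14.6 (R.mk s.14.14.7.2 s.14.14.7.1) (R.mk s.14.14.8.2 s.14.14.8.1) s.14.14.9 s.14.14.10 s.14.14.11 s.14.14.12 (R.mk s.14.14.13.2 s.14.14.13.1) (R.mk s.14.14.14.2 s.14.14.14.1) s.14.14.15 s.14.14.16)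
  (@T16.mk R (R.mk s.14.15.1.2 s.14.15.1.1) (R.mk s.14.15.2.2 s.14.15.2.1) s.14.15.3 s.14.15.4 s.14.15.5 s.14.15.6 s.14.15.7 s.14.15.8 s.14.15.9 s.14.15.10 (R.mk s.14.15.11.2 s.14.15.11.1) (R.mk s.14.15.12.2 s.14.15.12.1) s.14.15.13 s.14.15.14 s.14.15.15 s.14.15.16)
  (@T16.mk R (R.mk s.14.16.1.2 s.14.16.1.1) (R.mk s.14.16.2.2 s.14.16.2.1) (R.mk s.14.16.3.2 s.14.16.3.1) (R.mk s.14.16.4.2 s.14.16.4.1) s.14.16.5 s.14.16.6 (R.mk s.14.16.7.2 s.14.16.7.1) (R.mk s.14.16.8.2 s.14.16.8.1) (R.mk s.14.16.9.2 s.14.16.9.1) (R.mk s.14.16.10.2 s.14.16.10.1) (R.mk s.14.16.11.2 s.14.16.11.1) (R.mk s.14.16.12.2 s.14.16.12.1) (R.mk s.14.16.13.2 s.14.16.13.1) (R.mk s.14.16.14.2 s.14.16.14.1) s.14.16.15 s.14.16.16)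
 )
 (@T16.mk (T16 R)
  (@T16.mk R s.15.1.1 s.15.1.2 (R.mk s.15.1.3.2 s.15.1.3.1) (R.mk s.15.1.4.2 s.15.1.4.1) s.15.1.5 s.15.1.6 s.15.1.7 s.15.1.8 (R.mk s.15.1.9.2 s.15.1.9.1) (R.mk s.15.1.10.2 s.15.1.10.1) s.15.1.11 s.15.1.12 s.15.1.13 s.15.1.14 s.15.1.15 s.15.1.16)
  (@T16.mk R s.15.2.1 s.15.2.2 s.15.2.3 s.15.2.4 (R.mk s.15.2.5.2 s.15.2.5.1) (R.mk s.15.2.6.2 s.15.2.6.1) s.15.2.7 s.15.2.8 s.15.2.9 s.15.2.10 s.15.2.11 s.15.2.12 s.15.2.13 s.15.2.14 (R.mk s.15.2.15.2 s.15.2.15.1) (R.mk s.15.2.16.2 s.15.2.16.1))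
  (@T16.mk R (R.mk s.15.3.1.2 s.15.3.1.1) (R.mk s.15.3.2.2 s.15.3.2.1) s.15.3.3 s.15.3.4 (R.mk s.15.3.5.2 s.15.3.5.1) (R.mk s.15.3.6.2 s.15.3.6.1) (R.mk s.15.3.7.2 s.15.3.7.1) (R.mk s.15.3.8.2 s.15.3.8.1) s.15.3.9 s.15.3.10 (R.mk s.15.3.11.2 s.15.3.11.1) (R.mk s.15.3.12.2 s.15.3.12.1) (R.mk s.15.3.13.2 s.15.3.13.1) (R.mk s.15.3.14.2 s.15.3.14.1) (R.mk s.15.3.15.2 s.15.3.15.1) (R.mk s.15.3.16.2 s.15.3.16.1))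
  (@T16.mk R s.15.4.1 s.15.4.2 s.15.4.3 s.15.4.4 s.15.4.5 s.15.4.6 (R.mk s.15.4.7.2 s.15.4.7.1) (R.mk s.15.4.8.2 s.15.4.8.1) s.15.4.9 s.15.4.10 s.15.4.11 s.15.4.12 (R.mk s.15.4.13.2 s.15.4.13.1) (R.mk s.15.4.14.2 s.15.4.14.1) s.15.4.15 s.15.4.16)
  (@T16.mk R (R.mk s.15.5.1.2 s.15.5.1.1) (R.mk s.15.5.2.2 s.15.5.2.1) s.15.5.3 s.15.5.4 s.15.5.5 s.15.5.6 s.15.5.7 s.15.5.8 s.15.5.9 s.15.5.10 (R.mk s.15.5.11.2 s.15.5.11.1) (R.mk s.15.5.12.2 s.15.5.12.1) s.15.5.13 s.15.5.14 s.15.5.15 s.15.5.16)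
  (@T16.mk R (R.mk s.15.6.1.2 s.15.6.1.1) (R.mk s.15.6.2.2 s.15.6.2.1) s.15.6.3 s.15.6.4 s.15.6.5 s.15.6.6 s.15.6.7 s.15.6.8 s.15.6.9 s.15.6.10 (R.mk s.15.6.11.2 s.15.6.11.1) (R.mk s.15.6.12.2 s.15.6.12.1) s.15.6.13 s.15.6.14 s.15.6.15 s.15.6.16)
  (@T16.mk R s.15.7.1 s.15.7.2 s.15.7.3 s.15.7.4 s.15.7.5 s.15.7.6 (R.mk s.15.7.7.2 s.15.7.7.1) (R.mk s.15.7.8.2 s.15.7.8.1) s.15.7.9 s.15.7.10 s.15.7.11 s.15.7.12 (R.mk s.15.7.13.2 s.15.7.13.1) (R.mk s.15.7.14.2 s.15.7.14.1) s.15.7.15 s.15.7.16)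
  (@T16.mk R (R.mk s.15.8.1.2 s.15.8.1.1) (R.mk s.15.8.2.2 s.15.8.2.1) s.15.8.3 s.15.8.4 (R.mk s.15.8.5.2 s.15.8.5.1) (R.mk s.15.8.6.2 s.15.8.6.1) (R.mk s.15.8.7.2 s.15.8.7.1) (R.mk s.15.8.8.2 s.15.8.8.1) s.15.8.9 s.15.8.10 (R.mk s.15.8.11.2 s.15.8.11.1) (R.mk s.15.8.12.2 s.15.8.12.1) (R.mk s.15.8.13.2 s.15.8.13.1) (R.mk s.15.8.14.2 s.15.8.14.1) (R.mk s.15.8.15.2 s.15.8.15.1) (R.mk s.15.8.16.2 s.15.8.16.1))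
  (@T16.mk R s.15.9.1 s.15.9.2 s.15.9.3 s.15.9.4 (R.mk s.15.9.5.2 s.15.9.5.1) (R.mk s.15.9.6.2 s.15.9.6.1) s.15.9.7 s.15.9.8 s.15.9.9 s.15.9.10 s.15.9.11 s.15.9.12 s.15.9.13 s.15.9.14 (R.mk s.15.9.15.2 s.15.9.15.1) (R.mk s.15.9.16.2 s.15.9.16.1))
  (@T16.mk R s.15.10.1 s.15.10.2 (R.mk s.15.10.3.2 s.15.10.3.1) (R.mk s.15.10.4.2 s.15.10.4.1) s.15.10.5 s.15.10.6 s.15.10.7 s.15.10.8 (R.mk s.15.10.9.2 s.15.10.9.1) (R.mk s.15.10.10.2 s.15.10.10.1) s.15.10.11 s.15.10.12 s.15.10.13 s.15.10.14 s.15.10.15 s.15.10.16)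
  (@T16.mk R (R.mk s.15.11.1.2 s.15.11.1.1) (R.mk s.15.11.2.2 s.15.11.2.1) (R.mk s.15.11.3.2 s.15.11.3.1) (R.mk s.15.11.4.2 s.15.11.4.1) s.15.11.5 s.15.11.6 (R.mk s.15.11.7.2 s.15.11.7.1) (R.mk s.15.11.8.2 s.15.11.8.1) (R.mk s.15.11.9.2 s.15.11.9.1) (R.mk s.15.11.10.2 s.15.11.10.1) (R.mk s.15.11.11.2 s.15.11.11.1) (R.mk s.15.11.12.2 s.15.11.12.1) (R.mk s.15.11.13.2 s.15.11.13.1) (R.mk s.15.11.14.2 s.15.11.14.1) s.15.11.15 s.15.11.16)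
  (@T16.mk R (R.mk s.15.12.1.2 s.15.12.1.1) (R.mk s.15.12.2.2 s.15.12.2.1) s.15.12.3 s.15.12.4 s.15.12.5 s.15.12.6 s.15.12.7 s.15.12.8 s.15.12.9 s.15.12.10 (R.mk s.15.12.11.2 s.15.12.11.1) (R.mk s.15.12.12.2 s.15.12.12.1) s.15.12.13 s.15.12.14 s.15.12.15 s.15.12.16)
  (@T16.mk R s.15.13.1 s.15.13.2 s.15.13.3 s.15.13.4 s.15.13.5 s.15.13.6 (R.mk s.15.13.7.2 s.15.13.7.1) (R.mk s.15.13.8.2 s.15.13.8.1) s.15.13.9 s.15.13.10 s.15.13.11 s.15.13.12 (R.mk s.15.13.13.2 s.15.13.13.1) (R.mk s.15.13.14.2 s.15.13.14.1) s.15.13.15 s.15.13.16)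
  (@T16.mk R s.15.14.1 s.15.14.2 (R.mk s.15.14.3.2 s.15.14.3.1) (R.mk s.15.14.4.2 s.15.14.4.1) (R.mk s.15.14.5.2 s.15.14.5.1) (R.mk s.15.14.6.2 s.15.14.6.1) (R.mk s.15.14.7.2 s.15.14.7.1) (R.mk s.15.14.8.2 s.15.14.8.1) (R.mk s.15.14.9.2 s.15.14.9.1) (R.mk s.15.14.10.2 s.15.14.10.1) s.15.14.11 s.15.14.12 (R.mk s.15.14.13.2 s.15.14.13.1) (R.mk s.15.14.14.2 s.15.14.14.1) (R.mk s.15.14.15.2 s.15.14.15.1) (R.mk s.15.14.16.2 s.15.14.16.1))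
  (@T16.mk R (R.mk s.15.15.1.2 s.15.15.1.1) (R.mk s.15.15.2.2 s.15.15.2.1) (R.mk s.15.15.3.2 s.15.15.3.1) (R.mk s.15.15.4.2 s.15.15.4.1) (R.mk s.15.15.5.2 s.15.15.5.1) (R.mk s.15.15.6.2 s.15.15.6.1) s.15.15.7 s.15.15.8 (R.mk s.15.15.9.2 s.15.15.9.1) (R.mk s.15.15.10.2 s.15.15.10.1) (R.mk s.15.15.11.2 s.15.15.11.1) (R.mk s.15.15.12.2 s.15.15.12.1) s.15.15.13 s.15.15.14 (R.mk s.15.15.15.2 s.15.15.15.1) (R.mk s.15.15.16.2 s.15.15.16.1))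
  (@T16.mk R (R.mk s.15.16.1.2 s.15.16.1.1) (R.mk s.15.16.2.2 s.15.16.2.1) s.15.16.3 s.15.16.4 (R.mk s.15.16.5.2 s.15.16.5.1) (R.mk s.15.16.6.2 s.15.16.6.1) (R.mk s.15.16.7.2 s.15.16.7.1) (R.mk s.15.16.8.2 s.15.16.8.1) s.15.16.9 s.15.16.10 (R.mk s.15.16.11.2 s.15.16.11.1) (R.mk s.15.16.12.2 s.15.16.12.1) (R.mk s.15.16.13.2 s.15.16.13.1) (R.mk s.15.16.14.2 s.15.16.14.1) (R.mk s.15.16.15.2 s.15.16.15.1) (R.mk s.15.16.16.2 s.15.16.16.1))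
 )
 (@T16.mk (T16 R)
  (@T16.mk R s.16.1.1 s.16.1.2 s.16.1.3 s.16.1.4 (R.mk s.16.1.5.2 s.16.1.5.1) (R.mk s.16.1.6.2 s.16.1.6.1) s.16.1.7 s.16.1.8 s.16.1.9 s.16.1.10 s.16.1.11 s.16.1.12 s.16.1.13 s.16.1.14 (R.mk s.16.1.15.2 s.16.1.15.1) (R.mk s.16.1.16.2 s.16.1.16.1))
  (@T16.mk R (R.mk s.16.2.1.2 s.16.2.1.1) (R.mk s.16.2.2.2 s.16.2.2.1) s.16.2.3 s.16.2.4 (R.mk s.16.2.5.2 s.16.2.5.1) (R.mk s.16.2.6.2 s.16.2.6.1) (R.mk s.16.2.7.2 s.16.2.7.1) (R.mk s.16.2.8.2 s.16.2.8.1) s.16.2.9 s.16.2.10 (R.mk s.16.2.11.2 s.16.2.11.1) (R.mk s.16.2.12.2 s.16.2.12.1) (R.mk s.16.2.13.2 s.16.2.13.1) (R.mk s.16.2.14.2 s.16.2.14.1) (R.mk s.16.2.15.2 s.16.2.15.1) (R.mk s.16.2.16.2 s.16.2.16.1))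
  (@T16.mk R s.16.3.1 s.16.3.2 s.16.3.3 s.16.3.4 (R.mk s.16.3.5.2 s.16.3.5.1) (R.mk s.16.3.6.2 s.16.3.6.1) s.16.3.7 s.16.3.8 s.16.3.9 s.16.3.10 s.16.3.11 s.16.3.12 s.16.3.13 s.16.3.14 (R.mk s.16.3.15.2 s.16.3.15.1) (R.mk s.16.3.16.2 s.16.3.16.1))
  (@T16.mk R (R.mk s.16.4.1.2 s.16.4.1.1) (R.mk s.16.4.2.2 s.16.4.2.1) s.16.4.3 s.16.4.4 s.16.4.5 s.16.4.6 s.16.4.7 s.16.4.8 s.16.4.9 s.16.4.10 (R.mk s.16.4.11.2 s.16.4.11.1) (R.mk s.16.4.12.2 s.16.4.12.1) s.16.4.13 s.16.4.14 s.16.4.15 s.16.4.16)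
  (@T16.mk R s.16.5.1 s.16.5.2 s.16.5.3 s.16.5.4 s.16.5.5 s.16.5.6 (R.mk s.16.5.7.2 s.16.5.7.1) (R.mk s.16.5.8.2 s.16.5.8.1) s.16.5.9 s.16.5.10 s.16.5.11 s.16.5.12 (R.mk s.16.5.13.2 s.16.5.13.1) (R.mk s.16.5.14.2 s.16.5.14.1) s.16.5.15 s.16.5.16)
  (@T16.mk R (R.mk s.16.6.1.2 s.16.6.1.1) (R.mk s.16.6.2.2 s.16.6.2.1) (R.mk s.16.6.3.2 s.16.6.3.1) (R.mk s.16.6.4.2 s.16.6.4.1) (R.mk s.16.6.5.2 s.16.6.5.1) (R.mk s.16.6.6.2 s.16.6.6.1) s.16.6.7 s.16.6.8 (R.mk s.16.6.9.2 s.16.6.9.1) (R.mk s.16.6.10.2 s.16.6.10.1) (R.mk s.16.6.11.2 s.16.6.11.1) (R.mk s.16.6.12.2 s.16.6.12.1) s.16.6.13 s.16.6.14 (R.mk s.16.6.15.2 s.16.6.15.1) (R.mk s.16.6.16.2 s.16.6.16.1))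
  (@T16.mk R s.16.7.1 s.16.7.2 (R.mk s.16.7.3.2 s.16.7.3.1) (R.mk s.16.7.4.2 s.16.7.4.1) (R.mk s.16.7.5.2 s.16.7.5.1) (R.mk s.16.7.6.2 s.16.7.6.1) (R.mk s.16.7.7.2 s.16.7.7.1) (R.mk s.16.7.8.2 s.16.7.8.1) (R.mk s.16.7.9.2 s.16.7.9.1) (R.mk s.16.7.10.2 s.16.7.10.1) s.16.7.11 s.16.7.12 (R.mk s.16.7.13.2 s.16.7.13.1) (R.mk s.16.7.14.2 s.16.7.14.1) (R.mk s.16.7.15.2 s.16.7.15.1) (R.mk s.16.7.16.2 s.16.7.16.1))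
  (@T16.mk R (R.mk s.16.8.1.2 s.16.8.1.1) (R.mk s.16.8.2.2 s.16.8.2.1) (R.mk s.16.8.3.2 s.16.8.3.1) (R.mk s.16.8.4.2 s.16.8.4.1) s.16.8.5 s.16.8.6 (R.mk s.16.8.7.2 s.16.8.7.1) (R.mk s.16.8.8.2 s.16.8.8.1) (R.mk s.16.8.9.2 s.16.8.9.1) (R.mk s.16.8.10.2 s.16.8.10.1) (R.mk s.16.8.11.2 s.16.8.11.1) (R.mk s.16.8.12.2 s.16.8.12.1) (R.mk s.16.8.13.2 s.16.8.13.1) (R.mk s.16.8.14.2 s.16.8.14.1) s.16.8.15 s.16.8.16)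
  (@T16.mk R s.16.9.1 s.16.9.2 (R.mk s.16.9.3.2 s.16.9.3.1) (R.mk s.16.9.4.2 s.16.9.4.1) s.16.9.5 s.16.9.6 s.16.9.7 s.16.9.8 (R.mk s.16.9.9.2 s.16.9.9.1) (R.mk s.16.9.10.2 s.16.9.10.1) s.16.9.11 s.16.9.12 s.16.9.13 s.16.9.14 s.16.9.15 s.16.9.16)
  (@T16.mk R (R.mk s.16.10.1.2 s.16.10.1.1) (R.mk s.16.10.2.2 s.16.10.2.1) (R.mk s.16.10.3.2 s.16.10.3.1) (R.mk s.16.10.4.2 s.16.10.4.1) s.16.10.5 s.16.10.6 (R.mk s.16.10.7.2 s.16.10.7.1) (R.mk s.16.10.8.2 s.16.10.8.1) (R.mk s.16.10.9.2 s.16.10.9.1) (R.mk s.16.10.10.2 s.16.10.10.1) (R.mk s.16.10.11.2 s.16.10.11.1) (R.mk s.16.10.12.2 s.16.10.12.1) (R.mk s.16.10.13.2 s.16.10.13.1) (R.mk s.16.10.14.2 s.16.10.14.1) s.16.10.15 s.16.10.16)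
  (@T16.mk R s.16.11.1 s.16.11.2 (R.mk s.16.11.3.2 s.16.11.3.1) (R.mk s.16.11.4.2 s.16.11.4.1) s.16.11.5 s.16.11.6 s.16.11.7 s.16.11.8 (R.mk s.16.11.9.2 s.16.11.9.1) (R.mk s.16.11.10.2 s.16.11.10.1) s.16.11.11 s.16.11.12 s.16.11.13 s.16.11.14 s.16.11.15 s.16.11.16)
  (@T16.mk R s.16.12.1 s.16.12.2 s.16.12.3 s.16.12.4 s.16.12.5 s.16.12.6 (R.mk s.16.12.7.2 s.16.12.7.1) (R.mk s.16.12.8.2 s.16.12.8.1) s.16.12.9 s.16.12.10 s.16.12.11 s.16.12.12 (R.mk s.16.12.13.2 s.16.12.13.1) (R.mk s.16.12.14.2 s.16.12.14.1) s.16.12.15 s.16.12.16)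
  (@T16.mk R (R.mk s.16.13.1.2 s.16.13.1.1) (R.mk s.16.13.2.2 s.16.13.2.1) s.16.13.3 s.16.13.4 s.16.13.5 s.16.13.6 s.16.13.7 s.16.13.8 s.16.13.9 s.16.13.10 (R.mk s.16.13.11.2 s.16.13.11.1) (R.mk s.16.13.12.2 s.16.13.12.1) s.16.13.13 s.16.13.14 s.16.13.15 s.16.13.16)
  (@T16.mk R (R.mk s.16.14.1.2 s.16.14.1.1) (R.mk s.16.14.2.2 s.16.14.2.1) (R.mk s.16.14.3.2 s.16.14.3.1) (R.mk s.16.14.4.2 s.16.14.4.1) (R.mk s.16.14.5.2 s.16.14.5.1) (R.mk s.16.14.6.2 s.16.14.6.1) s.16.14.7 s.16.14.8 (R.mk s.16.14.9.2 s.16.14.9.1) (R.mk s.16.14.10.2 s.16.14.10.1) (R.mk s.16.14.11.2 s.16.14.11.1) (R.mk s.16.14.12.2 s.16.14.12.1) s.16.14.13 s.16.14.14 (R.mk s.16.14.15.2 s.16.14.15.1) (R.mk s.16.14.16.2 s.16.14.16.1))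
  (@T16.mk R (R.mk s.16.15.1.2 s.16.15.1.1) (R.mk s.16.15.2.2 s.16.15.2.1) s.16.15.3 s.16.15.4 s.16.15.5 s.16.15.6 s.16.15.7 s.16.15.8 s.16.15.9 s.16.15.10 (R.mk s.16.15.11.2 s.16.15.11.1) (R.mk s.16.15.12.2 s.16.15.12.1) s.16.15.13 s.16.15.14 s.16.15.15 s.16.15.16)
  (@T16.mk R s.16.16.1 s.16.16.2 s.16.16.3 s.16.16.4 (R.mk s.16.16.5.2 s.16.16.5.1) (R.mk s.16.16.6.2 s.16.16.6.1) s.16.16.7 s.16.16.8 s.16.16.9 s.16.16.10 s.16.16.11 s.16.16.12 s.16.16.13 s.16.16.14 (R.mk s.16.16.15.2 s.16.16.15.1) (R.mk s.16.16.16.2 s.16.16.16.1))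
 )
 (@T16.mk (T16 R)
  (@T16.mk R s.17.1.1 s.17.1.2 (R.mk s.17.1.3.2 s.17.1.3.1) (R.mk s.17.1.4.2 s.17.1.4.1) s.17.1.5 s.17.1.6 s.17.1.7 s.17.1.8 (R.mk s.17.1.9.2 s.17.1.9.1) (R.mk s.17.1.10.2 s.17.1.10.1) s.17.1.11 s.17.1.12 s.17.1.13 s.17.1.14 s.17.1.15 s.17.1.16)
  (@T16.mk R s.17.2.1 s.17.2.2 s.17.2.3 s.17.2.4 (R.mk s.17.2.5.2 s.17.2.5.1) (R.mk s.17.2.6.2 s.17.2.6.1) s.17.2.7 s.17.2.8 s.17.2.9 s.17.2.10 s.17.2.11 s.17.2.12 s.17.2.13 s.17.2.14 (R.mk s.17.2.15.2 s.17.2.15.1) (R.mk s.17.2.16.2 s.17.2.16.1))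
  (@T16.mk R s.17.3.1 s.17.3.2 (R.mk s.17.3.3.2 s.17.3.3.1) (R.mk s.17.3.4.2 s.17.3.4.1) s.17.3.5 s.17.3.6 s.17.3.7 s.17.3.8 (R.mk s.17.3.9.2 s.17.3.9.1) (R.mk s.17.3.10.2 s.17.3.10.1) s.17.3.11 s.17.3.12 s.17.3.13 s.17.3.14 s.17.3.15 s.17.3.16)
  (@T16.mk R s.17.4.1 s.17.4.2 s.17.4.3 s.17.4.4 s.17.4.5 s.17.4.6 (R.mk s.17.4.7.2 s.17.4.7.1) (R.mk s.17.4.8.2 s.17.4.8.1) s.17.4.9 s.17.4.10 s.17.4.11 s.17.4.12 (R.mk s.17.4.13.2 s.17.4.13.1) (R.mk s.17.4.14.2 s.17.4.14.1) s.17.4.15 s.17.4.16)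
  (@T16.mk R s.17.5.1 s.17.5.2 (R.mk s.17.5.3.2 s.17.5.3.1) (R.mk s.17.5.4.2 s.17.5.4.1) (R.mk s.17.5.5.2 s.17.5.5.1) (R.mk s.17.5.6.2 s.17.5.6.1) (R.mk s.17.5.7.2 s.17.5.7.1) (R.mk s.17.5.8.2 s.17.5.8.1) (R.mk s.17.5.9.2 s.17.5.9.1) (R.mk s.17.5.10.2 s.17.5.10.1) s.17.5.11 s.17.5.12 (R.mk s.17.5.13.2 s.17.5.13.1) (R.mk s.17.5.14.2 s.17.5.14.1) (R.mk s.17.5.15.2 s.17.5.15.1) (R.mk s.17.5.16.2 s.17.5.16.1))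
  (@T16.mk R s.17.6.1 s.17.6.2 (R.mk s.17.6.3.2 s.17.6.3.1) (R.mk s.17.6.4.2 s.17.6.4.1) (R.mk s.17.6.5.2 s.17.6.5.1) (R.mk s.17.6.6.2 s.17.6.6.1) (R.mk s.17.6.7.2 s.17.6.7.1) (R.mk s.17.6.8.2 s.17.6.8.1) (R.mk s.17.6.9.2 s.17.6.9.1) (R.mk s.17.6.10.2 s.17.6.10.1) s.17.6.11 s.17.6.12 (R.mk s.17.6.13.2 s.17.6.13.1) (R.mk s.17.6.14.2 s.17.6.14.1) (R.mk s.17.6.15.2 s.17.6.15.1) (R.mk s.17.6.16.2 s.17.6.16.1))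
  (@T16.mk R s.17.7.1 s.17.7.2 s.17.7.3 s.17.7.4 s.17.7.5 s.17.7.6 (R.mk s.17.7.7.2 s.17.7.7.1) (R.mk s.17.7.8.2 s.17.7.8.1) s.17.7.9 s.17.7.10 s.17.7.11 s.17.7.12 (R.mk s.17.7.13.2 s.17.7.13.1) (R.mk s.17.7.14.2 s.17.7.14.1) s.17.7.15 s.17.7.16)
  (@T16.mk R s.17.8.1 s.17.8.2 (R.mk s.17.8.3.2 s.17.8.3.1) (R.mk s.17.8.4.2 s.17.8.4.1) s.17.8.5 s.17.8.6 s.17.8.7 s.17.8.8 (R.mk s.17.8.9.2 s.17.8.9.1) (R.mk s.17.8.10.2 s.17.8.10.1) s.17.8.11 s.17.8.12 s.17.8.13 s.17.8.14 s.17.8.15 s.17.8.16)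
  (@T16.mk R s.17.9.1 s.17.9.2 s.17.9.3 s.17.9.4 (R.mk s.17.9.5.2 s.17.9.5.1) (R.mk s.17.9.6.2 s.17.9.6.1) s.17.9.7 s.17.9.8 s.17.9.9 s.17.9.10 s.17.9.11 s.17.9.12 s.17.9.13 s.17.9.14 (R.mk s.17.9.15.2 s.17.9.15.1) (R.mk s.17.9.16.2 s.17.9.16.1))
  (@T16.mk R s.17.10.1 s.17.10.2 (R.mk s.17.10.3.2 s.17.10.3.1) (R.mk s.17.10.4.2 s.17.10.4.1) s.17.10.5 s.17.10.6 s.17.10.7 s.17.10.8 (R.mk s.17.10.9.2 s.17.10.9.1) (R.mk s.17.10.10.2 s.17.10.10.1) s.17.10.11 s.17.10.12 s.17.10.13 s.17.10.14 s.17.10.15 s.17.10.16)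
  (@T16.mk R s.17.11.1 s.17.11.2 s.17.11.3 s.17.11.4 (R.mk s.17.11.5.2 s.17.11.5.1) (R.mk s.17.11.6.2 s.17.11.6.1) s.17.11.7 s.17.11.8 s.17.11.9 s.17.11.10 s.17.11.11 s.17.11.12 s.17.11.13 s.17.11.14 (R.mk s.17.11.15.2 s.17.11.15.1) (R.mk s.17.11.16.2 s.17.11.16.1))
  (@T16.mk R (R.mk s.17.12.1.2 s.17.12.1.1) (R.mk s.17.12.2.2 s.17.12.2.1) s.17.12.3 s.17.12.4 s.17.12.5 s.17.12.6 s.17.12.7 s.17.12.8 s.17.12.9 s.17.12.10 (R.mk s.17.12.11.2 s.17.12.11.1) (R.mk s.17.12.12.2 s.17.12.12.1) s.17.12.13 s.17.12.14 s.17.12.15 s.17.12.16)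
  (@T16.mk R (R.mk s.17.13.1.2 s.17.13.1.1) (R.mk s.17.13.2.2 s.17.13.2.1) (R.mk s.17.13.3.2 s.17.13.3.1) (R.mk s.17.13.4.2 s.17.13.4.1) (R.mk s.17.13.5.2 s.17.13.5.1) (R.mk s.17.13.6.2 s.17.13.6.1) s.17.13.7 s.17.13.8 (R.mk s.17.13.9.2 s.17.13.9.1) (R.mk s.17.13.10.2 s.17.13.10.1) (R.mk s.17.13.11.2 s.17.13.11.1) (R.mk s.17.13.12.2 s.17.13.12.1) s.17.13.13 s.17.13.14 (R.mk s.17.13.15.2 s.17.13.15.1) (R.mk s.17.13.16.2 s.17.13.16.1))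
  (@T16.mk R s.17.14.1 s.17.14.2 s.17.14.3 s.17.14.4 s.17.14.5 s.17.14.6 s.17.14.7 s.17.14.8 s.17.14.9 s.17.14.10 s.17.14.11 s.17.14.12 s.17.14.13 s.17.14.14 s.17.14.15 s.17.14.16)
  (@T16.mk R s.17.15.1 s.17.15.2 s.17.15.3 s.17.15.4 s.17.15.5 s.17.15.6 s.17.15.7 s.17.15.8 s.17.15.9 s.17.15.10 (R.mk s.17.15.11.2 s.17.15.11.1) s.17.15.12 (R.mk s.17.15.13.2 s.17.15.13.1) s.17.15.14 (R.mk s.17.15.15.2 s.17.15.15.1) s.17.15.16)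
  (@T16.mk R (R.mk s.17.16.1.2 s.17.16.1.1) (R.mk s.17.16.2.2 s.17.16.2.1) s.17.16.3 (R.mk s.17.16.4.2 s.17.16.4.1) s.17.16.5 s.17.16.6 s.17.16.7 s.17.16.8 s.17.16.9 (R.mk s.17.16.10.2 s.17.16.10.1) (R.mk s.17.16.11.2 s.17.16.11.1) s.17.16.12 s.17.16.13 s.17.16.14 s.17.16.15 s.17.16.16)
 )
 (@T16.mk (T16 R)
  (@T16.mk R (R.mk s.18.1.1.2 s.18.1.1.1) s.18.1.2 (R.mk s.18.1.3.2 s.18.1.3.1) s.18.1.4 (R.mk s.18.1.5.2 s.18.1.5.1) s.18.1.6 (R.mk s.18.1.7.2 s.18.1.7.1) (R.mk s.18.1.8.2 s.18.1.8.1) s.18.1.9 (R.mk s.18.1.10.2 s.18.1.10.1) s.18.1.11 s.18.1.12 s.18.1.13 s.18.1.14 s.18.1.15 (R.mk s.18.1.16.2 s.18.1.16.1))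
  (@T16.mk R (R.mk s.18.2.1.2 s.18.2.1.1) s.18.2.2 s.18.2.3 s.18.2.4 s.18.2.5 s.18.2.6 s.18.2.7 s.18.2.8 s.18.2.9 s.18.2.10 s.18.2.11 s.18.2.12 s.18.2.13 s.18.2.14 s.18.2.15 s.18.2.16)
  (@T16.mk R s.18.3.1 s.18.3.2 s.18.3.3 s.18.3.4 s.18.3.5 s.18.3.6 s.18.3.7 s.18.3.8 s.18.3.9 s.18.3.10 s.18.3.11 s.18.3.12 s.18.3.13 s.18.3.14 s.18.3.15 s.18.3.16)
  (@T16.mk R s.18.4.1 s.18.4.2 s.18.4.3 s.18.4.4 s.18.4.5 s.18.4.6 s.18.4.7 s.18.4.8 s.18.4.9 s.18.4.10 s.18.4.11 s.18.4.12 s.18.4.13 s.18.4.14 s.18.4.15 s.18.4.16)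
  (@T16.mk R s.18.5.1 s.18.5.2 s.18.5.3 s.18.5.4 s.18.5.5 s.18.5.6 s.18.5.7 s.18.5.8 s.18.5.9 s.18.5.10 s.18.5.11 s.18.5.12 s.18.5.13 s.18.5.14 s.18.5.15 s.18.5.16)
  (@T16.mk R s.18.6.1 s.18.6.2 s.18.6.3 s.18.6.4 s.18.6.5 s.18.6.6 s.18.6.7 s.18.6.8 s.18.6.9 s.18.6.10 s.18.6.11 s.18.6.12 s.18.6.13 s.18.6.14 s.18.6.15 s.18.6.16)
  (@T16.mk R s.18.7.1 s.18.7.2 s.18.7.3 s.18.7.4 s.18.7.5 s.18.7.6 s.18.7.7 s.18.7.8 s.18.7.9 s.18.7.10 s.18.7.11 s.18.7.12 s.18.7.13 s.18.7.14 s.18.7.15 s.18.7.16)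
  (@T16.mk R s.18.8.1 s.18.8.2 s.18.8.3 s.18.8.4 s.18.8.5 s.18.8.6 s.18.8.7 s.18.8.8 s.18.8.9 s.18.8.10 s.18.8.11 s.18.8.12 s.18.8.13 s.18.8.14 s.18.8.15 s.18.8.16)
  (@T16.mk R s.18.9.1 s.18.9.2 s.18.9.3 s.18.9.4 s.18.9.5 s.18.9.6 s.18.9.7 s.18.9.8 s.18.9.9 s.18.9.10 s.18.9.11 s.18.9.12 s.18.9.13 s.18.9.14 s.18.9.15 s.18.9.16)
  (@T16.mk R s.18.10.1 s.18.10.2 s.18.10.3 s.18.10.4 s.18.10.5 s.18.10.6 s.18.10.7 s.18.10.8 s.18.10.9 s.18.10.10 s.18.10.11 s.18.10.12 s.18.10.13 s.18.10.14 s.18.10.15 s.18.10.16)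
  (@T16.mk R s.18.11.1 s.18.11.2 s.18.11.3 s.18.11.4 s.18.11.5 s.18.11.6 s.18.11.7 s.18.11.8 s.18.11.9 s.18.11.10 s.18.11.11 s.18.11.12 s.18.11.13 s.18.11.14 s.18.11.15 s.18.11.16)
  (@T16.mk R s.18.12.1 s.18.12.2 s.18.12.3 s.18.12.4 s.18.12.5 s.18.12.6 s.18.12.7 s.18.12.8 s.18.12.9 s.18.12.10 s.18.12.11 s.18.12.12 s.18.12.13 s.18.12.14 s.18.12.15 s.18.12.16)
  (@T16.mk R s.18.13.1 s.18.13.2 s.18.13.3 s.18.13.4 s.18.13.5 s.18.13.6 s.18.13.7 s.18.13.8 s.18.13.9 s.18.13.10 s.18.13.11 s.18.13.12 s.18.13.13 s.18.13.14 s.18.13.15 s.18.13.16)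
  (@T16.mk R s.18.14.1 s.18.14.2 s.18.14.3 s.18.14.4 s.18.14.5 s.18.14.6 s.18.14.7 s.18.14.8 s.18.14.9 s.18.14.10 s.18.14.11 s.18.14.12 s.18.14.13 s.18.14.14 s.18.14.15 s.18.14.16)
  (@T16.mk R s.18.15.1 s.18.15.2 s.18.15.3 s.18.15.4 s.18.15.5 s.18.15.6 s.18.15.7 s.18.15.8 s.18.15.9 s.18.15.10 s.18.15.11 s.18.15.12 s.18.15.13 s.18.15.14 s.18.15.15 s.18.15.16)
  (@T16.mk R s.18.16.1 s.18.16.2 s.18.16.3 s.18.16.4 s.18.16.5 s.18.16.6 s.18.16.7 s.18.16.8 s.18.16.9 s.18.16.10 s.18.16.11 s.18.16.12 s.18.16.13 s.18.16.14 s.18.16.15 s.18.16.16)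
 )
theorem cd22_eq (s : St) : cd22 s = gather tb22 s := by rfl
noncomputable def tb23 : Tab :=
@T18.mk (T16 (T16 E))
 (@T16.mk (T16 E)
  (@T16.mk E (p j0 i0 i0) (p j0 i0 i1) (p j0 i0 i2) (p j0 i0 i3) (p j0 i0 i4) (p j0 i0 i5) (p j0 i0 i6) (p j0 i0 i7) (p j0 i0 i8) (p j0 i0 i9) (p j0 i0 i10) (p j0 i0 i11) (p j0 i0 i12) (p j0 i0 i13) (p j0 i0 i14) (p j0 i0 i15))
  (@T16.mk E (n j0 i1 i0) (n j0 i1 i1) (n j0 i1 i2) (n j0 i1 i3) (n j0 i1 i4) (n j0 i1 i5) (n j0 i1 i6) (n j0 i1 i7) (n j0 i1 i8) (n j0 i1 i9) (n j0 i1 i10) (n j0 i1 i11) (n j0 i1 i12) (n j0 i1 i13) (n j0 i1 i14) (n j0 i1 i15))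
  (@T16.mk E (n j0 i2 i0) (p j0 i2 i1) (n j0 i2 i2) (p j0 i2 i3) (n j0 i2 i4) (p j0 i2 i5) (n j0 i2 i6) (p j0 i2 i7) (p j0 i2 i8) (n j0 i2 i9) (p j0 i2 i10) (n j0 i2 i11) (p j0 i2 i12) (n j0 i2 i13) (p j0 i2 i14) (n j0 i2 i15))
  (@T16.mk E (n j0 i3 i0) (p j0 i3 i1) (n j0 i3 i2) (p j0 i3 i3) (n j0 i3 i4) (p j0 i3 i5) (n j0 i3 i6) (p j0 i3 i7) (p j0 i3 i8) (n j0 i3 i9) (p j0 i3 i10) (n j0 i3 i11) (p j0 i3 i12) (n j0 i3 i13) (p j0 i3 i14) (n j0 i3 i15))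
  (@T16.mk E (p j0 i4 i0) (p j0 i4 i1) (p j0 i4 i2) (p j0 i4 i3) (p j0 i4 i4) (p j0 i4 i5) (p j0 i4 i6) (p j0 i4 i7) (p j0 i4 i8) (p j0 i4 i9) (p j0 i4 i10) (p j0 i4 i11) (p j0 i4 i12) (p j0 i4 i13) (p j0 i4 i14) (p j0 i4 i15))
  (@T16.mk E (p j0 i5 i0) (p j0 i5 i1) (p j0 i5 i2) (p j0 i5 i3) (p j0 i5 i4) (p j0 i5 i5) (p j0 i5 i6) (p j0 i5 i7) (p j0 i5 i8) (p j0 i5 i9) (p j0 i5 i10) (p j0 i5 i11) (p j0 i5 i12) (p j0 i5 i13) (p j0 i5 i14) (p j0 i5 i15))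
  (@T16.mk E (p j0 i6 i0) (n j0 i6 i1) (p j0 i6 i2) (n j0 i6 i3) (p j0 i6 i4) (n j0 i6 i5) (p j0 i6 i6) (n j0 i6 i7) (n j0 i6 i8) (p j0 i6 i9) (n j0 i6 i10) (p j0 i6 i11) (n j0 i6 i12) (p j0 i6 i13) (n j0 i6 i14) (p j0 i6 i15))
  (@T16.mk E (n j0 i7 i0) (p j0 i7 i1) (n j0 i7 i2) (p j0 i7 i3) (n j0 i7 i4) (p j0 i7 i5) (n j0 i7 i6) (p j0 i7 i7) (p j0 i7 i8) (n j0 i7 i9) (p j0 i7 i10) (n j0 i7 i11) (p j0 i7 i12) (n j0 i7 i13) (p j0 i7 i14) (n j0 i7 i15))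
  (@T16.mk E (n j0 i8 i0) (n j0 i8 i1) (n j0 i8 i2) (n j0 i8 i3) (n j0 i8 i4) (n j0 i8 i5) (n j0 i8 i6) (n j0 i8 i7) (n j0 i8 i8) (n j0 i8 i9) (n j0 i8 i10) (n j0 i8 i11) (n j0 i8 i12) (n j0 i8 i13) (n j0 i8 i14) (n j0 i8 i15))
  (@T16.mk E (p j0 i9 i0) (p j0 i9 i1) (p j0 i9 i2) (p j0 i9 i3) (p j0 i9 i4) (p j0 i9 i5) (p j0 i9 i6) (p j0 i9 i7) (p j0 i9 i8) (p j0 i9 i9) (p j0 i9 i10) (p j0 i9 i11) (p j0 i9 i12) (p j0 i9 i13) (p j0 i9 i14) (p j0 i9 i15))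
  (@T16.mk E (n j0 i10 i0) (p j0 i10 i1) (n j0 i10 i2) (p j0 i10 i3) (n j0 i10 i4) (p j0 i10 i5) (n j0 i10 i6) (p j0 i10 i7) (p j0 i10 i8) (n j0 i10 i9) (p j0 i10 i10) (n j0 i10 i11) (p j0 i10 i12) (n j0 i10 i13) (p j0 i10 i14) (n j0 i10 i15))
  (@T16.mk E (n j0 i11 i0) (p j0 i11 i1) (n j0 i11 i2) (p j0 i11 i3) (n j0 i11 i4) (p j0 i11 i5) (n j0 i11 i6) (p j0 i11 i7) (p j0 i11 i8) (n j0 i11 i9) (p j0 i11 i10) (n j0 i11 i11) (p j0 i11 i12) (n j0 i11 i13) (p j0 i11 i14) (n j0 i11 i15))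
  (@T16.mk E (p j0 i12 i0) (p j0 i12 i1) (p j0 i12 i2) (p j0 i12 i3) (p j0 i12 i4) (p j0 i12 i5) (p j0 i12 i6) (p j0 i12 i7) (p j0 i12 i8) (p j0 i12 i9) (p j0 i12 i10) (p j0 i12 i11) (p j0 i12 i12) (p j0 i12 i13) (p j0 i12 i14) (p j0 i12 i15))
  (@T16.mk E (p j0 i13 i0) (p j0 i13 i1) (p j0 i13 i2) (p j0 i13 i3) (p j0 i13 i4) (p j0 i13 i5) (p j0 i13 i6) (p j0 i13 i7) (p j0 i13 i8) (p j0 i13 i9) (p j0 i13 i10) (p j0 i13 i11) (p j0 i13 i12) (p j0 i13 i13) (p j0 i13 i14) (p j0 i13 i15))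
  (@T16.mk E (n j0 i14 i0) (p j0 i14 i1) (n j0 i14 i2) (p j0 i14 i3) (n j0 i14 i4) (p j0 i14 i5) (n j0 i14 i6) (p j0 i14 i7) (p j0 i14 i8) (n j0 i14 i9) (p j0 i14 i10) (n j0 i14 i11) (p j0 i14 i12) (n j0 i14 i13) (p j0 i14 i14) (n j0 i14 i15))
  (@T16.mk E (p j0 i15 i0) (n j0 i15 i1) (p j0 i15 i2) (n j0 i15 i3) (p j0 i15 i4) (n j0 i15 i5) (p j0 i15 i6) (n j0 i15 i7) (n j0 i15 i8) (p j0 i15 i9) (n j0 i15 i10) (p j0 i15 i11) (n j0 i15 i12) (p j0 i15 i13) (n j0 i15 i14) (p j0 i15 i15))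
 )
 (@T16.mk (T16 E)
  (@T16.mk E (p j1 i0 i0) (p j1 i0 i1) (p j1 i0 i2) (p j1 i0 i3) (p j1 i0 i4) (p j1 i0 i5) (p j1 i0 i6) (p j1 i0 i7) (p j1 i0 i8) (p j1 i0 i9) (p j1 i0 i10) (p j1 i0 i11) (p j1 i0 i12) (p j1 i0 i13) (p j1 i0 i14) (p j1 i0 i15))
  (@T16.mk E (n j1 i1 i0) (n j1 i1 i1) (n j1 i1 i2) (n j1 i1 i3) (n j1 i1 i4) (n j1 i1 i5) (n j1 i1 i6) (n j1 i1 i7) (n j1 i1 i8) (n j1 i1 i9) (n j1 i1 i10) (n j1 i1 i11) (n j1 i1 i12) (n j1 i1 i13) (n j1 i1 i14) (n j1 i1 i15))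
  (@T16.mk E (n j1 i2 i0) (p j1 i2 i1) (n j1 i2 i2) (p j1 i2 i3) (n j1 i2 i4) (p j1 i2 i5) (n j1 i2 i6) (p j1 i2 i7) (p j1 i2 i8) (n j1 i2 i9) (p j1 i2 i10) (n j1 i2 i11) (p j1 i2 i12) (n j1 i2 i13) (p j1 i2 i14) (n j1 i2 i15))
  (@T16.mk E (n j1 i3 i0) (p j1 i3 i1) (n j1 i3 i2) (p j1 i3 i3) (n j1 i3 i4) (p j1 i3 i5) (n j1 i3 i6) (p j1 i3 i7) (p j1 i3 i8) (n j1 i3 i9) (p j1 i3 i10) (n j1 i3 i11) (p j1 i3 i12) (n j1 i3 i13) (p j1 i3 i14) (n j1 i3 i15))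
  (@T16.mk E (p j1 i4 i0) (p j1 i4 i1) (p j1 i4 i2) (p j1 i4 i3) (p j1 i4 i4) (p j1 i4 i5) (p j1 i4 i6) (p j1 i4 i7) (p j1 i4 i8) (p j1 i4 i9) (p j1 i4 i10) (p j1 i4 i11) (p j1 i4 i12) (p j1 i4 i13) (p j1 i4 i14) (p j1 i4 i15))
  (@T16.mk E (p j1 i5 i0) (p j1 i5 i1) (p j1 i5 i2) (p j1 i5 i3) (p j1 i5 i4) (p j1 i5 i5) (p j1 i5 i6) (p j1 i5 i7) (p j1 i5 i8) (p j1 i5 i9) (p j1 i5 i10) (p j1 i5 i11) (p j1 i5 i12) (p j1 i5 i13) (p j1 i5 i14) (p j1 i5 i15))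
  (@T16.mk E (p j1 i6 i0) (n j1 i6 i1) (p j1 i6 i2) (n j1 i6 i3) (p j1 i6 i4) (n j1 i6 i5) (p j1 i6 i6) (n j1 i6 i7) (n j1 i6 i8) (p j1 i6 i9) (n j1 i6 i10) (p j1 i6 i11) (n j1 i6 i12) (p j1 i6 i13) (n j1 i6 i14) (p j1 i6 i15))
  (@T16.mk E (n j1 i7 i0) (p j1 i7 i1) (n j1 i7 i2) (p j1 i7 i3) (n j1 i7 i4) (p j1 i7 i5) (n j1 i7 i6) (p j1 i7 i7) (p j1 i7 i8) (n j1 i7 i9) (p j1 i7 i10) (n j1 i7 i11) (p j1 i7 i12) (n j1 i7 i13) (p j1 i7 i14) (n j1 i7 i15))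
  (@T16.mk E (n j1 i8 i0) (n j1 i8 i1) (n j1 i8 i2) (n j1 i8 i3) (n j1 i8 i4) (n j1 i8 i5) (n j1 i8 i6) (n j1 i8 i7) (n j1 i8 i8) (n j1 i8 i9) (n j1 i8 i10) (n j1 i8 i11) (n j1 i8 i12) (n j1 i8 i13) (n j1 i8 i14) (n j1 i8 i15))
  (@T16.mk E (p j1 i9 i0) (p j1 i9 i1) (p j1 i9 i2) (p j1 i9 i3) (p j1 i9 i4) (p j1 i9 i5) (p j1 i9 i6) (p j1 i9 i7) (p j1 i9 i8) (p j1 i9 i9) (p j1 i9 i10) (p j1 i9 i11) (p j1 i9 i12) (p j1 i9 i13) (p j1 i9 i14) (p j1 i9 i15))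
  (@T16.mk E (n j1 i10 i0) (p j1 i10 i1) (n j1 i10 i2) (p j1 i10 i3) (n j1 i10 i4) (p j1 i10 i5) (n j1 i10 i6) (p j1 i10 i7) (p j1 i10 i8) (n j1 i10 i9) (p j1 i10 i10) (n j1 i10 i11) (p j1 i10 i12) (n j1 i10 i13) (p j1 i10 i14) (n j1 i10 i15))
  (@T16.mk E (n j1 i11 i0) (p j1 i11 i1) (n j1 i11 i2) (p j1 i11 i3) (n j1 i11 i4) (p j1 i11 i5) (n j1 i11 i6) (p j1 i11 i7) (p j1 i11 i8) (n j1 i11 i9) (p j1 i11 i10) (n j1 i11 i11) (p j1 i11 i12) (n j1 i11 i13) (p j1 i11 i14) (n j1 i11 i15))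
  (@T16.mk E (p j1 i12 i0) (p j1 i12 i1) (p j1 i12 i2) (p j1 i12 i3) (p j1 i12 i4) (p j1 i12 i5) (p j1 i12 i6) (p j1 i12 i7) (p j1 i12 i8) (p j1 i12 i9) (p j1 i12 i10) (p j1 i12 i11) (p j1 i12 i12) (p j1 i12 i13) (p j1 i12 i14) (p j1 i12 i15))
  (@T16.mk E (p j1 i13 i0) (p j1 i13 i1) (p j1 i13 i2) (p j1 i13 i3) (p j1 i13 i4) (p j1 i13 i5) (p j1 i13 i6) (p j1 i13 i7) (p j1 i13 i8) (p j1 i13 i9) (p j1 i13 i10) (p j1 i13 i11) (p j1 i13 i12) (p j1 i13 i13) (p j1 i13 i14) (p j1 i13 i15))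
  (@T16.mk E (n j1 i14 i0) (p j1 i14 i1) (n j1 i14 i2) (p j1 i14 i3) (n j1 i14 i4) (p j1 i14 i5) (n j1 i14 i6) (p j1 i14 i7) (p j1 i14 i8) (n j1 i14 i9) (p j1 i14 i10) (n j1 i14 i11) (p j1 i14 i12) (n j1 i14 i13) (p j1 i14 i14) (n j1 i14 i15))
  (@T16.mk E (p j1 i15 i0) (n j1 i15 i1) (p j1 i15 i2) (n j1 i15 i3) (p j1 i15 i4) (n j1 i15 i5) (p j1 i15 i6) (n j1 i15 i7) (n j1 i15 i8) (p j1 i15 i9) (n j1 i15 i10) (p j1 i15 i11) (n j1 i15 i12) (p j1 i15 i13) (n j1 i15 i14) (p j1 i15 i15))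
 )
 (@T16.mk (T16 E)
  (@T16.mk E (n j2 i0 i0) (n j2 i0 i1) (n j2 i0 i2) (n j2 i0 i3) (n j2 i0 i4) (n j2 i0 i5) (n j2 i0 i6) (n j2 i0 i7) (n j2 i0 i8) (n j2 i0 i9) (n j2 i0 i10) (n j2 i0 i11) (n j2 i0 i12) (n j2 i0 i13) (n j2 i0 i14) (n j2 i0 i15))
  (@T16.mk E (n j2 i1 i0) (n j2 i1 i1) (n j2 i1 i2) (n j2 i1 i3) (n j2 i1 i4) (n j2 i1 i5) (n j2 i1 i6) (n j2 i1 i7) (n j2 i1 i8) (n j2 i1 i9) (n j2 i1 i10) (n j2 i1 i11) (n j2 i1 i12) (n j2 i1 i13) (n j2 i1 i14) (n j2 i1 i15))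
  (@T16.mk E (p j2 i2 i0) (n j2 i2 i1) (p j2 i2 i2) (n j2 i2 i3) (p j2 i2 i4) (n j2 i2 i5) (p j2 i2 i6) (n j2 i2 i7) (n j2 i2 i8) (p j2 i2 i9) (n j2 i2 i10) (p j2 i2 i11) (n j2 i2 i12) (p j2 i2 i13) (n j2 i2 i14) (p j2 i2 i15))
  (@T16.mk E (n j2 i3 i0) (p j2 i3 i1) (n j2 i3 i2) (p j2 i3 i3) (n j2 i3 i4) (p j2 i3 i5) (n j2 i3 i6) (p j2 i3 i7) (p j2 i3 i8) (n j2 i3 i9) (p j2 i3 i10) (n j2 i3 i11) (p j2 i3 i12) (n j2 i3 i13) (p j2 i3 i14) (n j2 i3 i15))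
  (@T16.mk E (n j2 i4 i0) (n j2 i4 i1) (n j2 i4 i2) (n j2 i4 i3) (n j2 i4 i4) (n j2 i4 i5) (n j2 i4 i6) (n j2 i4 i7) (n j2 i4 i8) (n j2 i4 i9) (n j2 i4 i10) (n j2 i4 i11) (n j2 i4 i12) (n j2 i4 i13) (n j2 i4 i14) (n j2 i4 i15))
  (@T16.mk E (p j2 i5 i0) (p j2 i5 i1) (p j2 i5 i2) (p j2 i5 i3) (p j2 i5 i4) (p j2 i5 i5) (p j2 i5 i6) (p j2 i5 i7) (p j2 i5 i8) (p j2 i5 i9) (p j2 i5 i10) (p j2 i5 i11) (p j2 i5 i12) (p j2 i5 i13) (p j2 i5 i14) (p j2 i5 i15))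
  (@T16.mk E (n j2 i6 i0) (p j2 i6 i1) (n j2 i6 i2) (p j2 i6 i3) (n j2 i6 i4) (p j2 i6 i5) (n j2 i6 i6) (p j2 i6 i7) (p j2 i6 i8) (n j2 i6 i9) (p j2 i6 i10) (n j2 i6 i11) (p j2 i6 i12) (n j2 i6 i13) (p j2 i6 i14) (n j2 i6 i15))
  (@T16.mk E (n j2 i7 i0) (p j2 i7 i1) (n j2 i7 i2) (p j2 i7 i3) (n j2 i7 i4) (p j2 i7 i5) (n j2 i7 i6) (p j2 i7 i7) (p j2 i7 i8) (n j2 i7 i9) (p j2 i7 i10) (n j2 i7 i11) (p j2 i7 i12) (n j2 i7 i13) (p j2 i7 i14) (n j2 i7 i15))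
  (@T16.mk E (n j2 i8 i0) (n j2 i8 i1) (n j2 i8 i2) (n j2 i8 i3) (n j2 i8 i4) (n j2 i8 i5) (n j2 i8 i6) (n j2 i8 i7) (n j2 i8 i8) (n j2 i8 i9) (n j2 i8 i10) (n j2 i8 i11) (n j2 i8 i12) (n j2 i8 i13) (n j2 i8 i14) (n j2 i8 i15))
  (@T16.mk E (n j2 i9 i0) (n j2 i9 i1) (n j2 i9 i2) (n j2 i9 i3) (n j2 i9 i4) (n j2 i9 i5) (n j2 i9 i6) (n j2 i9 i7) (n j2 i9 i8) (n j2 i9 i9) (n j2 i9 i10) (n j2 i9 i11) (n j2 i9 i12) (n j2 i9 i13) (n j2 i9 i14) (n j2 i9 i15))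
  (@T16.mk E (n j2 i10 i0) (p j2 i10 i1) (n j2 i10 i2) (p j2 i10 i3) (n j2 i10 i4) (p j2 i10 i5) (n j2 i10 i6) (p j2 i10 i7) (p j2 i10 i8) (n j2 i10 i9) (p j2 i10 i10) (n j2 i10 i11) (p j2 i10 i12) (n j2 i10 i13) (p j2 i10 i14) (n j2 i10 i15))
  (@T16.mk E (p j2 i11 i0) (n j2 i11 i1) (p j2 i11 i2) (n j2 i11 i3) (p j2 i11 i4) (n j2 i11 i5) (p j2 i11 i6) (n j2 i11 i7) (n j2 i11 i8) (p j2 i11 i9) (n j2 i11 i10) (p j2 i11 i11) (n j2 i11 i12) (p j2 i11 i13) (n j2 i11 i14) (p j2 i11 i15))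
  (@T16.mk E (p j2 i12 i0) (p j2 i12 i1) (p j2 i12 i2) (p j2 i12 i3) (p j2 i12 i4) (p j2 i12 i5) (p j2 i12 i6) (p j2 i12 i7) (p j2 i12 i8) (p j2 i12 i9) (p j2 i12 i10) (p j2 i12 i11) (p j2 i12 i12) (p j2 i12 i13) (p j2 i12 i14) (p j2 i12 i15))
  (@T16.mk E (n j2 i13 i0) (n j2 i13 i1) (n j2 i13 i2) (n j2 i13 i3) (n j2 i13 i4) (n j2 i13 i5) (n j2 i13 i6) (n j2 i13 i7) (n j2 i13 i8) (n j2 i13 i9) (n j2 i13 i10) (n j2 i13 i11) (n j2 i13 i12) (n j2 i13 i13) (n j2 i13 i14) (n j2 i13 i15))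
  (@T16.mk E (n j2 i14 i0) (p j2 i14 i1) (n j2 i14 i2) (p j2 i14 i3) (n j2 i14 i4) (p j2 i14 i5) (n j2 i14 i6) (p j2 i14 i7) (p j2 i14 i8) (n j2 i14 i9) (p j2 i14 i10) (n j2 i14 i11) (p j2 i14 i12) (n j2 i14 i13) (p j2 i14 i14) (n j2 i14 i15))
  (@T16.mk E (n j2 i15 i0) (p j2 i15 i1) (n j2 i15 i2) (p j2 i15 i3) (n j2 i15 i4) (p j2 i15 i5) (n j2 i15 i6) (p j2 i15 i7) (p j2 i15 i8) (n j2 i15 i9) (p j2 i15 i10) (n j2 i15 i11) (p j2 i15 i12) (n j2 i15 i13) (p j2 i15 i14) (n j2 i15 i15))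
 )
 (@T16.mk (T16 E)
  (@T16.mk E (p j3 i0 i0) (p j3 i0 i1) (p j3 i0 i2) (p j3 i0 i3) (p j3 i0 i4) (p j3 i0 i5) (p j3 i0 i6) (p j3 i0 i7) (p j3 i0 i8) (p j3 i0 i9) (p j3 i0 i10) (p j3 i0 i11) (p j3 i0 i12) (p j3 i0 i13) (p j3 i0 i14) (p j3 i0 i15))
  (@T16.mk E (p j3 i1 i0) (p j3 i1 i1) (p j3 i1 i2) (p j3 i1 i3) (p j3 i1 i4) (p j3 i1 i5) (p j3 i1 i6) (p j3 i1 i7) (p j3 i1 i8) (p j3 i1 i9) (p j3 i1 i10) (p j3 i1 i11) (p j3 i1 i12) (p j3 i1 i13) (p j3 i1 i14) (p j3 i1 i15))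
  (@T16.mk E (n j3 i2 i0) (p j3 i2 i1) (n j3 i2 i2) (p j3 i2 i3) (n j3 i2 i4) (p j3 i2 i5) (n j3 i2 i6) (p j3 i2 i7) (p j3 i2 i8) (n j3 i2 i9) (p j3 i2 i10) (n j3 i2 i11) (p j3 i2 i12) (n j3 i2 i13) (p j3 i2 i14) (n j3 i2 i15))
  (@T16.mk E (p j3 i3 i0) (n j3 i3 i1) (p j3 i3 i2) (n j3 i3 i3) (p j3 i3 i4) (n j3 i3 i5) (p j3 i3 i6) (n j3 i3 i7) (n j3 i3 i8) (p j3 i3 i9) (n j3 i3 i10) (p j3 i3 i11) (n j3 i3 i12) (p j3 i3 i13) (n j3 i3 i14) (p j3 i3 i15))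
  (@T16.mk E (p j3 i4 i0) (p j3 i4 i1) (p j3 i4 i2) (p j3 i4 i3) (p j3 i4 i4) (p j3 i4 i5) (p j3 i4 i6) (p j3 i4 i7) (p j3 i4 i8) (p j3 i4 i9) (p j3 i4 i10) (p j3 i4 i11) (p j3 i4 i12) (p j3 i4 i13) (p j3 i4 i14) (p j3 i4 i15))
  (@T16.mk E (n j3 i5 i0) (n j3 i5 i1) (n j3 i5 i2) (n j3 i5 i3) (n j3 i5 i4) (n j3 i5 i5) (n j3 i5 i6) (n j3 i5 i7) (n j3 i5 i8) (n j3 i5 i9) (n j3 i5 i10) (n j3 i5 i11) (n j3 i5 i12) (n j3 i5 i13) (n j3 i5 i14) (n j3 i5 i15))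
  (@T16.mk E (p j3 i6 i0) (n j3 i6 i1) (p j3 i6 i2) (n j3 i6 i3) (p j3 i6 i4) (n j3 i6 i5) (p j3 i6 i6) (n j3 i6 i7) (n j3 i6 i8) (p j3 i6 i9) (n j3 i6 i10) (p j3 i6 i11) (n j3 i6 i12) (p j3 i6 i13) (n j3 i6 i14) (p j3 i6 i15))
  (@T16.mk E (p j3 i7 i0) (n j3 i7 i1) (p j3 i7 i2) (n j3 i7 i3) (p j3 i7 i4) (n j3 i7 i5) (p j3 i7 i6) (n j3 i7 i7) (n j3 i7 i8) (p j3 i7 i9) (n j3 i7 i10) (p j3 i7 i11) (n j3 i7 i12) (p j3 i7 i13) (n j3 i7 i14) (p j3 i7 i15))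
  (@T16.mk E (p j3 i8 i0) (p j3 i8 i1) (p j3 i8 i2) (p j3 i8 i3) (p j3 i8 i4) (p j3 i8 i5) (p j3 i8 i6) (p j3 i8 i7) (p j3 i8 i8) (p j3 i8 i9) (p j3 i8 i10) (p j3 i8 i11) (p j3 i8 i12) (p j3 i8 i13) (p j3 i8 i14) (p j3 i8 i15))
  (@T16.mk E (p j3 i9 i0) (p j3 i9 i1) (p j3 i9 i2) (p j3 i9 i3) (p j3 i9 i4) (p j3 i9 i5) (p j3 i9 i6) (p j3 i9 i7) (p j3 i9 i8) (p j3 i9 i9) (p j3 i9 i10) (p j3 i9 i11) (p j3 i9 i12) (p j3 i9 i13) (p j3 i9 i14) (p j3 i9 i15))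
  (@T16.mk E (p j3 i10 i0) (n j3 i10 i1) (p j3 i10 i2) (n j3 i10 i3) (p j3 i10 i4) (n j3 i10 i5) (p j3 i10 i6) (n j3 i10 i7) (n j3 i10 i8) (p j3 i10 i9) (n j3 i10 i10) (p j3 i10 i11) (n j3 i10 i12) (p j3 i10 i13) (n j3 i10 i14) (p j3 i10 i15))
  (@T16.mk E (n j3 i11 i0) (p j3 i11 i1) (n j3 i11 i2) (p j3 i11 i3) (n j3 i11 i4) (p j3 i11 i5) (n j3 i11 i6) (p j3 i11 i7) (p j3 i11 i8) (n j3 i11 i9) (p j3 i11 i10) (n j3 i11 i11) (p j3 i11 i12) (n j3 i11 i13) (p j3 i11 i14) (n j3 i11 i15))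
  (@T16.mk E (n j3 i12 i0) (n j3 i12 i1) (n j3 i12 i2) (n j3 i12 i3) (n j3 i12 i4) (n j3 i12 i5) (n j3 i12 i6) (n j3 i12 i7) (n j3 i12 i8) (n j3 i12 i9) (n j3 i12 i10) (n j3 i12 i11) (n j3 i12 i12) (n j3 i12 i13) (n j3 i12 i14) (n j3 i12 i15))
  (@T16.mk E (p j3 i13 i0) (p j3 i13 i1) (p j3 i13 i2) (p j3 i13 i3) (p j3 i13 i4) (p j3 i13 i5) (p j3 i13 i6) (p j3 i13 i7) (p j3 i13 i8) (p j3 i13 i9) (p j3 i13 i10) (p j3 i13 i11) (p j3 i13 i12) (p j3 i13 i13) (p j3 i13 i14) (p j3 i13 i15))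
  (@T16.mk E (p j3 i14 i0) (n j3 i14 i1) (p j3 i14 i2) (n j3 i14 i3) (p j3 i14 i4) (n j3 i14 i5) (p j3 i14 i6) (n j3 i14 i7) (n j3 i14 i8) (p j3 i14 i9) (n j3 i14 i10) (p j3 i14 i11) (n j3 i14 i12) (p j3 i14 i13) (n j3 i14 i14) (p j3 i14 i15))
  (@T16.mk E (p j3 i15 i0) (n j3 i15 i1) (p j3 i15 i2) (n j3 i15 i3) (p j3 i15 i4) (n j3 i15 i5) (p j3 i15 i6) (n j3 i15 i7) (n j3 i15 i8) (p j3 i15 i9) (n j3 i15 i10) (p j3 i15 i11) (n j3 i15 i12) (p j3 i15 i13) (n j3 i15 i14) (p j3 i15 i15))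
 )
 (@T16.mk (T16 E)
  (@T16.mk E (p j4 i0 i9) (n j4 i0 i8) (p j4 i0 i11) (n j4 i0 i10) (p j4 i0 i13) (n j4 i0 i12) (p j4 i0 i15) (n j4 i0 i14) (n j4 i0 i1) (p j4 i0 i0) (n j4 i0 i3) (p j4 i0 i2) (n j4 i0 i5) (p j4 i0 i4) (n j4 i0 i7) (p j4 i0 i6))
  (@T16.mk E (p j4 i1 i9) (n j4 i1 i8) (p j4 i1 i11) (n j4 i1 i10) (p j4 i1 i13) (n j4 i1 i12) (p j4 i1 i15) (n j4 i1 i14) (n j4 i1 i1) (p j4 i1 i0) (n j4 i1 i3) (p j4 i1 i2) (n j4 i1 i5) (p j4 i1 i4) (n j4 i1 i7) (p j4 i1 i6))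
  (@T16.mk E (p j4 i2 i9) (p j4 i2 i8) (p j4 i2 i11) (p j4 i2 i10) (p j4 i2 i13) (p j4 i2 i12) (p j4 i2 i15) (p j4 i2 i14) (p j4 i2 i1) (p j4 i2 i0) (p j4 i2 i3) (p j4 i2 i2) (p j4 i2 i5) (p j4 i2 i4) (p j4 i2 i7) (p j4 i2 i6))
  (@T16.mk E (n j4 i3 i9) (n j4 i3 i8) (n j4 i3 i11) (n j4 i3 i10) (n j4 i3 i13) (n j4 i3 i12) (n j4 i3 i15) (n j4 i3 i14) (n j4 i3 i1) (n j4 i3 i0) (n j4 i3 i3) (n j4 i3 i2) (n j4 i3 i5) (n j4 i3 i4) (n j4 i3 i7) (n j4 i3 i6))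
  (@T16.mk E (p j4 i4 i9) (n j4 i4 i8) (p j4 i4 i11) (n j4 i4 i10) (p j4 i4 i13) (n j4 i4 i12) (p j4 i4 i15) (n j4 i4 i14) (n j4 i4 i1) (p j4 i4 i0) (n j4 i4 i3) (p j4 i4 i2) (n j4 i4 i5) (p j4 i4 i4) (n j4 i4 i7) (p j4 i4 i6))
  (@T16.mk E (n j4 i5 i9) (p j4 i5 i8) (n j4 i5 i11) (p j4 i5 i10) (n j4 i5 i13) (p j4 i5 i12) (n j4 i5 i15) (p j4 i5 i14) (p j4 i5 i1) (n j4 i5 i0) (p j4 i5 i3) (n j4 i5 i2) (p j4 i5 i5) (n j4 i5 i4) (p j4 i5 i7) (n j4 i5 i6))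
  (@T16.mk E (n j4 i6 i9) (n j4 i6 i8) (n j4 i6 i11) (n j4 i6 i10) (n j4 i6 i13) (n j4 i6 i12) (n j4 i6 i15) (n j4 i6 i14) (n j4 i6 i1) (n j4 i6 i0) (n j4 i6 i3) (n j4 i6 i2) (n j4 i6 i5) (n j4 i6 i4) (n j4 i6 i7) (n j4 i6 i6))
  (@T16.mk E (n j4 i7 i9) (n j4 i7 i8) (n j4 i7 i11) (n j4 i7 i10) (n j4 i7 i13) (n j4 i7 i12) (n j4 i7 i15) (n j4 i7 i14) (n j4 i7 i1) (n j4 i7 i0) (n j4 i7 i3) (n j4 i7 i2) (n j4 i7 i5) (n j4 i7 i4) (n j4 i7 i7) (n j4 i7 i6))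
  (@T16.mk E (p j4 i8 i9) (n j4 i8 i8) (p j4 i8 i11) (n j4 i8 i10) (p j4 i8 i13) (n j4 i8 i12) (p j4 i8 i15) (n j4 i8 i14) (n j4 i8 i1) (p j4 i8 i0) (n j4 i8 i3) (p j4 i8 i2) (n j4 i8 i5) (p j4 i8 i4) (n j4 i8 i7) (p j4 i8 i6))
  (@T16.mk E (p j4 i9 i9) (n j4 i9 i8) (p j4 i9 i11) (n j4 i9 i10) (p j4 i9 i13) (n j4 i9 i12) (p j4 i9 i15) (n j4 i9 i14) (n j4 i9 i1) (p j4 i9 i0) (n j4 i9 i3) (p j4 i9 i2) (n j4 i9 i5) (p j4 i9 i4) (n j4 i9 i7) (p j4 i9 i6))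
  (@T16.mk E (n j4 i10 i9) (n j4 i10 i8) (n j4 i10 i11) (n j4 i10 i10) (n j4 i10 i13) (n j4 i10 i12) (n j4 i10 i15) (n j4 i10 i14) (n j4 i10 i1) (n j4 i10 i0) (n j4 i10 i3) (n j4 i10 i2) (n j4 i10 i5) (n j4 i10 i4) (n j4 i10 i7) (n j4 i10 i6))
  (@T16.mk E (p j4 i11 i9) (p j4 i11 i8) (p j4 i11 i11) (p j4 i11 i10) (p j4 i11 i13) (p j4 i11 i12) (p j4 i11 i15) (p j4 i11 i14) (p j4 i11 i1) (p j4 i11 i0) (p j4 i11 i3) (p j4 i11 i2) (p j4 i11 i5) (p j4 i11 i4) (p j4 i11 i7) (p j4 i11 i6))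
  (@T16.mk E (n j4 i12 i9) (p j4 i12 i8) (n j4 i12 i11) (p j4 i12 i10) (n j4 i12 i13) (p j4 i12 i12) (n j4 i12 i15) (p j4 i12 i14) (p j4 i12 i1) (n j4 i12 i0) (p j4 i12 i3) (n j4 i12 i2) (p j4 i12 i5) (n j4 i12 i4) (p j4 i12 i7) (n j4 i12 i6))
  (@T16.mk E (p j4 i13 i9) (n j4 i13 i8) (p j4 i13 i11) (n j4 i13 i10) (p j4 i13 i13) (n j4 i13 i12) (p j4 i13 i15) (n j4 i13 i14) (n j4 i13 i1) (p j4 i13 i0) (n j4 i13 i3) (p j4 i13 i2) (n j4 i13 i5) (p j4 i13 i4) (n j4 i13 i7) (p j4 i13 i6))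
  (@T16.mk E (n j4 i14 i9) (n j4 i14 i8) (n j4 i14 i11) (n j4 i14 i10) (n j4 i14 i13) (n j4 i14 i12) (n j4 i14 i15) (n j4 i14 i14) (n j4 i14 i1) (n j4 i14 i0) (n j4 i14 i3) (n j4 i14 i2) (n j4 i14 i5) (n j4 i14 i4) (n j4 i14 i7) (n j4 i14 i6))
  (@T16.mk E (n j4 i15 i9) (n j4 i15 i8) (n j4 i15 i11) (n j4 i15 i10) (n j4 i15 i13) (n j4 i15 i12) (n j4 i15 i15) (n j4 i15 i14) (n j4 i15 i1) (n j4 i15 i0) (n j4 i15 i3) (n j4 i15 i2) (n j4 i15 i5) (n j4 i15 i4) (n j4 i15 i7) (n j4 i15 i6))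
 )
 (@T16.mk (T16 E)
  (@T16.mk E (p j5 i0 i9) (n j5 i0 i8) (p j5 i0 i11) (n j5 i0 i10) (p j5 i0 i13) (n j5 i0 i12) (p j5 i0 i15) (n j5 i0 i14) (n j5 i0 i1) (p j5 i0 i0) (n j5 i0 i3) (p j5 i0 i2) (n j5 i0 i5) (p j5 i0 i4) (n j5 i0 i7) (p j5 i0 i6))
  (@T16.mk E (p j5 i1 i9) (n j5 i1 i8) (p j5 i1 i11) (n j5 i1 i10) (p j5 i1 i13) (n j5 i1 i12) (p j5 i1 i15) (n j5 i1 i14) (n j5 i1 i1) (p j5 i1 i0) (n j5 i1 i3) (p j5 i1 i2) (n j5 i1 i5) (p j5 i1 i4) (n j5 i1 i7) (p j5 i1 i6))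
  (@T16.mk E (p j5 i2 i9) (p j5 i2 i8) (p j5 i2 i11) (p j5 i2 i10) (p j5 i2 i13) (p j5 i2 i12) (p j5 i2 i15) (p j5 i2 i14) (p j5 i2 i1) (p j5 i2 i0) (p j5 i2 i3) (p j5 i2 i2) (p j5 i2 i5) (p j5 i2 i4) (p j5 i2 i7) (p j5 i2 i6))
  (@T16.mk E (n j5 i3 i9) (n j5 i3 i8) (n j5 i3 i11) (n j5 i3 i10) (n j5 i3 i13) (n j5 i3 i12) (n j5 i3 i15) (n j5 i3 i14) (n j5 i3 i1) (n j5 i3 i0) (n j5 i3 i3) (n j5 i3 i2) (n j5 i3 i5) (n j5 i3 i4) (n j5 i3 i7) (n j5 i3 i6))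
  (@T16.mk E (p j5 i4 i9) (n j5 i4 i8) (p j5 i4 i11) (n j5 i4 i10) (p j5 i4 i13) (n j5 i4 i12) (p j5 i4 i15) (n j5 i4 i14) (n j5 i4 i1) (p j5 i4 i0) (n j5 i4 i3) (p j5 i4 i2) (n j5 i4 i5) (p j5 i4 i4) (n j5 i4 i7) (p j5 i4 i6))
  (@T16.mk E (n j5 i5 i9) (p j5 i5 i8) (n j5 i5 i11) (p j5 i5 i10) (n j5 i5 i13) (p j5 i5 i12) (n j5 i5 i15) (p j5 i5 i14) (p j5 i5 i1) (n j5 i5 i0) (p j5 i5 i3) (n j5 i5 i2) (p j5 i5 i5) (n j5 i5 i4) (p j5 i5 i7) (n j5 i5 i6))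
  (@T16.mk E (n j5 i6 i9) (n j5 i6 i8) (n j5 i6 i11) (n j5 i6 i10) (n j5 i6 i13) (n j5 i6 i12) (n j5 i6 i15) (n j5 i6 i14) (n j5 i6 i1) (n j5 i6 i0) (n j5 i6 i3) (n j5 i6 i2) (n j5 i6 i5) (n j5 i6 i4) (n j5 i6 i7) (n j5 i6 i6))
  (@T16.mk E (n j5 i7 i9) (n j5 i7 i8) (n j5 i7 i11) (n j5 i7 i10) (n j5 i7 i13) (n j5 i7 i12) (n j5 i7 i15) (n j5 i7 i14) (n j5 i7 i1) (n j5 i7 i0) (n j5 i7 i3) (n j5 i7 i2) (n j5 i7 i5) (n j5 i7 i4) (n j5 i7 i7) (n j5 i7 i6))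
  (@T16.mk E (p j5 i8 i9) (n j5 i8 i8) (p j5 i8 i11) (n j5 i8 i10) (p j5 i8 i13) (n j5 i8 i12) (p j5 i8 i15) (n j5 i8 i14) (n j5 i8 i1) (p j5 i8 i0) (n j5 i8 i3) (p j5 i8 i2) (n j5 i8 i5) (p j5 i8 i4) (n j5 i8 i7) (p j5 i8 i6))
  (@T16.mk E (p j5 i9 i9) (n j5 i9 i8) (p j5 i9 i11) (n j5 i9 i10) (p j5 i9 i13) (n j5 i9 i12) (p j5 i9 i15) (n j5 i9 i14) (n j5 i9 i1) (p j5 i9 i0) (n j5 i9 i3) (p j5 i9 i2) (n j5 i9 i5) (p j5 i9 i4) (n j5 i9 i7) (p j5 i9 i6))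
  (@T16.mk E (n j5 i10 i9) (n j5 i10 i8) (n j5 i10 i11) (n j5 i10 i10) (n j5 i10 i13) (n j5 i10 i12) (n j5 i10 i15) (n j5 i10 i14) (n j5 i10 i1) (n j5 i10 i0) (n j5 i10 i3) (n j5 i10 i2) (n j5 i10 i5) (n j5 i10 i4) (n j5 i10 i7) (n j5 i10 i6))
  (@T16.mk E (p j5 i11 i9) (p j5 i11 i8) (p j5 i11 i11) (p j5 i11 i10) (p j5 i11 i13) (p j5 i11 i12) (p j5 i11 i15) (p j5 i11 i14) (p j5 i11 i1) (p j5 i11 i0) (p j5 i11 i3) (p j5 i11 i2) (p j5 i11 i5) (p j5 i11 i4) (p j5 i11 i7) (p j5 i11 i6))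
  (@T16.mk E (n j5 i12 i9) (p j5 i12 i8) (n j5 i12 i11) (p j5 i12 i10) (n j5 i12 i13) (p j5 i12 i12) (n j5 i12 i15) (p j5 i12 i14) (p j5 i12 i1) (n j5 i12 i0) (p j5 i12 i3) (n j5 i12 i2) (p j5 i12 i5) (n j5 i12 i4) (p j5 i12 i7) (n j5 i12 i6))
  (@T16.mk E (p j5 i13 i9) (n j5 i13 i8) (p j5 i13 i11) (n j5 i13 i10) (p j5 i13 i13) (n j5 i13 i12) (p j5 i13 i15) (n j5 i13 i14) (n j5 i13 i1) (p j5 i13 i0) (n j5 i13 i3) (p j5 i13 i2) (n j5 i13 i5) (p j5 i13 i4) (n j5 i13 i7) (p j5 i13 i6))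
  (@T16.mk E (n j5 i14 i9) (n j5 i14 i8) (n j5 i14 i11) (n j5 i14 i10) (n j5 i14 i13) (n j5 i14 i12) (n j5 i14 i15) (n j5 i14 i14) (n j5 i14 i1) (n j5 i14 i0) (n j5 i14 i3) (n j5 i14 i2) (n j5 i14 i5) (n j5 i14 i4) (n j5 i14 i7) (n j5 i14 i6))
  (@T16.mk E (n j5 i15 i9) (n j5 i15 i8) (n j5 i15 i11) (n j5 i15 i10) (n j5 i15 i13) (n j5 i15 i12) (n j5 i15 i15) (n j5 i15 i14) (n j5 i15 i1) (n j5 i15 i0) (n j5 i15 i3) (n j5 i15 i2) (n j5 i15 i5) (n j5 i15 i4) (n j5 i15 i7) (n j5 i15 i6))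
 )
 (@T16.mk (T16 E)
  (@T16.mk E (p j6 i0 i9) (n j6 i0 i8) (p j6 i0 i11) (n j6 i0 i10) (p j6 i0 i13) (n j6 i0 i12) (p j6 i0 i15) (n j6 i0 i14) (n j6 i0 i1) (p j6 i0 i0) (n j6 i0 i3) (p j6 i0 i2) (n j6 i0 i5) (p j6 i0 i4) (n j6 i0 i7) (p j6 i0 i6))
  (@T16.mk E (n j6 i1 i9) (p j6 i1 i8) (n j6 i1 i11) (p j6 i1 i10) (n j6 i1 i13) (p j6 i1 i12) (n j6 i1 i15) (p j6 i1 i14) (p j6 i1 i1) (n j6 i1 i0) (p j6 i1 i3) (n j6 i1 i2) (p j6 i1 i5) (n j6 i1 i4) (p j6 i1 i7) (n j6 i1 i6))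
  (@T16.mk E (p j6 i2 i9) (p j6 i2 i8) (p j6 i2 i11) (p j6 i2 i10) (p j6 i2 i13) (p j6 i2 i12) (p j6 i2 i15) (p j6 i2 i14) (p j6 i2 i1) (p j6 i2 i0) (p j6 i2 i3) (p j6 i2 i2) (p j6 i2 i5) (p j6 i2 i4) (p j6 i2 i7) (p j6 i2 i6))
  (@T16.mk E (p j6 i3 i9) (p j6 i3 i8) (p j6 i3 i11) (p j6 i3 i10) (p j6 i3 i13) (p j6 i3 i12) (p j6 i3 i15) (p j6 i3 i14) (p j6 i3 i1) (p j6 i3 i0) (p j6 i3 i3) (p j6 i3 i2) (p j6 i3 i5) (p j6 i3 i4) (p j6 i3 i7) (p j6 i3 i6))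
  (@T16.mk E (p j6 i4 i9) (n j6 i4 i8) (p j6 i4 i11) (n j6 i4 i10) (p j6 i4 i13) (n j6 i4 i12) (p j6 i4 i15) (n j6 i4 i14) (n j6 i4 i1) (p j6 i4 i0) (n j6 i4 i3) (p j6 i4 i2) (n j6 i4 i5) (p j6 i4 i4) (n j6 i4 i7) (p j6 i4 i6))
  (@T16.mk E (p j6 i5 i9) (n j6 i5 i8) (p j6 i5 i11) (n j6 i5 i10) (p j6 i5 i13) (n j6 i5 i12) (p j6 i5 i15) (n j6 i5 i14) (n j6 i5 i1) (p j6 i5 i0) (n j6 i5 i3) (p j6 i5 i2) (n j6 i5 i5) (p j6 i5 i4) (n j6 i5 i7) (p j6 i5 i6))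
  (@T16.mk E (n j6 i6 i9) (n j6 i6 i8) (n j6 i6 i11) (n j6 i6 i10) (n j6 i6 i13) (n j6 i6 i12) (n j6 i6 i15) (n j6 i6 i14) (n j6 i6 i1) (n j6 i6 i0) (n j6 i6 i3) (n j6 i6 i2) (n j6 i6 i5) (n j6 i6 i4) (n j6 i6 i7) (n j6 i6 i6))
  (@T16.mk E (p j6 i7 i9) (p j6 i7 i8) (p j6 i7 i11) (p j6 i7 i10) (p j6 i7 i13) (p j6 i7 i12) (p j6 i7 i15) (p j6 i7 i14) (p j6 i7 i1) (p j6 i7 i0) (p j6 i7 i3) (p j6 i7 i2) (p j6 i7 i5) (p j6 i7 i4) (p j6 i7 i7) (p j6 i7 i6))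
  (@T16.mk E (n j6 i8 i9) (p j6 i8 i8) (n j6 i8 i11) (p j6 i8 i10) (n j6 i8 i13) (p j6 i8 i12) (n j6 i8 i15) (p j6 i8 i14) (p j6 i8 i1) (n j6 i8 i0) (p j6 i8 i3) (n j6 i8 i2) (p j6 i8 i5) (n j6 i8 i4) (p j6 i8 i7) (n j6 i8 i6))
  (@T16.mk E (p j6 i9 i9) (n j6 i9 i8) (p j6 i9 i11) (n j6 i9 i10) (p j6 i9 i13) (n j6 i9 i12) (p j6 i9 i15) (n j6 i9 i14) (n j6 i9 i1) (p j6 i9 i0) (n j6 i9 i3) (p j6 i9 i2) (n j6 i9 i5) (p j6 i9 i4) (n j6 i9 i7) (p j6 i9 i6))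
  (@T16.mk E (p j6 i10 i9) (p j6 i10 i8) (p j6 i10 i11) (p j6 i10 i10) (p j6 i10 i13) (p j6 i10 i12) (p j6 i10 i15) (p j6 i10 i14) (p j6 i10 i1) (p j6 i10 i0) (p j6 i10 i3) (p j6 i10 i2) (p j6 i10 i5) (p j6 i10 i4) (p j6 i10 i7) (p j6 i10 i6))
  (@T16.mk E (p j6 i11 i9) (p j6 i11 i8) (p j6 i11 i11) (p j6 i11 i10) (p j6 i11 i13) (p j6 i11 i12) (p j6 i11 i15) (p j6 i11 i14) (p j6 i11 i1) (p j6 i11 i0) (p j6 i11 i3) (p j6 i11 i2) (p j6 i11 i5) (p j6 i11 i4) (p j6 i11 i7) (p j6 i11 i6))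
  (@T16.mk E (p j6 i12 i9) (n j6 i12 i8) (p j6 i12 i11) (n j6 i12 i10) (p j6 i12 i13) (n j6 i12 i12) (p j6 i12 i15) (n j6 i12 i14) (n j6 i12 i1) (p j6 i12 i0) (n j6 i12 i3) (p j6 i12 i2) (n j6 i12 i5) (p j6 i12 i4) (n j6 i12 i7) (p j6 i12 i6))
  (@T16.mk E (p j6 i13 i9) (n j6 i13 i8) (p j6 i13 i11) (n j6 i13 i10) (p j6 i13 i13) (n j6 i13 i12) (p j6 i13 i15) (n j6 i13 i14) (n j6 i13 i1) (p j6 i13 i0) (n j6 i13 i3) (p j6 i13 i2) (n j6 i13 i5) (p j6 i13 i4) (n j6 i13 i7) (p j6 i13 i6))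
  (@T16.mk E (p j6 i14 i9) (p j6 i14 i8) (p j6 i14 i11) (p j6 i14 i10) (p j6 i14 i13) (p j6 i14 i12) (p j6 i14 i15) (p j6 i14 i14) (p j6 i14 i1) (p j6 i14 i0) (p j6 i14 i3) (p j6 i14 i2) (p j6 i14 i5) (p j6 i14 i4) (p j6 i14 i7) (p j6 i14 i6))
  (@T16.mk E (n j6 i15 i9) (n j6 i15 i8) (n j6 i15 i11) (n j6 i15 i10) (n j6 i15 i13) (n j6 i15 i12) (n j6 i15 i15) (n j6 i15 i14) (n j6 i15 i1) (n j6 i15 i0) (n j6 i15 i3) (n j6 i15 i2) (n j6 i15 i5) (n j6 i15 i4) (n j6 i15 i7) (n j6 i15 i6))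
 )
 (@T16.mk (T16 E)
  (@T16.mk E (n j7 i0 i9) (p j7 i0 i8) (n j7 i0 i11) (p j7 i0 i10) (n j7 i0 i13) (p j7 i0 i12) (n j7 i0 i15) (p j7 i0 i14) (p j7 i0 i1) (n j7 i0 i0) (p j7 i0 i3) (n j7 i0 i2) (p j7 i0 i5) (n j7 i0 i4) (p j7 i0 i7) (n j7 i0 i6))
  (@T16.mk E (p j7 i1 i9) (n j7 i1 i8) (p j7 i1 i11) (n j7 i1 i10) (p j7 i1 i13) (n j7 i1 i12) (p j7 i1 i15) (n j7 i1 i14) (n j7 i1 i1) (p j7 i1 i0) (n j7 i1 i3) (p j7 i1 i2) (n j7 i1 i5) (p j7 i1 i4) (n j7 i1 i7) (p j7 i1 i6))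
  (@T16.mk E (n j7 i2 i9) (n j7 i2 i8) (n j7 i2 i11) (n j7 i2 i10) (n j7 i2 i13) (n j7 i2 i12) (n j7 i2 i15) (n j7 i2 i14) (n j7 i2 i1) (n j7 i2 i0) (n j7 i2 i3) (n j7 i2 i2) (n j7 i2 i5) (n j7 i2 i4) (n j7 i2 i7) (n j7 i2 i6))
  (@T16.mk E (n j7 i3 i9) (n j7 i3 i8) (n j7 i3 i11) (n j7 i3 i10) (n j7 i3 i13) (n j7 i3 i12) (n j7 i3 i15) (n j7 i3 i14) (n j7 i3 i1) (n j7 i3 i0) (n j7 i3 i3) (n j7 i3 i2) (n j7 i3 i5) (n j7 i3 i4) (n j7 i3 i7) (n j7 i3 i6))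
  (@T16.mk E (n j7 i4 i9) (p j7 i4 i8) (n j7 i4 i11) (p j7 i4 i10) (n j7 i4 i13) (p j7 i4 i12) (n j7 i4 i15) (p j7 i4 i14) (p j7 i4 i1) (n j7 i4 i0) (p j7 i4 i3) (n j7 i4 i2) (p j7 i4 i5) (n j7 i4 i4) (p j7 i4 i7) (n j7 i4 i6))
  (@T16.mk E (n j7 i5 i9) (p j7 i5 i8) (n j7 i5 i11) (p j7 i5 i10) (n j7 i5 i13) (p j7 i5 i12) (n j7 i5 i15) (p j7 i5 i14) (p j7 i5 i1) (n j7 i5 i0) (p j7 i5 i3) (n j7 i5 i2) (p j7 i5 i5) (n j7 i5 i4) (p j7 i5 i7) (n j7 i5 i6))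
  (@T16.mk E (p j7 i6 i9) (p j7 i6 i8) (p j7 i6 i11) (p j7 i6 i10) (p j7 i6 i13) (p j7 i6 i12) (p j7 i6 i15) (p j7 i6 i14) (p j7 i6 i1) (p j7 i6 i0) (p j7 i6 i3) (p j7 i6 i2) (p j7 i6 i5) (p j7 i6 i4) (p j7 i6 i7) (p j7 i6 i6))
  (@T16.mk E (n j7 i7 i9) (n j7 i7 i8) (n j7 i7 i11) (n j7 i7 i10) (n j7 i7 i13) (n j7 i7 i12) (n j7 i7 i15) (n j7 i7 i14) (n j7 i7 i1) (n j7 i7 i0) (n j7 i7 i3) (n j7 i7 i2) (n j7 i7 i5) (n j7 i7 i4) (n j7 i7 i7) (n j7 i7 i6))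
  (@T16.mk E (p j7 i8 i9) (n j7 i8 i8) (p j7 i8 i11) (n j7 i8 i10) (p j7 i8 i13) (n j7 i8 i12) (p j7 i8 i15) (n j7 i8 i14) (n j7 i8 i1) (p j7 i8 i0) (n j7 i8 i3) (p j7 i8 i2) (n j7 i8 i5) (p j7 i8 i4) (n j7 i8 i7) (p j7 i8 i6))
  (@T16.mk E (n j7 i9 i9) (p j7 i9 i8) (n j7 i9 i11) (p j7 i9 i10) (n j7 i9 i13) (p j7 i9 i12) (n j7 i9 i15) (p j7 i9 i14) (p j7 i9 i1) (n j7 i9 i0) (p j7 i9 i3) (n j7 i9 i2) (p j7 i9 i5) (n j7 i9 i4) (p j7 i9 i7) (n j7 i9 i6))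
  (@T16.mk E (n j7 i10 i9) (n j7 i10 i8) (n j7 i10 i11) (n j7 i10 i10) (n j7 i10 i13) (n j7 i10 i12) (n j7 i10 i15) (n j7 i10 i14) (n j7 i10 i1) (n j7 i10 i0) (n j7 i10 i3) (n j7 i10 i2) (n j7 i10 i5) (n j7 i10 i4) (n j7 i10 i7) (n j7 i10 i6))
  (@T16.mk E (n j7 i11 i9) (n j7 i11 i8) (n j7 i11 i11) (n j7 i11 i10) (n j7 i11 i13) (n j7 i11 i12) (n j7 i11 i15) (n j7 i11 i14) (n j7 i11 i1) (n j7 i11 i0) (n j7 i11 i3) (n j7 i11 i2) (n j7 i11 i5) (n j7 i11 i4) (n j7 i11 i7) (n j7 i11 i6))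
  (@T16.mk E (n j7 i12 i9) (p j7 i12 i8) (n j7 i12 i11) (p j7 i12 i10) (n j7 i12 i13) (p j7 i12 i12) (n j7 i12 i15) (p j7 i12 i14) (p j7 i12 i1) (n j7 i12 i0) (p j7 i12 i3) (n j7 i12 i2) (p j7 i12 i5) (n j7 i12 i4) (p j7 i12 i7) (n j7 i12 i6))
  (@T16.mk E (n j7 i13 i9) (p j7 i13 i8) (n j7 i13 i11) (p j7 i13 i10) (n j7 i13 i13) (p j7 i13 i12) (n j7 i13 i15) (p j7 i13 i14) (p j7 i13 i1) (n j7 i13 i0) (p j7 i13 i3) (n j7 i13 i2) (p j7 i13 i5) (n j7 i13 i4) (p j7 i13 i7) (n j7 i13 i6))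
  (@T16.mk E (n j7 i14 i9) (n j7 i14 i8) (n j7 i14 i11) (n j7 i14 i10) (n j7 i14 i13) (n j7 i14 i12) (n j7 i14 i15) (n j7 i14 i14) (n j7 i14 i1) (n j7 i14 i0) (n j7 i14 i3) (n j7 i14 i2) (n j7 i14 i5) (n j7 i14 i4) (n j7 i14 i7) (n j7 i14 i6))
  (@T16.mk E (p j7 i15 i9) (p j7 i15 i8) (p j7 i15 i11) (p j7 i15 i10) (p j7 i15 i13) (p j7 i15 i12) (p j7 i15 i15) (p j7 i15 i14) (p j7 i15 i1) (p j7 i15 i0) (p j7 i15 i3) (p j7 i15 i2) (p j7 i15 i5) (p j7 i15 i4) (p j7 i15 i7) (p j7 i15 i6))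
 )
 (@T16.mk (T16 E)
  (@T16.mk E (n j8 i0 i7) (n j8 i0 i6) (n j8 i0 i5) (n j8 i0 i4) (n j8 i0 i3) (n j8 i0 i2) (n j8 i0 i1) (n j8 i0 i0) (n j8 i0 i15) (n j8 i0 i14) (n j8 i0 i13) (n j8 i0 i12) (n j8 i0 i11) (n j8 i0 i10) (n j8 i0 i9) (n j8 i0 i8))
  (@T16.mk E (n j8 i1 i4) (n j8 i1 i5) (n j8 i1 i6) (n j8 i1 i7) (n j8 i1 i0) (n j8 i1 i1) (n j8 i1 i2) (n j8 i1 i3) (n j8 i1 i12) (n j8 i1 i13) (n j8 i1 i14) (n j8 i1 i15) (n j8 i1 i8) (n j8 i1 i9) (n j8 i1 i10) (n j8 i1 i11))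
  (@T16.mk E (n j8 i2 i6) (n j8 i2 i7) (n j8 i2 i4) (n j8 i2 i5) (n j8 i2 i2) (n j8 i2 i3) (n j8 i2 i0) (n j8 i2 i1) (n j8 i2 i14) (n j8 i2 i15) (n j8 i2 i12) (n j8 i2 i13) (n j8 i2 i10) (n j8 i2 i11) (n j8 i2 i8) (n j8 i2 i9))
  (@T16.mk E (p j8 i3 i0) (p j8 i3 i1) (p j8 i3 i2) (p j8 i3 i3) (p j8 i3 i4) (p j8 i3 i5) (p j8 i3 i6) (p j8 i3 i7) (p j8 i3 i8) (p j8 i3 i9) (p j8 i3 i10) (p j8 i3 i11) (p j8 i3 i12) (p j8 i3 i13) (p j8 i3 i14) (p j8 i3 i15))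
  (@T16.mk E (p j8 i4 i5) (p j8 i4 i4) (p j8 i4 i7) (p j8 i4 i6) (p j8 i4 i1) (p j8 i4 i0) (p j8 i4 i3) (p j8 i4 i2) (p j8 i4 i13) (p j8 i4 i12) (p j8 i4 i15) (p j8 i4 i14) (p j8 i4 i9) (p j8 i4 i8) (p j8 i4 i11) (p j8 i4 i10))
  (@T16.mk E (n j8 i5 i14) (n j8 i5 i15) (n j8 i5 i12) (n j8 i5 i13) (n j8 i5 i10) (n j8 i5 i11) (n j8 i5 i8) (n j8 i5 i9) (n j8 i5 i6) (n j8 i5 i7) (n j8 i5 i4) (n j8 i5 i5) (n j8 i5 i2) (n j8 i5 i3) (n j8 i5 i0) (n j8 i5 i1))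
  (@T16.mk E (n j8 i6 i10) (n j8 i6 i11) (n j8 i6 i8) (n j8 i6 i9) (n j8 i6 i14) (n j8 i6 i15) (n j8 i6 i12) (n j8 i6 i13) (n j8 i6 i2) (n j8 i6 i3) (n j8 i6 i0) (n j8 i6 i1) (n j8 i6 i6) (n j8 i6 i7) (n j8 i6 i4) (n j8 i6 i5))
  (@T16.mk E (p j8 i7 i0) (p j8 i7 i1) (p j8 i7 i2) (p j8 i7 i3) (p j8 i7 i4) (p j8 i7 i5) (p j8 i7 i6) (p j8 i7 i7) (p j8 i7 i8) (p j8 i7 i9) (p j8 i7 i10) (p j8 i7 i11) (p j8 i7 i12) (p j8 i7 i13) (p j8 i7 i14) (p j8 i7 i15))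
  (@T16.mk E (p j8 i8 i0) (p j8 i8 i1) (p j8 i8 i2) (p j8 i8 i3) (p j8 i8 i4) (p j8 i8 i5) (p j8 i8 i6) (p j8 i8 i7) (p j8 i8 i8) (p j8 i8 i9) (p j8 i8 i10) (p j8 i8 i11) (p j8 i8 i12) (p j8 i8 i13) (p j8 i8 i14) (p j8 i8 i15))
  (@T16.mk E (p j8 i9 i13) (p j8 i9 i12) (p j8 i9 i15) (p j8 i9 i14) (p j8 i9 i9) (p j8 i9 i8) (p j8 i9 i11) (p j8 i9 i10) (p j8 i9 i5) (p j8 i9 i4) (p j8 i9 i7) (p j8 i9 i6) (p j8 i9 i1) (p j8 i9 i0) (p j8 i9 i3) (p j8 i9 i2))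
  (@T16.mk E (p j8 i10 i0) (p j8 i10 i1) (p j8 i10 i2) (p j8 i10 i3) (p j8 i10 i4) (p j8 i10 i5) (p j8 i10 i6) (p j8 i10 i7) (p j8 i10 i8) (p j8 i10 i9) (p j8 i10 i10) (p j8 i10 i11) (p j8 i10 i12) (p j8 i10 i13) (p j8 i10 i14) (p j8 i10 i15))
  (@T16.mk E (p j8 i11 i1) (p j8 i11 i0) (p j8 i11 i3) (p j8 i11 i2) (p j8 i11 i5) (p j8 i11 i4) (p j8 i11 i7) (p j8 i11 i6) (p j8 i11 i9) (p j8 i11 i8) (p j8 i11 i11) (p j8 i11 i10) (p j8 i11 i13) (p j8 i11 i12) (p j8 i11 i15) (p j8 i11 i14))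
  (@T16.mk E (n j8 i12 i14) (n j8 i12 i15) (n j8 i12 i12) (n j8 i12 i13) (n j8 i12 i10) (n j8 i12 i11) (n j8 i12 i8) (n j8 i12 i9) (n j8 i12 i6) (n j8 i12 i7) (n j8 i12 i4) (n j8 i12 i5) (n j8 i12 i2) (n j8 i12 i3) (n j8 i12 i0) (n j8 i12 i1))
  (@T16.mk E (n j8 i13 i10) (n j8 i13 i11) (n j8 i13 i8) (n j8 i13 i9) (n j8 i13 i14) (n j8 i13 i15) (n j8 i13 i12) (n j8 i13 i13) (n j8 i13 i2) (n j8 i13 i3) (n j8 i13 i0) (n j8 i13 i1) (n j8 i13 i6) (n j8 i13 i7) (n j8 i13 i4) (n j8 i13 i5))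
  (@T16.mk E (n j8 i14 i1) (n j8 i14 i0) (n j8 i14 i3) (n j8 i14 i2) (n j8 i14 i5) (n j8 i14 i4) (n j8 i14 i7) (n j8 i14 i6) (n j8 i14 i9) (n j8 i14 i8) (n j8 i14 i11) (n j8 i14 i10) (n j8 i14 i13) (n j8 i14 i12) (n j8 i14 i15) (n j8 i14 i14))
  (@T16.mk E (n j8 i15 i13) (n j8 i15 i12) (n j8 i15 i15) (n j8 i15 i14) (n j8 i15 i9) (n j8 i15 i8) (n j8 i15 i11) (n j8 i15 i10) (n j8 i15 i5) (n j8 i15 i4) (n j8 i15 i7) (n j8 i15 i6) (n j8 i15 i1) (n j8 i15 i0) (n j8 i15 i3) (n j8 i15 i2))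
 )
 (@T16.mk (T16 E)
  (@T16.mk E (n j9 i0 i4) (n j9 i0 i5) (n j9 i0 i6) (n j9 i0 i7) (n j9 i0 i0) (n j9 i0 i1) (n j9 i0 i2) (n j9 i0 i3) (n j9 i0 i12) (n j9 i0 i13) (n j9 i0 i14) (n j9 i0 i15) (n j9 i0 i8) (n j9 i0 i9) (n j9 i0 i10) (n j9 i0 i11))
  (@T16.mk E (n j9 i1 i12) (n j9 i1 i13) (n j9 i1 i14) (n j9 i1 i15) (n j9 i1 i8) (n j9 i1 i9) (n j9 i1 i10) (n j9 i1 i11) (n j9 i1 i4) (n j9 i1 i5) (n j9 i1 i6) (n j9 i1 i7) (n j9 i1 i0) (n j9 i1 i1) (n j9 i1 i2) (n j9 i1 i3))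
  (@T16.mk E (n j9 i2 i3) (n j9 i2 i2) (n j9 i2 i1) (n j9 i2 i0) (n j9 i2 i7) (n j9 i2 i6) (n j9 i2 i5) (n j9 i2 i4) (n j9 i2 i11) (n j9 i2 i10) (n j9 i2 i9) (n j9 i2 i8) (n j9 i2 i15) (n j9 i2 i14) (n j9 i2 i13) (n j9 i2 i12))
  (@T16.mk E (n j9 i3 i9) (n j9 i3 i8) (n j9 i3 i11) (n j9 i3 i10) (n j9 i3 i13) (n j9 i3 i12) (n j9 i3 i15) (n j9 i3 i14) (n j9 i3 i1) (n j9 i3 i0) (n j9 i3 i3) (n j9 i3 i2) (n j9 i3 i5) (n j9 i3 i4) (n j9 i3 i7) (n j9 i3 i6))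
  (@T16.mk E (n j9 i4 i4) (n j9 i4 i5) (n j9 i4 i6) (n j9 i4 i7) (n j9 i4 i0) (n j9 i4 i1) (n j9 i4 i2) (n j9 i4 i3) (n j9 i4 i12) (n j9 i4 i13) (n j9 i4 i14) (n j9 i4 i15) (n j9 i4 i8) (n j9 i4 i9) (n j9 i4 i10) (n j9 i4 i11))
  (@T16.mk E (n j9 i5 i2) (n j9 i5 i3) (n j9 i5 i0) (n j9 i5 i1) (n j9 i5 i6) (n j9 i5 i7) (n j9 i5 i4) (n j9 i5 i5) (n j9 i5 i10) (n j9 i5 i11) (n j9 i5 i8) (n j9 i5 i9) (n j9 i5 i14) (n j9 i5 i15) (n j9 i5 i12) (n j9 i5 i13))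
  (@T16.mk E (p j9 i6 i7) (p j9 i6 i6) (p j9 i6 i5) (p j9 i6 i4) (p j9 i6 i3) (p j9 i6 i2) (p j9 i6 i1) (p j9 i6 i0) (p j9 i6 i15) (p j9 i6 i14) (p j9 i6 i13) (p j9 i6 i12) (p j9 i6 i11) (p j9 i6 i10) (p j9 i6 i9) (p j9 i6 i8))
  (@T16.mk E (n j9 i7 i3) (n j9 i7 i2) (n j9 i7 i1) (n j9 i7 i0) (n j9 i7 i7) (n j9 i7 i6) (n j9 i7 i5) (n j9 i7 i4) (n j9 i7 i11) (n j9 i7 i10) (n j9 i7 i9) (n j9 i7 i8) (n j9 i7 i15) (n j9 i7 i14) (n j9 i7 i13) (n j9 i7 i12))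
  (@T16.mk E (n j9 i8 i12) (n j9 i8 i13) (n j9 i8 i14) (n j9 i8 i15) (n j9 i8 i8) (n j9 i8 i9) (n j9 i8 i10) (n j9 i8 i11) (n j9 i8 i4) (n j9 i8 i5) (n j9 i8 i6) (n j9 i8 i7) (n j9 i8 i0) (n j9 i8 i1) (n j9 i8 i2) (n j9 i8 i3))
  (@T16.mk E (n j9 i9 i13) (n j9 i9 i12) (n j9 i9 i15) (n j9 i9 i14) (n j9 i9 i9) (n j9 i9 i8) (n j9 i9 i11) (n j9 i9 i10) (n j9 i9 i5) (n j9 i9 i4) (n j9 i9 i7) (n j9 i9 i6) (n j9 i9 i1) (n j9 i9 i0) (n j9 i9 i3) (n j9 i9 i2))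
  (@T16.mk E (p j9 i10 i11) (p j9 i10 i10) (p j9 i10 i9) (p j9 i10 i8) (p j9 i10 i15) (p j9 i10 i14) (p j9 i10 i13) (p j9 i10 i12) (p j9 i10 i3) (p j9 i10 i2) (p j9 i10 i1) (p j9 i10 i0) (p j9 i10 i7) (p j9 i10 i6) (p j9 i10 i5) (p j9 i10 i4))
  (@T16.mk E (p j9 i11 i12) (p j9 i11 i13) (p j9 i11 i14) (p j9 i11 i15) (p j9 i11 i8) (p j9 i11 i9) (p j9 i11 i10) (p j9 i11 i11) (p j9 i11 i4) (p j9 i11 i5) (p j9 i11 i6) (p j9 i11 i7) (p j9 i11 i0) (p j9 i11 i1) (p j9 i11 i2) (p j9 i11 i3))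
  (@T16.mk E (n j9 i12 i4) (n j9 i12 i5) (n j9 i12 i6) (n j9 i12 i7) (n j9 i12 i0) (n j9 i12 i1) (n j9 i12 i2) (n j9 i12 i3) (n j9 i12 i12) (n j9 i12 i13) (n j9 i12 i14) (n j9 i12 i15) (n j9 i12 i8) (n j9 i12 i9) (n j9 i12 i10) (n j9 i12 i11))
  (@T16.mk E (p j9 i13 i6) (p j9 i13 i7) (p j9 i13 i4) (p j9 i13 i5) (p j9 i13 i2) (p j9 i13 i3) (p j9 i13 i0) (p j9 i13 i1) (p j9 i13 i14) (p j9 i13 i15) (p j9 i13 i12) (p j9 i13 i13) (p j9 i13 i10) (p j9 i13 i11) (p j9 i13 i8) (p j9 i13 i9))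
  (@T16.mk E (n j9 i14 i9) (n j9 i14 i8) (n j9 i14 i11) (n j9 i14 i10) (n j9 i14 i13) (n j9 i14 i12) (n j9 i14 i15) (n j9 i14 i14) (n j9 i14 i1) (n j9 i14 i0) (n j9 i14 i3) (n j9 i14 i2) (n j9 i14 i5) (n j9 i14 i4) (n j9 i14 i7) (n j9 i14 i6))
  (@T16.mk E (p j9 i15 i11) (p j9 i15 i10) (p j9 i15 i9) (p j9 i15 i8) (p j9 i15 i15) (p j9 i15 i14) (p j9 i15 i13) (p j9 i15 i12) (p j9 i15 i3) (p j9 i15 i2) (p j9 i15 i1) (p j9 i15 i0) (p j9 i15 i7) (p j9 i15 i6) (p j9 i15 i5) (p j9 i15 i4))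
 )
 (@T16.mk (T16 E)
  (@T16.mk E (n j10 i0 i4) (n j10 i0 i5) (n j10 i0 i6) (n j10 i0 i7) (n j10 i0 i0) (n j10 i0 i1) (n j10 i0 i2) (n j10 i0 i3) (n j10 i0 i12) (n j10 i0 i13) (n j10 i0 i14) (n j10 i0 i15) (n j10 i0 i8) (n j10 i0 i9) (n j10 i0 i10) (n j10 i0 i11))
  (@T16.mk E (n j10 i1 i15) (n j10 i1 i14) (n j10 i1 i13) (n j10 i1 i12) (n j10 i1 i11) (n j10 i1 i10) (n j10 i1 i9) (n j10 i1 i8) (n j10 i1 i7) (n j10 i1 i6) (n j10 i1 i5) (n j10 i1 i4) (n j10 i1 i3) (n j10 i1 i2) (n j10 i1 i1) (n j10 i1 i0))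
  (@T16.mk E (n j10 i2 i4) (n j10 i2 i5) (n j10 i2 i6) (n j10 i2 i7) (n j10 i2 i0) (n j10 i2 i1) (n j10 i2 i2) (n j10 i2 i3) (n j10 i2 i12) (n j10 i2 i13) (n j10 i2 i14) (n j10 i2 i15) (n j10 i2 i8) (n j10 i2 i9) (n j10 i2 i10) (n j10 i2 i11))
  (@T16.mk E (n j10 i3 i3) (n j10 i3 i2) (n j10 i3 i1) (n j10 i3 i0) (n j10 i3 i7) (n j10 i3 i6) (n j10 i3 i5) (n j10 i3 i4) (n j10 i3 i11) (n j10 i3 i10) (n j10 i3 i9) (n j10 i3 i8) (n j10 i3 i15) (n j10 i3 i14) (n j10 i3 i13) (n j10 i3 i12))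
  (@T16.mk E (n j10 i4 i5) (n j10 i4 i4) (n j10 i4 i7) (n j10 i4 i6) (n j10 i4 i1) (n j10 i4 i0) (n j10 i4 i3) (n j10 i4 i2) (n j10 i4 i13) (n j10 i4 i12) (n j10 i4 i15) (n j10 i4 i14) (n j10 i4 i9) (n j10 i4 i8) (n j10 i4 i11) (n j10 i4 i10))
  (@T16.mk E (n j10 i5 i14) (n j10 i5 i15) (n j10 i5 i12) (n j10 i5 i13) (n j10 i5 i10) (n j10 i5 i11) (n j10 i5 i8) (n j10 i5 i9) (n j10 i5 i6) (n j10 i5 i7) (n j10 i5 i4) (n j10 i5 i5) (n j10 i5 i2) (n j10 i5 i3) (n j10 i5 i0) (n j10 i5 i1))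
  (@T16.mk E (n j10 i6 i12) (n j10 i6 i13) (n j10 i6 i14) (n j10 i6 i15) (n j10 i6 i8) (n j10 i6 i9) (n j10 i6 i10) (n j10 i6 i11) (n j10 i6 i4) (n j10 i6 i5) (n j10 i6 i6) (n j10 i6 i7) (n j10 i6 i0) (n j10 i6 i1) (n j10 i6 i2) (n j10 i6 i3))
  (@T16.mk E (n j10 i7 i15) (n j10 i7 i14) (n j10 i7 i13) (n j10 i7 i12) (n j10 i7 i11) (n j10 i7 i10) (n j10 i7 i9) (n j10 i7 i8) (n j10 i7 i7) (n j10 i7 i6) (n j10 i7 i5) (n j10 i7 i4) (n j10 i7 i3) (n j10 i7 i2) (n j10 i7 i1) (n j10 i7 i0))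
  (@T16.mk E (n j10 i8 i6) (n j10 i8 i7) (n j10 i8 i4) (n j10 i8 i5) (n j10 i8 i2) (n j10 i8 i3) (n j10 i8 i0) (n j10 i8 i1) (n j10 i8 i14) (n j10 i8 i15) (n j10 i8 i12) (n j10 i8 i13) (n j10 i8 i10) (n j10 i8 i11) (n j10 i8 i8) (n j10 i8 i9))
  (@T16.mk E (n j10 i9 i1) (n j10 i9 i0) (n j10 i9 i3) (n j10 i9 i2) (n j10 i9 i5) (n j10 i9 i4) (n j10 i9 i7) (n j10 i9 i6) (n j10 i9 i9) (n j10 i9 i8) (n j10 i9 i11) (n j10 i9 i10) (n j10 i9 i13) (n j10 i9 i12) (n j10 i9 i15) (n j10 i9 i14))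
  (@T16.mk E (p j10 i10 i12) (p j10 i10 i13) (p j10 i10 i14) (p j10 i10 i15) (p j10 i10 i8) (p j10 i10 i9) (p j10 i10 i10) (p j10 i10 i11) (p j10 i10 i4) (p j10 i10 i5) (p j10 i10 i6) (p j10 i10 i7) (p j10 i10 i0) (p j10 i10 i1) (p j10 i10 i2) (p j10 i10 i3))
  (@T16.mk E (n j10 i11 i7) (n j10 i11 i6) (n j10 i11 i5) (n j10 i11 i4) (n j10 i11 i3) (n j10 i11 i2) (n j10 i11 i1) (n j10 i11 i0) (n j10 i11 i15) (n j10 i11 i14) (n j10 i11 i13) (n j10 i11 i12) (n j10 i11 i11) (n j10 i11 i10) (n j10 i11 i9) (n j10 i11 i8))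
  (@T16.mk E (n j10 i12 i2) (n j10 i12 i3) (n j10 i12 i0) (n j10 i12 i1) (n j10 i12 i6) (n j10 i12 i7) (n j10 i12 i4) (n j10 i12 i5) (n j10 i12 i10) (n j10 i12 i11) (n j10 i12 i8) (n j10 i12 i9) (n j10 i12 i14) (n j10 i12 i15) (n j10 i12 i12) (n j10 i12 i13))
  (@T16.mk E (p j10 i13 i10) (p j10 i13 i11) (p j10 i13 i8) (p j10 i13 i9) (p j10 i13 i14) (p j10 i13 i15) (p j10 i13 i12) (p j10 i13 i13) (p j10 i13 i2) (p j10 i13 i3) (p j10 i13 i0) (p j10 i13 i1) (p j10 i13 i6) (p j10 i13 i7) (p j10 i13 i4) (p j10 i13 i5))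
  (@T16.mk E (p j10 i14 i12) (p j10 i14 i13) (p j10 i14 i14) (p j10 i14 i15) (p j10 i14 i8) (p j10 i14 i9) (p j10 i14 i10) (p j10 i14 i11) (p j10 i14 i4) (p j10 i14 i5) (p j10 i14 i6) (p j10 i14 i7) (p j10 i14 i0) (p j10 i14 i1) (p j10 i14 i2) (p j10 i14 i3))
  (@T16.mk E (n j10 i15 i10) (n j10 i15 i11) (n j10 i15 i8) (n j10 i15 i9) (n j10 i15 i14) (n j10 i15 i15) (n j10 i15 i12) (n j10 i15 i13) (n j10 i15 i2) (n j10 i15 i3) (n j10 i15 i0) (n j10 i15 i1) (n j10 i15 i6) (n j10 i15 i7) (n j10 i15 i4) (n j10 i15 i5))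
 )
 (@T16.mk (T16 E)
  (@T16.mk E (p j11 i0 i10) (p j11 i0 i11) (p j11 i0 i8) (p j11 i0 i9) (p j11 i0 i14) (p j11 i0 i15) (p j11 i0 i12) (p j11 i0 i13) (p j11 i0 i2) (p j11 i0 i3) (p j11 i0 i0) (p j11 i0 i1) (p j11 i0 i6) (p j11 i0 i7) (p j11 i0 i4) (p j11 i0 i5))
  (@T16.mk E (n j11 i1 i1) (n j11 i1 i0) (n j11 i1 i3) (n j11 i1 i2) (n j11 i1 i5) (n j11 i1 i4) (n j11 i1 i7) (n j11 i1 i6) (n j11 i1 i9) (n j11 i1 i8) (n j11 i1 i11) (n j11 i1 i10) (n j11 i1 i13) (n j11 i1 i12) (n j11 i1 i15) (n j11 i1 i14))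
  (@T16.mk E (n j11 i2 i5) (n j11 i2 i4) (n j11 i2 i7) (n j11 i2 i6) (n j11 i2 i1) (n j11 i2 i0) (n j11 i2 i3) (n j11 i2 i2) (n j11 i2 i13) (n j11 i2 i12) (n j11 i2 i15) (n j11 i2 i14) (n j11 i2 i9) (n j11 i2 i8) (n j11 i2 i11) (n j11 i2 i10))
  (@T16.mk E (p j11 i3 i9) (p j11 i3 i8) (p j11 i3 i11) (p j11 i3 i10) (p j11 i3 i13) (p j11 i3 i12) (p j11 i3 i15) (p j11 i3 i14) (p j11 i3 i1) (p j11 i3 i0) (p j11 i3 i3) (p j11 i3 i2) (p j11 i3 i5) (p j11 i3 i4) (p j11 i3 i7) (p j11 i3 i6))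
  (@T16.mk E (n j11 i4 i4) (n j11 i4 i5) (n j11 i4 i6) (n j11 i4 i7) (n j11 i4 i0) (n j11 i4 i1) (n j11 i4 i2) (n j11 i4 i3) (n j11 i4 i12) (n j11 i4 i13) (n j11 i4 i14) (n j11 i4 i15) (n j11 i4 i8) (n j11 i4 i9) (n j11 i4 i10) (n j11 i4 i11))
  (@T16.mk E (n j11 i5 i5) (n j11 i5 i4) (n j11 i5 i7) (n j11 i5 i6) (n j11 i5 i1) (n j11 i5 i0) (n j11 i5 i3) (n j11 i5 i2) (n j11 i5 i13) (n j11 i5 i12) (n j11 i5 i15) (n j11 i5 i14) (n j11 i5 i9) (n j11 i5 i8) (n j11 i5 i11) (n j11 i5 i10))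
  (@T16.mk E (n j11 i6 i1) (n j11 i6 i0) (n j11 i6 i3) (n j11 i6 i2) (n j11 i6 i5) (n j11 i6 i4) (n j11 i6 i7) (n j11 i6 i6) (n j11 i6 i9) (n j11 i6 i8) (n j11 i6 i11) (n j11 i6 i10) (n j11 i6 i13) (n j11 i6 i12) (n j11 i6 i15) (n j11 i6 i14))
  (@T16.mk E (n j11 i7 i9) (n j11 i7 i8) (n j11 i7 i11) (n j11 i7 i10) (n j11 i7 i13) (n j11 i7 i12) (n j11 i7 i15) (n j11 i7 i14) (n j11 i7 i1) (n j11 i7 i0) (n j11 i7 i3) (n j11 i7 i2) (n j11 i7 i5) (n j11 i7 i4) (n j11 i7 i7) (n j11 i7 i6))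
  (@T16.mk E (n j11 i8 i9) (n j11 i8 i8) (n j11 i8 i11) (n j11 i8 i10) (n j11 i8 i13) (n j11 i8 i12) (n j11 i8 i15) (n j11 i8 i14) (n j11 i8 i1) (n j11 i8 i0) (n j11 i8 i3) (n j11 i8 i2) (n j11 i8 i5) (n j11 i8 i4) (n j11 i8 i7) (n j11 i8 i6))
  (@T16.mk E (n j11 i9 i3) (n j11 i9 i2) (n j11 i9 i1) (n j11 i9 i0) (n j11 i9 i7) (n j11 i9 i6) (n j11 i9 i5) (n j11 i9 i4) (n j11 i9 i11) (n j11 i9 i10) (n j11 i9 i9) (n j11 i9 i8) (n j11 i9 i15) (n j11 i9 i14) (n j11 i9 i13) (n j11 i9 i12))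
  (@T16.mk E (n j11 i10 i15) (n j11 i10 i14) (n j11 i10 i13) (n j11 i10 i12) (n j11 i10 i11) (n j11 i10 i10) (n j11 i10 i9) (n j11 i10 i8) (n j11 i10 i7) (n j11 i10 i6) (n j11 i10 i5) (n j11 i10 i4) (n j11 i10 i3) (n j11 i10 i2) (n j11 i10 i1) (n j11 i10 i0))
  (@T16.mk E (n j11 i11 i5) (n j11 i11 i4) (n j11 i11 i7) (n j11 i11 i6) (n j11 i11 i1) (n j11 i11 i0) (n j11 i11 i3) (n j11 i11 i2) (n j11 i11 i13) (n j11 i11 i12) (n j11 i11 i15) (n j11 i11 i14) (n j11 i11 i9) (n j11 i11 i8) (n j11 i11 i11) (n j11 i11 i10))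
  (@T16.mk E (n j11 i12 i7) (n j11 i12 i6) (n j11 i12 i5) (n j11 i12 i4) (n j11 i12 i3) (n j11 i12 i2) (n j11 i12 i1) (n j11 i12 i0) (n j11 i12 i15) (n j11 i12 i14) (n j11 i12 i13) (n j11 i12 i12) (n j11 i12 i11) (n j11 i12 i10) (n j11 i12 i9) (n j11 i12 i8))
  (@T16.mk E (n j11 i13 i14) (n j11 i13 i15) (n j11 i13 i12) (n j11 i13 i13) (n j11 i13 i10) (n j11 i13 i11) (n j11 i13 i8) (n j11 i13 i9) (n j11 i13 i6) (n j11 i13 i7) (n j11 i13 i4) (n j11 i13 i5) (n j11 i13 i2) (n j11 i13 i3) (n j11 i13 i0) (n j11 i13 i1))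
  (@T16.mk E (n j11 i14 i5) (n j11 i14 i4) (n j11 i14 i7) (n j11 i14 i6) (n j11 i14 i1) (n j11 i14 i0) (n j11 i14 i3) (n j11 i14 i2) (n j11 i14 i13) (n j11 i14 i12) (n j11 i14 i15) (n j11 i14 i14) (n j11 i14 i9) (n j11 i14 i8) (n j11 i14 i11) (n j11 i14 i10))
  (@T16.mk E (n j11 i15 i13) (n j11 i15 i12) (n j11 i15 i15) (n j11 i15 i14) (n j11 i15 i9) (n j11 i15 i8) (n j11 i15 i11) (n j11 i15 i10) (n j11 i15 i5) (n j11 i15 i4) (n j11 i15 i7) (n j11 i15 i6) (n j11 i15 i1) (n j11 i15 i0) (n j11 i15 i3) (n j11 i15 i2))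
 )
 (@T16.mk (T16 E)
  (@T16.mk E (n j12 i0 i11) (n j12 i0 i10) (n j12 i0 i9) (n j12 i0 i8) (n j12 i0 i15) (n j12 i0 i14) (n j12 i0 i13) (n j12 i0 i12) (n j12 i0 i3) (n j12 i0 i2) (n j12 i0 i1) (n j12 i0 i0) (n j12 i0 i7) (n j12 i0 i6) (n j12 i0 i5) (n j12 i0 i4))
  (@T16.mk E (n j12 i1 i9) (n j12 i1 i8) (n j12 i1 i11) (n j12 i1 i10) (n j12 i1 i13) (n j12 i1 i12) (n j12 i1 i15) (n j12 i1 i14) (n j12 i1 i1) (n j12 i1 i0) (n j12 i1 i3) (n j12 i1 i2) (n j12 i1 i5) (n j12 i1 i4) (n j12 i1 i7) (n j12 i1 i6))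
  (@T16.mk E (p j12 i2 i12) (p j12 i2 i13) (p j12 i2 i14) (p j12 i2 i15) (p j12 i2 i8) (p j12 i2 i9) (p j12 i2 i10) (p j12 i2 i11) (p j12 i2 i4) (p j12 i2 i5) (p j12 i2 i6) (p j12 i2 i7) (p j12 i2 i0) (p j12 i2 i1) (p j12 i2 i2) (p j12 i2 i3))
  (@T16.mk E (n j12 i3 i7) (n j12 i3 i6) (n j12 i3 i5) (n j12 i3 i4) (n j12 i3 i3) (n j12 i3 i2) (n j12 i3 i1) (n j12 i3 i0) (n j12 i3 i15) (n j12 i3 i14) (n j12 i3 i13) (n j12 i3 i12) (n j12 i3 i11) (n j12 i3 i10) (n j12 i3 i9) (n j12 i3 i8))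
  (@T16.mk E (p j12 i4 i0) (p j12 i4 i1) (p j12 i4 i2) (p j12 i4 i3) (p j12 i4 i4) (p j12 i4 i5) (p j12 i4 i6) (p j12 i4 i7) (p j12 i4 i8) (p j12 i4 i9) (p j12 i4 i10) (p j12 i4 i11) (p j12 i4 i12) (p j12 i4 i13) (p j12 i4 i14) (p j12 i4 i15))
  (@T16.mk E (p j12 i5 i0) (p j12 i5 i1) (p j12 i5 i2) (p j12 i5 i3) (p j12 i5 i4) (p j12 i5 i5) (p j12 i5 i6) (p j12 i5 i7) (p j12 i5 i8) (p j12 i5 i9) (p j12 i5 i10) (p j12 i5 i11) (p j12 i5 i12) (p j12 i5 i13) (p j12 i5 i14) (p j12 i5 i15))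
  (@T16.mk E (p j12 i6 i0) (p j12 i6 i1) (p j12 i6 i2) (p j12 i6 i3) (p j12 i6 i4) (p j12 i6 i5) (p j12 i6 i6) (p j12 i6 i7) (p j12 i6 i8) (p j12 i6 i9) (p j12 i6 i10) (p j12 i6 i11) (p j12 i6 i12) (p j12 i6 i13) (p j12 i6 i14) (p j12 i6 i15))
  (@T16.mk E (n j12 i7 i4) (n j12 i7 i5) (n j12 i7 i6) (n j12 i7 i7) (n j12 i7 i0) (n j12 i7 i1) (n j12 i7 i2) (n j12 i7 i3) (n j12 i7 i12) (n j12 i7 i13) (n j12 i7 i14) (n j12 i7 i15) (n j12 i7 i8) (n j12 i7 i9) (n j12 i7 i10) (n j12 i7 i11))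
  (@T16.mk E (p j12 i8 i10) (p j12 i8 i11) (p j12 i8 i8) (p j12 i8 i9) (p j12 i8 i14) (p j12 i8 i15) (p j12 i8 i12) (p j12 i8 i13) (p j12 i8 i2) (p j12 i8 i3) (p j12 i8 i0) (p j12 i8 i1) (p j12 i8 i6) (p j12 i8 i7) (p j12 i8 i4) (p j12 i8 i5))
  (@T16.mk E (n j12 i9 i6) (n j12 i9 i7) (n j12 i9 i4) (n j12 i9 i5) (n j12 i9 i2) (n j12 i9 i3) (n j12 i9 i0) (n j12 i9 i1) (n j12 i9 i14) (n j12 i9 i15) (n j12 i9 i12) (n j12 i9 i13) (n j12 i9 i10) (n j12 i9 i11) (n j12 i9 i8) (n j12 i9 i9))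
  (@T16.mk E (n j12 i10 i9) (n j12 i10 i8) (n j12 i10 i11) (n j12 i10 i10) (n j12 i10 i13) (n j12 i10 i12) (n j12 i10 i15) (n j12 i10 i14) (n j12 i10 i1) (n j12 i10 i0) (n j12 i10 i3) (n j12 i10 i2) (n j12 i10 i5) (n j12 i10 i4) (n j12 i10 i7) (n j12 i10 i6))
  (@T16.mk E (n j12 i11 i9) (n j12 i11 i8) (n j12 i11 i11) (n j12 i11 i10) (n j12 i11 i13) (n j12 i11 i12) (n j12 i11 i15) (n j12 i11 i14) (n j12 i11 i1) (n j12 i11 i0) (n j12 i11 i3) (n j12 i11 i2) (n j12 i11 i5) (n j12 i11 i4) (n j12 i11 i7) (n j12 i11 i6))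
  (@T16.mk E (n j12 i12 i15) (n j12 i12 i14) (n j12 i12 i13) (n j12 i12 i12) (n j12 i12 i11) (n j12 i12 i10) (n j12 i12 i9) (n j12 i12 i8) (n j12 i12 i7) (n j12 i12 i6) (n j12 i12 i5) (n j12 i12 i4) (n j12 i12 i3) (n j12 i12 i2) (n j12 i12 i1) (n j12 i12 i0))
  (@T16.mk E (p j15 i9 i8) (p j15 i9 i9) (p j15 i9 i10) (n j15 i9 i11) (p j15 i9 i12) (n j15 i9 i13) (n j15 i9 i14) (n j15 i9 i15) (p j15 i9 i0) (n j15 i9 i1) (n j15 i9 i2) (n j15 i9 i3) (p j15 i9 i4) (p j15 i9 i5) (p j15 i9 i6) (n j15 i9 i7))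
  (@T16.mk E (p j15 i10 i8) (p j15 i10 i9) (p j15 i10 i10) (n j15 i10 i11) (p j15 i10 i12) (n j15 i10 i13) (n j15 i10 i14) (n j15 i10 i15) (p j15 i10 i0) (n j15 i10 i1) (n j15 i10 i2) (n j15 i10 i3) (p j15 i10 i4) (p j15 i10 i5) (p j15 i10 i6) (n j15 i10 i7))
  (@T16.mk E (n j15 i11 i8) (n j15 i11 i9) (p j15 i11 i10) (n j15 i11 i11) (p j15 i11 i12) (n j15 i11 i13) (p j15 i11 i14) (p j15 i11 i15) (p j15 i11 i0) (n j15 i11 i1) (p j15 i11 i2) (p j15 i11 i3) (n j15 i11 i4) (n j15 i11 i5) (p j15 i11 i6) (n j15 i11 i7))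
 )
 (@T16.mk (T16 E)
  (@T16.mk E (n j15 i12 i8) (n j15 i12 i9) (p j15 i12 i10) (n j15 i12 i11) (p j15 i12 i12) (n j15 i12 i13) (p j15 i12 i14) (p j15 i12 i15) (p j15 i12 i0) (n j15 i12 i1) (p j15 i12 i2) (p j15 i12 i3) (n j15 i12 i4) (n j15 i12 i5) (p j15 i12 i6) (n j15 i12 i7))
  (@T16.mk E (p j15 i5 i8) (p j15 i5 i9) (p j15 i5 i10) (n j15 i5 i11) (p j15 i5 i12) (n j15 i5 i13) (n j15 i5 i14) (n j15 i5 i15) (p j15 i5 i0) (n j15 i5 i1) (n j15 i5 i2) (n j15 i5 i3) (p j15 i5 i4) (p j15 i5 i5) (p j15 i5 i6) (n j15 i5 i7))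
  (@T16.mk E (p j15 i6 i8) (p j15 i6 i9) (p j15 i6 i10) (n j15 i6 i11) (p j15 i6 i12) (n j15 i6 i13) (n j15 i6 i14) (n j15 i6 i15) (p j15 i6 i0) (n j15 i6 i1) (n j15 i6 i2) (n j15 i6 i3) (p j15 i6 i4) (p j15 i6 i5) (p j15 i6 i6) (n j15 i6 i7))
  (@T16.mk E (n j15 i7 i8) (n j15 i7 i9) (p j15 i7 i10) (n j15 i7 i11) (p j15 i7 i12) (n j15 i7 i13) (p j15 i7 i14) (p j15 i7 i15) (p j15 i7 i0) (n j15 i7 i1) (p j15 i7 i2) (p j15 i7 i3) (n j15 i7 i4) (n j15 i7 i5) (p j15 i7 i6) (n j15 i7 i7))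
  (@T16.mk E (n j15 i8 i8) (n j15 i8 i9) (p j15 i8 i10) (n j15 i8 i11) (p j15 i8 i12) (n j15 i8 i13) (p j15 i8 i14) (p j15 i8 i15) (p j15 i8 i0) (n j15 i8 i1) (p j15 i8 i2) (p j15 i8 i3) (n j15 i8 i4) (n j15 i8 i5) (p j15 i8 i6) (n j15 i8 i7))
  (@T16.mk E (p j15 i1 i8) (p j15 i1 i9) (n j15 i1 i10) (p j15 i1 i11) (n j15 i1 i12) (p j15 i1 i13) (n j15 i1 i14) (n j15 i1 i15) (p j15 i1 i0) (n j15 i1 i1) (p j15 i1 i2) (p j15 i1 i3) (n j15 i1 i4) (n j15 i1 i5) (p j15 i1 i6) (n j15 i1 i7))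
  (@T16.mk E (p j15 i2 i8) (p j15 i2 i9) (n j15 i2 i10) (p j15 i2 i11) (n j15 i2 i12) (p j15 i2 i13) (n j15 i2 i14) (n j15 i2 i15) (p j15 i2 i0) (n j15 i2 i1) (p j15 i2 i2) (p j15 i2 i3) (n j15 i2 i4) (n j15 i2 i5) (p j15 i2 i6) (n j15 i2 i7))
  (@T16.mk E (n j15 i3 i8) (n j15 i3 i9) (n j15 i3 i10) (p j15 i3 i11) (n j15 i3 i12) (p j15 i3 i13) (p j15 i3 i14) (p j15 i3 i15) (p j15 i3 i0) (n j15 i3 i1) (n j15 i3 i2) (n j15 i3 i3) (p j15 i3 i4) (p j15 i3 i5) (p j15 i3 i6) (n j15 i3 i7))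
  (@T16.mk E (n j15 i4 i8) (n j15 i4 i9) (n j15 i4 i10) (p j15 i4 i11) (n j15 i4 i12) (p j15 i4 i13) (p j15 i4 i14) (p j15 i4 i15) (p j15 i4 i0) (n j15 i4 i1) (n j15 i4 i2) (n j15 i4 i3) (p j15 i4 i4) (p j15 i4 i5) (p j15 i4 i6) (n j15 i4 i7))
  (@T16.mk E (p j14 i13 i8) (p j14 i13 i9) (n j14 i13 i10) (p j14 i13 i11) (n j14 i13 i12) (p j14 i13 i13) (n j14 i13 i14) (n j14 i13 i15) (p j14 i13 i0) (n j14 i13 i1) (p j14 i13 i2) (p j14 i13 i3) (n j14 i13 i4) (n j14 i13 i5) (p j14 i13 i6) (n j14 i13 i7))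
  (@T16.mk E (p j14 i14 i8) (p j14 i14 i9) (n j14 i14 i10) (p j14 i14 i11) (n j14 i14 i12) (p j14 i14 i13) (n j14 i14 i14) (n j14 i14 i15) (p j14 i14 i0) (n j14 i14 i1) (p j14 i14 i2) (p j14 i14 i3) (n j14 i14 i4) (n j14 i14 i5) (p j14 i14 i6) (n j14 i14 i7))
  (@T16.mk E (n j14 i15 i8) (n j14 i15 i9) (n j14 i15 i10) (p j14 i15 i11) (n j14 i15 i12) (p j14 i15 i13) (p j14 i15 i14) (p j14 i15 i15) (p j14 i15 i0) (n j14 i15 i1) (n j14 i15 i2) (n j14 i15 i3) (p j14 i15 i4) (p j14 i15 i5) (p j14 i15 i6) (n j14 i15 i7))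
  (@T16.mk E (n j15 i0 i8) (n j15 i0 i9) (n j15 i0 i10) (p j15 i0 i11) (n j15 i0 i12) (p j15 i0 i13) (p j15 i0 i14) (p j15 i0 i15) (p j15 i0 i0) (n j15 i0 i1) (n j15 i0 i2) (n j15 i0 i3) (p j15 i0 i4) (p j15 i0 i5) (p j15 i0 i6) (n j15 i0 i7))
  (@T16.mk E (p j16 i9 i8) (n j16 i9 i9) (p j16 i9 i10) (p j16 i9 i11) (n j16 i9 i12) (n j16 i9 i13) (p j16 i9 i14) (n j16 i9 i15) (p j16 i9 i0) (p j16 i9 i1) (n j16 i9 i2) (p j16 i9 i3) (n j16 i9 i4) (p j16 i9 i5) (n j16 i9 i6) (n j16 i9 i7))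
  (@T16.mk E (p j16 i10 i8) (n j16 i10 i9) (p j16 i10 i10) (p j16 i10 i11) (n j16 i10 i12) (n j16 i10 i13) (p j16 i10 i14) (n j16 i10 i15) (p j16 i10 i0) (p j16 i10 i1) (n j16 i10 i2) (p j16 i10 i3) (n j16 i10 i4) (p j16 i10 i5) (n j16 i10 i6) (n j16 i10 i7))
  (@T16.mk E (p j16 i11 i8) (n j16 i11 i9) (n j16 i11 i10) (n j16 i11 i11) (p j16 i11 i12) (p j16 i11 i13) (p j16 i11 i14) (n j16 i11 i15) (n j16 i11 i0) (n j16 i11 i1) (n j16 i11 i2) (p j16 i11 i3) (n j16 i11 i4) (p j16 i11 i5) (p j16 i11 i6) (p j16 i11 i7))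
 )
 (@T16.mk (T16 E)
  (@T16.mk E (p j16 i12 i8) (n j16 i12 i9) (n j16 i12 i10) (n j16 i12 i11) (p j16 i12 i12) (p j16 i12 i13) (p j16 i12 i14) (n j16 i12 i15) (n j16 i12 i0) (n j16 i12 i1) (n j16 i12 i2) (p j16 i12 i3) (n j16 i12 i4) (p j16 i12 i5) (p j16 i12 i6) (p j16 i12 i7))
  (@T16.mk E (n j16 i5 i8) (p j16 i5 i9) (n j16 i5 i10) (n j16 i5 i11) (p j16 i5 i12) (p j16 i5 i13) (n j16 i5 i14) (p j16 i5 i15) (n j16 i5 i0) (n j16 i5 i1) (p j16 i5 i2) (n j16 i5 i3) (p j16 i5 i4) (n j16 i5 i5) (p j16 i5 i6) (p j16 i5 i7))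
  (@T16.mk E (n j16 i6 i8) (p j16 i6 i9) (n j16 i6 i10) (n j16 i6 i11) (p j16 i6 i12) (p j16 i6 i13) (n j16 i6 i14) (p j16 i6 i15) (n j16 i6 i0) (n j16 i6 i1) (p j16 i6 i2) (n j16 i6 i3) (p j16 i6 i4) (n j16 i6 i5) (p j16 i6 i6) (p j16 i6 i7))
  (@T16.mk E (n j16 i7 i8) (p j16 i7 i9) (p j16 i7 i10) (p j16 i7 i11) (n j16 i7 i12) (n j16 i7 i13) (n j16 i7 i14) (p j16 i7 i15) (p j16 i7 i0) (p j16 i7 i1) (p j16 i7 i2) (n j16 i7 i3) (p j16 i7 i4) (n j16 i7 i5) (n j16 i7 i6) (n j16 i7 i7))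
  (@T16.mk E (n j16 i8 i8) (p j16 i8 i9) (p j16 i8 i10) (p j16 i8 i11) (n j16 i8 i12) (n j16 i8 i13) (n j16 i8 i14) (p j16 i8 i15) (p j16 i8 i0) (p j16 i8 i1) (p j16 i8 i2) (n j16 i8 i3) (p j16 i8 i4) (n j16 i8 i5) (n j16 i8 i6) (n j16 i8 i7))
  (@T16.mk E (p j16 i1 i8) (n j16 i1 i9) (n j16 i1 i10) (n j16 i1 i11) (p j16 i1 i12) (p j16 i1 i13) (p j16 i1 i14) (n j16 i1 i15) (p j16 i1 i0) (p j16 i1 i1) (p j16 i1 i2) (n j16 i1 i3) (p j16 i1 i4) (n j16 i1 i5) (n j16 i1 i6) (n j16 i1 i7))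
  (@T16.mk E (p j16 i2 i8) (n j16 i2 i9) (n j16 i2 i10) (n j16 i2 i11) (p j16 i2 i12) (p j16 i2 i13) (p j16 i2 i14) (n j16 i2 i15) (p j16 i2 i0) (p j16 i2 i1) (p j16 i2 i2) (n j16 i2 i3) (p j16 i2 i4) (n j16 i2 i5) (n j16 i2 i6) (n j16 i2 i7))
  (@T16.mk E (p j16 i3 i8) (n j16 i3 i9) (p j16 i3 i10) (p j16 i3 i11) (n j16 i3 i12) (n j16 i3 i13) (p j16 i3 i14) (n j16 i3 i15) (n j16 i3 i0) (n j16 i3 i1) (p j16 i3 i2) (n j16 i3 i3) (p j16 i3 i4) (n j16 i3 i5) (p j16 i3 i6) (p j16 i3 i7))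
  (@T16.mk E (p j16 i4 i8) (n j16 i4 i9) (p j16 i4 i10) (p j16 i4 i11) (n j16 i4 i12) (n j16 i4 i13) (p j16 i4 i14) (n j16 i4 i15) (n j16 i4 i0) (n j16 i4 i1) (p j16 i4 i2) (n j16 i4 i3) (p j16 i4 i4) (n j16 i4 i5) (p j16 i4 i6) (p j16 i4 i7))
  (@T16.mk E (n j15 i13 i8) (p j15 i13 i9) (p j15 i13 i10) (p j15 i13 i11) (n j15 i13 i12) (n j15 i13 i13) (n j15 i13 i14) (p j15 i13 i15) (n j15 i13 i0) (n j15 i13 i1) (n j15 i13 i2) (p j15 i13 i3) (n j15 i13 i4) (p j15 i13 i5) (p j15 i13 i6) (p j15 i13 i7))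
  (@T16.mk E (n j15 i14 i8) (p j15 i14 i9) (p j15 i14 i10) (p j15 i14 i11) (n j15 i14 i12) (n j15 i14 i13) (n j15 i14 i14) (p j15 i14 i15) (n j15 i14 i0) (n j15 i14 i1) (n j15 i14 i2) (p j15 i14 i3) (n j15 i14 i4) (p j15 i14 i5) (p j15 i14 i6) (p j15 i14 i7))
  (@T16.mk E (n j15 i15 i8) (p j15 i15 i9) (n j15 i15 i10) (n j15 i15 i11) (p j15 i15 i12) (p j15 i15 i13) (n j15 i15 i14) (p j15 i15 i15) (p j15 i15 i0) (p j15 i15 i1) (n j15 i15 i2) (p j15 i15 i3) (n j15 i15 i4) (p j15 i15 i5) (n j15 i15 i6) (n j15 i15 i7))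
  (@T16.mk E (n j16 i0 i8) (p j16 i0 i9) (n j16 i0 i10) (n j16 i0 i11) (p j16 i0 i12) (p j16 i0 i13) (n j16 i0 i14) (p j16 i0 i15) (p j16 i0 i0) (p j16 i0 i1) (n j16 i0 i2) (p j16 i0 i3) (n j16 i0 i4) (p j16 i0 i5) (n j16 i0 i6) (n j16 i0 i7))
  (@T16.mk E (p j13 i9 i8) (n j13 i9 i9) (p j13 i9 i10) (p j13 i9 i11) (n j13 i9 i12) (n j13 i9 i13) (p j13 i9 i14) (n j13 i9 i15) (p j13 i9 i0) (p j13 i9 i1) (n j13 i9 i2) (p j13 i9 i3) (n j13 i9 i4) (p j13 i9 i5) (n j13 i9 i6) (n j13 i9 i7))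
  (@T16.mk E (p j13 i10 i8) (n j13 i10 i9) (p j13 i10 i10) (p j13 i10 i11) (n j13 i10 i12) (n j13 i10 i13) (p j13 i10 i14) (n j13 i10 i15) (p j13 i10 i0) (p j13 i10 i1) (n j13 i10 i2) (p j13 i10 i3) (n j13 i10 i4) (p j13 i10 i5) (n j13 i10 i6) (n j13 i10 i7))
  (@T16.mk E (p j13 i11 i8) (n j13 i11 i9) (n j13 i11 i10) (n j13 i11 i11) (p j13 i11 i12) (p j13 i11 i13) (p j13 i11 i14) (n j13 i11 i15) (n j13 i11 i0) (n j13 i11 i1) (n j13 i11 i2) (p j13 i11 i3) (n j13 i11 i4) (p j13 i11 i5) (p j13 i11 i6) (p j13 i11 i7))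
 )
 (@T16.mk (T16 E)
  (@T16.mk E (p j13 i12 i8) (n j13 i12 i9) (n j13 i12 i10) (n j13 i12 i11) (p j13 i12 i12) (p j13 i12 i13) (p j13 i12 i14) (n j13 i12 i15) (n j13 i12 i0) (n j13 i12 i1) (n j13 i12 i2) (p j13 i12 i3) (n j13 i12 i4) (p j13 i12 i5) (p j13 i12 i6) (p j13 i12 i7))
  (@T16.mk E (p j13 i5 i8) (n j13 i5 i9) (p j13 i5 i10) (p j13 i5 i11) (n j13 i5 i12) (n j13 i5 i13) (p j13 i5 i14) (n j13 i5 i15) (p j13 i5 i0) (p j13 i5 i1) (n j13 i5 i2) (p j13 i5 i3) (n j13 i5 i4) (p j13 i5 i5) (n j13 i5 i6) (n j13 i5 i7))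
  (@T16.mk E (p j13 i6 i8) (n j13 i6 i9) (p j13 i6 i10) (p j13 i6 i11) (n j13 i6 i12) (n j13 i6 i13) (p j13 i6 i14) (n j13 i6 i15) (p j13 i6 i0) (p j13 i6 i1) (n j13 i6 i2) (p j13 i6 i3) (n j13 i6 i4) (p j13 i6 i5) (n j13 i6 i6) (n j13 i6 i7))
  (@T16.mk E (p j13 i7 i8) (n j13 i7 i9) (n j13 i7 i10) (n j13 i7 i11) (p j13 i7 i12) (p j13 i7 i13) (p j13 i7 i14) (n j13 i7 i15) (n j13 i7 i0) (n j13 i7 i1) (n j13 i7 i2) (p j13 i7 i3) (n j13 i7 i4) (p j13 i7 i5) (p j13 i7 i6) (p j13 i7 i7))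
  (@T16.mk E (p j13 i8 i8) (n j13 i8 i9) (n j13 i8 i10) (n j13 i8 i11) (p j13 i8 i12) (p j13 i8 i13) (p j13 i8 i14) (n j13 i8 i15) (n j13 i8 i0) (n j13 i8 i1) (n j13 i8 i2) (p j13 i8 i3) (n j13 i8 i4) (p j13 i8 i5) (p j13 i8 i6) (p j13 i8 i7))
  (@T16.mk E (p j13 i1 i8) (n j13 i1 i9) (n j13 i1 i10) (n j13 i1 i11) (p j13 i1 i12) (p j13 i1 i13) (p j13 i1 i14) (n j13 i1 i15) (p j13 i1 i0) (p j13 i1 i1) (p j13 i1 i2) (n j13 i1 i3) (p j13 i1 i4) (n j13 i1 i5) (n j13 i1 i6) (n j13 i1 i7))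
  (@T16.mk E (p j13 i2 i8) (n j13 i2 i9) (n j13 i2 i10) (n j13 i2 i11) (p j13 i2 i12) (p j13 i2 i13) (p j13 i2 i14) (n j13 i2 i15) (p j13 i2 i0) (p j13 i2 i1) (p j13 i2 i2) (n j13 i2 i3) (p j13 i2 i4) (n j13 i2 i5) (n j13 i2 i6) (n j13 i2 i7))
  (@T16.mk E (p j13 i3 i8) (n j13 i3 i9) (p j13 i3 i10) (p j13 i3 i11) (n j13 i3 i12) (n j13 i3 i13) (p j13 i3 i14) (n j13 i3 i15) (n j13 i3 i0) (n j13 i3 i1) (p j13 i3 i2) (n j13 i3 i3) (p j13 i3 i4) (n j13 i3 i5) (p j13 i3 i6) (p j13 i3 i7))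
  (@T16.mk E (p j13 i4 i8) (n j13 i4 i9) (p j13 i4 i10) (p j13 i4 i11) (n j13 i4 i12) (n j13 i4 i13) (p j13 i4 i14) (n j13 i4 i15) (n j13 i4 i0) (n j13 i4 i1) (p j13 i4 i2) (n j13 i4 i3) (p j13 i4 i4) (n j13 i4 i5) (p j13 i4 i6) (p j13 i4 i7))
  (@T16.mk E (p j12 i13 i8) (n j12 i13 i9) (n j12 i13 i10) (n j12 i13 i11) (p j12 i13 i12) (p j12 i13 i13) (p j12 i13 i14) (n j12 i13 i15) (p j12 i13 i0) (p j12 i13 i1) (p j12 i13 i2) (n j12 i13 i3) (p j12 i13 i4) (n j12 i13 i5) (n j12 i13 i6) (n j12 i13 i7))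
  (@T16.mk E (p j12 i14 i8) (n j12 i14 i9) (n j12 i14 i10) (n j12 i14 i11) (p j12 i14 i12) (p j12 i14 i13) (p j12 i14 i14) (n j12 i14 i15) (p j12 i14 i0) (p j12 i14 i1) (p j12 i14 i2) (n j12 i14 i3) (p j12 i14 i4) (n j12 i14 i5) (n j12 i14 i6) (n j12 i14 i7))
  (@T16.mk E (p j12 i15 i8) (n j12 i15 i9) (p j12 i15 i10) (p j12 i15 i11) (n j12 i15 i12) (n j12 i15 i13) (p j12 i15 i14) (n j12 i15 i15) (n j12 i15 i0) (n j12 i15 i1) (p j12 i15 i2) (n j12 i15 i3) (p j12 i15 i4) (n j12 i15 i5) (p j12 i15 i6) (p j12 i15 i7))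
  (@T16.mk E (p j13 i0 i8) (n j13 i0 i9) (p j13 i0 i10) (p j13 i0 i11) (n j13 i0 i12) (n j13 i0 i13) (p j13 i0 i14) (n j13 i0 i15) (n j13 i0 i0) (n j13 i0 i1) (p j13 i0 i2) (n j13 i0 i3) (p j13 i0 i4) (n j13 i0 i5) (p j13 i0 i6) (p j13 i0 i7))
  (@T16.mk E (n j14 i9 i8) (n j14 i9 i9) (n j14 i9 i10) (p j14 i9 i11) (n j14 i9 i12) (p j14 i9 i13) (p j14 i9 i14) (p j14 i9 i15) (n j14 i9 i0) (p j14 i9 i1) (p j14 i9 i2) (p j14 i9 i3) (n j14 i9 i4) (n j14 i9 i5) (n j14 i9 i6) (p j14 i9 i7))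
  (@T16.mk E (n j14 i10 i8) (n j14 i10 i9) (n j14 i10 i10) (p j14 i10 i11) (n j14 i10 i12) (p j14 i10 i13) (p j14 i10 i14) (p j14 i10 i15) (n j14 i10 i0) (p j14 i10 i1) (p j14 i10 i2) (p j14 i10 i3) (n j14 i10 i4) (n j14 i10 i5) (n j14 i10 i6) (p j14 i10 i7))
  (@T16.mk E (p j14 i11 i8) (p j14 i11 i9) (n j14 i11 i10) (p j14 i11 i11) (n j14 i11 i12) (p j14 i11 i13) (n j14 i11 i14) (n j14 i11 i15) (n j14 i11 i0) (p j14 i11 i1) (n j14 i11 i2) (n j14 i11 i3) (p j14 i11 i4) (p j14 i11 i5) (n j14 i11 i6) (p j14 i11 i7))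
 )
 (@T16.mk (T16 E)
  (@T16.mk E (p j14 i12 i8) (p j14 i12 i9) (n j14 i12 i10) (p j14 i12 i11) (n j14 i12 i12) (p j14 i12 i13) (n j14 i12 i14) (n j14 i12 i15) (n j14 i12 i0) (p j14 i12 i1) (n j14 i12 i2) (n j14 i12 i3) (p j14 i12 i4) (p j14 i12 i5) (n j14 i12 i6) (p j14 i12 i7))
  (@T16.mk E (p j14 i5 i8) (p j14 i5 i9) (p j14 i5 i10) (n j14 i5 i11) (p j14 i5 i12) (n j14 i5 i13) (n j14 i5 i14) (n j14 i5 i15) (p j14 i5 i0) (n j14 i5 i1) (n j14 i5 i2) (n j14 i5 i3) (p j14 i5 i4) (p j14 i5 i5) (p j14 i5 i6) (n j14 i5 i7))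
  (@T16.mk E (p j14 i6 i8) (p j14 i6 i9) (p j14 i6 i10) (n j14 i6 i11) (p j14 i6 i12) (n j14 i6 i13) (n j14 i6 i14) (n j14 i6 i15) (p j14 i6 i0) (n j14 i6 i1) (n j14 i6 i2) (n j14 i6 i3) (p j14 i6 i4) (p j14 i6 i5) (p j14 i6 i6) (n j14 i6 i7))
  (@T16.mk E (n j14 i7 i8) (n j14 i7 i9) (p j14 i7 i10) (n j14 i7 i11) (p j14 i7 i12) (n j14 i7 i13) (p j14 i7 i14) (p j14 i7 i15) (p j14 i7 i0) (n j14 i7 i1) (p j14 i7 i2) (p j14 i7 i3) (n j14 i7 i4) (n j14 i7 i5) (p j14 i7 i6) (n j14 i7 i7))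
  (@T16.mk E (n j14 i8 i8) (n j14 i8 i9) (p j14 i8 i10) (n j14 i8 i11) (p j14 i8 i12) (n j14 i8 i13) (p j14 i8 i14) (p j14 i8 i15) (p j14 i8 i0) (n j14 i8 i1) (p j14 i8 i2) (p j14 i8 i3) (n j14 i8 i4) (n j14 i8 i5) (p j14 i8 i6) (n j14 i8 i7))
  (@T16.mk E (n j14 i1 i8) (n j14 i1 i9) (p j14 i1 i10) (n j14 i1 i11) (p j14 i1 i12) (n j14 i1 i13) (p j14 i1 i14) (p j14 i1 i15) (n j14 i1 i0) (p j14 i1 i1) (n j14 i1 i2) (n j14 i1 i3) (p j14 i1 i4) (p j14 i1 i5) (n j14 i1 i6) (p j14 i1 i7))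
  (@T16.mk E (n j14 i2 i8) (n j14 i2 i9) (p j14 i2 i10) (n j14 i2 i11) (p j14 i2 i12) (n j14 i2 i13) (p j14 i2 i14) (p j14 i2 i15) (n j14 i2 i0) (p j14 i2 i1) (n j14 i2 i2) (n j14 i2 i3) (p j14 i2 i4) (p j14 i2 i5) (n j14 i2 i6) (p j14 i2 i7))
  (@T16.mk E (p j14 i3 i8) (p j14 i3 i9) (p j14 i3 i10) (n j14 i3 i11) (p j14 i3 i12) (n j14 i3 i13) (n j14 i3 i14) (n j14 i3 i15) (n j14 i3 i0) (p j14 i3 i1) (p j14 i3 i2) (p j14 i3 i3) (n j14 i3 i4) (n j14 i3 i5) (n j14 i3 i6) (p j14 i3 i7))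
  (@T16.mk E (p j14 i4 i8) (p j14 i4 i9) (p j14 i4 i10) (n j14 i4 i11) (p j14 i4 i12) (n j14 i4 i13) (n j14 i4 i14) (n j14 i4 i15) (n j14 i4 i0) (p j14 i4 i1) (p j14 i4 i2) (p j14 i4 i3) (n j14 i4 i4) (n j14 i4 i5) (n j14 i4 i6) (p j14 i4 i7))
  (@T16.mk E (p j13 i13 i8) (p j13 i13 i9) (n j13 i13 i10) (p j13 i13 i11) (n j13 i13 i12) (p j13 i13 i13) (n j13 i13 i14) (n j13 i13 i15) (p j13 i13 i0) (n j13 i13 i1) (p j13 i13 i2) (p j13 i13 i3) (n j13 i13 i4) (n j13 i13 i5) (p j13 i13 i6) (n j13 i13 i7))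
  (@T16.mk E (p j13 i14 i8) (p j13 i14 i9) (n j13 i14 i10) (p j13 i14 i11) (n j13 i14 i12) (p j13 i14 i13) (n j13 i14 i14) (n j13 i14 i15) (p j13 i14 i0) (n j13 i14 i1) (p j13 i14 i2) (p j13 i14 i3) (n j13 i14 i4) (n j13 i14 i5) (p j13 i14 i6) (n j13 i14 i7))
  (@T16.mk E (n j13 i15 i8) (n j13 i15 i9) (n j13 i15 i10) (p j13 i15 i11) (n j13 i15 i12) (p j13 i15 i13) (p j13 i15 i14) (p j13 i15 i15) (p j13 i15 i0) (n j13 i15 i1) (n j13 i15 i2) (n j13 i15 i3) (p j13 i15 i4) (p j13 i15 i5) (p j13 i15 i6) (n j13 i15 i7))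
  (@T16.mk E (n j14 i0 i8) (n j14 i0 i9) (n j14 i0 i10) (p j14 i0 i11) (n j14 i0 i12) (p j14 i0 i13) (p j14 i0 i14) (p j14 i0 i15) (p j14 i0 i0) (n j14 i0 i1) (n j14 i0 i2) (n j14 i0 i3) (p j14 i0 i4) (p j14 i0 i5) (p j14 i0 i6) (n j14 i0 i7))
  (@T16.mk E (p j16 i13 i0) (p j16 i13 i1) (p j16 i13 i2) (n j16 i13 i3) (p j16 i13 i4) (p j16 i13 i5) (n j16 i13 i6) (n j16 i13 i7) (p j16 i13 i8) (n j16 i13 i9) (p j16 i13 i10) (n j16 i13 i11) (p j16 i13 i12) (p j16 i13 i13) (n j16 i13 i14) (n j16 i13 i15))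
  (@T16.mk E (p j16 i14 i0) (p j16 i14 i1) (n j16 i14 i2) (p j16 i14 i3) (p j16 i14 i4) (p j16 i14 i5) (p j16 i14 i6) (p j16 i14 i7) (p j16 i14 i8) (n j16 i15 i15) (p j16 i14 i10) (p j16 i14 i11) (n j17 i0 i2) (n j17 i0 i3) (p j16 i14 i14) (n j17 i0 i5))
  (@T16.mk E (p j16 i15 i0) (n j17 i0 i7) (p j16 i15 i2) (p j16 i15 i3) (n j17 i0 i10) (n j17 i0 i11) (p j16 i15 i6) (p j16 i15 i7) (n j17 i0 i14) (p j16 i15 i9) (p j16 i15 i10) (p j16 i15 i11) (p j16 i15 i12) (p j16 i15 i13) (p j16 i15 i14) (n j16 i14 i9))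
 )
 (@T16.mk (T16 E)
  (@T16.mk E (p j17 i0 i0) (p j17 i0 i1) (n j16 i14 i12) (n j16 i14 i13) (p j17 i0 i4) (n j16 i14 i15) (p j17 i0 i6) (n j16 i15 i1) (p j17 i0 i8) (p j17 i0 i9) (n j16 i15 i4) (n j16 i15 i5) (p j17 i0 i12) (p j17 i0 i13) (n j16 i15 i8) (p j17 i0 i15))
  (@T16.mk E (p j17 i1 i0) (p j17 i1 i1) (p j17 i1 i2) (p j17 i1 i3) (p j17 i1 i4) (p j17 i1 i5) (p j17 i1 i6) (p j17 i1 i7) (p j17 i1 i8) (p j17 i1 i9) (p j17 i1 i10) (p j17 i1 i11) (p j17 i1 i12) (p j17 i1 i13) (p j17 i1 i14) (p j17 i1 i15))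
  (@T16.mk E (p j17 i2 i0) (p j17 i2 i1) (p j17 i2 i2) (p j17 i2 i3) (p j17 i2 i4) (p j17 i2 i5) (p j17 i2 i6) (p j17 i2 i7) (p j17 i2 i8) (p j17 i2 i9) (p j17 i2 i10) (p j17 i2 i11) (p j17 i2 i12) (p j17 i2 i13) (p j17 i2 i14) (p j17 i2 i15))
  (@T16.mk E (p j17 i3 i0) (p j17 i3 i1) (p j17 i3 i2) (p j17 i3 i3) (p j17 i3 i4) (p j17 i3 i5) (p j17 i3 i6) (p j17 i3 i7) (p j17 i3 i8) (p j17 i3 i9) (p j17 i3 i10) (p j17 i3 i11) (p j17 i3 i12) (p j17 i3 i13) (p j17 i3 i14) (p j17 i3 i15))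
  (@T16.mk E (p j17 i4 i0) (p j17 i4 i1) (p j17 i4 i2) (p j17 i4 i3) (p j17 i4 i4) (p j17 i4 i5) (p j17 i4 i6) (p j17 i4 i7) (p j17 i4 i8) (p j17 i4 i9) (p j17 i4 i10) (p j17 i4 i11) (p j17 i4 i12) (p j17 i4 i13) (p j17 i4 i14) (p j17 i4 i15))
  (@T16.mk E (p j17 i5 i0) (p j17 i5 i1) (p j17 i5 i2) (p j17 i5 i3) (p j17 i5 i4) (p j17 i5 i5) (p j17 i5 i6) (p j17 i5 i7) (p j17 i5 i8) (p j17 i5 i9) (p j17 i5 i10) (p j17 i5 i11) (p j17 i5 i12) (p j17 i5 i13) (p j17 i5 i14) (p j17 i5 i15))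
  (@T16.mk E (p j17 i6 i0) (p j17 i6 i1) (p j17 i6 i2) (p j17 i6 i3) (p j17 i6 i4) (p j17 i6 i5) (p j17 i6 i6) (p j17 i6 i7) (p j17 i6 i8) (p j17 i6 i9) (p j17 i6 i10) (p j17 i6 i11) (p j17 i6 i12) (p j17 i6 i13) (p j17 i6 i14) (p j17 i6 i15))
  (@T16.mk E (p j17 i7 i0) (p j17 i7 i1) (p j17 i7 i2) (p j17 i7 i3) (p j17 i7 i4) (p j17 i7 i5) (p j17 i7 i6) (p j17 i7 i7) (p j17 i7 i8) (p j17 i7 i9) (p j17 i7 i10) (p j17 i7 i11) (p j17 i7 i12) (p j17 i7 i13) (p j17 i7 i14) (p j17 i7 i15))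
  (@T16.mk E (p j17 i8 i0) (p j17 i8 i1) (p j17 i8 i2) (p j17 i8 i3) (p j17 i8 i4) (p j17 i8 i5) (p j17 i8 i6) (p j17 i8 i7) (p j17 i8 i8) (p j17 i8 i9) (p j17 i8 i10) (p j17 i8 i11) (p j17 i8 i12) (p j17 i8 i13) (p j17 i8 i14) (p j17 i8 i15))
  (@T16.mk E (p j17 i9 i0) (p j17 i9 i1) (p j17 i9 i2) (p j17 i9 i3) (p j17 i9 i4) (p j17 i9 i5) (p j17 i9 i6) (p j17 i9 i7) (p j17 i9 i8) (p j17 i9 i9) (p j17 i9 i10) (p j17 i9 i11) (p j17 i9 i12) (p j17 i9 i13) (p j17 i9 i14) (p j17 i9 i15))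
  (@T16.mk E (p j17 i10 i0) (p j17 i10 i1) (p j17 i10 i2) (p j17 i10 i3) (p j17 i10 i4) (p j17 i10 i5) (p j17 i10 i6) (p j17 i10 i7) (p j17 i10 i8) (p j17 i10 i9) (p j17 i10 i10) (p j17 i10 i11) (p j17 i10 i12) (p j17 i10 i13) (p j17 i10 i14) (p j17 i10 i15))
  (@T16.mk E (p j17 i11 i0) (p j17 i11 i1) (p j17 i11 i2) (p j17 i11 i3) (p j17 i11 i4) (p j17 i11 i5) (p j17 i11 i6) (p j17 i11 i7) (p j17 i11 i8) (p j17 i11 i9) (p j17 i11 i10) (p j17 i11 i11) (p j17 i11 i12) (p j17 i11 i13) (p j17 i11 i14) (p j17 i11 i15))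
  (@T16.mk E (p j17 i12 i0) (p j17 i12 i1) (p j17 i12 i2) (p j17 i12 i3) (p j17 i12 i4) (p j17 i12 i5) (p j17 i12 i6) (p j17 i12 i7) (p j17 i12 i8) (p j17 i12 i9) (p j17 i12 i10) (p j17 i12 i11) (p j17 i12 i12) (p j17 i12 i13) (p j17 i12 i14) (p j17 i12 i15))
  (@T16.mk E (p j17 i13 i0) (p j17 i13 i1) (p j17 i13 i2) (p j17 i13 i3) (p j17 i13 i4) (p j17 i13 i5) (p j17 i13 i6) (p j17 i13 i7) (p j17 i13 i8) (p j17 i13 i9) (p j17 i13 i10) (p j17 i13 i11) (p j17 i13 i12) (p j17 i13 i13) (p j17 i13 i14) (p j17 i13 i15))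
  (@T16.mk E (p j17 i14 i0) (p j17 i14 i1) (p j17 i14 i2) (p j17 i14 i3) (p j17 i14 i4) (p j17 i14 i5) (p j17 i14 i6) (p j17 i14 i7) (p j17 i14 i8) (p j17 i14 i9) (p j17 i14 i10) (p j17 i14 i11) (p j17 i14 i12) (p j17 i14 i13) (p j17 i14 i14) (p j17 i14 i15))
  (@T16.mk E (p j17 i15 i0) (p j17 i15 i1) (p j17 i15 i2) (p j17 i15 i3) (p j17 i15 i4) (p j17 i15 i5) (p j17 i15 i6) (p j17 i15 i7) (p j17 i15 i8) (p j17 i15 i9) (p j17 i15 i10) (p j17 i15 i11) (p j17 i15 i12) (p j17 i15 i13) (p j17 i15 i14) (p j17 i15 i15))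
 )
theorem tb23_ok : okTab tb23 = true := by decide +kernel
noncomputable def cd23 (s : St) : St :=
@T18.mk (T16 (T16 R))
 (@T16.mk (T16 R)
  (@T16.mk R s.1.1.1 s.1.1.2 s.1.1.3 s.1.1.4 s.1.1.5 s.1.1.6 s.1.1.7 s.1.1.8 s.1.1.9 s.1.1.10 s.1.1.11 s.1.1.12 s.1.1.13 s.1.1.14 s.1.1.15 s.1.1.16)
  (@T16.mk R (R.mk s.1.2.1.2 s.1.2.1.1) (R.mk s.1.2.2.2 s.1.2.2.1) (R.mk s.1.2.3.2 s.1.2.3.1) (R.mk s.1.2.4.2 s.1.2.4.1) (R.mk s.1.2.5.2 s.1.2.5.1) (R.mk s.1.2.6.2 s.1.2.6.1) (R.mk s.1.2.7.2 s.1.2.7.1) (R.mk s.1.2.8.2 s.1.2.8.1) (R.mk s.1.2.9.2 s.1.2.9.1) (R.mk s.1.2.10.2 s.1.2.10.1) (R.mk s.1.2.11.2 s.1.2.11.1) (R.mk s.1.2.12.2 s.1.2.12.1) (R.mk s.1.2.13.2 s.1.2.13.1) (R.mk s.1.2.14.2 s.1.2.14.1) (R.mk s.1.2.15.2 s.1.2.15.1) (R.mk s.1.2.16.2 s.1.2.16.1))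
  (@T16.mk R (R.mk s.1.3.1.2 s.1.3.1.1) s.1.3.2 (R.mk s.1.3.3.2 s.1.3.3.1) s.1.3.4 (R.mk s.1.3.5.2 s.1.3.5.1) s.1.3.6 (R.mk s.1.3.7.2 s.1.3.7.1) s.1.3.8 s.1.3.9 (R.mk s.1.3.10.2 s.1.3.10.1) s.1.3.11 (R.mk s.1.3.12.2 s.1.3.12.1) s.1.3.13 (R.mk s.1.3.14.2 s.1.3.14.1) s.1.3.15 (R.mk s.1.3.16.2 s.1.3.16.1))
  (@T16.mk R (R.mk s.1.4.1.2 s.1.4.1.1) s.1.4.2 (R.mk s.1.4.3.2 s.1.4.3.1) s.1.4.4 (R.mk s.1.4.5.2 s.1.4.5.1) s.1.4.6 (R.mk s.1.4.7.2 s.1.4.7.1) s.1.4.8 s.1.4.9 (R.mk s.1.4.10.2 s.1.4.10.1) s.1.4.11 (R.mk s.1.4.12.2 s.1.4.12.1) s.1.4.13 (R.mk s.1.4.14.2 s.1.4.14.1) s.1.4.15 (R.mk s.1.4.16.2 s.1.4.16.1))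
  (@T16.mk R s.1.5.1 s.1.5.2 s.1.5.3 s.1.5.4 s.1.5.5 s.1.5.6 s.1.5.7 s.1.5.8 s.1.5.9 s.1.5.10 s.1.5.11 s.1.5.12 s.1.5.13 s.1.5.14 s.1.5.15 s.1.5.16)
  (@T16.mk R s.1.6.1 s.1.6.2 s.1.6.3 s.1.6.4 s.1.6.5 s.1.6.6 s.1.6.7 s.1.6.8 s.1.6.9 s.1.6.10 s.1.6.11 s.1.6.12 s.1.6.13 s.1.6.14 s.1.6.15 s.1.6.16)
  (@T16.mk R s.1.7.1 (R.mk s.1.7.2.2 s.1.7.2.1) s.1.7.3 (R.mk s.1.7.4.2 s.1.7.4.1) s.1.7.5 (R.mk s.1.7.6.2 s.1.7.6.1) s.1.7.7 (R.mk s.1.7.8.2 s.1.7.8.1) (R.mk s.1.7.9.2 s.1.7.9.1) s.1.7.10 (R.mk s.1.7.11.2 s.1.7.11.1) s.1.7.12 (R.mk s.1.7.13.2 s.1.7.13.1) s.1.7.14 (R.mk s.1.7.15.2 s.1.7.15.1) s.1.7.16)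
  (@T16.mk R (R.mk s.1.8.1.2 s.1.8.1.1) s.1.8.2 (R.mk s.1.8.3.2 s.1.8.3.1) s.1.8.4 (R.mk s.1.8.5.2 s.1.8.5.1) s.1.8.6 (R.mk s.1.8.7.2 s.1.8.7.1) s.1.8.8 s.1.8.9 (R.mk s.1.8.10.2 s.1.8.10.1) s.1.8.11 (R.mk s.1.8.12.2 s.1.8.12.1) s.1.8.13 (R.mk s.1.8.14.2 s.1.8.14.1) s.1.8.15 (R.mk s.1.8.16.2 s.1.8.16.1))
  (@T16.mk R (R.mk s.1.9.1.2 s.1.9.1.1) (R.mk s.1.9.2.2 s.1.9.2.1) (R.mk s.1.9.3.2 s.1.9.3.1) (R.mk s.1.9.4.2 s.1.9.4.1) (R.mk s.1.9.5.2 s.1.9.5.1) (R.mk s.1.9.6.2 s.1.9.6.1) (R.mk s.1.9.7.2 s.1.9.7.1) (R.mk s.1.9.8.2 s.1.9.8.1) (R.mk s.1.9.9.2 s.1.9.9.1) (R.mk s.1.9.10.2 s.1.9.10.1) (R.mk s.1.9.11.2 s.1.9.11.1) (R.mk s.1.9.12.2 s.1.9.12.1) (R.mk s.1.9.13.2 s.1.9.13.1) (R.mk s.1.9.14.2 s.1.9.14.1) (R.mk s.1.9.15.2 s.1.9.15.1) (R.mk s.1.9.16.2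 s.1.9.16.1))
  (@T16.mk R s.1.10.1 s.1.10.2 s.1.10.3 s.1.10.4 s.1.10.5 s.1.10.6 s.1.10.7 s.1.10.8 s.1.10.9 s.1.10.10 s.1.10.11 s.1.10.12 s.1.10.13 s.1.10.14 s.1.10.15 s.1.10.16)
  (@T16.mk R (R.mk s.1.11.1.2 s.1.11.1.1) s.1.11.2 (R.mk s.1.11.3.2 s.1.11.3.1) s.1.11.4 (R.mk s.1.11.5.2 s.1.11.5.1) s.1.11.6 (R.mk s.1.11.7.2 s.1.11.7.1) s.1.11.8 s.1.11.9 (R.mk s.1.11.10.2 s.1.11.10.1) s.1.11.11 (R.mk s.1.11.12.2 s.1.11.12.1) s.1.11.13 (R.mk s.1.11.14.2 s.1.11.14.1) s.1.11.15 (R.mk s.1.11.16.2 s.1.11.16.1))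
  (@T16.mk R (R.mk s.1.12.1.2 s.1.12.1.1) s.1.12.2 (R.mk s.1.12.3.2 s.1.12.3.1) s.1.12.4 (R.mk s.1.12.5.2 s.1.12.5.1) s.1.12.6 (R.mk s.1.12.7.2 s.1.12.7.1) s.1.12.8 s.1.12.9 (R.mk s.1.12.10.2 s.1.12.10.1) s.1.12.11 (R.mk s.1.12.12.2 s.1.12.12.1) s.1.12.13 (R.mk s.1.12.14.2 s.1.12.14.1) s.1.12.15 (R.mk s.1.12.16.2 s.1.12.16.1))
  (@T16.mk R s.1.13.1 s.1.13.2 s.1.13.3 s.1.13.4 s.1.13.5 s.1.13.6 s.1.13.7 s.1.13.8 s.1.13.9 s.1.13.10 s.1.13.11 s.1.13.12 s.1.13.13 s.1.13.14 s.1.13.15 s.1.13.16)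
  (@T16.mk R s.1.14.1 s.1.14.2 s.1.14.3 s.1.14.4 s.1.14.5 s.1.14.6 s.1.14.7 s.1.14.8 s.1.14.9 s.1.14.10 s.1.14.11 s.1.14.12 s.1.14.13 s.1.14.14 s.1.14.15 s.1.14.16)
  (@T16.mk R (R.mk s.1.15.1.2 s.1.15.1.1) s.1.15.2 (R.mk s.1.15.3.2 s.1.15.3.1) s.1.15.4 (R.mk s.1.15.5.2 s.1.15.5.1) s.1.15.6 (R.mk s.1.15.7.2 s.1.15.7.1) s.1.15.8 s.1.15.9 (R.mk s.1.15.10.2 s.1.15.10.1) s.1.15.11 (R.mk s.1.15.12.2 s.1.15.12.1) s.1.15.13 (R.mk s.1.15.14.2 s.1.15.14.1) s.1.15.15 (R.mk s.1.15.16.2 s.1.15.16.1))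
  (@T16.mk R s.1.16.1 (R.mk s.1.16.2.2 s.1.16.2.1) s.1.16.3 (R.mk s.1.16.4.2 s.1.16.4.1) s.1.16.5 (R.mk s.1.16.6.2 s.1.16.6.1) s.1.16.7 (R.mk s.1.16.8.2 s.1.16.8.1) (R.mk s.1.16.9.2 s.1.16.9.1) s.1.16.10 (R.mk s.1.16.11.2 s.1.16.11.1) s.1.16.12 (R.mk s.1.16.13.2 s.1.16.13.1) s.1.16.14 (R.mk s.1.16.15.2 s.1.16.15.1) s.1.16.16)
 )
 (@T16.mk (T16 R)
  (@T16.mk R s.2.1.1 s.2.1.2 s.2.1.3 s.2.1.4 s.2.1.5 s.2.1.6 s.2.1.7 s.2.1.8 s.2.1.9 s.2.1.10 s.2.1.11 s.2.1.12 s.2.1.13 s.2.1.14 s.2.1.15 s.2.1.16)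
  (@T16.mk R (R.mk s.2.2.1.2 s.2.2.1.1) (R.mk s.2.2.2.2 s.2.2.2.1) (R.mk s.2.2.3.2 s.2.2.3.1) (R.mk s.2.2.4.2 s.2.2.4.1) (R.mk s.2.2.5.2 s.2.2.5.1) (R.mk s.2.2.6.2 s.2.2.6.1) (R.mk s.2.2.7.2 s.2.2.7.1) (R.mk s.2.2.8.2 s.2.2.8.1) (R.mk s.2.2.9.2 s.2.2.9.1) (R.mk s.2.2.10.2 s.2.2.10.1) (R.mk s.2.2.11.2 s.2.2.11.1) (R.mk s.2.2.12.2 s.2.2.12.1) (R.mk s.2.2.13.2 s.2.2.13.1) (R.mk s.2.2.14.2 s.2.2.14.1) (R.mk s.2.2.15.2 s.2.2.15.1) (R.mk s.2.2.16.2 s.2.2.16.1))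
  (@T16.mk R (R.mk s.2.3.1.2 s.2.3.1.1) s.2.3.2 (R.mk s.2.3.3.2 s.2.3.3.1) s.2.3.4 (R.mk s.2.3.5.2 s.2.3.5.1) s.2.3.6 (R.mk s.2.3.7.2 s.2.3.7.1) s.2.3.8 s.2.3.9 (R.mk s.2.3.10.2 s.2.3.10.1) s.2.3.11 (R.mk s.2.3.12.2 s.2.3.12.1) s.2.3.13 (R.mk s.2.3.14.2 s.2.3.14.1) s.2.3.15 (R.mk s.2.3.16.2 s.2.3.16.1))
  (@T16.mk R (R.mk s.2.4.1.2 s.2.4.1.1) s.2.4.2 (R.mk s.2.4.3.2 s.2.4.3.1) s.2.4.4 (R.mk s.2.4.5.2 s.2.4.5.1) s.2.4.6 (R.mk s.2.4.7.2 s.2.4.7.1) s.2.4.8 s.2.4.9 (R.mk s.2.4.10.2 s.2.4.10.1) s.2.4.11 (R.mk s.2.4.12.2 s.2.4.12.1) s.2.4.13 (R.mk s.2.4.14.2 s.2.4.14.1) s.2.4.15 (R.mk s.2.4.16.2 s.2.4.16.1))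
  (@T16.mk R s.2.5.1 s.2.5.2 s.2.5.3 s.2.5.4 s.2.5.5 s.2.5.6 s.2.5.7 s.2.5.8 s.2.5.9 s.2.5.10 s.2.5.11 s.2.5.12 s.2.5.13 s.2.5.14 s.2.5.15 s.2.5.16)
  (@T16.mk R s.2.6.1 s.2.6.2 s.2.6.3 s.2.6.4 s.2.6.5 s.2.6.6 s.2.6.7 s.2.6.8 s.2.6.9 s.2.6.10 s.2.6.11 s.2.6.12 s.2.6.13 s.2.6.14 s.2.6.15 s.2.6.16)
  (@T16.mk R s.2.7.1 (R.mk s.2.7.2.2 s.2.7.2.1) s.2.7.3 (R.mk s.2.7.4.2 s.2.7.4.1) s.2.7.5 (R.mk s.2.7.6.2 s.2.7.6.1) s.2.7.7 (R.mk s.2.7.8.2 s.2.7.8.1) (R.mk s.2.7.9.2 s.2.7.9.1) s.2.7.10 (R.mk s.2.7.11.2 s.2.7.11.1) s.2.7.12 (R.mk s.2.7.13.2 s.2.7.13.1) s.2.7.14 (R.mk s.2.7.15.2 s.2.7.15.1) s.2.7.16)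
  (@T16.mk R (R.mk s.2.8.1.2 s.2.8.1.1) s.2.8.2 (R.mk s.2.8.3.2 s.2.8.3.1) s.2.8.4 (R.mk s.2.8.5.2 s.2.8.5.1) s.2.8.6 (R.mk s.2.8.7.2 s.2.8.7.1) s.2.8.8 s.2.8.9 (R.mk s.2.8.10.2 s.2.8.10.1) s.2.8.11 (R.mk s.2.8.12.2 s.2.8.12.1) s.2.8.13 (R.mk s.2.8.14.2 s.2.8.14.1) s.2.8.15 (R.mk s.2.8.16.2 s.2.8.16.1))
  (@T16.mk R (R.mk s.2.9.1.2 s.2.9.1.1) (R.mk s.2.9.2.2 s.2.9.2.1) (R.mk s.2.9.3.2 s.2.9.3.1) (R.mk s.2.9.4.2 s.2.9.4.1) (R.mk s.2.9.5.2 s.2.9.5.1) (R.mk s.2.9.6.2 s.2.9.6.1) (R.mk s.2.9.7.2 s.2.9.7.1) (R.mk s.2.9.8.2 s.2.9.8.1) (R.mk s.2.9.9.2 s.2.9.9.1) (R.mk s.2.9.10.2 s.2.9.10.1) (R.mk s.2.9.11.2 s.2.9.11.1) (R.mk s.2.9.12.2 s.2.9.12.1) (R.mk s.2.9.13.2 s.2.9.13.1) (R.mk s.2.9.14.2 s.2.9.14.1) (R.mk s.2.9.15.2 s.2.9.15.1) (R.mk s.2.9.16.2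 s.2.9.16.1))
  (@T16.mk R s.2.10.1 s.2.10.2 s.2.10.3 s.2.10.4 s.2.10.5 s.2.10.6 s.2.10.7 s.2.10.8 s.2.10.9 s.2.10.10 s.2.10.11 s.2.10.12 s.2.10.13 s.2.10.14 s.2.10.15 s.2.10.16)
  (@T16.mk R (R.mk s.2.11.1.2 s.2.11.1.1) s.2.11.2 (R.mk s.2.11.3.2 s.2.11.3.1) s.2.11.4 (R.mk s.2.11.5.2 s.2.11.5.1) s.2.11.6 (R.mk s.2.11.7.2 s.2.11.7.1) s.2.11.8 s.2.11.9 (R.mk s.2.11.10.2 s.2.11.10.1) s.2.11.11 (R.mk s.2.11.12.2 s.2.11.12.1) s.2.11.13 (R.mk s.2.11.14.2 s.2.11.14.1) s.2.11.15 (R.mk s.2.11.16.2 s.2.11.16.1))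
  (@T16.mk R (R.mk s.2.12.1.2 s.2.12.1.1) s.2.12.2 (R.mk s.2.12.3.2 s.2.12.3.1) s.2.12.4 (R.mk s.2.12.5.2 s.2.12.5.1) s.2.12.6 (R.mk s.2.12.7.2 s.2.12.7.1) s.2.12.8 s.2.12.9 (R.mk s.2.12.10.2 s.2.12.10.1) s.2.12.11 (R.mk s.2.12.12.2 s.2.12.12.1) s.2.12.13 (R.mk s.2.12.14.2 s.2.12.14.1) s.2.12.15 (R.mk s.2.12.16.2 s.2.12.16.1))
  (@T16.mk R s.2.13.1 s.2.13.2 s.2.13.3 s.2.13.4 s.2.13.5 s.2.13.6 s.2.13.7 s.2.13.8 s.2.13.9 s.2.13.10 s.2.13.11 s.2.13.12 s.2.13.13 s.2.13.14 s.2.13.15 s.2.13.16)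
  (@T16.mk R s.2.14.1 s.2.14.2 s.2.14.3 s.2.14.4 s.2.14.5 s.2.14.6 s.2.14.7 s.2.14.8 s.2.14.9 s.2.14.10 s.2.14.11 s.2.14.12 s.2.14.13 s.2.14.14 s.2.14.15 s.2.14.16)
  (@T16.mk R (R.mk s.2.15.1.2 s.2.15.1.1) s.2.15.2 (R.mk s.2.15.3.2 s.2.15.3.1) s.2.15.4 (R.mk s.2.15.5.2 s.2.15.5.1) s.2.15.6 (R.mk s.2.15.7.2 s.2.15.7.1) s.2.15.8 s.2.15.9 (R.mk s.2.15.10.2 s.2.15.10.1) s.2.15.11 (R.mk s.2.15.12.2 s.2.15.12.1) s.2.15.13 (R.mk s.2.15.14.2 s.2.15.14.1) s.2.15.15 (R.mk s.2.15.16.2 s.2.15.16.1))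
  (@T16.mk R s.2.16.1 (R.mk s.2.16.2.2 s.2.16.2.1) s.2.16.3 (R.mk s.2.16.4.2 s.2.16.4.1) s.2.16.5 (R.mk s.2.16.6.2 s.2.16.6.1) s.2.16.7 (R.mk s.2.16.8.2 s.2.16.8.1) (R.mk s.2.16.9.2 s.2.16.9.1) s.2.16.10 (R.mk s.2.16.11.2 s.2.16.11.1) s.2.16.12 (R.mk s.2.16.13.2 s.2.16.13.1) s.2.16.14 (R.mk s.2.16.15.2 s.2.16.15.1) s.2.16.16)
 )
 (@T16.mk (T16 R)
  (@T16.mk R (R.mk s.3.1.1.2 s.3.1.1.1) (R.mk s.3.1.2.2 s.3.1.2.1) (R.mk s.3.1.3.2 s.3.1.3.1) (R.mk s.3.1.4.2 s.3.1.4.1) (R.mk s.3.1.5.2 s.3.1.5.1) (R.mk s.3.1.6.2 s.3.1.6.1) (R.mk s.3.1.7.2 s.3.1.7.1) (R.mk s.3.1.8.2 s.3.1.8.1) (R.mk s.3.1.9.2 s.3.1.9.1) (R.mk s.3.1.10.2 s.3.1.10.1) (R.mk s.3.1.11.2 s.3.1.11.1) (R.mk s.3.1.12.2 s.3.1.12.1) (R.mk s.3.1.13.2 s.3.1.13.1) (R.mk s.3.1.14.2 s.3.1.14.1)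 (R.mk s.3.1.15.2 s.3.1.15.1) (R.mk s.3.1.16.2 s.3.1.16.1))
  (@T16.mk R (R.mk s.3.2.1.2 s.3.2.1.1) (R.mk s.3.2.2.2 s.3.2.2.1) (R.mk s.3.2.3.2 s.3.2.3.1) (R.mk s.3.2.4.2 s.3.2.4.1) (R.mk s.3.2.5.2 s.3.2.5.1) (R.mk s.3.2.6.2 s.3.2.6.1) (R.mk s.3.2.7.2 s.3.2.7.1) (R.mk s.3.2.8.2 s.3.2.8.1) (R.mk s.3.2.9.2 s.3.2.9.1) (R.mk s.3.2.10.2 s.3.2.10.1) (R.mk s.3.2.11.2 s.3.2.11.1) (R.mk s.3.2.12.2 s.3.2.12.1) (R.mk s.3.2.13.2 s.3.2.13.1) (R.mk s.3.2.14.2 s.3.2.14.1) (R.mk s.3.2.15.2 s.3.2.15.1) (R.mk s.3.2.16.2 s.3.2.16.1))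
  (@T16.mk R s.3.3.1 (R.mk s.3.3.2.2 s.3.3.2.1) s.3.3.3 (R.mk s.3.3.4.2 s.3.3.4.1) s.3.3.5 (R.mk s.3.3.6.2 s.3.3.6.1) s.3.3.7 (R.mk s.3.3.8.2 s.3.3.8.1) (R.mk s.3.3.9.2 s.3.3.9.1) s.3.3.10 (R.mk s.3.3.11.2 s.3.3.11.1) s.3.3.12 (R.mk s.3.3.13.2 s.3.3.13.1) s.3.3.14 (R.mk s.3.3.15.2 s.3.3.15.1) s.3.3.16)
  (@T16.mk R (R.mk s.3.4.1.2 s.3.4.1.1) s.3.4.2 (R.mk s.3.4.3.2 s.3.4.3.1) s.3.4.4 (R.mk s.3.4.5.2 s.3.4.5.1) s.3.4.6 (R.mk s.3.4.7.2 s.3.4.7.1) s.3.4.8 s.3.4.9 (R.mk s.3.4.10.2 s.3.4.10.1) s.3.4.11 (R.mk s.3.4.12.2 s.3.4.12.1) s.3.4.13 (R.mk s.3.4.14.2 s.3.4.14.1) s.3.4.15 (R.mk s.3.4.16.2 s.3.4.16.1))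
  (@T16.mk R (R.mk s.3.5.1.2 s.3.5.1.1) (R.mk s.3.5.2.2 s.3.5.2.1) (R.mk s.3.5.3.2 s.3.5.3.1) (R.mk s.3.5.4.2 s.3.5.4.1) (R.mk s.3.5.5.2 s.3.5.5.1) (R.mk s.3.5.6.2 s.3.5.6.1) (R.mk s.3.5.7.2 s.3.5.7.1) (R.mk s.3.5.8.2 s.3.5.8.1) (R.mk s.3.5.9.2 s.3.5.9.1) (R.mk s.3.5.10.2 s.3.5.10.1) (R.mk s.3.5.11.2 s.3.5.11.1) (R.mk s.3.5.12.2 s.3.5.12.1) (R.mk s.3.5.13.2 s.3.5.13.1) (R.mk s.3.5.14.2 s.3.5.14.1) (R.mk s.3.5.15.2 s.3.5.15.1) (R.mk s.3.5.16.2 s.3.5.16.1))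
  (@T16.mk R s.3.6.1 s.3.6.2 s.3.6.3 s.3.6.4 s.3.6.5 s.3.6.6 s.3.6.7 s.3.6.8 s.3.6.9 s.3.6.10 s.3.6.11 s.3.6.12 s.3.6.13 s.3.6.14 s.3.6.15 s.3.6.16)
  (@T16.mk R (R.mk s.3.7.1.2 s.3.7.1.1) s.3.7.2 (R.mk s.3.7.3.2 s.3.7.3.1) s.3.7.4 (R.mk s.3.7.5.2 s.3.7.5.1) s.3.7.6 (R.mk s.3.7.7.2 s.3.7.7.1) s.3.7.8 s.3.7.9 (R.mk s.3.7.10.2 s.3.7.10.1) s.3.7.11 (R.mk s.3.7.12.2 s.3.7.12.1) s.3.7.13 (R.mk s.3.7.14.2 s.3.7.14.1) s.3.7.15 (R.mk s.3.7.16.2 s.3.7.16.1))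
  (@T16.mk R (R.mk s.3.8.1.2 s.3.8.1.1) s.3.8.2 (R.mk s.3.8.3.2 s.3.8.3.1) s.3.8.4 (R.mk s.3.8.5.2 s.3.8.5.1) s.3.8.6 (R.mk s.3.8.7.2 s.3.8.7.1) s.3.8.8 s.3.8.9 (R.mk s.3.8.10.2 s.3.8.10.1) s.3.8.11 (R.mk s.3.8.12.2 s.3.8.12.1) s.3.8.13 (R.mk s.3.8.14.2 s.3.8.14.1) s.3.8.15 (R.mk s.3.8.16.2 s.3.8.16.1))
  (@T16.mk R (R.mk s.3.9.1.2 s.3.9.1.1) (R.mk s.3.9.2.2 s.3.9.2.1) (R.mk s.3.9.3.2 s.3.9.3.1) (R.mk s.3.9.4.2 s.3.9.4.1) (R.mk s.3.9.5.2 s.3.9.5.1) (R.mk s.3.9.6.2 s.3.9.6.1) (R.mk s.3.9.7.2 s.3.9.7.1) (R.mk s.3.9.8.2 s.3.9.8.1) (R.mk s.3.9.9.2 s.3.9.9.1) (R.mk s.3.9.10.2 s.3.9.10.1) (R.mk s.3.9.11.2 s.3.9.11.1) (R.mk s.3.9.12.2 s.3.9.12.1) (R.mk s.3.9.13.2 s.3.9.13.1) (R.mk s.3.9.14.2 s.3.9.14.1) (R.mk s.3.9.15.2 s.3.9.15.1) (R.mk s.3.9.16.2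 s.3.9.16.1))
  (@T16.mk R (R.mk s.3.10.1.2 s.3.10.1.1) (R.mk s.3.10.2.2 s.3.10.2.1) (R.mk s.3.10.3.2 s.3.10.3.1) (R.mk s.3.10.4.2 s.3.10.4.1) (R.mk s.3.10.5.2 s.3.10.5.1) (R.mk s.3.10.6.2 s.3.10.6.1) (R.mk s.3.10.7.2 s.3.10.7.1) (R.mk s.3.10.8.2 s.3.10.8.1) (R.mk s.3.10.9.2 s.3.10.9.1) (R.mk s.3.10.10.2 s.3.10.10.1) (R.mk s.3.10.11.2 s.3.10.11.1) (R.mk s.3.10.12.2 s.3.10.12.1) (R.mk s.3.10.13.2 s.3.10.13.1) (R.mk s.3.10.14.2 s.3.10.14.1) (R.mk s.3.10.15.2 s.3.10.15.1) (R.mk s.3.10.16.2 s.3.10.16.1))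
  (@T16.mk R (R.mk s.3.11.1.2 s.3.11.1.1) s.3.11.2 (R.mk s.3.11.3.2 s.3.11.3.1) s.3.11.4 (R.mk s.3.11.5.2 s.3.11.5.1) s.3.11.6 (R.mk s.3.11.7.2 s.3.11.7.1) s.3.11.8 s.3.11.9 (R.mk s.3.11.10.2 s.3.11.10.1) s.3.11.11 (R.mk s.3.11.12.2 s.3.11.12.1) s.3.11.13 (R.mk s.3.11.14.2 s.3.11.14.1) s.3.11.15 (R.mk s.3.11.16.2 s.3.11.16.1))
  (@T16.mk R s.3.12.1 (R.mk s.3.12.2.2 s.3.12.2.1) s.3.12.3 (R.mk s.3.12.4.2 s.3.12.4.1) s.3.12.5 (R.mk s.3.12.6.2 s.3.12.6.1) s.3.12.7 (R.mk s.3.12.8.2 s.3.12.8.1) (R.mk s.3.12.9.2 s.3.12.9.1) s.3.12.10 (R.mk s.3.12.11.2 s.3.12.11.1) s.3.12.12 (R.mk s.3.12.13.2 s.3.12.13.1) s.3.12.14 (R.mk s.3.12.15.2 s.3.12.15.1) s.3.12.16)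
  (@T16.mk R s.3.13.1 s.3.13.2 s.3.13.3 s.3.13.4 s.3.13.5 s.3.13.6 s.3.13.7 s.3.13.8 s.3.13.9 s.3.13.10 s.3.13.11 s.3.13.12 s.3.13.13 s.3.13.14 s.3.13.15 s.3.13.16)
  (@T16.mk R (R.mk s.3.14.1.2 s.3.14.1.1) (R.mk s.3.14.2.2 s.3.14.2.1) (R.mk s.3.14.3.2 s.3.14.3.1) (R.mk s.3.14.4.2 s.3.14.4.1) (R.mk s.3.14.5.2 s.3.14.5.1) (R.mk s.3.14.6.2 s.3.14.6.1) (R.mk s.3.14.7.2 s.3.14.7.1) (R.mk s.3.14.8.2 s.3.14.8.1) (R.mk s.3.14.9.2 s.3.14.9.1) (R.mk s.3.14.10.2 s.3.14.10.1) (R.mk s.3.14.11.2 s.3.14.11.1) (R.mk s.3.14.12.2 s.3.14.12.1) (R.mk s.3.14.13.2 s.3.14.13.1) (R.mk s.3.14.14.2 s.3.14.14.1) (R.mk s.3.14.15.2 s.3.14.15.1) (R.mk s.3.14.16.2 s.3.14.16.1))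
  (@T16.mk R (R.mk s.3.15.1.2 s.3.15.1.1) s.3.15.2 (R.mk s.3.15.3.2 s.3.15.3.1) s.3.15.4 (R.mk s.3.15.5.2 s.3.15.5.1) s.3.15.6 (R.mk s.3.15.7.2 s.3.15.7.1) s.3.15.8 s.3.15.9 (R.mk s.3.15.10.2 s.3.15.10.1) s.3.15.11 (R.mk s.3.15.12.2 s.3.15.12.1) s.3.15.13 (R.mk s.3.15.14.2 s.3.15.14.1) s.3.15.15 (R.mk s.3.15.16.2 s.3.15.16.1))
  (@T16.mk R (R.mk s.3.16.1.2 s.3.16.1.1) s.3.16.2 (R.mk s.3.16.3.2 s.3.16.3.1) s.3.16.4 (R.mk s.3.16.5.2 s.3.16.5.1) s.3.16.6 (R.mk s.3.16.7.2 s.3.16.7.1) s.3.16.8 s.3.16.9 (R.mk s.3.16.10.2 s.3.16.10.1) s.3.16.11 (R.mk s.3.16.12.2 s.3.16.12.1) s.3.16.13 (R.mk s.3.16.14.2 s.3.16.14.1) s.3.16.15 (R.mk s.3.16.16.2 s.3.16.16.1))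
 )
 (@T16.mk (T16 R)
  (@T16.mk R s.4.1.1 s.4.1.2 s.4.1.3 s.4.1.4 s.4.1.5 s.4.1.6 s.4.1.7 s.4.1.8 s.4.1.9 s.4.1.10 s.4.1.11 s.4.1.12 s.4.1.13 s.4.1.14 s.4.1.15 s.4.1.16)
  (@T16.mk R s.4.2.1 s.4.2.2 s.4.2.3 s.4.2.4 s.4.2.5 s.4.2.6 s.4.2.7 s.4.2.8 s.4.2.9 s.4.2.10 s.4.2.11 s.4.2.12 s.4.2.13 s.4.2.14 s.4.2.15 s.4.2.16)
  (@T16.mk R (R.mk s.4.3.1.2 s.4.3.1.1) s.4.3.2 (R.mk s.4.3.3.2 s.4.3.3.1) s.4.3.4 (R.mk s.4.3.5.2 s.4.3.5.1) s.4.3.6 (R.mk s.4.3.7.2 s.4.3.7.1) s.4.3.8 s.4.3.9 (R.mk s.4.3.10.2 s.4.3.10.1) s.4.3.11 (R.mk s.4.3.12.2 s.4.3.12.1) s.4.3.13 (R.mk s.4.3.14.2 s.4.3.14.1) s.4.3.15 (R.mk s.4.3.16.2 s.4.3.16.1))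
  (@T16.mk R s.4.4.1 (R.mk s.4.4.2.2 s.4.4.2.1) s.4.4.3 (R.mk s.4.4.4.2 s.4.4.4.1) s.4.4.5 (R.mk s.4.4.6.2 s.4.4.6.1) s.4.4.7 (R.mk s.4.4.8.2 s.4.4.8.1) (R.mk s.4.4.9.2 s.4.4.9.1) s.4.4.10 (R.mk s.4.4.11.2 s.4.4.11.1) s.4.4.12 (R.mk s.4.4.13.2 s.4.4.13.1) s.4.4.14 (R.mk s.4.4.15.2 s.4.4.15.1) s.4.4.16)
  (@T16.mk R s.4.5.1 s.4.5.2 s.4.5.3 s.4.5.4 s.4.5.5 s.4.5.6 s.4.5.7 s.4.5.8 s.4.5.9 s.4.5.10 s.4.5.11 s.4.5.12 s.4.5.13 s.4.5.14 s.4.5.15 s.4.5.16)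
  (@T16.mk R (R.mk s.4.6.1.2 s.4.6.1.1) (R.mk s.4.6.2.2 s.4.6.2.1) (R.mk s.4.6.3.2 s.4.6.3.1) (R.mk s.4.6.4.2 s.4.6.4.1) (R.mk s.4.6.5.2 s.4.6.5.1) (R.mk s.4.6.6.2 s.4.6.6.1) (R.mk s.4.6.7.2 s.4.6.7.1) (R.mk s.4.6.8.2 s.4.6.8.1) (R.mk s.4.6.9.2 s.4.6.9.1) (R.mk s.4.6.10.2 s.4.6.10.1) (R.mk s.4.6.11.2 s.4.6.11.1) (R.mk s.4.6.12.2 s.4.6.12.1) (R.mk s.4.6.13.2 s.4.6.13.1) (R.mk s.4.6.14.2 s.4.6.14.1) (R.mk s.4.6.15.2 s.4.6.15.1) (R.mk s.4.6.16.2 s.4.6.16.1))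
  (@T16.mk R s.4.7.1 (R.mk s.4.7.2.2 s.4.7.2.1) s.4.7.3 (R.mk s.4.7.4.2 s.4.7.4.1) s.4.7.5 (R.mk s.4.7.6.2 s.4.7.6.1) s.4.7.7 (R.mk s.4.7.8.2 s.4.7.8.1) (R.mk s.4.7.9.2 s.4.7.9.1) s.4.7.10 (R.mk s.4.7.11.2 s.4.7.11.1) s.4.7.12 (R.mk s.4.7.13.2 s.4.7.13.1) s.4.7.14 (R.mk s.4.7.15.2 s.4.7.15.1) s.4.7.16)
  (@T16.mk R s.4.8.1 (R.mk s.4.8.2.2 s.4.8.2.1) s.4.8.3 (R.mk s.4.8.4.2 s.4.8.4.1) s.4.8.5 (R.mk s.4.8.6.2 s.4.8.6.1) s.4.8.7 (R.mk s.4.8.8.2 s.4.8.8.1) (R.mk s.4.8.9.2 s.4.8.9.1) s.4.8.10 (R.mk s.4.8.11.2 s.4.8.11.1) s.4.8.12 (R.mk s.4.8.13.2 s.4.8.13.1) s.4.8.14 (R.mk s.4.8.15.2 s.4.8.15.1) s.4.8.16)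
  (@T16.mk R s.4.9.1 s.4.9.2 s.4.9.3 s.4.9.4 s.4.9.5 s.4.9.6 s.4.9.7 s.4.9.8 s.4.9.9 s.4.9.10 s.4.9.11 s.4.9.12 s.4.9.13 s.4.9.14 s.4.9.15 s.4.9.16)
  (@T16.mk R s.4.10.1 s.4.10.2 s.4.10.3 s.4.10.4 s.4.10.5 s.4.10.6 s.4.10.7 s.4.10.8 s.4.10.9 s.4.10.10 s.4.10.11 s.4.10.12 s.4.10.13 s.4.10.14 s.4.10.15 s.4.10.16)
  (@T16.mk R s.4.11.1 (R.mk s.4.11.2.2 s.4.11.2.1) s.4.11.3 (R.mk s.4.11.4.2 s.4.11.4.1) s.4.11.5 (R.mk s.4.11.6.2 s.4.11.6.1) s.4.11.7 (R.mk s.4.11.8.2 s.4.11.8.1) (R.mk s.4.11.9.2 s.4.11.9.1) s.4.11.10 (R.mk s.4.11.11.2 s.4.11.11.1) s.4.11.12 (R.mk s.4.11.13.2 s.4.11.13.1) s.4.11.14 (R.mk s.4.11.15.2 s.4.11.15.1) s.4.11.16)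
  (@T16.mk R (R.mk s.4.12.1.2 s.4.12.1.1) s.4.12.2 (R.mk s.4.12.3.2 s.4.12.3.1) s.4.12.4 (R.mk s.4.12.5.2 s.4.12.5.1) s.4.12.6 (R.mk s.4.12.7.2 s.4.12.7.1) s.4.12.8 s.4.12.9 (R.mk s.4.12.10.2 s.4.12.10.1) s.4.12.11 (R.mk s.4.12.12.2 s.4.12.12.1) s.4.12.13 (R.mk s.4.12.14.2 s.4.12.14.1) s.4.12.15 (R.mk s.4.12.16.2 s.4.12.16.1))
  (@T16.mk R (R.mk s.4.13.1.2 s.4.13.1.1) (R.mk s.4.13.2.2 s.4.13.2.1) (R.mk s.4.13.3.2 s.4.13.3.1) (R.mk s.4.13.4.2 s.4.13.4.1) (R.mk s.4.13.5.2 s.4.13.5.1) (R.mk s.4.13.6.2 s.4.13.6.1) (R.mk s.4.13.7.2 s.4.13.7.1) (R.mk s.4.13.8.2 s.4.13.8.1) (R.mk s.4.13.9.2 s.4.13.9.1) (R.mk s.4.13.10.2 s.4.13.10.1) (R.mk s.4.13.11.2 s.4.13.11.1) (R.mk s.4.13.12.2 s.4.13.12.1) (R.mk s.4.13.13.2 s.4.13.13.1) (R.mk s.4.13.14.2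 s.4.13.14.1) (R.mk s.4.13.15.2 s.4.13.15.1) (R.mk s.4.13.16.2 s.4.13.16.1))
  (@T16.mk R s.4.14.1 s.4.14.2 s.4.14.3 s.4.14.4 s.4.14.5 s.4.14.6 s.4.14.7 s.4.14.8 s.4.14.9 s.4.14.10 s.4.14.11 s.4.14.12 s.4.14.13 s.4.14.14 s.4.14.15 s.4.14.16)
  (@T16.mk R s.4.15.1 (R.mk s.4.15.2.2 s.4.15.2.1) s.4.15.3 (R.mk s.4.15.4.2 s.4.15.4.1) s.4.15.5 (R.mk s.4.15.6.2 s.4.15.6.1) s.4.15.7 (R.mk s.4.15.8.2 s.4.15.8.1) (R.mk s.4.15.9.2 s.4.15.9.1) s.4.15.10 (R.mk s.4.15.11.2 s.4.15.11.1) s.4.15.12 (R.mk s.4.15.13.2 s.4.15.13.1) s.4.15.14 (R.mk s.4.15.15.2 s.4.15.15.1) s.4.15.16)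
  (@T16.mk R s.4.16.1 (R.mk s.4.16.2.2 s.4.16.2.1) s.4.16.3 (R.mk s.4.16.4.2 s.4.16.4.1) s.4.16.5 (R.mk s.4.16.6.2 s.4.16.6.1) s.4.16.7 (R.mk s.4.16.8.2 s.4.16.8.1) (R.mk s.4.16.9.2 s.4.16.9.1) s.4.16.10 (R.mk s.4.16.11.2 s.4.16.11.1) s.4.16.12 (R.mk s.4.16.13.2 s.4.16.13.1) s.4.16.14 (R.mk s.4.16.15.2 s.4.16.15.1) s.4.16.16)
 )
 (@T16.mk (T16 R)
  (@T16.mk R s.5.1.10 (R.mk s.5.1.9.2 s.5.1.9.1) s.5.1.12 (R.mk s.5.1.11.2 s.5.1.11.1) s.5.1.14 (R.mk s.5.1.13.2 s.5.1.13.1) s.5.1.16 (R.mk s.5.1.15.2 s.5.1.15.1) (R.mk s.5.1.2.2 s.5.1.2.1) s.5.1.1 (R.mk s.5.1.4.2 s.5.1.4.1) s.5.1.3 (R.mk s.5.1.6.2 s.5.1.6.1) s.5.1.5 (R.mk s.5.1.8.2 s.5.1.8.1) s.5.1.7)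
  (@T16.mk R s.5.2.10 (R.mk s.5.2.9.2 s.5.2.9.1) s.5.2.12 (R.mk s.5.2.11.2 s.5.2.11.1) s.5.2.14 (R.mk s.5.2.13.2 s.5.2.13.1) s.5.2.16 (R.mk s.5.2.15.2 s.5.2.15.1) (R.mk s.5.2.2.2 s.5.2.2.1) s.5.2.1 (R.mk s.5.2.4.2 s.5.2.4.1) s.5.2.3 (R.mk s.5.2.6.2 s.5.2.6.1) s.5.2.5 (R.mk s.5.2.8.2 s.5.2.8.1) s.5.2.7)
  (@T16.mk R s.5.3.10 s.5.3.9 s.5.3.12 s.5.3.11 s.5.3.14 s.5.3.13 s.5.3.16 s.5.3.15 s.5.3.2 s.5.3.1 s.5.3.4 s.5.3.3 s.5.3.6 s.5.3.5 s.5.3.8 s.5.3.7)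
  (@T16.mk R (R.mk s.5.4.10.2 s.5.4.10.1) (R.mk s.5.4.9.2 s.5.4.9.1) (R.mk s.5.4.12.2 s.5.4.12.1) (R.mk s.5.4.11.2 s.5.4.11.1) (R.mk s.5.4.14.2 s.5.4.14.1) (R.mk s.5.4.13.2 s.5.4.13.1) (R.mk s.5.4.16.2 s.5.4.16.1) (R.mk s.5.4.15.2 s.5.4.15.1) (R.mk s.5.4.2.2 s.5.4.2.1) (R.mk s.5.4.1.2 s.5.4.1.1) (R.mk s.5.4.4.2 s.5.4.4.1) (R.mk s.5.4.3.2 s.5.4.3.1) (R.mk s.5.4.6.2 s.5.4.6.1) (R.mk s.5.4.5.2 s.5.4.5.1) (R.mk s.5.4.8.2 s.5.4.8.1) (R.mk s.5.4.7.2 s.5.4.7.1))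
  (@T16.mk R s.5.5.10 (R.mk s.5.5.9.2 s.5.5.9.1) s.5.5.12 (R.mk s.5.5.11.2 s.5.5.11.1) s.5.5.14 (R.mk s.5.5.13.2 s.5.5.13.1) s.5.5.16 (R.mk s.5.5.15.2 s.5.5.15.1) (R.mk s.5.5.2.2 s.5.5.2.1) s.5.5.1 (R.mk s.5.5.4.2 s.5.5.4.1) s.5.5.3 (R.mk s.5.5.6.2 s.5.5.6.1) s.5.5.5 (R.mk s.5.5.8.2 s.5.5.8.1) s.5.5.7)
  (@T16.mk R (R.mk s.5.6.10.2 s.5.6.10.1) s.5.6.9 (R.mk s.5.6.12.2 s.5.6.12.1) s.5.6.11 (R.mk s.5.6.14.2 s.5.6.14.1) s.5.6.13 (R.mk s.5.6.16.2 s.5.6.16.1) s.5.6.15 s.5.6.2 (R.mk s.5.6.1.2 s.5.6.1.1) s.5.6.4 (R.mk s.5.6.3.2 s.5.6.3.1) s.5.6.6 (R.mk s.5.6.5.2 s.5.6.5.1) s.5.6.8 (R.mk s.5.6.7.2 s.5.6.7.1))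
  (@T16.mk R (R.mk s.5.7.10.2 s.5.7.10.1) (R.mk s.5.7.9.2 s.5.7.9.1) (R.mk s.5.7.12.2 s.5.7.12.1) (R.mk s.5.7.11.2 s.5.7.11.1) (R.mk s.5.7.14.2 s.5.7.14.1) (R.mk s.5.7.13.2 s.5.7.13.1) (R.mk s.5.7.16.2 s.5.7.16.1) (R.mk s.5.7.15.2 s.5.7.15.1) (R.mk s.5.7.2.2 s.5.7.2.1) (R.mk s.5.7.1.2 s.5.7.1.1) (R.mk s.5.7.4.2 s.5.7.4.1) (R.mk s.5.7.3.2 s.5.7.3.1) (R.mk s.5.7.6.2 s.5.7.6.1) (R.mk s.5.7.5.2 s.5.7.5.1) (R.mk s.5.7.8.2 s.5.7.8.1) (R.mk s.5.7.7.2 s.5.7.7.1))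
  (@T16.mk R (R.mk s.5.8.10.2 s.5.8.10.1) (R.mk s.5.8.9.2 s.5.8.9.1) (R.mk s.5.8.12.2 s.5.8.12.1) (R.mk s.5.8.11.2 s.5.8.11.1) (R.mk s.5.8.14.2 s.5.8.14.1) (R.mk s.5.8.13.2 s.5.8.13.1) (R.mk s.5.8.16.2 s.5.8.16.1) (R.mk s.5.8.15.2 s.5.8.15.1) (R.mk s.5.8.2.2 s.5.8.2.1) (R.mk s.5.8.1.2 s.5.8.1.1) (R.mk s.5.8.4.2 s.5.8.4.1) (R.mk s.5.8.3.2 s.5.8.3.1) (R.mk s.5.8.6.2 s.5.8.6.1) (R.mk s.5.8.5.2 s.5.8.5.1) (R.mk s.5.8.8.2 s.5.8.8.1) (R.mk s.5.8.7.2 s.5.8.7.1))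
  (@T16.mk R s.5.9.10 (R.mk s.5.9.9.2 s.5.9.9.1) s.5.9.12 (R.mk s.5.9.11.2 s.5.9.11.1) s.5.9.14 (R.mk s.5.9.13.2 s.5.9.13.1) s.5.9.16 (R.mk s.5.9.15.2 s.5.9.15.1) (R.mk s.5.9.2.2 s.5.9.2.1) s.5.9.1 (R.mk s.5.9.4.2 s.5.9.4.1) s.5.9.3 (R.mk s.5.9.6.2 s.5.9.6.1) s.5.9.5 (R.mk s.5.9.8.2 s.5.9.8.1) s.5.9.7)
  (@T16.mk R s.5.10.10 (R.mk s.5.10.9.2 s.5.10.9.1) s.5.10.12 (R.mk s.5.10.11.2 s.5.10.11.1) s.5.10.14 (R.mk s.5.10.13.2 s.5.10.13.1) s.5.10.16 (R.mk s.5.10.15.2 s.5.10.15.1) (R.mk s.5.10.2.2 s.5.10.2.1) s.5.10.1 (R.mk s.5.10.4.2 s.5.10.4.1) s.5.10.3 (R.mk s.5.10.6.2 s.5.10.6.1) s.5.10.5 (R.mk s.5.10.8.2 s.5.10.8.1) s.5.10.7)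
  (@T16.mk R (R.mk s.5.11.10.2 s.5.11.10.1) (R.mk s.5.11.9.2 s.5.11.9.1) (R.mk s.5.11.12.2 s.5.11.12.1) (R.mk s.5.11.11.2 s.5.11.11.1) (R.mk s.5.11.14.2 s.5.11.14.1) (R.mk s.5.11.13.2 s.5.11.13.1) (R.mk s.5.11.16.2 s.5.11.16.1) (R.mk s.5.11.15.2 s.5.11.15.1) (R.mk s.5.11.2.2 s.5.11.2.1) (R.mk s.5.11.1.2 s.5.11.1.1) (R.mk s.5.11.4.2 s.5.11.4.1) (R.mk s.5.11.3.2 s.5.11.3.1) (R.mk s.5.11.6.2 s.5.11.6.1) (R.mk s.5.11.5.2 s.5.11.5.1) (R.mk s.5.11.8.2 s.5.11.8.1) (R.mk s.5.11.7.2 s.5.11.7.1))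
  (@T16.mk R s.5.12.10 s.5.12.9 s.5.12.12 s.5.12.11 s.5.12.14 s.5.12.13 s.5.12.16 s.5.12.15 s.5.12.2 s.5.12.1 s.5.12.4 s.5.12.3 s.5.12.6 s.5.12.5 s.5.12.8 s.5.12.7)
  (@T16.mk R (R.mk s.5.13.10.2 s.5.13.10.1) s.5.13.9 (R.mk s.5.13.12.2 s.5.13.12.1) s.5.13.11 (R.mk s.5.13.14.2 s.5.13.14.1) s.5.13.13 (R.mk s.5.13.16.2 s.5.13.16.1) s.5.13.15 s.5.13.2 (R.mk s.5.13.1.2 s.5.13.1.1) s.5.13.4 (R.mk s.5.13.3.2 s.5.13.3.1) s.5.13.6 (R.mk s.5.13.5.2 s.5.13.5.1) s.5.13.8 (R.mk s.5.13.7.2 s.5.13.7.1))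
  (@T16.mk R s.5.14.10 (R.mk s.5.14.9.2 s.5.14.9.1) s.5.14.12 (R.mk s.5.14.11.2 s.5.14.11.1) s.5.14.14 (R.mk s.5.14.13.2 s.5.14.13.1) s.5.14.16 (R.mk s.5.14.15.2 s.5.14.15.1) (R.mk s.5.14.2.2 s.5.14.2.1) s.5.14.1 (R.mk s.5.14.4.2 s.5.14.4.1) s.5.14.3 (R.mk s.5.14.6.2 s.5.14.6.1) s.5.14.5 (R.mk s.5.14.8.2 s.5.14.8.1) s.5.14.7)
  (@T16.mk R (R.mk s.5.15.10.2 s.5.15.10.1) (R.mk s.5.15.9.2 s.5.15.9.1) (R.mk s.5.15.12.2 s.5.15.12.1) (R.mk s.5.15.11.2 s.5.15.11.1) (R.mk s.5.15.14.2 s.5.15.14.1) (R.mk s.5.15.13.2 s.5.15.13.1) (R.mk s.5.15.16.2 s.5.15.16.1) (R.mk s.5.15.15.2 s.5.15.15.1) (R.mk s.5.15.2.2 s.5.15.2.1) (R.mk s.5.15.1.2 s.5.15.1.1) (R.mk s.5.15.4.2 s.5.15.4.1) (R.mk s.5.15.3.2 s.5.15.3.1) (R.mk s.5.15.6.2 s.5.15.6.1) (R.mk s.5.15.5.2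 s.5.15.5.1) (R.mk s.5.15.8.2 s.5.15.8.1) (R.mk s.5.15.7.2 s.5.15.7.1))
  (@T16.mk R (R.mk s.5.16.10.2 s.5.16.10.1) (R.mk s.5.16.9.2 s.5.16.9.1) (R.mk s.5.16.12.2 s.5.16.12.1) (R.mk s.5.16.11.2 s.5.16.11.1) (R.mk s.5.16.14.2 s.5.16.14.1) (R.mk s.5.16.13.2 s.5.16.13.1) (R.mk s.5.16.16.2 s.5.16.16.1) (R.mk s.5.16.15.2 s.5.16.15.1) (R.mk s.5.16.2.2 s.5.16.2.1) (R.mk s.5.16.1.2 s.5.16.1.1) (R.mk s.5.16.4.2 s.5.16.4.1) (R.mk s.5.16.3.2 s.5.16.3.1) (R.mk s.5.16.6.2 s.5.16.6.1) (R.mk s.5.16.5.2 s.5.16.5.1) (R.mk s.5.16.8.2 s.5.16.8.1) (R.mk s.5.16.7.2 s.5.16.7.1))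
 )
 (@T16.mk (T16 R)
  (@T16.mk R s.6.1.10 (R.mk s.6.1.9.2 s.6.1.9.1) s.6.1.12 (R.mk s.6.1.11.2 s.6.1.11.1) s.6.1.14 (R.mk s.6.1.13.2 s.6.1.13.1) s.6.1.16 (R.mk s.6.1.15.2 s.6.1.15.1) (R.mk s.6.1.2.2 s.6.1.2.1) s.6.1.1 (R.mk s.6.1.4.2 s.6.1.4.1) s.6.1.3 (R.mk s.6.1.6.2 s.6.1.6.1) s.6.1.5 (R.mk s.6.1.8.2 s.6.1.8.1) s.6.1.7)
  (@T16.mk R s.6.2.10 (R.mk s.6.2.9.2 s.6.2.9.1) s.6.2.12 (R.mk s.6.2.11.2 s.6.2.11.1) s.6.2.14 (R.mk s.6.2.13.2 s.6.2.13.1) s.6.2.16 (R.mk s.6.2.15.2 s.6.2.15.1) (R.mk s.6.2.2.2 s.6.2.2.1) s.6.2.1 (R.mk s.6.2.4.2 s.6.2.4.1) s.6.2.3 (R.mk s.6.2.6.2 s.6.2.6.1) s.6.2.5 (R.mk s.6.2.8.2 s.6.2.8.1) s.6.2.7)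
  (@T16.mk R s.6.3.10 s.6.3.9 s.6.3.12 s.6.3.11 s.6.3.14 s.6.3.13 s.6.3.16 s.6.3.15 s.6.3.2 s.6.3.1 s.6.3.4 s.6.3.3 s.6.3.6 s.6.3.5 s.6.3.8 s.6.3.7)
  (@T16.mk R (R.mk s.6.4.10.2 s.6.4.10.1) (R.mk s.6.4.9.2 s.6.4.9.1) (R.mk s.6.4.12.2 s.6.4.12.1) (R.mk s.6.4.11.2 s.6.4.11.1) (R.mk s.6.4.14.2 s.6.4.14.1) (R.mk s.6.4.13.2 s.6.4.13.1) (R.mk s.6.4.16.2 s.6.4.16.1) (R.mk s.6.4.15.2 s.6.4.15.1) (R.mk s.6.4.2.2 s.6.4.2.1) (R.mk s.6.4.1.2 s.6.4.1.1) (R.mk s.6.4.4.2 s.6.4.4.1) (R.mk s.6.4.3.2 s.6.4.3.1) (R.mk s.6.4.6.2 s.6.4.6.1) (R.mk s.6.4.5.2 s.6.4.5.1) (R.mk s.6.4.8.2 s.6.4.8.1) (R.mk s.6.4.7.2 s.6.4.7.1))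
  (@T16.mk R s.6.5.10 (R.mk s.6.5.9.2 s.6.5.9.1) s.6.5.12 (R.mk s.6.5.11.2 s.6.5.11.1) s.6.5.14 (R.mk s.6.5.13.2 s.6.5.13.1) s.6.5.16 (R.mk s.6.5.15.2 s.6.5.15.1) (R.mk s.6.5.2.2 s.6.5.2.1) s.6.5.1 (R.mk s.6.5.4.2 s.6.5.4.1) s.6.5.3 (R.mk s.6.5.6.2 s.6.5.6.1) s.6.5.5 (R.mk s.6.5.8.2 s.6.5.8.1) s.6.5.7)
  (@T16.mk R (R.mk s.6.6.10.2 s.6.6.10.1) s.6.6.9 (R.mk s.6.6.12.2 s.6.6.12.1) s.6.6.11 (R.mk s.6.6.14.2 s.6.6.14.1) s.6.6.13 (R.mk s.6.6.16.2 s.6.6.16.1) s.6.6.15 s.6.6.2 (R.mk s.6.6.1.2 s.6.6.1.1) s.6.6.4 (R.mk s.6.6.3.2 s.6.6.3.1) s.6.6.6 (R.mk s.6.6.5.2 s.6.6.5.1) s.6.6.8 (R.mk s.6.6.7.2 s.6.6.7.1))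
  (@T16.mk R (R.mk s.6.7.10.2 s.6.7.10.1) (R.mk s.6.7.9.2 s.6.7.9.1) (R.mk s.6.7.12.2 s.6.7.12.1) (R.mk s.6.7.11.2 s.6.7.11.1) (R.mk s.6.7.14.2 s.6.7.14.1) (R.mk s.6.7.13.2 s.6.7.13.1) (R.mk s.6.7.16.2 s.6.7.16.1) (R.mk s.6.7.15.2 s.6.7.15.1) (R.mk s.6.7.2.2 s.6.7.2.1) (R.mk s.6.7.1.2 s.6.7.1.1) (R.mk s.6.7.4.2 s.6.7.4.1) (R.mk s.6.7.3.2 s.6.7.3.1) (R.mk s.6.7.6.2 s.6.7.6.1) (R.mk s.6.7.5.2 s.6.7.5.1) (R.mk s.6.7.8.2 s.6.7.8.1) (R.mk s.6.7.7.2 s.6.7.7.1))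
  (@T16.mk R (R.mk s.6.8.10.2 s.6.8.10.1) (R.mk s.6.8.9.2 s.6.8.9.1) (R.mk s.6.8.12.2 s.6.8.12.1) (R.mk s.6.8.11.2 s.6.8.11.1) (R.mk s.6.8.14.2 s.6.8.14.1) (R.mk s.6.8.13.2 s.6.8.13.1) (R.mk s.6.8.16.2 s.6.8.16.1) (R.mk s.6.8.15.2 s.6.8.15.1) (R.mk s.6.8.2.2 s.6.8.2.1) (R.mk s.6.8.1.2 s.6.8.1.1) (R.mk s.6.8.4.2 s.6.8.4.1) (R.mk s.6.8.3.2 s.6.8.3.1) (R.mk s.6.8.6.2 s.6.8.6.1) (R.mk s.6.8.5.2 s.6.8.5.1) (R.mk s.6.8.8.2 s.6.8.8.1) (R.mk s.6.8.7.2 s.6.8.7.1))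
  (@T16.mk R s.6.9.10 (R.mk s.6.9.9.2 s.6.9.9.1) s.6.9.12 (R.mk s.6.9.11.2 s.6.9.11.1) s.6.9.14 (R.mk s.6.9.13.2 s.6.9.13.1) s.6.9.16 (R.mk s.6.9.15.2 s.6.9.15.1) (R.mk s.6.9.2.2 s.6.9.2.1) s.6.9.1 (R.mk s.6.9.4.2 s.6.9.4.1) s.6.9.3 (R.mk s.6.9.6.2 s.6.9.6.1) s.6.9.5 (R.mk s.6.9.8.2 s.6.9.8.1) s.6.9.7)
  (@T16.mk R s.6.10.10 (R.mk s.6.10.9.2 s.6.10.9.1) s.6.10.12 (R.mk s.6.10.11.2 s.6.10.11.1) s.6.10.14 (R.mk s.6.10.13.2 s.6.10.13.1) s.6.10.16 (R.mk s.6.10.15.2 s.6.10.15.1) (R.mk s.6.10.2.2 s.6.10.2.1) s.6.10.1 (R.mk s.6.10.4.2 s.6.10.4.1) s.6.10.3 (R.mk s.6.10.6.2 s.6.10.6.1) s.6.10.5 (R.mk s.6.10.8.2 s.6.10.8.1) s.6.10.7)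
  (@T16.mk R (R.mk s.6.11.10.2 s.6.11.10.1) (R.mk s.6.11.9.2 s.6.11.9.1) (R.mk s.6.11.12.2 s.6.11.12.1) (R.mk s.6.11.11.2 s.6.11.11.1) (R.mk s.6.11.14.2 s.6.11.14.1) (R.mk s.6.11.13.2 s.6.11.13.1) (R.mk s.6.11.16.2 s.6.11.16.1) (R.mk s.6.11.15.2 s.6.11.15.1) (R.mk s.6.11.2.2 s.6.11.2.1) (R.mk s.6.11.1.2 s.6.11.1.1) (R.mk s.6.11.4.2 s.6.11.4.1) (R.mk s.6.11.3.2 s.6.11.3.1) (R.mk s.6.11.6.2 s.6.11.6.1) (R.mk s.6.11.5.2 s.6.11.5.1) (R.mk s.6.11.8.2 s.6.11.8.1) (R.mk s.6.11.7.2 s.6.11.7.1))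
  (@T16.mk R s.6.12.10 s.6.12.9 s.6.12.12 s.6.12.11 s.6.12.14 s.6.12.13 s.6.12.16 s.6.12.15 s.6.12.2 s.6.12.1 s.6.12.4 s.6.12.3 s.6.12.6 s.6.12.5 s.6.12.8 s.6.12.7)
  (@T16.mk R (R.mk s.6.13.10.2 s.6.13.10.1) s.6.13.9 (R.mk s.6.13.12.2 s.6.13.12.1) s.6.13.11 (R.mk s.6.13.14.2 s.6.13.14.1) s.6.13.13 (R.mk s.6.13.16.2 s.6.13.16.1) s.6.13.15 s.6.13.2 (R.mk s.6.13.1.2 s.6.13.1.1) s.6.13.4 (R.mk s.6.13.3.2 s.6.13.3.1) s.6.13.6 (R.mk s.6.13.5.2 s.6.13.5.1) s.6.13.8 (R.mk s.6.13.7.2 s.6.13.7.1))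
  (@T16.mk R s.6.14.10 (R.mk s.6.14.9.2 s.6.14.9.1) s.6.14.12 (R.mk s.6.14.11.2 s.6.14.11.1) s.6.14.14 (R.mk s.6.14.13.2 s.6.14.13.1) s.6.14.16 (R.mk s.6.14.15.2 s.6.14.15.1) (R.mk s.6.14.2.2 s.6.14.2.1) s.6.14.1 (R.mk s.6.14.4.2 s.6.14.4.1) s.6.14.3 (R.mk s.6.14.6.2 s.6.14.6.1) s.6.14.5 (R.mk s.6.14.8.2 s.6.14.8.1) s.6.14.7)
  (@T16.mk R (R.mk s.6.15.10.2 s.6.15.10.1) (R.mk s.6.15.9.2 s.6.15.9.1) (R.mk s.6.15.12.2 s.6.15.12.1) (R.mk s.6.15.11.2 s.6.15.11.1) (R.mk s.6.15.14.2 s.6.15.14.1) (R.mk s.6.15.13.2 s.6.15.13.1) (R.mk s.6.15.16.2 s.6.15.16.1) (R.mk s.6.15.15.2 s.6.15.15.1) (R.mk s.6.15.2.2 s.6.15.2.1) (R.mk s.6.15.1.2 s.6.15.1.1) (R.mk s.6.15.4.2 s.6.15.4.1) (R.mk s.6.15.3.2 s.6.15.3.1) (R.mk s.6.15.6.2 s.6.15.6.1) (R.mk s.6.15.5.2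 s.6.15.5.1) (R.mk s.6.15.8.2 s.6.15.8.1) (R.mk s.6.15.7.2 s.6.15.7.1))
  (@T16.mk R (R.mk s.6.16.10.2 s.6.16.10.1) (R.mk s.6.16.9.2 s.6.16.9.1) (R.mk s.6.16.12.2 s.6.16.12.1) (R.mk s.6.16.11.2 s.6.16.11.1) (R.mk s.6.16.14.2 s.6.16.14.1) (R.mk s.6.16.13.2 s.6.16.13.1) (R.mk s.6.16.16.2 s.6.16.16.1) (R.mk s.6.16.15.2 s.6.16.15.1) (R.mk s.6.16.2.2 s.6.16.2.1) (R.mk s.6.16.1.2 s.6.16.1.1) (R.mk s.6.16.4.2 s.6.16.4.1) (R.mk s.6.16.3.2 s.6.16.3.1) (R.mk s.6.16.6.2 s.6.16.6.1) (R.mk s.6.16.5.2 s.6.16.5.1) (R.mk s.6.16.8.2 s.6.16.8.1) (R.mk s.6.16.7.2 s.6.16.7.1))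
 )
 (@T16.mk (T16 R)
  (@T16.mk R s.7.1.10 (R.mk s.7.1.9.2 s.7.1.9.1) s.7.1.12 (R.mk s.7.1.11.2 s.7.1.11.1) s.7.1.14 (R.mk s.7.1.13.2 s.7.1.13.1) s.7.1.16 (R.mk s.7.1.15.2 s.7.1.15.1) (R.mk s.7.1.2.2 s.7.1.2.1) s.7.1.1 (R.mk s.7.1.4.2 s.7.1.4.1) s.7.1.3 (R.mk s.7.1.6.2 s.7.1.6.1) s.7.1.5 (R.mk s.7.1.8.2 s.7.1.8.1) s.7.1.7)
  (@T16.mk R (R.mk s.7.2.10.2 s.7.2.10.1) s.7.2.9 (R.mk s.7.2.12.2 s.7.2.12.1) s.7.2.11 (R.mk s.7.2.14.2 s.7.2.14.1) s.7.2.13 (R.mk s.7.2.16.2 s.7.2.16.1) s.7.2.15 s.7.2.2 (R.mk s.7.2.1.2 s.7.2.1.1) s.7.2.4 (R.mk s.7.2.3.2 s.7.2.3.1) s.7.2.6 (R.mk s.7.2.5.2 s.7.2.5.1) s.7.2.8 (R.mk s.7.2.7.2 s.7.2.7.1))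
  (@T16.mk R s.7.3.10 s.7.3.9 s.7.3.12 s.7.3.11 s.7.3.14 s.7.3.13 s.7.3.16 s.7.3.15 s.7.3.2 s.7.3.1 s.7.3.4 s.7.3.3 s.7.3.6 s.7.3.5 s.7.3.8 s.7.3.7)
  (@T16.mk R s.7.4.10 s.7.4.9 s.7.4.12 s.7.4.11 s.7.4.14 s.7.4.13 s.7.4.16 s.7.4.15 s.7.4.2 s.7.4.1 s.7.4.4 s.7.4.3 s.7.4.6 s.7.4.5 s.7.4.8 s.7.4.7)
  (@T16.mk R s.7.5.10 (R.mk s.7.5.9.2 s.7.5.9.1) s.7.5.12 (R.mk s.7.5.11.2 s.7.5.11.1) s.7.5.14 (R.mk s.7.5.13.2 s.7.5.13.1) s.7.5.16 (R.mk s.7.5.15.2 s.7.5.15.1) (R.mk s.7.5.2.2 s.7.5.2.1) s.7.5.1 (R.mk s.7.5.4.2 s.7.5.4.1) s.7.5.3 (R.mk s.7.5.6.2 s.7.5.6.1) s.7.5.5 (R.mk s.7.5.8.2 s.7.5.8.1) s.7.5.7)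
  (@T16.mk R s.7.6.10 (R.mk s.7.6.9.2 s.7.6.9.1) s.7.6.12 (R.mk s.7.6.11.2 s.7.6.11.1) s.7.6.14 (R.mk s.7.6.13.2 s.7.6.13.1) s.7.6.16 (R.mk s.7.6.15.2 s.7.6.15.1) (R.mk s.7.6.2.2 s.7.6.2.1) s.7.6.1 (R.mk s.7.6.4.2 s.7.6.4.1) s.7.6.3 (R.mk s.7.6.6.2 s.7.6.6.1) s.7.6.5 (R.mk s.7.6.8.2 s.7.6.8.1) s.7.6.7)
  (@T16.mk R (R.mk s.7.7.10.2 s.7.7.10.1) (R.mk s.7.7.9.2 s.7.7.9.1) (R.mk s.7.7.12.2 s.7.7.12.1) (R.mk s.7.7.11.2 s.7.7.11.1) (R.mk s.7.7.14.2 s.7.7.14.1) (R.mk s.7.7.13.2 s.7.7.13.1) (R.mk s.7.7.16.2 s.7.7.16.1) (R.mk s.7.7.15.2 s.7.7.15.1) (R.mk s.7.7.2.2 s.7.7.2.1) (R.mk s.7.7.1.2 s.7.7.1.1) (R.mk s.7.7.4.2 s.7.7.4.1) (R.mk s.7.7.3.2 s.7.7.3.1) (R.mk s.7.7.6.2 s.7.7.6.1) (R.mk s.7.7.5.2 s.7.7.5.1) (R.mk s.7.7.8.2 s.7.7.8.1) (R.mk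 s.7.7.7.2 s.7.7.7.1))
  (@T16.mk R s.7.8.10 s.7.8.9 s.7.8.12 s.7.8.11 s.7.8.14 s.7.8.13 s.7.8.16 s.7.8.15 s.7.8.2 s.7.8.1 s.7.8.4 s.7.8.3 s.7.8.6 s.7.8.5 s.7.8.8 s.7.8.7)
  (@T16.mk R (R.mk s.7.9.10.2 s.7.9.10.1) s.7.9.9 (R.mk s.7.9.12.2 s.7.9.12.1) s.7.9.11 (R.mk s.7.9.14.2 s.7.9.14.1) s.7.9.13 (R.mk s.7.9.16.2 s.7.9.16.1) s.7.9.15 s.7.9.2 (R.mk s.7.9.1.2 s.7.9.1.1) s.7.9.4 (R.mk s.7.9.3.2 s.7.9.3.1) s.7.9.6 (R.mk s.7.9.5.2 s.7.9.5.1) s.7.9.8 (R.mk s.7.9.7.2 s.7.9.7.1))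
  (@T16.mk R s.7.10.10 (R.mk s.7.10.9.2 s.7.10.9.1) s.7.10.12 (R.mk s.7.10.11.2 s.7.10.11.1) s.7.10.14 (R.mk s.7.10.13.2 s.7.10.13.1) s.7.10.16 (R.mk s.7.10.15.2 s.7.10.15.1) (R.mk s.7.10.2.2 s.7.10.2.1) s.7.10.1 (R.mk s.7.10.4.2 s.7.10.4.1) s.7.10.3 (R.mk s.7.10.6.2 s.7.10.6.1) s.7.10.5 (R.mk s.7.10.8.2 s.7.10.8.1) s.7.10.7)
  (@T16.mk R s.7.11.10 s.7.11.9 s.7.11.12 s.7.11.11 s.7.11.14 s.7.11.13 s.7.11.16 s.7.11.15 s.7.11.2 s.7.11.1 s.7.11.4 s.7.11.3 s.7.11.6 s.7.11.5 s.7.11.8 s.7.11.7)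
  (@T16.mk R s.7.12.10 s.7.12.9 s.7.12.12 s.7.12.11 s.7.12.14 s.7.12.13 s.7.12.16 s.7.12.15 s.7.12.2 s.7.12.1 s.7.12.4 s.7.12.3 s.7.12.6 s.7.12.5 s.7.12.8 s.7.12.7)
  (@T16.mk R s.7.13.10 (R.mk s.7.13.9.2 s.7.13.9.1) s.7.13.12 (R.mk s.7.13.11.2 s.7.13.11.1) s.7.13.14 (R.mk s.7.13.13.2 s.7.13.13.1) s.7.13.16 (R.mk s.7.13.15.2 s.7.13.15.1) (R.mk s.7.13.2.2 s.7.13.2.1) s.7.13.1 (R.mk s.7.13.4.2 s.7.13.4.1) s.7.13.3 (R.mk s.7.13.6.2 s.7.13.6.1) s.7.13.5 (R.mk s.7.13.8.2 s.7.13.8.1) s.7.13.7)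
  (@T16.mk R s.7.14.10 (R.mk s.7.14.9.2 s.7.14.9.1) s.7.14.12 (R.mk s.7.14.11.2 s.7.14.11.1) s.7.14.14 (R.mk s.7.14.13.2 s.7.14.13.1) s.7.14.16 (R.mk s.7.14.15.2 s.7.14.15.1) (R.mk s.7.14.2.2 s.7.14.2.1) s.7.14.1 (R.mk s.7.14.4.2 s.7.14.4.1) s.7.14.3 (R.mk s.7.14.6.2 s.7.14.6.1) s.7.14.5 (R.mk s.7.14.8.2 s.7.14.8.1) s.7.14.7)
  (@T16.mk R s.7.15.10 s.7.15.9 s.7.15.12 s.7.15.11 s.7.15.14 s.7.15.13 s.7.15.16 s.7.15.15 s.7.15.2 s.7.15.1 s.7.15.4 s.7.15.3 s.7.15.6 s.7.15.5 s.7.15.8 s.7.15.7)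
  (@T16.mk R (R.mk s.7.16.10.2 s.7.16.10.1) (R.mk s.7.16.9.2 s.7.16.9.1) (R.mk s.7.16.12.2 s.7.16.12.1) (R.mk s.7.16.11.2 s.7.16.11.1) (R.mk s.7.16.14.2 s.7.16.14.1) (R.mk s.7.16.13.2 s.7.16.13.1) (R.mk s.7.16.16.2 s.7.16.16.1) (R.mk s.7.16.15.2 s.7.16.15.1) (R.mk s.7.16.2.2 s.7.16.2.1) (R.mk s.7.16.1.2 s.7.16.1.1) (R.mk s.7.16.4.2 s.7.16.4.1) (R.mk s.7.16.3.2 s.7.16.3.1) (R.mk s.7.16.6.2 s.7.16.6.1) (R.mk s.7.16.5.2 s.7.16.5.1) (R.mk s.7.16.8.2 s.7.16.8.1) (R.mk s.7.16.7.2 s.7.16.7.1))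
 )
 (@T16.mk (T16 R)
  (@T16.mk R (R.mk s.8.1.10.2 s.8.1.10.1) s.8.1.9 (R.mk s.8.1.12.2 s.8.1.12.1) s.8.1.11 (R.mk s.8.1.14.2 s.8.1.14.1) s.8.1.13 (R.mk s.8.1.16.2 s.8.1.16.1) s.8.1.15 s.8.1.2 (R.mk s.8.1.1.2 s.8.1.1.1) s.8.1.4 (R.mk s.8.1.3.2 s.8.1.3.1) s.8.1.6 (R.mk s.8.1.5.2 s.8.1.5.1) s.8.1.8 (R.mk s.8.1.7.2 s.8.1.7.1))
  (@T16.mk R s.8.2.10 (R.mk s.8.2.9.2 s.8.2.9.1) s.8.2.12 (R.mk s.8.2.11.2 s.8.2.11.1) s.8.2.14 (R.mk s.8.2.13.2 s.8.2.13.1) s.8.2.16 (R.mk s.8.2.15.2 s.8.2.15.1) (R.mk s.8.2.2.2 s.8.2.2.1) s.8.2.1 (R.mk s.8.2.4.2 s.8.2.4.1) s.8.2.3 (R.mk s.8.2.6.2 s.8.2.6.1) s.8.2.5 (R.mk s.8.2.8.2 s.8.2.8.1) s.8.2.7)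
  (@T16.mk R (R.mk s.8.3.10.2 s.8.3.10.1) (R.mk s.8.3.9.2 s.8.3.9.1) (R.mk s.8.3.12.2 s.8.3.12.1) (R.mk s.8.3.11.2 s.8.3.11.1) (R.mk s.8.3.14.2 s.8.3.14.1) (R.mk s.8.3.13.2 s.8.3.13.1) (R.mk s.8.3.16.2 s.8.3.16.1) (R.mk s.8.3.15.2 s.8.3.15.1) (R.mk s.8.3.2.2 s.8.3.2.1) (R.mk s.8.3.1.2 s.8.3.1.1) (R.mk s.8.3.4.2 s.8.3.4.1) (R.mk s.8.3.3.2 s.8.3.3.1) (R.mk s.8.3.6.2 s.8.3.6.1) (R.mk s.8.3.5.2 s.8.3.5.1) (R.mk s.8.3.8.2 s.8.3.8.1) (R.mk s.8.3.7.2 s.8.3.7.1))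
  (@T16.mk R (R.mk s.8.4.10.2 s.8.4.10.1) (R.mk s.8.4.9.2 s.8.4.9.1) (R.mk s.8.4.12.2 s.8.4.12.1) (R.mk s.8.4.11.2 s.8.4.11.1) (R.mk s.8.4.14.2 s.8.4.14.1) (R.mk s.8.4.13.2 s.8.4.13.1) (R.mk s.8.4.16.2 s.8.4.16.1) (R.mk s.8.4.15.2 s.8.4.15.1) (R.mk s.8.4.2.2 s.8.4.2.1) (R.mk s.8.4.1.2 s.8.4.1.1) (R.mk s.8.4.4.2 s.8.4.4.1) (R.mk s.8.4.3.2 s.8.4.3.1) (R.mk s.8.4.6.2 s.8.4.6.1) (R.mk s.8.4.5.2 s.8.4.5.1) (R.mk s.8.4.8.2 s.8.4.8.1) (R.mk s.8.4.7.2 s.8.4.7.1))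
  (@T16.mk R (R.mk s.8.5.10.2 s.8.5.10.1) s.8.5.9 (R.mk s.8.5.12.2 s.8.5.12.1) s.8.5.11 (R.mk s.8.5.14.2 s.8.5.14.1) s.8.5.13 (R.mk s.8.5.16.2 s.8.5.16.1) s.8.5.15 s.8.5.2 (R.mk s.8.5.1.2 s.8.5.1.1) s.8.5.4 (R.mk s.8.5.3.2 s.8.5.3.1) s.8.5.6 (R.mk s.8.5.5.2 s.8.5.5.1) s.8.5.8 (R.mk s.8.5.7.2 s.8.5.7.1))
  (@T16.mk R (R.mk s.8.6.10.2 s.8.6.10.1) s.8.6.9 (R.mk s.8.6.12.2 s.8.6.12.1) s.8.6.11 (R.mk s.8.6.14.2 s.8.6.14.1) s.8.6.13 (R.mk s.8.6.16.2 s.8.6.16.1) s.8.6.15 s.8.6.2 (R.mk s.8.6.1.2 s.8.6.1.1) s.8.6.4 (R.mk s.8.6.3.2 s.8.6.3.1) s.8.6.6 (R.mk s.8.6.5.2 s.8.6.5.1) s.8.6.8 (R.mk s.8.6.7.2 s.8.6.7.1))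
  (@T16.mk R s.8.7.10 s.8.7.9 s.8.7.12 s.8.7.11 s.8.7.14 s.8.7.13 s.8.7.16 s.8.7.15 s.8.7.2 s.8.7.1 s.8.7.4 s.8.7.3 s.8.7.6 s.8.7.5 s.8.7.8 s.8.7.7)
  (@T16.mk R (R.mk s.8.8.10.2 s.8.8.10.1) (R.mk s.8.8.9.2 s.8.8.9.1) (R.mk s.8.8.12.2 s.8.8.12.1) (R.mk s.8.8.11.2 s.8.8.11.1) (R.mk s.8.8.14.2 s.8.8.14.1) (R.mk s.8.8.13.2 s.8.8.13.1) (R.mk s.8.8.16.2 s.8.8.16.1) (R.mk s.8.8.15.2 s.8.8.15.1) (R.mk s.8.8.2.2 s.8.8.2.1) (R.mk s.8.8.1.2 s.8.8.1.1) (R.mk s.8.8.4.2 s.8.8.4.1) (R.mk s.8.8.3.2 s.8.8.3.1) (R.mk s.8.8.6.2 s.8.8.6.1) (R.mk s.8.8.5.2 s.8.8.5.1) (R.mk s.8.8.8.2 s.8.8.8.1) (R.mk s.8.8.7.2 s.8.8.7.1))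
  (@T16.mk R s.8.9.10 (R.mk s.8.9.9.2 s.8.9.9.1) s.8.9.12 (R.mk s.8.9.11.2 s.8.9.11.1) s.8.9.14 (R.mk s.8.9.13.2 s.8.9.13.1) s.8.9.16 (R.mk s.8.9.15.2 s.8.9.15.1) (R.mk s.8.9.2.2 s.8.9.2.1) s.8.9.1 (R.mk s.8.9.4.2 s.8.9.4.1) s.8.9.3 (R.mk s.8.9.6.2 s.8.9.6.1) s.8.9.5 (R.mk s.8.9.8.2 s.8.9.8.1) s.8.9.7)
  (@T16.mk R (R.mk s.8.10.10.2 s.8.10.10.1) s.8.10.9 (R.mk s.8.10.12.2 s.8.10.12.1) s.8.10.11 (R.mk s.8.10.14.2 s.8.10.14.1) s.8.10.13 (R.mk s.8.10.16.2 s.8.10.16.1) s.8.10.15 s.8.10.2 (R.mk s.8.10.1.2 s.8.10.1.1) s.8.10.4 (R.mk s.8.10.3.2 s.8.10.3.1) s.8.10.6 (R.mk s.8.10.5.2 s.8.10.5.1) s.8.10.8 (R.mk s.8.10.7.2 s.8.10.7.1))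
  (@T16.mk R (R.mk s.8.11.10.2 s.8.11.10.1) (R.mk s.8.11.9.2 s.8.11.9.1) (R.mk s.8.11.12.2 s.8.11.12.1) (R.mk s.8.11.11.2 s.8.11.11.1) (R.mk s.8.11.14.2 s.8.11.14.1) (R.mk s.8.11.13.2 s.8.11.13.1) (R.mk s.8.11.16.2 s.8.11.16.1) (R.mk s.8.11.15.2 s.8.11.15.1) (R.mk s.8.11.2.2 s.8.11.2.1) (R.mk s.8.11.1.2 s.8.11.1.1) (R.mk s.8.11.4.2 s.8.11.4.1) (R.mk s.8.11.3.2 s.8.11.3.1) (R.mk s.8.11.6.2 s.8.11.6.1) (R.mk s.8.11.5.2 s.8.11.5.1) (R.mk s.8.11.8.2 s.8.11.8.1) (R.mk s.8.11.7.2 s.8.11.7.1))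
  (@T16.mk R (R.mk s.8.12.10.2 s.8.12.10.1) (R.mk s.8.12.9.2 s.8.12.9.1) (R.mk s.8.12.12.2 s.8.12.12.1) (R.mk s.8.12.11.2 s.8.12.11.1) (R.mk s.8.12.14.2 s.8.12.14.1) (R.mk s.8.12.13.2 s.8.12.13.1) (R.mk s.8.12.16.2 s.8.12.16.1) (R.mk s.8.12.15.2 s.8.12.15.1) (R.mk s.8.12.2.2 s.8.12.2.1) (R.mk s.8.12.1.2 s.8.12.1.1) (R.mk s.8.12.4.2 s.8.12.4.1) (R.mk s.8.12.3.2 s.8.12.3.1) (R.mk s.8.12.6.2 s.8.12.6.1) (R.mk s.8.12.5.2 s.8.12.5.1) (R.mk s.8.12.8.2 s.8.12.8.1) (R.mk s.8.12.7.2 s.8.12.7.1))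
  (@T16.mk R (R.mk s.8.13.10.2 s.8.13.10.1) s.8.13.9 (R.mk s.8.13.12.2 s.8.13.12.1) s.8.13.11 (R.mk s.8.13.14.2 s.8.13.14.1) s.8.13.13 (R.mk s.8.13.16.2 s.8.13.16.1) s.8.13.15 s.8.13.2 (R.mk s.8.13.1.2 s.8.13.1.1) s.8.13.4 (R.mk s.8.13.3.2 s.8.13.3.1) s.8.13.6 (R.mk s.8.13.5.2 s.8.13.5.1) s.8.13.8 (R.mk s.8.13.7.2 s.8.13.7.1))
  (@T16.mk R (R.mk s.8.14.10.2 s.8.14.10.1) s.8.14.9 (R.mk s.8.14.12.2 s.8.14.12.1) s.8.14.11 (R.mk s.8.14.14.2 s.8.14.14.1) s.8.14.13 (R.mk s.8.14.16.2 s.8.14.16.1) s.8.14.15 s.8.14.2 (R.mk s.8.14.1.2 s.8.14.1.1) s.8.14.4 (R.mk s.8.14.3.2 s.8.14.3.1) s.8.14.6 (R.mk s.8.14.5.2 s.8.14.5.1) s.8.14.8 (R.mk s.8.14.7.2 s.8.14.7.1))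
  (@T16.mk R (R.mk s.8.15.10.2 s.8.15.10.1) (R.mk s.8.15.9.2 s.8.15.9.1) (R.mk s.8.15.12.2 s.8.15.12.1) (R.mk s.8.15.11.2 s.8.15.11.1) (R.mk s.8.15.14.2 s.8.15.14.1) (R.mk s.8.15.13.2 s.8.15.13.1) (R.mk s.8.15.16.2 s.8.15.16.1) (R.mk s.8.15.15.2 s.8.15.15.1) (R.mk s.8.15.2.2 s.8.15.2.1) (R.mk s.8.15.1.2 s.8.15.1.1) (R.mk s.8.15.4.2 s.8.15.4.1) (R.mk s.8.15.3.2 s.8.15.3.1) (R.mk s.8.15.6.2 s.8.15.6.1) (R.mk s.8.15.5.2 s.8.15.5.1) (R.mk s.8.15.8.2 s.8.15.8.1) (R.mk s.8.15.7.2 s.8.15.7.1))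
  (@T16.mk R s.8.16.10 s.8.16.9 s.8.16.12 s.8.16.11 s.8.16.14 s.8.16.13 s.8.16.16 s.8.16.15 s.8.16.2 s.8.16.1 s.8.16.4 s.8.16.3 s.8.16.6 s.8.16.5 s.8.16.8 s.8.16.7)
 )
 (@T16.mk (T16 R)
  (@T16.mk R (R.mk s.9.1.8.2 s.9.1.8.1) (R.mk s.9.1.7.2 s.9.1.7.1) (R.mk s.9.1.6.2 s.9.1.6.1) (R.mk s.9.1.5.2 s.9.1.5.1) (R.mk s.9.1.4.2 s.9.1.4.1) (R.mk s.9.1.3.2 s.9.1.3.1) (R.mk s.9.1.2.2 s.9.1.2.1) (R.mk s.9.1.1.2 s.9.1.1.1) (R.mk s.9.1.16.2 s.9.1.16.1) (R.mk s.9.1.15.2 s.9.1.15.1) (R.mk s.9.1.14.2 s.9.1.14.1) (R.mk s.9.1.13.2 s.9.1.13.1) (R.mk s.9.1.12.2 s.9.1.12.1) (R.mk s.9.1.11.2 s.9.1.11.1) (R.mk s.9.1.10.2 s.9.1.10.1) (R.mk s.9.1.9.2 s.9.1.9.1))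
  (@T16.mk R (R.mk s.9.2.5.2 s.9.2.5.1) (R.mk s.9.2.6.2 s.9.2.6.1) (R.mk s.9.2.7.2 s.9.2.7.1) (R.mk s.9.2.8.2 s.9.2.8.1) (R.mk s.9.2.1.2 s.9.2.1.1) (R.mk s.9.2.2.2 s.9.2.2.1) (R.mk s.9.2.3.2 s.9.2.3.1) (R.mk s.9.2.4.2 s.9.2.4.1) (R.mk s.9.2.13.2 s.9.2.13.1) (R.mk s.9.2.14.2 s.9.2.14.1) (R.mk s.9.2.15.2 s.9.2.15.1) (R.mk s.9.2.16.2 s.9.2.16.1) (R.mk s.9.2.9.2 s.9.2.9.1) (R.mk s.9.2.10.2 s.9.2.10.1) (R.mk s.9.2.11.2 s.9.2.11.1) (R.mk s.9.2.12.2 s.9.2.12.1))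
  (@T16.mk R (R.mk s.9.3.7.2 s.9.3.7.1) (R.mk s.9.3.8.2 s.9.3.8.1) (R.mk s.9.3.5.2 s.9.3.5.1) (R.mk s.9.3.6.2 s.9.3.6.1) (R.mk s.9.3.3.2 s.9.3.3.1) (R.mk s.9.3.4.2 s.9.3.4.1) (R.mk s.9.3.1.2 s.9.3.1.1) (R.mk s.9.3.2.2 s.9.3.2.1) (R.mk s.9.3.15.2 s.9.3.15.1) (R.mk s.9.3.16.2 s.9.3.16.1) (R.mk s.9.3.13.2 s.9.3.13.1) (R.mk s.9.3.14.2 s.9.3.14.1) (R.mk s.9.3.11.2 s.9.3.11.1) (R.mk s.9.3.12.2 s.9.3.12.1) (R.mk s.9.3.9.2 s.9.3.9.1) (R.mk s.9.3.10.2 s.9.3.10.1))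
  (@T16.mk R s.9.4.1 s.9.4.2 s.9.4.3 s.9.4.4 s.9.4.5 s.9.4.6 s.9.4.7 s.9.4.8 s.9.4.9 s.9.4.10 s.9.4.11 s.9.4.12 s.9.4.13 s.9.4.14 s.9.4.15 s.9.4.16)
  (@T16.mk R s.9.5.6 s.9.5.5 s.9.5.8 s.9.5.7 s.9.5.2 s.9.5.1 s.9.5.4 s.9.5.3 s.9.5.14 s.9.5.13 s.9.5.16 s.9.5.15 s.9.5.10 s.9.5.9 s.9.5.12 s.9.5.11)
  (@T16.mk R (R.mk s.9.6.15.2 s.9.6.15.1) (R.mk s.9.6.16.2 s.9.6.16.1) (R.mk s.9.6.13.2 s.9.6.13.1) (R.mk s.9.6.14.2 s.9.6.14.1) (R.mk s.9.6.11.2 s.9.6.11.1) (R.mk s.9.6.12.2 s.9.6.12.1) (R.mk s.9.6.9.2 s.9.6.9.1) (R.mk s.9.6.10.2 s.9.6.10.1) (R.mk s.9.6.7.2 s.9.6.7.1) (R.mk s.9.6.8.2 s.9.6.8.1) (R.mk s.9.6.5.2 s.9.6.5.1) (R.mk s.9.6.6.2 s.9.6.6.1) (R.mk s.9.6.3.2 s.9.6.3.1) (R.mk s.9.6.4.2 s.9.6.4.1) (R.mk s.9.6.1.2 s.9.6.1.1) (R.mk s.9.6.2.2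 s.9.6.2.1))
  (@T16.mk R (R.mk s.9.7.11.2 s.9.7.11.1) (R.mk s.9.7.12.2 s.9.7.12.1) (R.mk s.9.7.9.2 s.9.7.9.1) (R.mk s.9.7.10.2 s.9.7.10.1) (R.mk s.9.7.15.2 s.9.7.15.1) (R.mk s.9.7.16.2 s.9.7.16.1) (R.mk s.9.7.13.2 s.9.7.13.1) (R.mk s.9.7.14.2 s.9.7.14.1) (R.mk s.9.7.3.2 s.9.7.3.1) (R.mk s.9.7.4.2 s.9.7.4.1) (R.mk s.9.7.1.2 s.9.7.1.1) (R.mk s.9.7.2.2 s.9.7.2.1) (R.mk s.9.7.7.2 s.9.7.7.1) (R.mk s.9.7.8.2 s.9.7.8.1) (R.mk s.9.7.5.2 s.9.7.5.1) (R.mk s.9.7.6.2 s.9.7.6.1))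
  (@T16.mk R s.9.8.1 s.9.8.2 s.9.8.3 s.9.8.4 s.9.8.5 s.9.8.6 s.9.8.7 s.9.8.8 s.9.8.9 s.9.8.10 s.9.8.11 s.9.8.12 s.9.8.13 s.9.8.14 s.9.8.15 s.9.8.16)
  (@T16.mk R s.9.9.1 s.9.9.2 s.9.9.3 s.9.9.4 s.9.9.5 s.9.9.6 s.9.9.7 s.9.9.8 s.9.9.9 s.9.9.10 s.9.9.11 s.9.9.12 s.9.9.13 s.9.9.14 s.9.9.15 s.9.9.16)
  (@T16.mk R s.9.10.14 s.9.10.13 s.9.10.16 s.9.10.15 s.9.10.10 s.9.10.9 s.9.10.12 s.9.10.11 s.9.10.6 s.9.10.5 s.9.10.8 s.9.10.7 s.9.10.2 s.9.10.1 s.9.10.4 s.9.10.3)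
  (@T16.mk R s.9.11.1 s.9.11.2 s.9.11.3 s.9.11.4 s.9.11.5 s.9.11.6 s.9.11.7 s.9.11.8 s.9.11.9 s.9.11.10 s.9.11.11 s.9.11.12 s.9.11.13 s.9.11.14 s.9.11.15 s.9.11.16)
  (@T16.mk R s.9.12.2 s.9.12.1 s.9.12.4 s.9.12.3 s.9.12.6 s.9.12.5 s.9.12.8 s.9.12.7 s.9.12.10 s.9.12.9 s.9.12.12 s.9.12.11 s.9.12.14 s.9.12.13 s.9.12.16 s.9.12.15)
  (@T16.mk R (R.mk s.9.13.15.2 s.9.13.15.1) (R.mk s.9.13.16.2 s.9.13.16.1) (R.mk s.9.13.13.2 s.9.13.13.1) (R.mk s.9.13.14.2 s.9.13.14.1) (R.mk s.9.13.11.2 s.9.13.11.1) (R.mk s.9.13.12.2 s.9.13.12.1) (R.mk s.9.13.9.2 s.9.13.9.1) (R.mk s.9.13.10.2 s.9.13.10.1) (R.mk s.9.13.7.2 s.9.13.7.1) (R.mk s.9.13.8.2 s.9.13.8.1) (R.mk s.9.13.5.2 s.9.13.5.1) (R.mk s.9.13.6.2 s.9.13.6.1) (R.mk s.9.13.3.2 s.9.13.3.1) (R.mk s.9.13.4.2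 s.9.13.4.1) (R.mk s.9.13.1.2 s.9.13.1.1) (R.mk s.9.13.2.2 s.9.13.2.1))
  (@T16.mk R (R.mk s.9.14.11.2 s.9.14.11.1) (R.mk s.9.14.12.2 s.9.14.12.1) (R.mk s.9.14.9.2 s.9.14.9.1) (R.mk s.9.14.10.2 s.9.14.10.1) (R.mk s.9.14.15.2 s.9.14.15.1) (R.mk s.9.14.16.2 s.9.14.16.1) (R.mk s.9.14.13.2 s.9.14.13.1) (R.mk s.9.14.14.2 s.9.14.14.1) (R.mk s.9.14.3.2 s.9.14.3.1) (R.mk s.9.14.4.2 s.9.14.4.1) (R.mk s.9.14.1.2 s.9.14.1.1) (R.mk s.9.14.2.2 s.9.14.2.1) (R.mk s.9.14.7.2 s.9.14.7.1) (R.mk s.9.14.8.2 s.9.14.8.1) (R.mk s.9.14.5.2 s.9.14.5.1) (R.mk s.9.14.6.2 s.9.14.6.1))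
  (@T16.mk R (R.mk s.9.15.2.2 s.9.15.2.1) (R.mk s.9.15.1.2 s.9.15.1.1) (R.mk s.9.15.4.2 s.9.15.4.1) (R.mk s.9.15.3.2 s.9.15.3.1) (R.mk s.9.15.6.2 s.9.15.6.1) (R.mk s.9.15.5.2 s.9.15.5.1) (R.mk s.9.15.8.2 s.9.15.8.1) (R.mk s.9.15.7.2 s.9.15.7.1) (R.mk s.9.15.10.2 s.9.15.10.1) (R.mk s.9.15.9.2 s.9.15.9.1) (R.mk s.9.15.12.2 s.9.15.12.1) (R.mk s.9.15.11.2 s.9.15.11.1) (R.mk s.9.15.14.2 s.9.15.14.1) (R.mk s.9.15.13.2 s.9.15.13.1) (R.mk s.9.15.16.2 s.9.15.16.1) (R.mk s.9.15.15.2 s.9.15.15.1))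
  (@T16.mk R (R.mk s.9.16.14.2 s.9.16.14.1) (R.mk s.9.16.13.2 s.9.16.13.1) (R.mk s.9.16.16.2 s.9.16.16.1) (R.mk s.9.16.15.2 s.9.16.15.1) (R.mk s.9.16.10.2 s.9.16.10.1) (R.mk s.9.16.9.2 s.9.16.9.1) (R.mk s.9.16.12.2 s.9.16.12.1) (R.mk s.9.16.11.2 s.9.16.11.1) (R.mk s.9.16.6.2 s.9.16.6.1) (R.mk s.9.16.5.2 s.9.16.5.1) (R.mk s.9.16.8.2 s.9.16.8.1) (R.mk s.9.16.7.2 s.9.16.7.1) (R.mk s.9.16.2.2 s.9.16.2.1) (R.mk s.9.16.1.2 s.9.16.1.1) (R.mk s.9.16.4.2 s.9.16.4.1) (R.mk s.9.16.3.2 s.9.16.3.1))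
 )
 (@T16.mk (T16 R)
  (@T16.mk R (R.mk s.10.1.5.2 s.10.1.5.1) (R.mk s.10.1.6.2 s.10.1.6.1) (R.mk s.10.1.7.2 s.10.1.7.1) (R.mk s.10.1.8.2 s.10.1.8.1) (R.mk s.10.1.1.2 s.10.1.1.1) (R.mk s.10.1.2.2 s.10.1.2.1) (R.mk s.10.1.3.2 s.10.1.3.1) (R.mk s.10.1.4.2 s.10.1.4.1) (R.mk s.10.1.13.2 s.10.1.13.1) (R.mk s.10.1.14.2 s.10.1.14.1) (R.mk s.10.1.15.2 s.10.1.15.1) (R.mk s.10.1.16.2 s.10.1.16.1) (R.mk s.10.1.9.2 s.10.1.9.1) (R.mk s.10.1.10.2 s.10.1.10.1) (R.mk s.10.1.11.2 s.10.1.11.1) (R.mk s.10.1.12.2 s.10.1.12.1))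
  (@T16.mk R (R.mk s.10.2.13.2 s.10.2.13.1) (R.mk s.10.2.14.2 s.10.2.14.1) (R.mk s.10.2.15.2 s.10.2.15.1) (R.mk s.10.2.16.2 s.10.2.16.1) (R.mk s.10.2.9.2 s.10.2.9.1) (R.mk s.10.2.10.2 s.10.2.10.1) (R.mk s.10.2.11.2 s.10.2.11.1) (R.mk s.10.2.12.2 s.10.2.12.1) (R.mk s.10.2.5.2 s.10.2.5.1) (R.mk s.10.2.6.2 s.10.2.6.1) (R.mk s.10.2.7.2 s.10.2.7.1) (R.mk s.10.2.8.2 s.10.2.8.1) (R.mk s.10.2.1.2 s.10.2.1.1) (R.mk s.10.2.2.2 s.10.2.2.1) (R.mk s.10.2.3.2 s.10.2.3.1) (R.mk s.10.2.4.2 s.10.2.4.1))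
  (@T16.mk R (R.mk s.10.3.4.2 s.10.3.4.1) (R.mk s.10.3.3.2 s.10.3.3.1) (R.mk s.10.3.2.2 s.10.3.2.1) (R.mk s.10.3.1.2 s.10.3.1.1) (R.mk s.10.3.8.2 s.10.3.8.1) (R.mk s.10.3.7.2 s.10.3.7.1) (R.mk s.10.3.6.2 s.10.3.6.1) (R.mk s.10.3.5.2 s.10.3.5.1) (R.mk s.10.3.12.2 s.10.3.12.1) (R.mk s.10.3.11.2 s.10.3.11.1) (R.mk s.10.3.10.2 s.10.3.10.1) (R.mk s.10.3.9.2 s.10.3.9.1) (R.mk s.10.3.16.2 s.10.3.16.1) (R.mk s.10.3.15.2 s.10.3.15.1) (R.mk s.10.3.14.2 s.10.3.14.1) (R.mk s.10.3.13.2 s.10.3.13.1))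
  (@T16.mk R (R.mk s.10.4.10.2 s.10.4.10.1) (R.mk s.10.4.9.2 s.10.4.9.1) (R.mk s.10.4.12.2 s.10.4.12.1) (R.mk s.10.4.11.2 s.10.4.11.1) (R.mk s.10.4.14.2 s.10.4.14.1) (R.mk s.10.4.13.2 s.10.4.13.1) (R.mk s.10.4.16.2 s.10.4.16.1) (R.mk s.10.4.15.2 s.10.4.15.1) (R.mk s.10.4.2.2 s.10.4.2.1) (R.mk s.10.4.1.2 s.10.4.1.1) (R.mk s.10.4.4.2 s.10.4.4.1) (R.mk s.10.4.3.2 s.10.4.3.1) (R.mk s.10.4.6.2 s.10.4.6.1) (R.mk s.10.4.5.2 s.10.4.5.1) (R.mk s.10.4.8.2 s.10.4.8.1) (R.mk s.10.4.7.2 s.10.4.7.1))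
  (@T16.mk R (R.mk s.10.5.5.2 s.10.5.5.1) (R.mk s.10.5.6.2 s.10.5.6.1) (R.mk s.10.5.7.2 s.10.5.7.1) (R.mk s.10.5.8.2 s.10.5.8.1) (R.mk s.10.5.1.2 s.10.5.1.1) (R.mk s.10.5.2.2 s.10.5.2.1) (R.mk s.10.5.3.2 s.10.5.3.1) (R.mk s.10.5.4.2 s.10.5.4.1) (R.mk s.10.5.13.2 s.10.5.13.1) (R.mk s.10.5.14.2 s.10.5.14.1) (R.mk s.10.5.15.2 s.10.5.15.1) (R.mk s.10.5.16.2 s.10.5.16.1) (R.mk s.10.5.9.2 s.10.5.9.1) (R.mk s.10.5.10.2 s.10.5.10.1) (R.mk s.10.5.11.2 s.10.5.11.1) (R.mk s.10.5.12.2 s.10.5.12.1))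
  (@T16.mk R (R.mk s.10.6.3.2 s.10.6.3.1) (R.mk s.10.6.4.2 s.10.6.4.1) (R.mk s.10.6.1.2 s.10.6.1.1) (R.mk s.10.6.2.2 s.10.6.2.1) (R.mk s.10.6.7.2 s.10.6.7.1) (R.mk s.10.6.8.2 s.10.6.8.1) (R.mk s.10.6.5.2 s.10.6.5.1) (R.mk s.10.6.6.2 s.10.6.6.1) (R.mk s.10.6.11.2 s.10.6.11.1) (R.mk s.10.6.12.2 s.10.6.12.1) (R.mk s.10.6.9.2 s.10.6.9.1) (R.mk s.10.6.10.2 s.10.6.10.1) (R.mk s.10.6.15.2 s.10.6.15.1) (R.mk s.10.6.16.2 s.10.6.16.1) (R.mk s.10.6.13.2 s.10.6.13.1) (R.mk s.10.6.14.2 s.10.6.14.1))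
  (@T16.mk R s.10.7.8 s.10.7.7 s.10.7.6 s.10.7.5 s.10.7.4 s.10.7.3 s.10.7.2 s.10.7.1 s.10.7.16 s.10.7.15 s.10.7.14 s.10.7.13 s.10.7.12 s.10.7.11 s.10.7.10 s.10.7.9)
  (@T16.mk R (R.mk s.10.8.4.2 s.10.8.4.1) (R.mk s.10.8.3.2 s.10.8.3.1) (R.mk s.10.8.2.2 s.10.8.2.1) (R.mk s.10.8.1.2 s.10.8.1.1) (R.mk s.10.8.8.2 s.10.8.8.1) (R.mk s.10.8.7.2 s.10.8.7.1) (R.mk s.10.8.6.2 s.10.8.6.1) (R.mk s.10.8.5.2 s.10.8.5.1) (R.mk s.10.8.12.2 s.10.8.12.1) (R.mk s.10.8.11.2 s.10.8.11.1) (R.mk s.10.8.10.2 s.10.8.10.1) (R.mk s.10.8.9.2 s.10.8.9.1) (R.mk s.10.8.16.2 s.10.8.16.1) (R.mk s.10.8.15.2 s.10.8.15.1) (R.mk s.10.8.14.2 s.10.8.14.1) (R.mk s.10.8.13.2 s.10.8.13.1))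
  (@T16.mk R (R.mk s.10.9.13.2 s.10.9.13.1) (R.mk s.10.9.14.2 s.10.9.14.1) (R.mk s.10.9.15.2 s.10.9.15.1) (R.mk s.10.9.16.2 s.10.9.16.1) (R.mk s.10.9.9.2 s.10.9.9.1) (R.mk s.10.9.10.2 s.10.9.10.1) (R.mk s.10.9.11.2 s.10.9.11.1) (R.mk s.10.9.12.2 s.10.9.12.1) (R.mk s.10.9.5.2 s.10.9.5.1) (R.mk s.10.9.6.2 s.10.9.6.1) (R.mk s.10.9.7.2 s.10.9.7.1) (R.mk s.10.9.8.2 s.10.9.8.1) (R.mk s.10.9.1.2 s.10.9.1.1) (R.mk s.10.9.2.2 s.10.9.2.1) (R.mk s.10.9.3.2 s.10.9.3.1) (R.mk s.10.9.4.2 s.10.9.4.1))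
  (@T16.mk R (R.mk s.10.10.14.2 s.10.10.14.1) (R.mk s.10.10.13.2 s.10.10.13.1) (R.mk s.10.10.16.2 s.10.10.16.1) (R.mk s.10.10.15.2 s.10.10.15.1) (R.mk s.10.10.10.2 s.10.10.10.1) (R.mk s.10.10.9.2 s.10.10.9.1) (R.mk s.10.10.12.2 s.10.10.12.1) (R.mk s.10.10.11.2 s.10.10.11.1) (R.mk s.10.10.6.2 s.10.10.6.1) (R.mk s.10.10.5.2 s.10.10.5.1) (R.mk s.10.10.8.2 s.10.10.8.1) (R.mk s.10.10.7.2 s.10.10.7.1) (R.mk s.10.10.2.2 s.10.10.2.1) (R.mk s.10.10.1.2 s.10.10.1.1) (R.mk s.10.10.4.2 s.10.10.4.1) (R.mk s.10.10.3.2 s.10.10.3.1))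
  (@T16.mk R s.10.11.12 s.10.11.11 s.10.11.10 s.10.11.9 s.10.11.16 s.10.11.15 s.10.11.14 s.10.11.13 s.10.11.4 s.10.11.3 s.10.11.2 s.10.11.1 s.10.11.8 s.10.11.7 s.10.11.6 s.10.11.5)
  (@T16.mk R s.10.12.13 s.10.12.14 s.10.12.15 s.10.12.16 s.10.12.9 s.10.12.10 s.10.12.11 s.10.12.12 s.10.12.5 s.10.12.6 s.10.12.7 s.10.12.8 s.10.12.1 s.10.12.2 s.10.12.3 s.10.12.4)
  (@T16.mk R (R.mk s.10.13.5.2 s.10.13.5.1) (R.mk s.10.13.6.2 s.10.13.6.1) (R.mk s.10.13.7.2 s.10.13.7.1) (R.mk s.10.13.8.2 s.10.13.8.1) (R.mk s.10.13.1.2 s.10.13.1.1) (R.mk s.10.13.2.2 s.10.13.2.1) (R.mk s.10.13.3.2 s.10.13.3.1) (R.mk s.10.13.4.2 s.10.13.4.1) (R.mk s.10.13.13.2 s.10.13.13.1) (R.mk s.10.13.14.2 s.10.13.14.1) (R.mk s.10.13.15.2 s.10.13.15.1) (R.mk s.10.13.16.2 s.10.13.16.1)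 (R.mk s.10.13.9.2 s.10.13.9.1) (R.mk s.10.13.10.2 s.10.13.10.1) (R.mk s.10.13.11.2 s.10.13.11.1) (R.mk s.10.13.12.2 s.10.13.12.1))
  (@T16.mk R s.10.14.7 s.10.14.8 s.10.14.5 s.10.14.6 s.10.14.3 s.10.14.4 s.10.14.1 s.10.14.2 s.10.14.15 s.10.14.16 s.10.14.13 s.10.14.14 s.10.14.11 s.10.14.12 s.10.14.9 s.10.14.10)
  (@T16.mk R (R.mk s.10.15.10.2 s.10.15.10.1) (R.mk s.10.15.9.2 s.10.15.9.1) (R.mk s.10.15.12.2 s.10.15.12.1) (R.mk s.10.15.11.2 s.10.15.11.1) (R.mk s.10.15.14.2 s.10.15.14.1) (R.mk s.10.15.13.2 s.10.15.13.1) (R.mk s.10.15.16.2 s.10.15.16.1) (R.mk s.10.15.15.2 s.10.15.15.1) (R.mk s.10.15.2.2 s.10.15.2.1) (R.mk s.10.15.1.2 s.10.15.1.1) (R.mk s.10.15.4.2 s.10.15.4.1) (R.mk s.10.15.3.2 s.10.15.3.1) (R.mk s.10.15.6.2 s.10.15.6.1)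 (R.mk s.10.15.5.2 s.10.15.5.1) (R.mk s.10.15.8.2 s.10.15.8.1) (R.mk s.10.15.7.2 s.10.15.7.1))
  (@T16.mk R s.10.16.12 s.10.16.11 s.10.16.10 s.10.16.9 s.10.16.16 s.10.16.15 s.10.16.14 s.10.16.13 s.10.16.4 s.10.16.3 s.10.16.2 s.10.16.1 s.10.16.8 s.10.16.7 s.10.16.6 s.10.16.5)
 )
 (@T16.mk (T16 R)
  (@T16.mk R (R.mk s.11.1.5.2 s.11.1.5.1) (R.mk s.11.1.6.2 s.11.1.6.1) (R.mk s.11.1.7.2 s.11.1.7.1) (R.mk s.11.1.8.2 s.11.1.8.1) (R.mk s.11.1.1.2 s.11.1.1.1) (R.mk s.11.1.2.2 s.11.1.2.1) (R.mk s.11.1.3.2 s.11.1.3.1) (R.mk s.11.1.4.2 s.11.1.4.1) (R.mk s.11.1.13.2 s.11.1.13.1) (R.mk s.11.1.14.2 s.11.1.14.1) (R.mk s.11.1.15.2 s.11.1.15.1) (R.mk s.11.1.16.2 s.11.1.16.1) (R.mk s.11.1.9.2 s.11.1.9.1) (R.mk s.11.1.10.2 s.11.1.10.1) (R.mk s.11.1.11.2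 s.11.1.11.1) (R.mk s.11.1.12.2 s.11.1.12.1))
  (@T16.mk R (R.mk s.11.2.16.2 s.11.2.16.1) (R.mk s.11.2.15.2 s.11.2.15.1) (R.mk s.11.2.14.2 s.11.2.14.1) (R.mk s.11.2.13.2 s.11.2.13.1) (R.mk s.11.2.12.2 s.11.2.12.1) (R.mk s.11.2.11.2 s.11.2.11.1) (R.mk s.11.2.10.2 s.11.2.10.1) (R.mk s.11.2.9.2 s.11.2.9.1) (R.mk s.11.2.8.2 s.11.2.8.1) (R.mk s.11.2.7.2 s.11.2.7.1) (R.mk s.11.2.6.2 s.11.2.6.1) (R.mk s.11.2.5.2 s.11.2.5.1) (R.mk s.11.2.4.2 s.11.2.4.1) (R.mk s.11.2.3.2 s.11.2.3.1) (R.mk s.11.2.2.2 s.11.2.2.1) (R.mk s.11.2.1.2 s.11.2.1.1))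
  (@T16.mk R (R.mk s.11.3.5.2 s.11.3.5.1) (R.mk s.11.3.6.2 s.11.3.6.1) (R.mk s.11.3.7.2 s.11.3.7.1) (R.mk s.11.3.8.2 s.11.3.8.1) (R.mk s.11.3.1.2 s.11.3.1.1) (R.mk s.11.3.2.2 s.11.3.2.1) (R.mk s.11.3.3.2 s.11.3.3.1) (R.mk s.11.3.4.2 s.11.3.4.1) (R.mk s.11.3.13.2 s.11.3.13.1) (R.mk s.11.3.14.2 s.11.3.14.1) (R.mk s.11.3.15.2 s.11.3.15.1) (R.mk s.11.3.16.2 s.11.3.16.1) (R.mk s.11.3.9.2 s.11.3.9.1) (R.mk s.11.3.10.2 s.11.3.10.1) (R.mk s.11.3.11.2 s.11.3.11.1) (R.mk s.11.3.12.2 s.11.3.12.1))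
  (@T16.mk R (R.mk s.11.4.4.2 s.11.4.4.1) (R.mk s.11.4.3.2 s.11.4.3.1) (R.mk s.11.4.2.2 s.11.4.2.1) (R.mk s.11.4.1.2 s.11.4.1.1) (R.mk s.11.4.8.2 s.11.4.8.1) (R.mk s.11.4.7.2 s.11.4.7.1) (R.mk s.11.4.6.2 s.11.4.6.1) (R.mk s.11.4.5.2 s.11.4.5.1) (R.mk s.11.4.12.2 s.11.4.12.1) (R.mk s.11.4.11.2 s.11.4.11.1) (R.mk s.11.4.10.2 s.11.4.10.1) (R.mk s.11.4.9.2 s.11.4.9.1) (R.mk s.11.4.16.2 s.11.4.16.1) (R.mk s.11.4.15.2 s.11.4.15.1) (R.mk s.11.4.14.2 s.11.4.14.1) (R.mk s.11.4.13.2 s.11.4.13.1))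
  (@T16.mk R (R.mk s.11.5.6.2 s.11.5.6.1) (R.mk s.11.5.5.2 s.11.5.5.1) (R.mk s.11.5.8.2 s.11.5.8.1) (R.mk s.11.5.7.2 s.11.5.7.1) (R.mk s.11.5.2.2 s.11.5.2.1) (R.mk s.11.5.1.2 s.11.5.1.1) (R.mk s.11.5.4.2 s.11.5.4.1) (R.mk s.11.5.3.2 s.11.5.3.1) (R.mk s.11.5.14.2 s.11.5.14.1) (R.mk s.11.5.13.2 s.11.5.13.1) (R.mk s.11.5.16.2 s.11.5.16.1) (R.mk s.11.5.15.2 s.11.5.15.1) (R.mk s.11.5.10.2 s.11.5.10.1) (R.mk s.11.5.9.2 s.11.5.9.1) (R.mk s.11.5.12.2 s.11.5.12.1) (R.mk s.11.5.11.2 s.11.5.11.1))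
  (@T16.mk R (R.mk s.11.6.15.2 s.11.6.15.1) (R.mk s.11.6.16.2 s.11.6.16.1) (R.mk s.11.6.13.2 s.11.6.13.1) (R.mk s.11.6.14.2 s.11.6.14.1) (R.mk s.11.6.11.2 s.11.6.11.1) (R.mk s.11.6.12.2 s.11.6.12.1) (R.mk s.11.6.9.2 s.11.6.9.1) (R.mk s.11.6.10.2 s.11.6.10.1) (R.mk s.11.6.7.2 s.11.6.7.1) (R.mk s.11.6.8.2 s.11.6.8.1) (R.mk s.11.6.5.2 s.11.6.5.1) (R.mk s.11.6.6.2 s.11.6.6.1) (R.mk s.11.6.3.2 s.11.6.3.1) (R.mk s.11.6.4.2 s.11.6.4.1) (R.mk s.11.6.1.2 s.11.6.1.1) (R.mk s.11.6.2.2 s.11.6.2.1))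
  (@T16.mk R (R.mk s.11.7.13.2 s.11.7.13.1) (R.mk s.11.7.14.2 s.11.7.14.1) (R.mk s.11.7.15.2 s.11.7.15.1) (R.mk s.11.7.16.2 s.11.7.16.1) (R.mk s.11.7.9.2 s.11.7.9.1) (R.mk s.11.7.10.2 s.11.7.10.1) (R.mk s.11.7.11.2 s.11.7.11.1) (R.mk s.11.7.12.2 s.11.7.12.1) (R.mk s.11.7.5.2 s.11.7.5.1) (R.mk s.11.7.6.2 s.11.7.6.1) (R.mk s.11.7.7.2 s.11.7.7.1) (R.mk s.11.7.8.2 s.11.7.8.1) (R.mk s.11.7.1.2 s.11.7.1.1) (R.mk s.11.7.2.2 s.11.7.2.1) (R.mk s.11.7.3.2 s.11.7.3.1) (R.mk s.11.7.4.2 s.11.7.4.1))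
  (@T16.mk R (R.mk s.11.8.16.2 s.11.8.16.1) (R.mk s.11.8.15.2 s.11.8.15.1) (R.mk s.11.8.14.2 s.11.8.14.1) (R.mk s.11.8.13.2 s.11.8.13.1) (R.mk s.11.8.12.2 s.11.8.12.1) (R.mk s.11.8.11.2 s.11.8.11.1) (R.mk s.11.8.10.2 s.11.8.10.1) (R.mk s.11.8.9.2 s.11.8.9.1) (R.mk s.11.8.8.2 s.11.8.8.1) (R.mk s.11.8.7.2 s.11.8.7.1) (R.mk s.11.8.6.2 s.11.8.6.1) (R.mk s.11.8.5.2 s.11.8.5.1) (R.mk s.11.8.4.2 s.11.8.4.1) (R.mk s.11.8.3.2 s.11.8.3.1) (R.mk s.11.8.2.2 s.11.8.2.1) (R.mk s.11.8.1.2 s.11.8.1.1))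
  (@T16.mk R (R.mk s.11.9.7.2 s.11.9.7.1) (R.mk s.11.9.8.2 s.11.9.8.1) (R.mk s.11.9.5.2 s.11.9.5.1) (R.mk s.11.9.6.2 s.11.9.6.1) (R.mk s.11.9.3.2 s.11.9.3.1) (R.mk s.11.9.4.2 s.11.9.4.1) (R.mk s.11.9.1.2 s.11.9.1.1) (R.mk s.11.9.2.2 s.11.9.2.1) (R.mk s.11.9.15.2 s.11.9.15.1) (R.mk s.11.9.16.2 s.11.9.16.1) (R.mk s.11.9.13.2 s.11.9.13.1) (R.mk s.11.9.14.2 s.11.9.14.1) (R.mk s.11.9.11.2 s.11.9.11.1) (R.mk s.11.9.12.2 s.11.9.12.1) (R.mk s.11.9.9.2 s.11.9.9.1) (R.mk s.11.9.10.2 s.11.9.10.1))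
  (@T16.mk R (R.mk s.11.10.2.2 s.11.10.2.1) (R.mk s.11.10.1.2 s.11.10.1.1) (R.mk s.11.10.4.2 s.11.10.4.1) (R.mk s.11.10.3.2 s.11.10.3.1) (R.mk s.11.10.6.2 s.11.10.6.1) (R.mk s.11.10.5.2 s.11.10.5.1) (R.mk s.11.10.8.2 s.11.10.8.1) (R.mk s.11.10.7.2 s.11.10.7.1) (R.mk s.11.10.10.2 s.11.10.10.1) (R.mk s.11.10.9.2 s.11.10.9.1) (R.mk s.11.10.12.2 s.11.10.12.1) (R.mk s.11.10.11.2 s.11.10.11.1) (R.mk s.11.10.14.2 s.11.10.14.1) (R.mk s.11.10.13.2 s.11.10.13.1) (R.mk s.11.10.16.2 s.11.10.16.1) (R.mk s.11.10.15.2 s.11.10.15.1))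
  (@T16.mk R s.11.11.13 s.11.11.14 s.11.11.15 s.11.11.16 s.11.11.9 s.11.11.10 s.11.11.11 s.11.11.12 s.11.11.5 s.11.11.6 s.11.11.7 s.11.11.8 s.11.11.1 s.11.11.2 s.11.11.3 s.11.11.4)
  (@T16.mk R (R.mk s.11.12.8.2 s.11.12.8.1) (R.mk s.11.12.7.2 s.11.12.7.1) (R.mk s.11.12.6.2 s.11.12.6.1) (R.mk s.11.12.5.2 s.11.12.5.1) (R.mk s.11.12.4.2 s.11.12.4.1) (R.mk s.11.12.3.2 s.11.12.3.1) (R.mk s.11.12.2.2 s.11.12.2.1) (R.mk s.11.12.1.2 s.11.12.1.1) (R.mk s.11.12.16.2 s.11.12.16.1) (R.mk s.11.12.15.2 s.11.12.15.1) (R.mk s.11.12.14.2 s.11.12.14.1) (R.mk s.11.12.13.2 s.11.12.13.1) (R.mk s.11.12.12.2 s.11.12.12.1) (R.mk s.11.12.11.2 s.11.12.11.1) (R.mk s.11.12.10.2 s.11.12.10.1) (R.mk s.11.12.9.2 s.11.12.9.1))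
  (@T16.mk R (R.mk s.11.13.3.2 s.11.13.3.1) (R.mk s.11.13.4.2 s.11.13.4.1) (R.mk s.11.13.1.2 s.11.13.1.1) (R.mk s.11.13.2.2 s.11.13.2.1) (R.mk s.11.13.7.2 s.11.13.7.1) (R.mk s.11.13.8.2 s.11.13.8.1) (R.mk s.11.13.5.2 s.11.13.5.1) (R.mk s.11.13.6.2 s.11.13.6.1) (R.mk s.11.13.11.2 s.11.13.11.1) (R.mk s.11.13.12.2 s.11.13.12.1) (R.mk s.11.13.9.2 s.11.13.9.1) (R.mk s.11.13.10.2 s.11.13.10.1) (R.mk s.11.13.15.2 s.11.13.15.1) (R.mk s.11.13.16.2 s.11.13.16.1) (R.mk s.11.13.13.2 s.11.13.13.1) (R.mk s.11.13.14.2 s.11.13.14.1))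
  (@T16.mk R s.11.14.11 s.11.14.12 s.11.14.9 s.11.14.10 s.11.14.15 s.11.14.16 s.11.14.13 s.11.14.14 s.11.14.3 s.11.14.4 s.11.14.1 s.11.14.2 s.11.14.7 s.11.14.8 s.11.14.5 s.11.14.6)
  (@T16.mk R s.11.15.13 s.11.15.14 s.11.15.15 s.11.15.16 s.11.15.9 s.11.15.10 s.11.15.11 s.11.15.12 s.11.15.5 s.11.15.6 s.11.15.7 s.11.15.8 s.11.15.1 s.11.15.2 s.11.15.3 s.11.15.4)
  (@T16.mk R (R.mk s.11.16.11.2 s.11.16.11.1) (R.mk s.11.16.12.2 s.11.16.12.1) (R.mk s.11.16.9.2 s.11.16.9.1) (R.mk s.11.16.10.2 s.11.16.10.1) (R.mk s.11.16.15.2 s.11.16.15.1) (R.mk s.11.16.16.2 s.11.16.16.1) (R.mk s.11.16.13.2 s.11.16.13.1) (R.mk s.11.16.14.2 s.11.16.14.1) (R.mk s.11.16.3.2 s.11.16.3.1) (R.mk s.11.16.4.2 s.11.16.4.1) (R.mk s.11.16.1.2 s.11.16.1.1) (R.mk s.11.16.2.2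 s.11.16.2.1) (R.mk s.11.16.7.2 s.11.16.7.1) (R.mk s.11.16.8.2 s.11.16.8.1) (R.mk s.11.16.5.2 s.11.16.5.1) (R.mk s.11.16.6.2 s.11.16.6.1))
 )
 (@T16.mk (T16 R)
  (@T16.mk R s.12.1.11 s.12.1.12 s.12.1.9 s.12.1.10 s.12.1.15 s.12.1.16 s.12.1.13 s.12.1.14 s.12.1.3 s.12.1.4 s.12.1.1 s.12.1.2 s.12.1.7 s.12.1.8 s.12.1.5 s.12.1.6)
  (@T16.mk R (R.mk s.12.2.2.2 s.12.2.2.1) (R.mk s.12.2.1.2 s.12.2.1.1) (R.mk s.12.2.4.2 s.12.2.4.1) (R.mk s.12.2.3.2 s.12.2.3.1) (R.mk s.12.2.6.2 s.12.2.6.1) (R.mk s.12.2.5.2 s.12.2.5.1) (R.mk s.12.2.8.2 s.12.2.8.1) (R.mk s.12.2.7.2 s.12.2.7.1) (R.mk s.12.2.10.2 s.12.2.10.1) (R.mk s.12.2.9.2 s.12.2.9.1) (R.mk s.12.2.12.2 s.12.2.12.1) (R.mk s.12.2.11.2 s.12.2.11.1) (R.mk s.12.2.14.2 s.12.2.14.1) (R.mk s.12.2.13.2 s.12.2.13.1)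 (R.mk s.12.2.16.2 s.12.2.16.1) (R.mk s.12.2.15.2 s.12.2.15.1))
  (@T16.mk R (R.mk s.12.3.6.2 s.12.3.6.1) (R.mk s.12.3.5.2 s.12.3.5.1) (R.mk s.12.3.8.2 s.12.3.8.1) (R.mk s.12.3.7.2 s.12.3.7.1) (R.mk s.12.3.2.2 s.12.3.2.1) (R.mk s.12.3.1.2 s.12.3.1.1) (R.mk s.12.3.4.2 s.12.3.4.1) (R.mk s.12.3.3.2 s.12.3.3.1) (R.mk s.12.3.14.2 s.12.3.14.1) (R.mk s.12.3.13.2 s.12.3.13.1) (R.mk s.12.3.16.2 s.12.3.16.1) (R.mk s.12.3.15.2 s.12.3.15.1) (R.mk s.12.3.10.2 s.12.3.10.1) (R.mk s.12.3.9.2 s.12.3.9.1) (R.mk s.12.3.12.2 s.12.3.12.1) (R.mk s.12.3.11.2 s.12.3.11.1))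
  (@T16.mk R s.12.4.10 s.12.4.9 s.12.4.12 s.12.4.11 s.12.4.14 s.12.4.13 s.12.4.16 s.12.4.15 s.12.4.2 s.12.4.1 s.12.4.4 s.12.4.3 s.12.4.6 s.12.4.5 s.12.4.8 s.12.4.7)
  (@T16.mk R (R.mk s.12.5.5.2 s.12.5.5.1) (R.mk s.12.5.6.2 s.12.5.6.1) (R.mk s.12.5.7.2 s.12.5.7.1) (R.mk s.12.5.8.2 s.12.5.8.1) (R.mk s.12.5.1.2 s.12.5.1.1) (R.mk s.12.5.2.2 s.12.5.2.1) (R.mk s.12.5.3.2 s.12.5.3.1) (R.mk s.12.5.4.2 s.12.5.4.1) (R.mk s.12.5.13.2 s.12.5.13.1) (R.mk s.12.5.14.2 s.12.5.14.1) (R.mk s.12.5.15.2 s.12.5.15.1) (R.mk s.12.5.16.2 s.12.5.16.1) (R.mk s.12.5.9.2 s.12.5.9.1) (R.mk s.12.5.10.2 s.12.5.10.1) (R.mk s.12.5.11.2 s.12.5.11.1) (R.mk s.12.5.12.2 s.12.5.12.1))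
  (@T16.mk R (R.mk s.12.6.6.2 s.12.6.6.1) (R.mk s.12.6.5.2 s.12.6.5.1) (R.mk s.12.6.8.2 s.12.6.8.1) (R.mk s.12.6.7.2 s.12.6.7.1) (R.mk s.12.6.2.2 s.12.6.2.1) (R.mk s.12.6.1.2 s.12.6.1.1) (R.mk s.12.6.4.2 s.12.6.4.1) (R.mk s.12.6.3.2 s.12.6.3.1) (R.mk s.12.6.14.2 s.12.6.14.1) (R.mk s.12.6.13.2 s.12.6.13.1) (R.mk s.12.6.16.2 s.12.6.16.1) (R.mk s.12.6.15.2 s.12.6.15.1) (R.mk s.12.6.10.2 s.12.6.10.1) (R.mk s.12.6.9.2 s.12.6.9.1) (R.mk s.12.6.12.2 s.12.6.12.1) (R.mk s.12.6.11.2 s.12.6.11.1))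
  (@T16.mk R (R.mk s.12.7.2.2 s.12.7.2.1) (R.mk s.12.7.1.2 s.12.7.1.1) (R.mk s.12.7.4.2 s.12.7.4.1) (R.mk s.12.7.3.2 s.12.7.3.1) (R.mk s.12.7.6.2 s.12.7.6.1) (R.mk s.12.7.5.2 s.12.7.5.1) (R.mk s.12.7.8.2 s.12.7.8.1) (R.mk s.12.7.7.2 s.12.7.7.1) (R.mk s.12.7.10.2 s.12.7.10.1) (R.mk s.12.7.9.2 s.12.7.9.1) (R.mk s.12.7.12.2 s.12.7.12.1) (R.mk s.12.7.11.2 s.12.7.11.1) (R.mk s.12.7.14.2 s.12.7.14.1) (R.mk s.12.7.13.2 s.12.7.13.1) (R.mk s.12.7.16.2 s.12.7.16.1) (R.mk s.12.7.15.2 s.12.7.15.1))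
  (@T16.mk R (R.mk s.12.8.10.2 s.12.8.10.1) (R.mk s.12.8.9.2 s.12.8.9.1) (R.mk s.12.8.12.2 s.12.8.12.1) (R.mk s.12.8.11.2 s.12.8.11.1) (R.mk s.12.8.14.2 s.12.8.14.1) (R.mk s.12.8.13.2 s.12.8.13.1) (R.mk s.12.8.16.2 s.12.8.16.1) (R.mk s.12.8.15.2 s.12.8.15.1) (R.mk s.12.8.2.2 s.12.8.2.1) (R.mk s.12.8.1.2 s.12.8.1.1) (R.mk s.12.8.4.2 s.12.8.4.1) (R.mk s.12.8.3.2 s.12.8.3.1) (R.mk s.12.8.6.2 s.12.8.6.1) (R.mk s.12.8.5.2 s.12.8.5.1) (R.mk s.12.8.8.2 s.12.8.8.1) (R.mk s.12.8.7.2 s.12.8.7.1))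
  (@T16.mk R (R.mk s.12.9.10.2 s.12.9.10.1) (R.mk s.12.9.9.2 s.12.9.9.1) (R.mk s.12.9.12.2 s.12.9.12.1) (R.mk s.12.9.11.2 s.12.9.11.1) (R.mk s.12.9.14.2 s.12.9.14.1) (R.mk s.12.9.13.2 s.12.9.13.1) (R.mk s.12.9.16.2 s.12.9.16.1) (R.mk s.12.9.15.2 s.12.9.15.1) (R.mk s.12.9.2.2 s.12.9.2.1) (R.mk s.12.9.1.2 s.12.9.1.1) (R.mk s.12.9.4.2 s.12.9.4.1) (R.mk s.12.9.3.2 s.12.9.3.1) (R.mk s.12.9.6.2 s.12.9.6.1) (R.mk s.12.9.5.2 s.12.9.5.1) (R.mk s.12.9.8.2 s.12.9.8.1) (R.mk s.12.9.7.2 s.12.9.7.1))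
  (@T16.mk R (R.mk s.12.10.4.2 s.12.10.4.1) (R.mk s.12.10.3.2 s.12.10.3.1) (R.mk s.12.10.2.2 s.12.10.2.1) (R.mk s.12.10.1.2 s.12.10.1.1) (R.mk s.12.10.8.2 s.12.10.8.1) (R.mk s.12.10.7.2 s.12.10.7.1) (R.mk s.12.10.6.2 s.12.10.6.1) (R.mk s.12.10.5.2 s.12.10.5.1) (R.mk s.12.10.12.2 s.12.10.12.1) (R.mk s.12.10.11.2 s.12.10.11.1) (R.mk s.12.10.10.2 s.12.10.10.1) (R.mk s.12.10.9.2 s.12.10.9.1) (R.mk s.12.10.16.2 s.12.10.16.1) (R.mk s.12.10.15.2 s.12.10.15.1) (R.mk s.12.10.14.2 s.12.10.14.1) (R.mk s.12.10.13.2 s.12.10.13.1))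
  (@T16.mk R (R.mk s.12.11.16.2 s.12.11.16.1) (R.mk s.12.11.15.2 s.12.11.15.1) (R.mk s.12.11.14.2 s.12.11.14.1) (R.mk s.12.11.13.2 s.12.11.13.1) (R.mk s.12.11.12.2 s.12.11.12.1) (R.mk s.12.11.11.2 s.12.11.11.1) (R.mk s.12.11.10.2 s.12.11.10.1) (R.mk s.12.11.9.2 s.12.11.9.1) (R.mk s.12.11.8.2 s.12.11.8.1) (R.mk s.12.11.7.2 s.12.11.7.1) (R.mk s.12.11.6.2 s.12.11.6.1) (R.mk s.12.11.5.2 s.12.11.5.1) (R.mk s.12.11.4.2 s.12.11.4.1) (R.mk s.12.11.3.2 s.12.11.3.1) (R.mk s.12.11.2.2 s.12.11.2.1) (R.mk s.12.11.1.2 s.12.11.1.1))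
  (@T16.mk R (R.mk s.12.12.6.2 s.12.12.6.1) (R.mk s.12.12.5.2 s.12.12.5.1) (R.mk s.12.12.8.2 s.12.12.8.1) (R.mk s.12.12.7.2 s.12.12.7.1) (R.mk s.12.12.2.2 s.12.12.2.1) (R.mk s.12.12.1.2 s.12.12.1.1) (R.mk s.12.12.4.2 s.12.12.4.1) (R.mk s.12.12.3.2 s.12.12.3.1) (R.mk s.12.12.14.2 s.12.12.14.1) (R.mk s.12.12.13.2 s.12.12.13.1) (R.mk s.12.12.16.2 s.12.12.16.1) (R.mk s.12.12.15.2 s.12.12.15.1) (R.mk s.12.12.10.2 s.12.12.10.1) (R.mk s.12.12.9.2 s.12.12.9.1) (R.mk s.12.12.12.2 s.12.12.12.1) (R.mk s.12.12.11.2 s.12.12.11.1))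
  (@T16.mk R (R.mk s.12.13.8.2 s.12.13.8.1) (R.mk s.12.13.7.2 s.12.13.7.1) (R.mk s.12.13.6.2 s.12.13.6.1) (R.mk s.12.13.5.2 s.12.13.5.1) (R.mk s.12.13.4.2 s.12.13.4.1) (R.mk s.12.13.3.2 s.12.13.3.1) (R.mk s.12.13.2.2 s.12.13.2.1) (R.mk s.12.13.1.2 s.12.13.1.1) (R.mk s.12.13.16.2 s.12.13.16.1) (R.mk s.12.13.15.2 s.12.13.15.1) (R.mk s.12.13.14.2 s.12.13.14.1) (R.mk s.12.13.13.2 s.12.13.13.1) (R.mk s.12.13.12.2 s.12.13.12.1) (R.mk s.12.13.11.2 s.12.13.11.1) (R.mk s.12.13.10.2 s.12.13.10.1) (R.mk s.12.13.9.2 s.12.13.9.1))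
  (@T16.mk R (R.mk s.12.14.15.2 s.12.14.15.1) (R.mk s.12.14.16.2 s.12.14.16.1) (R.mk s.12.14.13.2 s.12.14.13.1) (R.mk s.12.14.14.2 s.12.14.14.1) (R.mk s.12.14.11.2 s.12.14.11.1) (R.mk s.12.14.12.2 s.12.14.12.1) (R.mk s.12.14.9.2 s.12.14.9.1) (R.mk s.12.14.10.2 s.12.14.10.1) (R.mk s.12.14.7.2 s.12.14.7.1) (R.mk s.12.14.8.2 s.12.14.8.1) (R.mk s.12.14.5.2 s.12.14.5.1) (R.mk s.12.14.6.2 s.12.14.6.1) (R.mk s.12.14.3.2 s.12.14.3.1) (R.mk s.12.14.4.2 s.12.14.4.1) (R.mk s.12.14.1.2 s.12.14.1.1) (R.mk s.12.14.2.2 s.12.14.2.1))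
  (@T16.mk R (R.mk s.12.15.6.2 s.12.15.6.1) (R.mk s.12.15.5.2 s.12.15.5.1) (R.mk s.12.15.8.2 s.12.15.8.1) (R.mk s.12.15.7.2 s.12.15.7.1) (R.mk s.12.15.2.2 s.12.15.2.1) (R.mk s.12.15.1.2 s.12.15.1.1) (R.mk s.12.15.4.2 s.12.15.4.1) (R.mk s.12.15.3.2 s.12.15.3.1) (R.mk s.12.15.14.2 s.12.15.14.1) (R.mk s.12.15.13.2 s.12.15.13.1) (R.mk s.12.15.16.2 s.12.15.16.1) (R.mk s.12.15.15.2 s.12.15.15.1) (R.mk s.12.15.10.2 s.12.15.10.1) (R.mk s.12.15.9.2 s.12.15.9.1) (R.mk s.12.15.12.2 s.12.15.12.1) (R.mk s.12.15.11.2 s.12.15.11.1))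
  (@T16.mk R (R.mk s.12.16.14.2 s.12.16.14.1) (R.mk s.12.16.13.2 s.12.16.13.1) (R.mk s.12.16.16.2 s.12.16.16.1) (R.mk s.12.16.15.2 s.12.16.15.1) (R.mk s.12.16.10.2 s.12.16.10.1) (R.mk s.12.16.9.2 s.12.16.9.1) (R.mk s.12.16.12.2 s.12.16.12.1) (R.mk s.12.16.11.2 s.12.16.11.1) (R.mk s.12.16.6.2 s.12.16.6.1) (R.mk s.12.16.5.2 s.12.16.5.1) (R.mk s.12.16.8.2 s.12.16.8.1) (R.mk s.12.16.7.2 s.12.16.7.1) (R.mk s.12.16.2.2 s.12.16.2.1) (R.mk s.12.16.1.2 s.12.16.1.1) (R.mk s.12.16.4.2 s.12.16.4.1) (R.mk s.12.16.3.2 s.12.16.3.1))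
 )
 (@T16.mk (T16 R)
  (@T16.mk R (R.mk s.13.1.12.2 s.13.1.12.1) (R.mk s.13.1.11.2 s.13.1.11.1) (R.mk s.13.1.10.2 s.13.1.10.1) (R.mk s.13.1.9.2 s.13.1.9.1) (R.mk s.13.1.16.2 s.13.1.16.1) (R.mk s.13.1.15.2 s.13.1.15.1) (R.mk s.13.1.14.2 s.13.1.14.1) (R.mk s.13.1.13.2 s.13.1.13.1) (R.mk s.13.1.4.2 s.13.1.4.1) (R.mk s.13.1.3.2 s.13.1.3.1) (R.mk s.13.1.2.2 s.13.1.2.1) (R.mk s.13.1.1.2 s.13.1.1.1) (R.mk s.13.1.8.2 s.13.1.8.1) (R.mk s.13.1.7.2 s.13.1.7.1) (R.mk s.13.1.6.2 s.13.1.6.1) (R.mk s.13.1.5.2 s.13.1.5.1))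
  (@T16.mk R (R.mk s.13.2.10.2 s.13.2.10.1) (R.mk s.13.2.9.2 s.13.2.9.1) (R.mk s.13.2.12.2 s.13.2.12.1) (R.mk s.13.2.11.2 s.13.2.11.1) (R.mk s.13.2.14.2 s.13.2.14.1) (R.mk s.13.2.13.2 s.13.2.13.1) (R.mk s.13.2.16.2 s.13.2.16.1) (R.mk s.13.2.15.2 s.13.2.15.1) (R.mk s.13.2.2.2 s.13.2.2.1) (R.mk s.13.2.1.2 s.13.2.1.1) (R.mk s.13.2.4.2 s.13.2.4.1) (R.mk s.13.2.3.2 s.13.2.3.1) (R.mk s.13.2.6.2 s.13.2.6.1) (R.mk s.13.2.5.2 s.13.2.5.1) (R.mk s.13.2.8.2 s.13.2.8.1) (R.mk s.13.2.7.2 s.13.2.7.1))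
  (@T16.mk R s.13.3.13 s.13.3.14 s.13.3.15 s.13.3.16 s.13.3.9 s.13.3.10 s.13.3.11 s.13.3.12 s.13.3.5 s.13.3.6 s.13.3.7 s.13.3.8 s.13.3.1 s.13.3.2 s.13.3.3 s.13.3.4)
  (@T16.mk R (R.mk s.13.4.8.2 s.13.4.8.1) (R.mk s.13.4.7.2 s.13.4.7.1) (R.mk s.13.4.6.2 s.13.4.6.1) (R.mk s.13.4.5.2 s.13.4.5.1) (R.mk s.13.4.4.2 s.13.4.4.1) (R.mk s.13.4.3.2 s.13.4.3.1) (R.mk s.13.4.2.2 s.13.4.2.1) (R.mk s.13.4.1.2 s.13.4.1.1) (R.mk s.13.4.16.2 s.13.4.16.1) (R.mk s.13.4.15.2 s.13.4.15.1) (R.mk s.13.4.14.2 s.13.4.14.1) (R.mk s.13.4.13.2 s.13.4.13.1) (R.mk s.13.4.12.2 s.13.4.12.1) (R.mk s.13.4.11.2 s.13.4.11.1) (R.mk s.13.4.10.2 s.13.4.10.1) (R.mk s.13.4.9.2 s.13.4.9.1))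
  (@T16.mk R s.13.5.1 s.13.5.2 s.13.5.3 s.13.5.4 s.13.5.5 s.13.5.6 s.13.5.7 s.13.5.8 s.13.5.9 s.13.5.10 s.13.5.11 s.13.5.12 s.13.5.13 s.13.5.14 s.13.5.15 s.13.5.16)
  (@T16.mk R s.13.6.1 s.13.6.2 s.13.6.3 s.13.6.4 s.13.6.5 s.13.6.6 s.13.6.7 s.13.6.8 s.13.6.9 s.13.6.10 s.13.6.11 s.13.6.12 s.13.6.13 s.13.6.14 s.13.6.15 s.13.6.16)
  (@T16.mk R s.13.7.1 s.13.7.2 s.13.7.3 s.13.7.4 s.13.7.5 s.13.7.6 s.13.7.7 s.13.7.8 s.13.7.9 s.13.7.10 s.13.7.11 s.13.7.12 s.13.7.13 s.13.7.14 s.13.7.15 s.13.7.16)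
  (@T16.mk R (R.mk s.13.8.5.2 s.13.8.5.1) (R.mk s.13.8.6.2 s.13.8.6.1) (R.mk s.13.8.7.2 s.13.8.7.1) (R.mk s.13.8.8.2 s.13.8.8.1) (R.mk s.13.8.1.2 s.13.8.1.1) (R.mk s.13.8.2.2 s.13.8.2.1) (R.mk s.13.8.3.2 s.13.8.3.1) (R.mk s.13.8.4.2 s.13.8.4.1) (R.mk s.13.8.13.2 s.13.8.13.1) (R.mk s.13.8.14.2 s.13.8.14.1) (R.mk s.13.8.15.2 s.13.8.15.1) (R.mk s.13.8.16.2 s.13.8.16.1) (R.mk s.13.8.9.2 s.13.8.9.1) (R.mk s.13.8.10.2 s.13.8.10.1) (R.mk s.13.8.11.2 s.13.8.11.1) (R.mk s.13.8.12.2 s.13.8.12.1))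
  (@T16.mk R s.13.9.11 s.13.9.12 s.13.9.9 s.13.9.10 s.13.9.15 s.13.9.16 s.13.9.13 s.13.9.14 s.13.9.3 s.13.9.4 s.13.9.1 s.13.9.2 s.13.9.7 s.13.9.8 s.13.9.5 s.13.9.6)
  (@T16.mk R (R.mk s.13.10.7.2 s.13.10.7.1) (R.mk s.13.10.8.2 s.13.10.8.1) (R.mk s.13.10.5.2 s.13.10.5.1) (R.mk s.13.10.6.2 s.13.10.6.1) (R.mk s.13.10.3.2 s.13.10.3.1) (R.mk s.13.10.4.2 s.13.10.4.1) (R.mk s.13.10.1.2 s.13.10.1.1) (R.mk s.13.10.2.2 s.13.10.2.1) (R.mk s.13.10.15.2 s.13.10.15.1) (R.mk s.13.10.16.2 s.13.10.16.1) (R.mk s.13.10.13.2 s.13.10.13.1) (R.mk s.13.10.14.2 s.13.10.14.1) (R.mk s.13.10.11.2 s.13.10.11.1) (R.mk s.13.10.12.2 s.13.10.12.1) (R.mk s.13.10.9.2 s.13.10.9.1) (R.mk s.13.10.10.2 s.13.10.10.1))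
  (@T16.mk R (R.mk s.13.11.10.2 s.13.11.10.1) (R.mk s.13.11.9.2 s.13.11.9.1) (R.mk s.13.11.12.2 s.13.11.12.1) (R.mk s.13.11.11.2 s.13.11.11.1) (R.mk s.13.11.14.2 s.13.11.14.1) (R.mk s.13.11.13.2 s.13.11.13.1) (R.mk s.13.11.16.2 s.13.11.16.1) (R.mk s.13.11.15.2 s.13.11.15.1) (R.mk s.13.11.2.2 s.13.11.2.1) (R.mk s.13.11.1.2 s.13.11.1.1) (R.mk s.13.11.4.2 s.13.11.4.1) (R.mk s.13.11.3.2 s.13.11.3.1) (R.mk s.13.11.6.2 s.13.11.6.1) (R.mk s.13.11.5.2 s.13.11.5.1) (R.mk s.13.11.8.2 s.13.11.8.1) (R.mk s.13.11.7.2 s.13.11.7.1))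
  (@T16.mk R (R.mk s.13.12.10.2 s.13.12.10.1) (R.mk s.13.12.9.2 s.13.12.9.1) (R.mk s.13.12.12.2 s.13.12.12.1) (R.mk s.13.12.11.2 s.13.12.11.1) (R.mk s.13.12.14.2 s.13.12.14.1) (R.mk s.13.12.13.2 s.13.12.13.1) (R.mk s.13.12.16.2 s.13.12.16.1) (R.mk s.13.12.15.2 s.13.12.15.1) (R.mk s.13.12.2.2 s.13.12.2.1) (R.mk s.13.12.1.2 s.13.12.1.1) (R.mk s.13.12.4.2 s.13.12.4.1) (R.mk s.13.12.3.2 s.13.12.3.1) (R.mk s.13.12.6.2 s.13.12.6.1) (R.mk s.13.12.5.2 s.13.12.5.1) (R.mk s.13.12.8.2 s.13.12.8.1) (R.mk s.13.12.7.2 s.13.12.7.1))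
  (@T16.mk R (R.mk s.13.13.16.2 s.13.13.16.1) (R.mk s.13.13.15.2 s.13.13.15.1) (R.mk s.13.13.14.2 s.13.13.14.1) (R.mk s.13.13.13.2 s.13.13.13.1) (R.mk s.13.13.12.2 s.13.13.12.1) (R.mk s.13.13.11.2 s.13.13.11.1) (R.mk s.13.13.10.2 s.13.13.10.1) (R.mk s.13.13.9.2 s.13.13.9.1) (R.mk s.13.13.8.2 s.13.13.8.1) (R.mk s.13.13.7.2 s.13.13.7.1) (R.mk s.13.13.6.2 s.13.13.6.1) (R.mk s.13.13.5.2 s.13.13.5.1) (R.mk s.13.13.4.2 s.13.13.4.1) (R.mk s.13.13.3.2 s.13.13.3.1) (R.mk s.13.13.2.2 s.13.13.2.1) (R.mk s.13.13.1.2 s.13.13.1.1))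
  (@T16.mk R s.16.10.9 s.16.10.10 s.16.10.11 (R.mk s.16.10.12.2 s.16.10.12.1) s.16.10.13 (R.mk s.16.10.14.2 s.16.10.14.1) (R.mk s.16.10.15.2 s.16.10.15.1) (R.mk s.16.10.16.2 s.16.10.16.1) s.16.10.1 (R.mk s.16.10.2.2 s.16.10.2.1) (R.mk s.16.10.3.2 s.16.10.3.1) (R.mk s.16.10.4.2 s.16.10.4.1) s.16.10.5 s.16.10.6 s.16.10.7 (R.mk s.16.10.8.2 s.16.10.8.1))
  (@T16.mk R s.16.11.9 s.16.11.10 s.16.11.11 (R.mk s.16.11.12.2 s.16.11.12.1) s.16.11.13 (R.mk s.16.11.14.2 s.16.11.14.1) (R.mk s.16.11.15.2 s.16.11.15.1) (R.mk s.16.11.16.2 s.16.11.16.1) s.16.11.1 (R.mk s.16.11.2.2 s.16.11.2.1) (R.mk s.16.11.3.2 s.16.11.3.1) (R.mk s.16.11.4.2 s.16.11.4.1) s.16.11.5 s.16.11.6 s.16.11.7 (R.mk s.16.11.8.2 s.16.11.8.1))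
  (@T16.mk R (R.mk s.16.12.9.2 s.16.12.9.1) (R.mk s.16.12.10.2 s.16.12.10.1) s.16.12.11 (R.mk s.16.12.12.2 s.16.12.12.1) s.16.12.13 (R.mk s.16.12.14.2 s.16.12.14.1) s.16.12.15 s.16.12.16 s.16.12.1 (R.mk s.16.12.2.2 s.16.12.2.1) s.16.12.3 s.16.12.4 (R.mk s.16.12.5.2 s.16.12.5.1) (R.mk s.16.12.6.2 s.16.12.6.1) s.16.12.7 (R.mk s.16.12.8.2 s.16.12.8.1))
 )
 (@T16.mk (T16 R)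
  (@T16.mk R (R.mk s.16.13.9.2 s.16.13.9.1) (R.mk s.16.13.10.2 s.16.13.10.1) s.16.13.11 (R.mk s.16.13.12.2 s.16.13.12.1) s.16.13.13 (R.mk s.16.13.14.2 s.16.13.14.1) s.16.13.15 s.16.13.16 s.16.13.1 (R.mk s.16.13.2.2 s.16.13.2.1) s.16.13.3 s.16.13.4 (R.mk s.16.13.5.2 s.16.13.5.1) (R.mk s.16.13.6.2 s.16.13.6.1) s.16.13.7 (R.mk s.16.13.8.2 s.16.13.8.1))
  (@T16.mk R s.16.6.9 s.16.6.10 s.16.6.11 (R.mk s.16.6.12.2 s.16.6.12.1) s.16.6.13 (R.mk s.16.6.14.2 s.16.6.14.1) (R.mk s.16.6.15.2 s.16.6.15.1) (R.mk s.16.6.16.2 s.16.6.16.1) s.16.6.1 (R.mk s.16.6.2.2 s.16.6.2.1) (R.mk s.16.6.3.2 s.16.6.3.1) (R.mk s.16.6.4.2 s.16.6.4.1) s.16.6.5 s.16.6.6 s.16.6.7 (R.mk s.16.6.8.2 s.16.6.8.1))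
  (@T16.mk R s.16.7.9 s.16.7.10 s.16.7.11 (R.mk s.16.7.12.2 s.16.7.12.1) s.16.7.13 (R.mk s.16.7.14.2 s.16.7.14.1) (R.mk s.16.7.15.2 s.16.7.15.1) (R.mk s.16.7.16.2 s.16.7.16.1) s.16.7.1 (R.mk s.16.7.2.2 s.16.7.2.1) (R.mk s.16.7.3.2 s.16.7.3.1) (R.mk s.16.7.4.2 s.16.7.4.1) s.16.7.5 s.16.7.6 s.16.7.7 (R.mk s.16.7.8.2 s.16.7.8.1))
  (@T16.mk R (R.mk s.16.8.9.2 s.16.8.9.1) (R.mk s.16.8.10.2 s.16.8.10.1) s.16.8.11 (R.mk s.16.8.12.2 s.16.8.12.1) s.16.8.13 (R.mk s.16.8.14.2 s.16.8.14.1) s.16.8.15 s.16.8.16 s.16.8.1 (R.mk s.16.8.2.2 s.16.8.2.1) s.16.8.3 s.16.8.4 (R.mk s.16.8.5.2 s.16.8.5.1) (R.mk s.16.8.6.2 s.16.8.6.1) s.16.8.7 (R.mk s.16.8.8.2 s.16.8.8.1))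
  (@T16.mk R (R.mk s.16.9.9.2 s.16.9.9.1) (R.mk s.16.9.10.2 s.16.9.10.1) s.16.9.11 (R.mk s.16.9.12.2 s.16.9.12.1) s.16.9.13 (R.mk s.16.9.14.2 s.16.9.14.1) s.16.9.15 s.16.9.16 s.16.9.1 (R.mk s.16.9.2.2 s.16.9.2.1) s.16.9.3 s.16.9.4 (R.mk s.16.9.5.2 s.16.9.5.1) (R.mk s.16.9.6.2 s.16.9.6.1) s.16.9.7 (R.mk s.16.9.8.2 s.16.9.8.1))
  (@T16.mk R s.16.2.9 s.16.2.10 (R.mk s.16.2.11.2 s.16.2.11.1) s.16.2.12 (R.mk s.16.2.13.2 s.16.2.13.1) s.16.2.14 (R.mk s.16.2.15.2 s.16.2.15.1) (R.mk s.16.2.16.2 s.16.2.16.1) s.16.2.1 (R.mk s.16.2.2.2 s.16.2.2.1) s.16.2.3 s.16.2.4 (R.mk s.16.2.5.2 s.16.2.5.1) (R.mk s.16.2.6.2 s.16.2.6.1) s.16.2.7 (R.mk s.16.2.8.2 s.16.2.8.1))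
  (@T16.mk R s.16.3.9 s.16.3.10 (R.mk s.16.3.11.2 s.16.3.11.1) s.16.3.12 (R.mk s.16.3.13.2 s.16.3.13.1) s.16.3.14 (R.mk s.16.3.15.2 s.16.3.15.1) (R.mk s.16.3.16.2 s.16.3.16.1) s.16.3.1 (R.mk s.16.3.2.2 s.16.3.2.1) s.16.3.3 s.16.3.4 (R.mk s.16.3.5.2 s.16.3.5.1) (R.mk s.16.3.6.2 s.16.3.6.1) s.16.3.7 (R.mk s.16.3.8.2 s.16.3.8.1))
  (@T16.mk R (R.mk s.16.4.9.2 s.16.4.9.1) (R.mk s.16.4.10.2 s.16.4.10.1) (R.mk s.16.4.11.2 s.16.4.11.1) s.16.4.12 (R.mk s.16.4.13.2 s.16.4.13.1) s.16.4.14 s.16.4.15 s.16.4.16 s.16.4.1 (R.mk s.16.4.2.2 s.16.4.2.1) (R.mk s.16.4.3.2 s.16.4.3.1) (R.mk s.16.4.4.2 s.16.4.4.1) s.16.4.5 s.16.4.6 s.16.4.7 (R.mk s.16.4.8.2 s.16.4.8.1))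
  (@T16.mk R (R.mk s.16.5.9.2 s.16.5.9.1) (R.mk s.16.5.10.2 s.16.5.10.1) (R.mk s.16.5.11.2 s.16.5.11.1) s.16.5.12 (R.mk s.16.5.13.2 s.16.5.13.1) s.16.5.14 s.16.5.15 s.16.5.16 s.16.5.1 (R.mk s.16.5.2.2 s.16.5.2.1) (R.mk s.16.5.3.2 s.16.5.3.1) (R.mk s.16.5.4.2 s.16.5.4.1) s.16.5.5 s.16.5.6 s.16.5.7 (R.mk s.16.5.8.2 s.16.5.8.1))
  (@T16.mk R s.15.14.9 s.15.14.10 (R.mk s.15.14.11.2 s.15.14.11.1) s.15.14.12 (R.mk s.15.14.13.2 s.15.14.13.1) s.15.14.14 (R.mk s.15.14.15.2 s.15.14.15.1) (R.mk s.15.14.16.2 s.15.14.16.1) s.15.14.1 (R.mk s.15.14.2.2 s.15.14.2.1) s.15.14.3 s.15.14.4 (R.mk s.15.14.5.2 s.15.14.5.1) (R.mk s.15.14.6.2 s.15.14.6.1) s.15.14.7 (R.mk s.15.14.8.2 s.15.14.8.1))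
  (@T16.mk R s.15.15.9 s.15.15.10 (R.mk s.15.15.11.2 s.15.15.11.1) s.15.15.12 (R.mk s.15.15.13.2 s.15.15.13.1) s.15.15.14 (R.mk s.15.15.15.2 s.15.15.15.1) (R.mk s.15.15.16.2 s.15.15.16.1) s.15.15.1 (R.mk s.15.15.2.2 s.15.15.2.1) s.15.15.3 s.15.15.4 (R.mk s.15.15.5.2 s.15.15.5.1) (R.mk s.15.15.6.2 s.15.15.6.1) s.15.15.7 (R.mk s.15.15.8.2 s.15.15.8.1))
  (@T16.mk R (R.mk s.15.16.9.2 s.15.16.9.1) (R.mk s.15.16.10.2 s.15.16.10.1) (R.mk s.15.16.11.2 s.15.16.11.1) s.15.16.12 (R.mk s.15.16.13.2 s.15.16.13.1) s.15.16.14 s.15.16.15 s.15.16.16 s.15.16.1 (R.mk s.15.16.2.2 s.15.16.2.1) (R.mk s.15.16.3.2 s.15.16.3.1) (R.mk s.15.16.4.2 s.15.16.4.1) s.15.16.5 s.15.16.6 s.15.16.7 (R.mk s.15.16.8.2 s.15.16.8.1))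
  (@T16.mk R (R.mk s.16.1.9.2 s.16.1.9.1) (R.mk s.16.1.10.2 s.16.1.10.1) (R.mk s.16.1.11.2 s.16.1.11.1) s.16.1.12 (R.mk s.16.1.13.2 s.16.1.13.1) s.16.1.14 s.16.1.15 s.16.1.16 s.16.1.1 (R.mk s.16.1.2.2 s.16.1.2.1) (R.mk s.16.1.3.2 s.16.1.3.1) (R.mk s.16.1.4.2 s.16.1.4.1) s.16.1.5 s.16.1.6 s.16.1.7 (R.mk s.16.1.8.2 s.16.1.8.1))
  (@T16.mk R s.17.10.9 (R.mk s.17.10.10.2 s.17.10.10.1) s.17.10.11 s.17.10.12 (R.mk s.17.10.13.2 s.17.10.13.1) (R.mk s.17.10.14.2 s.17.10.14.1) s.17.10.15 (R.mk s.17.10.16.2 s.17.10.16.1) s.17.10.1 s.17.10.2 (R.mk s.17.10.3.2 s.17.10.3.1) s.17.10.4 (R.mk s.17.10.5.2 s.17.10.5.1) s.17.10.6 (R.mk s.17.10.7.2 s.17.10.7.1) (R.mk s.17.10.8.2 s.17.10.8.1))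
  (@T16.mk R s.17.11.9 (R.mk s.17.11.10.2 s.17.11.10.1) s.17.11.11 s.17.11.12 (R.mk s.17.11.13.2 s.17.11.13.1) (R.mk s.17.11.14.2 s.17.11.14.1) s.17.11.15 (R.mk s.17.11.16.2 s.17.11.16.1) s.17.11.1 s.17.11.2 (R.mk s.17.11.3.2 s.17.11.3.1) s.17.11.4 (R.mk s.17.11.5.2 s.17.11.5.1) s.17.11.6 (R.mk s.17.11.7.2 s.17.11.7.1) (R.mk s.17.11.8.2 s.17.11.8.1))
  (@T16.mk R s.17.12.9 (R.mk s.17.12.10.2 s.17.12.10.1) (R.mk s.17.12.11.2 s.17.12.11.1) (R.mk s.17.12.12.2 s.17.12.12.1) s.17.12.13 s.17.12.14 s.17.12.15 (R.mk s.17.12.16.2 s.17.12.16.1) (R.mk s.17.12.1.2 s.17.12.1.1) (R.mk s.17.12.2.2 s.17.12.2.1) (R.mk s.17.12.3.2 s.17.12.3.1) s.17.12.4 (R.mk s.17.12.5.2 s.17.12.5.1) s.17.12.6 s.17.12.7 s.17.12.8)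
 )
 (@T16.mk (T16 R)
  (@T16.mk R s.17.13.9 (R.mk s.17.13.10.2 s.17.13.10.1) (R.mk s.17.13.11.2 s.17.13.11.1) (R.mk s.17.13.12.2 s.17.13.12.1) s.17.13.13 s.17.13.14 s.17.13.15 (R.mk s.17.13.16.2 s.17.13.16.1) (R.mk s.17.13.1.2 s.17.13.1.1) (R.mk s.17.13.2.2 s.17.13.2.1) (R.mk s.17.13.3.2 s.17.13.3.1) s.17.13.4 (R.mk s.17.13.5.2 s.17.13.5.1) s.17.13.6 s.17.13.7 s.17.13.8)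
  (@T16.mk R (R.mk s.17.6.9.2 s.17.6.9.1) s.17.6.10 (R.mk s.17.6.11.2 s.17.6.11.1) (R.mk s.17.6.12.2 s.17.6.12.1) s.17.6.13 s.17.6.14 (R.mk s.17.6.15.2 s.17.6.15.1) s.17.6.16 (R.mk s.17.6.1.2 s.17.6.1.1) (R.mk s.17.6.2.2 s.17.6.2.1) s.17.6.3 (R.mk s.17.6.4.2 s.17.6.4.1) s.17.6.5 (R.mk s.17.6.6.2 s.17.6.6.1) s.17.6.7 s.17.6.8)
  (@T16.mk R (R.mk s.17.7.9.2 s.17.7.9.1) s.17.7.10 (R.mk s.17.7.11.2 s.17.7.11.1) (R.mk s.17.7.12.2 s.17.7.12.1) s.17.7.13 s.17.7.14 (R.mk s.17.7.15.2 s.17.7.15.1) s.17.7.16 (R.mk s.17.7.1.2 s.17.7.1.1) (R.mk s.17.7.2.2 s.17.7.2.1) s.17.7.3 (R.mk s.17.7.4.2 s.17.7.4.1) s.17.7.5 (R.mk s.17.7.6.2 s.17.7.6.1) s.17.7.7 s.17.7.8)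
  (@T16.mk R (R.mk s.17.8.9.2 s.17.8.9.1) s.17.8.10 s.17.8.11 s.17.8.12 (R.mk s.17.8.13.2 s.17.8.13.1) (R.mk s.17.8.14.2 s.17.8.14.1) (R.mk s.17.8.15.2 s.17.8.15.1) s.17.8.16 s.17.8.1 s.17.8.2 s.17.8.3 (R.mk s.17.8.4.2 s.17.8.4.1) s.17.8.5 (R.mk s.17.8.6.2 s.17.8.6.1) (R.mk s.17.8.7.2 s.17.8.7.1) (R.mk s.17.8.8.2 s.17.8.8.1))
  (@T16.mk R (R.mk s.17.9.9.2 s.17.9.9.1) s.17.9.10 s.17.9.11 s.17.9.12 (R.mk s.17.9.13.2 s.17.9.13.1) (R.mk s.17.9.14.2 s.17.9.14.1) (R.mk s.17.9.15.2 s.17.9.15.1) s.17.9.16 s.17.9.1 s.17.9.2 s.17.9.3 (R.mk s.17.9.4.2 s.17.9.4.1) s.17.9.5 (R.mk s.17.9.6.2 s.17.9.6.1) (R.mk s.17.9.7.2 s.17.9.7.1) (R.mk s.17.9.8.2 s.17.9.8.1))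
  (@T16.mk R s.17.2.9 (R.mk s.17.2.10.2 s.17.2.10.1) (R.mk s.17.2.11.2 s.17.2.11.1) (R.mk s.17.2.12.2 s.17.2.12.1) s.17.2.13 s.17.2.14 s.17.2.15 (R.mk s.17.2.16.2 s.17.2.16.1) s.17.2.1 s.17.2.2 s.17.2.3 (R.mk s.17.2.4.2 s.17.2.4.1) s.17.2.5 (R.mk s.17.2.6.2 s.17.2.6.1) (R.mk s.17.2.7.2 s.17.2.7.1) (R.mk s.17.2.8.2 s.17.2.8.1))
  (@T16.mk R s.17.3.9 (R.mk s.17.3.10.2 s.17.3.10.1) (R.mk s.17.3.11.2 s.17.3.11.1) (R.mk s.17.3.12.2 s.17.3.12.1) s.17.3.13 s.17.3.14 s.17.3.15 (R.mk s.17.3.16.2 s.17.3.16.1) s.17.3.1 s.17.3.2 s.17.3.3 (R.mk s.17.3.4.2 s.17.3.4.1) s.17.3.5 (R.mk s.17.3.6.2 s.17.3.6.1) (R.mk s.17.3.7.2 s.17.3.7.1) (R.mk s.17.3.8.2 s.17.3.8.1))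
  (@T16.mk R s.17.4.9 (R.mk s.17.4.10.2 s.17.4.10.1) s.17.4.11 s.17.4.12 (R.mk s.17.4.13.2 s.17.4.13.1) (R.mk s.17.4.14.2 s.17.4.14.1) s.17.4.15 (R.mk s.17.4.16.2 s.17.4.16.1) (R.mk s.17.4.1.2 s.17.4.1.1) (R.mk s.17.4.2.2 s.17.4.2.1) s.17.4.3 (R.mk s.17.4.4.2 s.17.4.4.1) s.17.4.5 (R.mk s.17.4.6.2 s.17.4.6.1) s.17.4.7 s.17.4.8)
  (@T16.mk R s.17.5.9 (R.mk s.17.5.10.2 s.17.5.10.1) s.17.5.11 s.17.5.12 (R.mk s.17.5.13.2 s.17.5.13.1) (R.mk s.17.5.14.2 s.17.5.14.1) s.17.5.15 (R.mk s.17.5.16.2 s.17.5.16.1) (R.mk s.17.5.1.2 s.17.5.1.1) (R.mk s.17.5.2.2 s.17.5.2.1) s.17.5.3 (R.mk s.17.5.4.2 s.17.5.4.1) s.17.5.5 (R.mk s.17.5.6.2 s.17.5.6.1) s.17.5.7 s.17.5.8)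
  (@T16.mk R (R.mk s.16.14.9.2 s.16.14.9.1) s.16.14.10 s.16.14.11 s.16.14.12 (R.mk s.16.14.13.2 s.16.14.13.1) (R.mk s.16.14.14.2 s.16.14.14.1) (R.mk s.16.14.15.2 s.16.14.15.1) s.16.14.16 (R.mk s.16.14.1.2 s.16.14.1.1) (R.mk s.16.14.2.2 s.16.14.2.1) (R.mk s.16.14.3.2 s.16.14.3.1) s.16.14.4 (R.mk s.16.14.5.2 s.16.14.5.1) s.16.14.6 s.16.14.7 s.16.14.8)
  (@T16.mk R (R.mk s.16.15.9.2 s.16.15.9.1) s.16.15.10 s.16.15.11 s.16.15.12 (R.mk s.16.15.13.2 s.16.15.13.1) (R.mk s.16.15.14.2 s.16.15.14.1) (R.mk s.16.15.15.2 s.16.15.15.1) s.16.15.16 (R.mk s.16.15.1.2 s.16.15.1.1) (R.mk s.16.15.2.2 s.16.15.2.1) (R.mk s.16.15.3.2 s.16.15.3.1) s.16.15.4 (R.mk s.16.15.5.2 s.16.15.5.1) s.16.15.6 s.16.15.7 s.16.15.8)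
  (@T16.mk R (R.mk s.16.16.9.2 s.16.16.9.1) s.16.16.10 (R.mk s.16.16.11.2 s.16.16.11.1) (R.mk s.16.16.12.2 s.16.16.12.1) s.16.16.13 s.16.16.14 (R.mk s.16.16.15.2 s.16.16.15.1) s.16.16.16 s.16.16.1 s.16.16.2 (R.mk s.16.16.3.2 s.16.16.3.1) s.16.16.4 (R.mk s.16.16.5.2 s.16.16.5.1) s.16.16.6 (R.mk s.16.16.7.2 s.16.16.7.1) (R.mk s.16.16.8.2 s.16.16.8.1))
  (@T16.mk R (R.mk s.17.1.9.2 s.17.1.9.1) s.17.1.10 (R.mk s.17.1.11.2 s.17.1.11.1) (R.mk s.17.1.12.2 s.17.1.12.1) s.17.1.13 s.17.1.14 (R.mk s.17.1.15.2 s.17.1.15.1) s.17.1.16 s.17.1.1 s.17.1.2 (R.mk s.17.1.3.2 s.17.1.3.1) s.17.1.4 (R.mk s.17.1.5.2 s.17.1.5.1) s.17.1.6 (R.mk s.17.1.7.2 s.17.1.7.1) (R.mk s.17.1.8.2 s.17.1.8.1))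
  (@T16.mk R s.14.10.9 (R.mk s.14.10.10.2 s.14.10.10.1) s.14.10.11 s.14.10.12 (R.mk s.14.10.13.2 s.14.10.13.1) (R.mk s.14.10.14.2 s.14.10.14.1) s.14.10.15 (R.mk s.14.10.16.2 s.14.10.16.1) s.14.10.1 s.14.10.2 (R.mk s.14.10.3.2 s.14.10.3.1) s.14.10.4 (R.mk s.14.10.5.2 s.14.10.5.1) s.14.10.6 (R.mk s.14.10.7.2 s.14.10.7.1) (R.mk s.14.10.8.2 s.14.10.8.1))
  (@T16.mk R s.14.11.9 (R.mk s.14.11.10.2 s.14.11.10.1) s.14.11.11 s.14.11.12 (R.mk s.14.11.13.2 s.14.11.13.1) (R.mk s.14.11.14.2 s.14.11.14.1) s.14.11.15 (R.mk s.14.11.16.2 s.14.11.16.1) s.14.11.1 s.14.11.2 (R.mk s.14.11.3.2 s.14.11.3.1) s.14.11.4 (R.mk s.14.11.5.2 s.14.11.5.1) s.14.11.6 (R.mk s.14.11.7.2 s.14.11.7.1) (R.mk s.14.11.8.2 s.14.11.8.1))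
  (@T16.mk R s.14.12.9 (R.mk s.14.12.10.2 s.14.12.10.1) (R.mk s.14.12.11.2 s.14.12.11.1) (R.mk s.14.12.12.2 s.14.12.12.1) s.14.12.13 s.14.12.14 s.14.12.15 (R.mk s.14.12.16.2 s.14.12.16.1) (R.mk s.14.12.1.2 s.14.12.1.1) (R.mk s.14.12.2.2 s.14.12.2.1) (R.mk s.14.12.3.2 s.14.12.3.1) s.14.12.4 (R.mk s.14.12.5.2 s.14.12.5.1) s.14.12.6 s.14.12.7 s.14.12.8)
 )
 (@T16.mk (T16 R)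
  (@T16.mk R s.14.13.9 (R.mk s.14.13.10.2 s.14.13.10.1) (R.mk s.14.13.11.2 s.14.13.11.1) (R.mk s.14.13.12.2 s.14.13.12.1) s.14.13.13 s.14.13.14 s.14.13.15 (R.mk s.14.13.16.2 s.14.13.16.1) (R.mk s.14.13.1.2 s.14.13.1.1) (R.mk s.14.13.2.2 s.14.13.2.1) (R.mk s.14.13.3.2 s.14.13.3.1) s.14.13.4 (R.mk s.14.13.5.2 s.14.13.5.1) s.14.13.6 s.14.13.7 s.14.13.8)
  (@T16.mk R s.14.6.9 (R.mk s.14.6.10.2 s.14.6.10.1) s.14.6.11 s.14.6.12 (R.mk s.14.6.13.2 s.14.6.13.1) (R.mk s.14.6.14.2 s.14.6.14.1) s.14.6.15 (R.mk s.14.6.16.2 s.14.6.16.1) s.14.6.1 s.14.6.2 (R.mk s.14.6.3.2 s.14.6.3.1) s.14.6.4 (R.mk s.14.6.5.2 s.14.6.5.1) s.14.6.6 (R.mk s.14.6.7.2 s.14.6.7.1) (R.mk s.14.6.8.2 s.14.6.8.1))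
  (@T16.mk R s.14.7.9 (R.mk s.14.7.10.2 s.14.7.10.1) s.14.7.11 s.14.7.12 (R.mk s.14.7.13.2 s.14.7.13.1) (R.mk s.14.7.14.2 s.14.7.14.1) s.14.7.15 (R.mk s.14.7.16.2 s.14.7.16.1) s.14.7.1 s.14.7.2 (R.mk s.14.7.3.2 s.14.7.3.1) s.14.7.4 (R.mk s.14.7.5.2 s.14.7.5.1) s.14.7.6 (R.mk s.14.7.7.2 s.14.7.7.1) (R.mk s.14.7.8.2 s.14.7.8.1))
  (@T16.mk R s.14.8.9 (R.mk s.14.8.10.2 s.14.8.10.1) (R.mk s.14.8.11.2 s.14.8.11.1) (R.mk s.14.8.12.2 s.14.8.12.1) s.14.8.13 s.14.8.14 s.14.8.15 (R.mk s.14.8.16.2 s.14.8.16.1) (R.mk s.14.8.1.2 s.14.8.1.1) (R.mk s.14.8.2.2 s.14.8.2.1) (R.mk s.14.8.3.2 s.14.8.3.1) s.14.8.4 (R.mk s.14.8.5.2 s.14.8.5.1) s.14.8.6 s.14.8.7 s.14.8.8)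
  (@T16.mk R s.14.9.9 (R.mk s.14.9.10.2 s.14.9.10.1) (R.mk s.14.9.11.2 s.14.9.11.1) (R.mk s.14.9.12.2 s.14.9.12.1) s.14.9.13 s.14.9.14 s.14.9.15 (R.mk s.14.9.16.2 s.14.9.16.1) (R.mk s.14.9.1.2 s.14.9.1.1) (R.mk s.14.9.2.2 s.14.9.2.1) (R.mk s.14.9.3.2 s.14.9.3.1) s.14.9.4 (R.mk s.14.9.5.2 s.14.9.5.1) s.14.9.6 s.14.9.7 s.14.9.8)
  (@T16.mk R s.14.2.9 (R.mk s.14.2.10.2 s.14.2.10.1) (R.mk s.14.2.11.2 s.14.2.11.1) (R.mk s.14.2.12.2 s.14.2.12.1) s.14.2.13 s.14.2.14 s.14.2.15 (R.mk s.14.2.16.2 s.14.2.16.1) s.14.2.1 s.14.2.2 s.14.2.3 (R.mk s.14.2.4.2 s.14.2.4.1) s.14.2.5 (R.mk s.14.2.6.2 s.14.2.6.1) (R.mk s.14.2.7.2 s.14.2.7.1) (R.mk s.14.2.8.2 s.14.2.8.1))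
  (@T16.mk R s.14.3.9 (R.mk s.14.3.10.2 s.14.3.10.1) (R.mk s.14.3.11.2 s.14.3.11.1) (R.mk s.14.3.12.2 s.14.3.12.1) s.14.3.13 s.14.3.14 s.14.3.15 (R.mk s.14.3.16.2 s.14.3.16.1) s.14.3.1 s.14.3.2 s.14.3.3 (R.mk s.14.3.4.2 s.14.3.4.1) s.14.3.5 (R.mk s.14.3.6.2 s.14.3.6.1) (R.mk s.14.3.7.2 s.14.3.7.1) (R.mk s.14.3.8.2 s.14.3.8.1))
  (@T16.mk R s.14.4.9 (R.mk s.14.4.10.2 s.14.4.10.1) s.14.4.11 s.14.4.12 (R.mk s.14.4.13.2 s.14.4.13.1) (R.mk s.14.4.14.2 s.14.4.14.1) s.14.4.15 (R.mk s.14.4.16.2 s.14.4.16.1) (R.mk s.14.4.1.2 s.14.4.1.1) (R.mk s.14.4.2.2 s.14.4.2.1) s.14.4.3 (R.mk s.14.4.4.2 s.14.4.4.1) s.14.4.5 (R.mk s.14.4.6.2 s.14.4.6.1) s.14.4.7 s.14.4.8)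
  (@T16.mk R s.14.5.9 (R.mk s.14.5.10.2 s.14.5.10.1) s.14.5.11 s.14.5.12 (R.mk s.14.5.13.2 s.14.5.13.1) (R.mk s.14.5.14.2 s.14.5.14.1) s.14.5.15 (R.mk s.14.5.16.2 s.14.5.16.1) (R.mk s.14.5.1.2 s.14.5.1.1) (R.mk s.14.5.2.2 s.14.5.2.1) s.14.5.3 (R.mk s.14.5.4.2 s.14.5.4.1) s.14.5.5 (R.mk s.14.5.6.2 s.14.5.6.1) s.14.5.7 s.14.5.8)
  (@T16.mk R s.13.14.9 (R.mk s.13.14.10.2 s.13.14.10.1) (R.mk s.13.14.11.2 s.13.14.11.1) (R.mk s.13.14.12.2 s.13.14.12.1) s.13.14.13 s.13.14.14 s.13.14.15 (R.mk s.13.14.16.2 s.13.14.16.1) s.13.14.1 s.13.14.2 s.13.14.3 (R.mk s.13.14.4.2 s.13.14.4.1) s.13.14.5 (R.mk s.13.14.6.2 s.13.14.6.1) (R.mk s.13.14.7.2 s.13.14.7.1) (R.mk s.13.14.8.2 s.13.14.8.1))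
  (@T16.mk R s.13.15.9 (R.mk s.13.15.10.2 s.13.15.10.1) (R.mk s.13.15.11.2 s.13.15.11.1) (R.mk s.13.15.12.2 s.13.15.12.1) s.13.15.13 s.13.15.14 s.13.15.15 (R.mk s.13.15.16.2 s.13.15.16.1) s.13.15.1 s.13.15.2 s.13.15.3 (R.mk s.13.15.4.2 s.13.15.4.1) s.13.15.5 (R.mk s.13.15.6.2 s.13.15.6.1) (R.mk s.13.15.7.2 s.13.15.7.1) (R.mk s.13.15.8.2 s.13.15.8.1))
  (@T16.mk R s.13.16.9 (R.mk s.13.16.10.2 s.13.16.10.1) s.13.16.11 s.13.16.12 (R.mk s.13.16.13.2 s.13.16.13.1) (R.mk s.13.16.14.2 s.13.16.14.1) s.13.16.15 (R.mk s.13.16.16.2 s.13.16.16.1) (R.mk s.13.16.1.2 s.13.16.1.1) (R.mk s.13.16.2.2 s.13.16.2.1) s.13.16.3 (R.mk s.13.16.4.2 s.13.16.4.1) s.13.16.5 (R.mk s.13.16.6.2 s.13.16.6.1) s.13.16.7 s.13.16.8)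
  (@T16.mk R s.14.1.9 (R.mk s.14.1.10.2 s.14.1.10.1) s.14.1.11 s.14.1.12 (R.mk s.14.1.13.2 s.14.1.13.1) (R.mk s.14.1.14.2 s.14.1.14.1) s.14.1.15 (R.mk s.14.1.16.2 s.14.1.16.1) (R.mk s.14.1.1.2 s.14.1.1.1) (R.mk s.14.1.2.2 s.14.1.2.1) s.14.1.3 (R.mk s.14.1.4.2 s.14.1.4.1) s.14.1.5 (R.mk s.14.1.6.2 s.14.1.6.1) s.14.1.7 s.14.1.8)
  (@T16.mk R (R.mk s.15.10.9.2 s.15.10.9.1) (R.mk s.15.10.10.2 s.15.10.10.1) (R.mk s.15.10.11.2 s.15.10.11.1) s.15.10.12 (R.mk s.15.10.13.2 s.15.10.13.1) s.15.10.14 s.15.10.15 s.15.10.16 (R.mk s.15.10.1.2 s.15.10.1.1) s.15.10.2 s.15.10.3 s.15.10.4 (R.mk s.15.10.5.2 s.15.10.5.1) (R.mk s.15.10.6.2 s.15.10.6.1) (R.mk s.15.10.7.2 s.15.10.7.1) s.15.10.8)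
  (@T16.mk R (R.mk s.15.11.9.2 s.15.11.9.1) (R.mk s.15.11.10.2 s.15.11.10.1) (R.mk s.15.11.11.2 s.15.11.11.1) s.15.11.12 (R.mk s.15.11.13.2 s.15.11.13.1) s.15.11.14 s.15.11.15 s.15.11.16 (R.mk s.15.11.1.2 s.15.11.1.1) s.15.11.2 s.15.11.3 s.15.11.4 (R.mk s.15.11.5.2 s.15.11.5.1) (R.mk s.15.11.6.2 s.15.11.6.1) (R.mk s.15.11.7.2 s.15.11.7.1) s.15.11.8)
  (@T16.mk R s.15.12.9 s.15.12.10 (R.mk s.15.12.11.2 s.15.12.11.1) s.15.12.12 (R.mk s.15.12.13.2 s.15.12.13.1) s.15.12.14 (R.mk s.15.12.15.2 s.15.12.15.1) (R.mk s.15.12.16.2 s.15.12.16.1) (R.mk s.15.12.1.2 s.15.12.1.1) s.15.12.2 (R.mk s.15.12.3.2 s.15.12.3.1) (R.mk s.15.12.4.2 s.15.12.4.1) s.15.12.5 s.15.12.6 (R.mk s.15.12.7.2 s.15.12.7.1) s.15.12.8)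
 )
 (@T16.mk (T16 R)
  (@T16.mk R s.15.13.9 s.15.13.10 (R.mk s.15.13.11.2 s.15.13.11.1) s.15.13.12 (R.mk s.15.13.13.2 s.15.13.13.1) s.15.13.14 (R.mk s.15.13.15.2 s.15.13.15.1) (R.mk s.15.13.16.2 s.15.13.16.1) (R.mk s.15.13.1.2 s.15.13.1.1) s.15.13.2 (R.mk s.15.13.3.2 s.15.13.3.1) (R.mk s.15.13.4.2 s.15.13.4.1) s.15.13.5 s.15.13.6 (R.mk s.15.13.7.2 s.15.13.7.1) s.15.13.8)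
  (@T16.mk R s.15.6.9 s.15.6.10 s.15.6.11 (R.mk s.15.6.12.2 s.15.6.12.1) s.15.6.13 (R.mk s.15.6.14.2 s.15.6.14.1) (R.mk s.15.6.15.2 s.15.6.15.1) (R.mk s.15.6.16.2 s.15.6.16.1) s.15.6.1 (R.mk s.15.6.2.2 s.15.6.2.1) (R.mk s.15.6.3.2 s.15.6.3.1) (R.mk s.15.6.4.2 s.15.6.4.1) s.15.6.5 s.15.6.6 s.15.6.7 (R.mk s.15.6.8.2 s.15.6.8.1))
  (@T16.mk R s.15.7.9 s.15.7.10 s.15.7.11 (R.mk s.15.7.12.2 s.15.7.12.1) s.15.7.13 (R.mk s.15.7.14.2 s.15.7.14.1) (R.mk s.15.7.15.2 s.15.7.15.1) (R.mk s.15.7.16.2 s.15.7.16.1) s.15.7.1 (R.mk s.15.7.2.2 s.15.7.2.1) (R.mk s.15.7.3.2 s.15.7.3.1) (R.mk s.15.7.4.2 s.15.7.4.1) s.15.7.5 s.15.7.6 s.15.7.7 (R.mk s.15.7.8.2 s.15.7.8.1))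
  (@T16.mk R (R.mk s.15.8.9.2 s.15.8.9.1) (R.mk s.15.8.10.2 s.15.8.10.1) s.15.8.11 (R.mk s.15.8.12.2 s.15.8.12.1) s.15.8.13 (R.mk s.15.8.14.2 s.15.8.14.1) s.15.8.15 s.15.8.16 s.15.8.1 (R.mk s.15.8.2.2 s.15.8.2.1) s.15.8.3 s.15.8.4 (R.mk s.15.8.5.2 s.15.8.5.1) (R.mk s.15.8.6.2 s.15.8.6.1) s.15.8.7 (R.mk s.15.8.8.2 s.15.8.8.1))
  (@T16.mk R (R.mk s.15.9.9.2 s.15.9.9.1) (R.mk s.15.9.10.2 s.15.9.10.1) s.15.9.11 (R.mk s.15.9.12.2 s.15.9.12.1) s.15.9.13 (R.mk s.15.9.14.2 s.15.9.14.1) s.15.9.15 s.15.9.16 s.15.9.1 (R.mk s.15.9.2.2 s.15.9.2.1) s.15.9.3 s.15.9.4 (R.mk s.15.9.5.2 s.15.9.5.1) (R.mk s.15.9.6.2 s.15.9.6.1) s.15.9.7 (R.mk s.15.9.8.2 s.15.9.8.1))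
  (@T16.mk R (R.mk s.15.2.9.2 s.15.2.9.1) (R.mk s.15.2.10.2 s.15.2.10.1) s.15.2.11 (R.mk s.15.2.12.2 s.15.2.12.1) s.15.2.13 (R.mk s.15.2.14.2 s.15.2.14.1) s.15.2.15 s.15.2.16 (R.mk s.15.2.1.2 s.15.2.1.1) s.15.2.2 (R.mk s.15.2.3.2 s.15.2.3.1) (R.mk s.15.2.4.2 s.15.2.4.1) s.15.2.5 s.15.2.6 (R.mk s.15.2.7.2 s.15.2.7.1) s.15.2.8)
  (@T16.mk R (R.mk s.15.3.9.2 s.15.3.9.1) (R.mk s.15.3.10.2 s.15.3.10.1) s.15.3.11 (R.mk s.15.3.12.2 s.15.3.12.1) s.15.3.13 (R.mk s.15.3.14.2 s.15.3.14.1) s.15.3.15 s.15.3.16 (R.mk s.15.3.1.2 s.15.3.1.1) s.15.3.2 (R.mk s.15.3.3.2 s.15.3.3.1) (R.mk s.15.3.4.2 s.15.3.4.1) s.15.3.5 s.15.3.6 (R.mk s.15.3.7.2 s.15.3.7.1) s.15.3.8)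
  (@T16.mk R s.15.4.9 s.15.4.10 s.15.4.11 (R.mk s.15.4.12.2 s.15.4.12.1) s.15.4.13 (R.mk s.15.4.14.2 s.15.4.14.1) (R.mk s.15.4.15.2 s.15.4.15.1) (R.mk s.15.4.16.2 s.15.4.16.1) (R.mk s.15.4.1.2 s.15.4.1.1) s.15.4.2 s.15.4.3 s.15.4.4 (R.mk s.15.4.5.2 s.15.4.5.1) (R.mk s.15.4.6.2 s.15.4.6.1) (R.mk s.15.4.7.2 s.15.4.7.1) s.15.4.8)
  (@T16.mk R s.15.5.9 s.15.5.10 s.15.5.11 (R.mk s.15.5.12.2 s.15.5.12.1) s.15.5.13 (R.mk s.15.5.14.2 s.15.5.14.1) (R.mk s.15.5.15.2 s.15.5.15.1) (R.mk s.15.5.16.2 s.15.5.16.1) (R.mk s.15.5.1.2 s.15.5.1.1) s.15.5.2 s.15.5.3 s.15.5.4 (R.mk s.15.5.5.2 s.15.5.5.1) (R.mk s.15.5.6.2 s.15.5.6.1) (R.mk s.15.5.7.2 s.15.5.7.1) s.15.5.8)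
  (@T16.mk R s.14.14.9 s.14.14.10 (R.mk s.14.14.11.2 s.14.14.11.1) s.14.14.12 (R.mk s.14.14.13.2 s.14.14.13.1) s.14.14.14 (R.mk s.14.14.15.2 s.14.14.15.1) (R.mk s.14.14.16.2 s.14.14.16.1) s.14.14.1 (R.mk s.14.14.2.2 s.14.14.2.1) s.14.14.3 s.14.14.4 (R.mk s.14.14.5.2 s.14.14.5.1) (R.mk s.14.14.6.2 s.14.14.6.1) s.14.14.7 (R.mk s.14.14.8.2 s.14.14.8.1))
  (@T16.mk R s.14.15.9 s.14.15.10 (R.mk s.14.15.11.2 s.14.15.11.1) s.14.15.12 (R.mk s.14.15.13.2 s.14.15.13.1) s.14.15.14 (R.mk s.14.15.15.2 s.14.15.15.1) (R.mk s.14.15.16.2 s.14.15.16.1) s.14.15.1 (R.mk s.14.15.2.2 s.14.15.2.1) s.14.15.3 s.14.15.4 (R.mk s.14.15.5.2 s.14.15.5.1) (R.mk s.14.15.6.2 s.14.15.6.1) s.14.15.7 (R.mk s.14.15.8.2 s.14.15.8.1))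
  (@T16.mk R (R.mk s.14.16.9.2 s.14.16.9.1) (R.mk s.14.16.10.2 s.14.16.10.1) (R.mk s.14.16.11.2 s.14.16.11.1) s.14.16.12 (R.mk s.14.16.13.2 s.14.16.13.1) s.14.16.14 s.14.16.15 s.14.16.16 s.14.16.1 (R.mk s.14.16.2.2 s.14.16.2.1) (R.mk s.14.16.3.2 s.14.16.3.1) (R.mk s.14.16.4.2 s.14.16.4.1) s.14.16.5 s.14.16.6 s.14.16.7 (R.mk s.14.16.8.2 s.14.16.8.1))
  (@T16.mk R (R.mk s.15.1.9.2 s.15.1.9.1) (R.mk s.15.1.10.2 s.15.1.10.1) (R.mk s.15.1.11.2 s.15.1.11.1) s.15.1.12 (R.mk s.15.1.13.2 s.15.1.13.1) s.15.1.14 s.15.1.15 s.15.1.16 s.15.1.1 (R.mk s.15.1.2.2 s.15.1.2.1) (R.mk s.15.1.3.2 s.15.1.3.1) (R.mk s.15.1.4.2 s.15.1.4.1) s.15.1.5 s.15.1.6 s.15.1.7 (R.mk s.15.1.8.2 s.15.1.8.1))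
  (@T16.mk R s.17.14.1 s.17.14.2 s.17.14.3 (R.mk s.17.14.4.2 s.17.14.4.1) s.17.14.5 s.17.14.6 (R.mk s.17.14.7.2 s.17.14.7.1) (R.mk s.17.14.8.2 s.17.14.8.1) s.17.14.9 (R.mk s.17.14.10.2 s.17.14.10.1) s.17.14.11 (R.mk s.17.14.12.2 s.17.14.12.1) s.17.14.13 s.17.14.14 (R.mk s.17.14.15.2 s.17.14.15.1) (R.mk s.17.14.16.2 s.17.14.16.1))
  (@T16.mk R s.17.15.1 s.17.15.2 (R.mk s.17.15.3.2 s.17.15.3.1) s.17.15.4 s.17.15.5 s.17.15.6 s.17.15.7 s.17.15.8 s.17.15.9 (R.mk s.17.16.16.2 s.17.16.16.1) s.17.15.11 s.17.15.12 (R.mk s.18.1.3.2 s.18.1.3.1) (R.mk s.18.1.4.2 s.18.1.4.1) s.17.15.15 (R.mk s.18.1.6.2 s.18.1.6.1))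
  (@T16.mk R s.17.16.1 (R.mk s.18.1.8.2 s.18.1.8.1) s.17.16.3 s.17.16.4 (R.mk s.18.1.11.2 s.18.1.11.1) (R.mk s.18.1.12.2 s.18.1.12.1) s.17.16.7 s.17.16.8 (R.mk s.18.1.15.2 s.18.1.15.1) s.17.16.10 s.17.16.11 s.17.16.12 s.17.16.13 s.17.16.14 s.17.16.15 (R.mk s.17.15.10.2 s.17.15.10.1))
 )
 (@T16.mk (T16 R)
  (@T16.mk R s.18.1.1 s.18.1.2 (R.mk s.17.15.13.2 s.17.15.13.1) (R.mk s.17.15.14.2 s.17.15.14.1) s.18.1.5 (R.mk s.17.15.16.2 s.17.15.16.1) s.18.1.7 (R.mk s.17.16.2.2 s.17.16.2.1) s.18.1.9 s.18.1.10 (R.mk s.17.16.5.2 s.17.16.5.1) (R.mk s.17.16.6.2 s.17.16.6.1) s.18.1.13 s.18.1.14 (R.mk s.17.16.9.2 s.17.16.9.1) s.18.1.16)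
  (@T16.mk R s.18.2.1 s.18.2.2 s.18.2.3 s.18.2.4 s.18.2.5 s.18.2.6 s.18.2.7 s.18.2.8 s.18.2.9 s.18.2.10 s.18.2.11 s.18.2.12 s.18.2.13 s.18.2.14 s.18.2.15 s.18.2.16)
  (@T16.mk R s.18.3.1 s.18.3.2 s.18.3.3 s.18.3.4 s.18.3.5 s.18.3.6 s.18.3.7 s.18.3.8 s.18.3.9 s.18.3.10 s.18.3.11 s.18.3.12 s.18.3.13 s.18.3.14 s.18.3.15 s.18.3.16)
  (@T16.mk R s.18.4.1 s.18.4.2 s.18.4.3 s.18.4.4 s.18.4.5 s.18.4.6 s.18.4.7 s.18.4.8 s.18.4.9 s.18.4.10 s.18.4.11 s.18.4.12 s.18.4.13 s.18.4.14 s.18.4.15 s.18.4.16)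
  (@T16.mk R s.18.5.1 s.18.5.2 s.18.5.3 s.18.5.4 s.18.5.5 s.18.5.6 s.18.5.7 s.18.5.8 s.18.5.9 s.18.5.10 s.18.5.11 s.18.5.12 s.18.5.13 s.18.5.14 s.18.5.15 s.18.5.16)
  (@T16.mk R s.18.6.1 s.18.6.2 s.18.6.3 s.18.6.4 s.18.6.5 s.18.6.6 s.18.6.7 s.18.6.8 s.18.6.9 s.18.6.10 s.18.6.11 s.18.6.12 s.18.6.13 s.18.6.14 s.18.6.15 s.18.6.16)
  (@T16.mk R s.18.7.1 s.18.7.2 s.18.7.3 s.18.7.4 s.18.7.5 s.18.7.6 s.18.7.7 s.18.7.8 s.18.7.9 s.18.7.10 s.18.7.11 s.18.7.12 s.18.7.13 s.18.7.14 s.18.7.15 s.18.7.16)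
  (@T16.mk R s.18.8.1 s.18.8.2 s.18.8.3 s.18.8.4 s.18.8.5 s.18.8.6 s.18.8.7 s.18.8.8 s.18.8.9 s.18.8.10 s.18.8.11 s.18.8.12 s.18.8.13 s.18.8.14 s.18.8.15 s.18.8.16)
  (@T16.mk R s.18.9.1 s.18.9.2 s.18.9.3 s.18.9.4 s.18.9.5 s.18.9.6 s.18.9.7 s.18.9.8 s.18.9.9 s.18.9.10 s.18.9.11 s.18.9.12 s.18.9.13 s.18.9.14 s.18.9.15 s.18.9.16)
  (@T16.mk R s.18.10.1 s.18.10.2 s.18.10.3 s.18.10.4 s.18.10.5 s.18.10.6 s.18.10.7 s.18.10.8 s.18.10.9 s.18.10.10 s.18.10.11 s.18.10.12 s.18.10.13 s.18.10.14 s.18.10.15 s.18.10.16)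
  (@T16.mk R s.18.11.1 s.18.11.2 s.18.11.3 s.18.11.4 s.18.11.5 s.18.11.6 s.18.11.7 s.18.11.8 s.18.11.9 s.18.11.10 s.18.11.11 s.18.11.12 s.18.11.13 s.18.11.14 s.18.11.15 s.18.11.16)
  (@T16.mk R s.18.12.1 s.18.12.2 s.18.12.3 s.18.12.4 s.18.12.5 s.18.12.6 s.18.12.7 s.18.12.8 s.18.12.9 s.18.12.10 s.18.12.11 s.18.12.12 s.18.12.13 s.18.12.14 s.18.12.15 s.18.12.16)
  (@T16.mk R s.18.13.1 s.18.13.2 s.18.13.3 s.18.13.4 s.18.13.5 s.18.13.6 s.18.13.7 s.18.13.8 s.18.13.9 s.18.13.10 s.18.13.11 s.18.13.12 s.18.13.13 s.18.13.14 s.18.13.15 s.18.13.16)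
  (@T16.mk R s.18.14.1 s.18.14.2 s.18.14.3 s.18.14.4 s.18.14.5 s.18.14.6 s.18.14.7 s.18.14.8 s.18.14.9 s.18.14.10 s.18.14.11 s.18.14.12 s.18.14.13 s.18.14.14 s.18.14.15 s.18.14.16)
  (@T16.mk R s.18.15.1 s.18.15.2 s.18.15.3 s.18.15.4 s.18.15.5 s.18.15.6 s.18.15.7 s.18.15.8 s.18.15.9 s.18.15.10 s.18.15.11 s.18.15.12 s.18.15.13 s.18.15.14 s.18.15.15 s.18.15.16)
  (@T16.mk R s.18.16.1 s.18.16.2 s.18.16.3 s.18.16.4 s.18.16.5 s.18.16.6 s.18.16.7 s.18.16.8 s.18.16.9 s.18.16.10 s.18.16.11 s.18.16.12 s.18.16.13 s.18.16.14 s.18.16.15 s.18.16.16)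
 )
theorem cd23_eq (s : St) : cd23 s = gather tb23 s := by rfl
noncomputable def tb24 : Tab :=
@T18.mk (T16 (T16 E))
 (@T16.mk (T16 E)
  (@T16.mk E (p j0 i0 i0) (p j0 i0 i1) (p j0 i0 i2) (p j0 i0 i3) (n j0 i0 i4) (n j0 i0 i5) (n j0 i0 i6) (n j0 i0 i7) (p j0 i0 i8) (p j0 i0 i9) (p j0 i0 i10) (p j0 i0 i11) (n j0 i0 i12) (n j0 i0 i13) (n j0 i0 i14) (n j0 i0 i15))
  (@T16.mk E (p j0 i1 i0) (p j0 i1 i1) (n j0 i1 i2) (n j0 i1 i3) (n j0 i1 i4) (n j0 i1 i5) (p j0 i1 i6) (p j0 i1 i7) (n j0 i1 i8) (n j0 i1 i9) (p j0 i1 i10) (p j0 i1 i11) (p j0 i1 i12) (p j0 i1 i13) (n j0 i1 i14) (n j0 i1 i15))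
  (@T16.mk E (n j0 i2 i0) (n j0 i2 i1) (n j0 i2 i2) (n j0 i2 i3) (p j0 i2 i4) (p j0 i2 i5) (p j0 i2 i6) (p j0 i2 i7) (n j0 i2 i8) (n j0 i2 i9) (n j0 i2 i10) (n j0 i2 i11) (p j0 i2 i12) (p j0 i2 i13) (p j0 i2 i14) (p j0 i2 i15))
  (@T16.mk E (n j0 i3 i0) (n j0 i3 i1) (p j0 i3 i2) (p j0 i3 i3) (p j0 i3 i4) (p j0 i3 i5) (n j0 i3 i6) (n j0 i3 i7) (p j0 i3 i8) (p j0 i3 i9) (n j0 i3 i10) (n j0 i3 i11) (n j0 i3 i12) (n j0 i3 i13) (p j0 i3 i14) (p j0 i3 i15))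
  (@T16.mk E (p j0 i4 i0) (p j0 i4 i1) (p j0 i4 i2) (p j0 i4 i3) (p j0 i4 i4) (p j0 i4 i5) (p j0 i4 i6) (p j0 i4 i7) (p j0 i4 i8) (p j0 i4 i9) (p j0 i4 i10) (p j0 i4 i11) (p j0 i4 i12) (p j0 i4 i13) (p j0 i4 i14) (p j0 i4 i15))
  (@T16.mk E (n j0 i5 i0) (n j0 i5 i1) (p j0 i5 i2) (p j0 i5 i3) (n j0 i5 i4) (n j0 i5 i5) (p j0 i5 i6) (p j0 i5 i7) (p j0 i5 i8) (p j0 i5 i9) (n j0 i5 i10) (n j0 i5 i11) (p j0 i5 i12) (p j0 i5 i13) (n j0 i5 i14) (n j0 i5 i15))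
  (@T16.mk E (p j0 i6 i0) (p j0 i6 i1) (p j0 i6 i2) (p j0 i6 i3) (p j0 i6 i4) (p j0 i6 i5) (p j0 i6 i6) (p j0 i6 i7) (p j0 i6 i8) (p j0 i6 i9) (p j0 i6 i10) (p j0 i6 i11) (p j0 i6 i12) (p j0 i6 i13) (p j0 i6 i14) (p j0 i6 i15))
  (@T16.mk E (n j0 i7 i0) (n j0 i7 i1) (p j0 i7 i2) (p j0 i7 i3) (n j0 i7 i4) (n j0 i7 i5) (p j0 i7 i6) (p j0 i7 i7) (p j0 i7 i8) (p j0 i7 i9) (n j0 i7 i10) (n j0 i7 i11) (p j0 i7 i12) (p j0 i7 i13) (n j0 i7 i14) (n j0 i7 i15))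
  (@T16.mk E (n j0 i8 i0) (p j0 i8 i1) (p j0 i8 i2) (n j0 i8 i3) (n j0 i8 i4) (p j0 i8 i5) (p j0 i8 i6) (n j0 i8 i7) (n j0 i8 i8) (p j0 i8 i9) (p j0 i8 i10) (n j0 i8 i11) (n j0 i8 i12) (p j0 i8 i13) (p j0 i8 i14) (n j0 i8 i15))
  (@T16.mk E (n j0 i9 i0) (p j0 i9 i1) (n j0 i9 i2) (p j0 i9 i3) (n j0 i9 i4) (p j0 i9 i5) (n j0 i9 i6) (p j0 i9 i7) (p j0 i9 i8) (n j0 i9 i9) (p j0 i9 i10) (n j0 i9 i11) (p j0 i9 i12) (n j0 i9 i13) (p j0 i9 i14) (n j0 i9 i15))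
  (@T16.mk E (n j0 i10 i0) (p j0 i10 i1) (p j0 i10 i2) (n j0 i10 i3) (n j0 i10 i4) (p j0 i10 i5) (p j0 i10 i6) (n j0 i10 i7) (n j0 i10 i8) (p j0 i10 i9) (p j0 i10 i10) (n j0 i10 i11) (n j0 i10 i12) (p j0 i10 i13) (p j0 i10 i14) (n j0 i10 i15))
  (@T16.mk E (n j0 i11 i0) (p j0 i11 i1) (n j0 i11 i2) (p j0 i11 i3) (n j0 i11 i4) (p j0 i11 i5) (n j0 i11 i6) (p j0 i11 i7) (p j0 i11 i8) (n j0 i11 i9) (p j0 i11 i10) (n j0 i11 i11) (p j0 i11 i12) (n j0 i11 i13) (p j0 i11 i14) (n j0 i11 i15))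
  (@T16.mk E (p j0 i12 i0) (n j0 i12 i1) (n j0 i12 i2) (p j0 i12 i3) (n j0 i12 i4) (p j0 i12 i5) (p j0 i12 i6) (n j0 i12 i7) (p j0 i12 i8) (n j0 i12 i9) (n j0 i12 i10) (p j0 i12 i11) (n j0 i12 i12) (p j0 i12 i13) (p j0 i12 i14) (n j0 i12 i15))
  (@T16.mk E (n j0 i13 i0) (p j0 i13 i1) (n j0 i13 i2) (p j0 i13 i3) (p j0 i13 i4) (n j0 i13 i5) (p j0 i13 i6) (n j0 i13 i7) (p j0 i13 i8) (n j0 i13 i9) (p j0 i13 i10) (n j0 i13 i11) (n j0 i13 i12) (p j0 i13 i13) (n j0 i13 i14) (p j0 i13 i15))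
  (@T16.mk E (n j0 i14 i0) (p j0 i14 i1) (p j0 i14 i2) (n j0 i14 i3) (p j0 i14 i4) (n j0 i14 i5) (n j0 i14 i6) (p j0 i14 i7) (n j0 i14 i8) (p j0 i14 i9) (p j0 i14 i10) (n j0 i14 i11) (p j0 i14 i12) (n j0 i14 i13) (n j0 i14 i14) (p j0 i14 i15))
  (@T16.mk E (p j0 i15 i0) (n j0 i15 i1) (p j0 i15 i2) (n j0 i15 i3) (n j0 i15 i4) (p j0 i15 i5) (n j0 i15 i6) (p j0 i15 i7) (n j0 i15 i8) (p j0 i15 i9) (n j0 i15 i10) (p j0 i15 i11) (p j0 i15 i12) (n j0 i15 i13) (p j0 i15 i14) (n j0 i15 i15))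
 )
 (@T16.mk (T16 E)
  (@T16.mk E (p j1 i0 i0) (p j1 i0 i1) (p j1 i0 i2) (p j1 i0 i3) (p j1 i0 i4) (p j1 i0 i5) (p j1 i0 i6) (p j1 i0 i7) (p j1 i0 i8) (p j1 i0 i9) (p j1 i0 i10) (p j1 i0 i11) (p j1 i0 i12) (p j1 i0 i13) (p j1 i0 i14) (p j1 i0 i15))
  (@T16.mk E (n j1 i1 i0) (n j1 i1 i1) (p j1 i1 i2) (p j1 i1 i3) (n j1 i1 i4) (n j1 i1 i5) (p j1 i1 i6) (p j1 i1 i7) (p j1 i1 i8) (p j1 i1 i9) (n j1 i1 i10) (n j1 i1 i11) (p j1 i1 i12) (p j1 i1 i13) (n j1 i1 i14) (n j1 i1 i15))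
  (@T16.mk E (p j1 i2 i0) (p j1 i2 i1) (p j1 i2 i2) (p j1 i2 i3) (p j1 i2 i4) (p j1 i2 i5) (p j1 i2 i6) (p j1 i2 i7) (p j1 i2 i8) (p j1 i2 i9) (p j1 i2 i10) (p j1 i2 i11) (p j1 i2 i12) (p j1 i2 i13) (p j1 i2 i14) (p j1 i2 i15))
  (@T16.mk E (n j1 i3 i0) (n j1 i3 i1) (p j1 i3 i2) (p j1 i3 i3) (n j1 i3 i4) (n j1 i3 i5) (p j1 i3 i6) (p j1 i3 i7) (p j1 i3 i8) (p j1 i3 i9) (n j1 i3 i10) (n j1 i3 i11) (p j1 i3 i12) (p j1 i3 i13) (n j1 i3 i14) (n j1 i3 i15))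
  (@T16.mk E (p j1 i4 i0) (p j1 i4 i1) (p j1 i4 i2) (p j1 i4 i3) (n j1 i4 i4) (n j1 i4 i5) (n j1 i4 i6) (n j1 i4 i7) (p j1 i4 i8) (p j1 i4 i9) (p j1 i4 i10) (p j1 i4 i11) (n j1 i4 i12) (n j1 i4 i13) (n j1 i4 i14) (n j1 i4 i15))
  (@T16.mk E (p j1 i5 i0) (p j1 i5 i1) (n j1 i5 i2) (n j1 i5 i3) (n j1 i5 i4) (n j1 i5 i5) (p j1 i5 i6) (p j1 i5 i7) (n j1 i5 i8) (n j1 i5 i9) (p j1 i5 i10) (p j1 i5 i11) (p j1 i5 i12) (p j1 i5 i13) (n j1 i5 i14) (n j1 i5 i15))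
  (@T16.mk E (n j1 i6 i0) (n j1 i6 i1) (n j1 i6 i2) (n j1 i6 i3) (p j1 i6 i4) (p j1 i6 i5) (p j1 i6 i6) (p j1 i6 i7) (n j1 i6 i8) (n j1 i6 i9) (n j1 i6 i10) (n j1 i6 i11) (p j1 i6 i12) (p j1 i6 i13) (p j1 i6 i14) (p j1 i6 i15))
  (@T16.mk E (n j1 i7 i0) (n j1 i7 i1) (p j1 i7 i2) (p j1 i7 i3) (p j1 i7 i4) (p j1 i7 i5) (n j1 i7 i6) (n j1 i7 i7) (p j1 i7 i8) (p j1 i7 i9) (n j1 i7 i10) (n j1 i7 i11) (n j1 i7 i12) (n j1 i7 i13) (p j1 i7 i14) (p j1 i7 i15))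
  (@T16.mk E (n j1 i8 i0) (p j1 i8 i1) (p j1 i8 i2) (n j1 i8 i3) (p j1 i8 i4) (n j1 i8 i5) (n j1 i8 i6) (p j1 i8 i7) (n j1 i8 i8) (p j1 i8 i9) (p j1 i8 i10) (n j1 i8 i11) (p j1 i8 i12) (n j1 i8 i13) (n j1 i8 i14) (p j1 i8 i15))
  (@T16.mk E (p j1 i9 i0) (n j1 i9 i1) (p j1 i9 i2) (n j1 i9 i3) (n j1 i9 i4) (p j1 i9 i5) (n j1 i9 i6) (p j1 i9 i7) (n j1 i9 i8) (p j1 i9 i9) (n j1 i9 i10) (p j1 i9 i11) (p j1 i9 i12) (n j1 i9 i13) (p j1 i9 i14) (n j1 i9 i15))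
  (@T16.mk E (p j1 i10 i0) (n j1 i10 i1) (n j1 i10 i2) (p j1 i10 i3) (n j1 i10 i4) (p j1 i10 i5) (p j1 i10 i6) (n j1 i10 i7) (p j1 i10 i8) (n j1 i10 i9) (n j1 i10 i10) (p j1 i10 i11) (n j1 i10 i12) (p j1 i10 i13) (p j1 i10 i14) (n j1 i10 i15))
  (@T16.mk E (n j1 i11 i0) (p j1 i11 i1) (n j1 i11 i2) (p j1 i11 i3) (p j1 i11 i4) (n j1 i11 i5) (p j1 i11 i6) (n j1 i11 i7) (p j1 i11 i8) (n j1 i11 i9) (p j1 i11 i10) (n j1 i11 i11) (n j1 i11 i12) (p j1 i11 i13) (n j1 i11 i14) (p j1 i11 i15))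
  (@T16.mk E (p j1 i12 i0) (n j1 i12 i1) (n j1 i12 i2) (p j1 i12 i3) (p j1 i12 i4) (n j1 i12 i5) (n j1 i12 i6) (p j1 i12 i7) (p j1 i12 i8) (n j1 i12 i9) (n j1 i12 i10) (p j1 i12 i11) (p j1 i12 i12) (n j1 i12 i13) (n j1 i12 i14) (p j1 i12 i15))
  (@T16.mk E (p j1 i13 i0) (n j1 i13 i1) (p j1 i13 i2) (n j1 i13 i3) (p j1 i13 i4) (n j1 i13 i5) (p j1 i13 i6) (n j1 i13 i7) (n j1 i13 i8) (p j1 i13 i9) (n j1 i13 i10) (p j1 i13 i11) (n j1 i13 i12) (p j1 i13 i13) (n j1 i13 i14) (p j1 i13 i15))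
  (@T16.mk E (p j1 i14 i0) (n j1 i14 i1) (n j1 i14 i2) (p j1 i14 i3) (p j1 i14 i4) (n j1 i14 i5) (n j1 i14 i6) (p j1 i14 i7) (p j1 i14 i8) (n j1 i14 i9) (n j1 i14 i10) (p j1 i14 i11) (p j1 i14 i12) (n j1 i14 i13) (n j1 i14 i14) (p j1 i14 i15))
  (@T16.mk E (p j1 i15 i0) (n j1 i15 i1) (p j1 i15 i2) (n j1 i15 i3) (p j1 i15 i4) (n j1 i15 i5) (p j1 i15 i6) (n j1 i15 i7) (n j1 i15 i8) (p j1 i15 i9) (n j1 i15 i10) (p j1 i15 i11) (n j1 i15 i12) (p j1 i15 i13) (n j1 i15 i14) (p j1 i15 i15))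
 )
 (@T16.mk (T16 E)
  (@T16.mk E (n j2 i0 i0) (n j2 i0 i1) (p j2 i0 i2) (p j2 i0 i3) (p j2 i0 i4) (p j2 i0 i5) (n j2 i0 i6) (n j2 i0 i7) (p j2 i0 i8) (p j2 i0 i9) (n j2 i0 i10) (n j2 i0 i11) (n j2 i0 i12) (n j2 i0 i13) (p j2 i0 i14) (p j2 i0 i15))
  (@T16.mk E (n j2 i1 i0) (n j2 i1 i1) (n j2 i1 i2) (n j2 i1 i3) (p j2 i1 i4) (p j2 i1 i5) (p j2 i1 i6) (p j2 i1 i7) (n j2 i1 i8) (n j2 i1 i9) (n j2 i1 i10) (n j2 i1 i11) (p j2 i1 i12) (p j2 i1 i13) (p j2 i1 i14) (p j2 i1 i15))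
  (@T16.mk E (p j2 i2 i0) (p j2 i2 i1) (n j2 i2 i2) (n j2 i2 i3) (n j2 i2 i4) (n j2 i2 i5) (p j2 i2 i6) (p j2 i2 i7) (n j2 i2 i8) (n j2 i2 i9) (p j2 i2 i10) (p j2 i2 i11) (p j2 i2 i12) (p j2 i2 i13) (n j2 i2 i14) (n j2 i2 i15))
  (@T16.mk E (p j2 i3 i0) (p j2 i3 i1) (p j2 i3 i2) (p j2 i3 i3) (n j2 i3 i4) (n j2 i3 i5) (n j2 i3 i6) (n j2 i3 i7) (p j2 i3 i8) (p j2 i3 i9) (p j2 i3 i10) (p j2 i3 i11) (n j2 i3 i12) (n j2 i3 i13) (n j2 i3 i14) (n j2 i3 i15))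
  (@T16.mk E (n j2 i4 i0) (n j2 i4 i1) (p j2 i4 i2) (p j2 i4 i3) (n j2 i4 i4) (n j2 i4 i5) (p j2 i4 i6) (p j2 i4 i7) (p j2 i4 i8) (p j2 i4 i9) (n j2 i4 i10) (n j2 i4 i11) (p j2 i4 i12) (p j2 i4 i13) (n j2 i4 i14) (n j2 i4 i15))
  (@T16.mk E (p j2 i5 i0) (p j2 i5 i1) (p j2 i5 i2) (p j2 i5 i3) (p j2 i5 i4) (p j2 i5 i5) (p j2 i5 i6) (p j2 i5 i7) (p j2 i5 i8) (p j2 i5 i9) (p j2 i5 i10) (p j2 i5 i11) (p j2 i5 i12) (p j2 i5 i13) (p j2 i5 i14) (p j2 i5 i15))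
  (@T16.mk E (n j2 i6 i0) (n j2 i6 i1) (p j2 i6 i2) (p j2 i6 i3) (n j2 i6 i4) (n j2 i6 i5) (p j2 i6 i6) (p j2 i6 i7) (p j2 i6 i8) (p j2 i6 i9) (n j2 i6 i10) (n j2 i6 i11) (p j2 i6 i12) (p j2 i6 i13) (n j2 i6 i14) (n j2 i6 i15))
  (@T16.mk E (p j2 i7 i0) (p j2 i7 i1) (p j2 i7 i2) (p j2 i7 i3) (p j2 i7 i4) (p j2 i7 i5) (p j2 i7 i6) (p j2 i7 i7) (p j2 i7 i8) (p j2 i7 i9) (p j2 i7 i10) (p j2 i7 i11) (p j2 i7 i12) (p j2 i7 i13) (p j2 i7 i14) (p j2 i7 i15))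
  (@T16.mk E (n j2 i8 i0) (p j2 i8 i1) (n j2 i8 i2) (p j2 i8 i3) (n j2 i8 i4) (p j2 i8 i5) (n j2 i8 i6) (p j2 i8 i7) (p j2 i8 i8) (n j2 i8 i9) (p j2 i8 i10) (n j2 i8 i11) (p j2 i8 i12) (n j2 i8 i13) (p j2 i8 i14) (n j2 i8 i15))
  (@T16.mk E (n j2 i9 i0) (p j2 i9 i1) (p j2 i9 i2) (n j2 i9 i3) (n j2 i9 i4) (p j2 i9 i5) (p j2 i9 i6) (n j2 i9 i7) (n j2 i9 i8) (p j2 i9 i9) (p j2 i9 i10) (n j2 i9 i11) (n j2 i9 i12) (p j2 i9 i13) (p j2 i9 i14) (n j2 i9 i15))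
  (@T16.mk E (n j2 i10 i0) (p j2 i10 i1) (n j2 i10 i2) (p j2 i10 i3) (n j2 i10 i4) (p j2 i10 i5) (n j2 i10 i6) (p j2 i10 i7) (p j2 i10 i8) (n j2 i10 i9) (p j2 i10 i10) (n j2 i10 i11) (p j2 i10 i12) (n j2 i10 i13) (p j2 i10 i14) (n j2 i10 i15))
  (@T16.mk E (n j2 i11 i0) (p j2 i11 i1) (p j2 i11 i2) (n j2 i11 i3) (n j2 i11 i4) (p j2 i11 i5) (p j2 i11 i6) (n j2 i11 i7) (n j2 i11 i8) (p j2 i11 i9) (p j2 i11 i10) (n j2 i11 i11) (n j2 i11 i12) (p j2 i11 i13) (p j2 i11 i14) (n j2 i11 i15))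
  (@T16.mk E (p j2 i12 i0) (n j2 i12 i1) (p j2 i12 i2) (n j2 i12 i3) (n j2 i12 i4) (p j2 i12 i5) (n j2 i12 i6) (p j2 i12 i7) (n j2 i12 i8) (p j2 i12 i9) (n j2 i12 i10) (p j2 i12 i11) (p j2 i12 i12) (n j2 i12 i13) (p j2 i12 i14) (n j2 i12 i15))
  (@T16.mk E (n j2 i13 i0) (p j2 i13 i1) (p j2 i13 i2) (n j2 i13 i3) (p j2 i13 i4) (n j2 i13 i5) (n j2 i13 i6) (p j2 i13 i7) (n j2 i13 i8) (p j2 i13 i9) (p j2 i13 i10) (n j2 i13 i11) (p j2 i13 i12) (n j2 i13 i13) (n j2 i13 i14) (p j2 i13 i15))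
  (@T16.mk E (n j2 i14 i0) (p j2 i14 i1) (n j2 i14 i2) (p j2 i14 i3) (p j2 i14 i4) (n j2 i14 i5) (p j2 i14 i6) (n j2 i14 i7) (p j2 i14 i8) (n j2 i14 i9) (p j2 i14 i10) (n j2 i14 i11) (n j2 i14 i12) (p j2 i14 i13) (n j2 i14 i14) (p j2 i14 i15))
  (@T16.mk E (p j2 i15 i0) (n j2 i15 i1) (n j2 i15 i2) (p j2 i15 i3) (n j2 i15 i4) (p j2 i15 i5) (p j2 i15 i6) (n j2 i15 i7) (p j2 i15 i8) (n j2 i15 i9) (n j2 i15 i10) (p j2 i15 i11) (n j2 i15 i12) (p j2 i15 i13) (p j2 i15 i14) (n j2 i15 i15))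
 )
 (@T16.mk (T16 E)
  (@T16.mk E (n j3 i0 i0) (n j3 i0 i1) (p j3 i0 i2) (p j3 i0 i3) (n j3 i0 i4) (n j3 i0 i5) (p j3 i0 i6) (p j3 i0 i7) (p j3 i0 i8) (p j3 i0 i9) (n j3 i0 i10) (n j3 i0 i11) (p j3 i0 i12) (p j3 i0 i13) (n j3 i0 i14) (n j3 i0 i15))
  (@T16.mk E (p j3 i1 i0) (p j3 i1 i1) (p j3 i1 i2) (p j3 i1 i3) (p j3 i1 i4) (p j3 i1 i5) (p j3 i1 i6) (p j3 i1 i7) (p j3 i1 i8) (p j3 i1 i9) (p j3 i1 i10) (p j3 i1 i11) (p j3 i1 i12) (p j3 i1 i13) (p j3 i1 i14) (p j3 i1 i15))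
  (@T16.mk E (n j3 i2 i0) (n j3 i2 i1) (p j3 i2 i2) (p j3 i2 i3) (n j3 i2 i4) (n j3 i2 i5) (p j3 i2 i6) (p j3 i2 i7) (p j3 i2 i8) (p j3 i2 i9) (n j3 i2 i10) (n j3 i2 i11) (p j3 i2 i12) (p j3 i2 i13) (n j3 i2 i14) (n j3 i2 i15))
  (@T16.mk E (p j3 i3 i0) (p j3 i3 i1) (p j3 i3 i2) (p j3 i3 i3) (p j3 i3 i4) (p j3 i3 i5) (p j3 i3 i6) (p j3 i3 i7) (p j3 i3 i8) (p j3 i3 i9) (p j3 i3 i10) (p j3 i3 i11) (p j3 i3 i12) (p j3 i3 i13) (p j3 i3 i14) (p j3 i3 i15))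
  (@T16.mk E (n j3 i4 i0) (n j3 i4 i1) (p j3 i4 i2) (p j3 i4 i3) (p j3 i4 i4) (p j3 i4 i5) (n j3 i4 i6) (n j3 i4 i7) (p j3 i4 i8) (p j3 i4 i9) (n j3 i4 i10) (n j3 i4 i11) (n j3 i4 i12) (n j3 i4 i13) (p j3 i4 i14) (p j3 i4 i15))
  (@T16.mk E (n j3 i5 i0) (n j3 i5 i1) (n j3 i5 i2) (n j3 i5 i3) (p j3 i5 i4) (p j3 i5 i5) (p j3 i5 i6) (p j3 i5 i7) (n j3 i5 i8) (n j3 i5 i9) (n j3 i5 i10) (n j3 i5 i11) (p j3 i5 i12) (p j3 i5 i13) (p j3 i5 i14) (p j3 i5 i15))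
  (@T16.mk E (p j3 i6 i0) (p j3 i6 i1) (n j3 i6 i2) (n j3 i6 i3) (n j3 i6 i4) (n j3 i6 i5) (p j3 i6 i6) (p j3 i6 i7) (n j3 i6 i8) (n j3 i6 i9) (p j3 i6 i10) (p j3 i6 i11) (p j3 i6 i12) (p j3 i6 i13) (n j3 i6 i14) (n j3 i6 i15))
  (@T16.mk E (p j3 i7 i0) (p j3 i7 i1) (p j3 i7 i2) (p j3 i7 i3) (n j3 i7 i4) (n j3 i7 i5) (n j3 i7 i6) (n j3 i7 i7) (p j3 i7 i8) (p j3 i7 i9) (p j3 i7 i10) (p j3 i7 i11) (n j3 i7 i12) (n j3 i7 i13) (n j3 i7 i14) (n j3 i7 i15))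
  (@T16.mk E (n j3 i8 i0) (p j3 i8 i1) (n j3 i8 i2) (p j3 i8 i3) (p j3 i8 i4) (n j3 i8 i5) (p j3 i8 i6) (n j3 i8 i7) (p j3 i8 i8) (n j3 i8 i9) (p j3 i8 i10) (n j3 i8 i11) (n j3 i8 i12) (p j3 i8 i13) (n j3 i8 i14) (p j3 i8 i15))
  (@T16.mk E (p j3 i9 i0) (n j3 i9 i1) (n j3 i9 i2) (p j3 i9 i3) (n j3 i9 i4) (p j3 i9 i5) (p j3 i9 i6) (n j3 i9 i7) (p j3 i9 i8) (n j3 i9 i9) (n j3 i9 i10) (p j3 i9 i11) (n j3 i9 i12) (p j3 i9 i13) (p j3 i9 i14) (n j3 i9 i15))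
  (@T16.mk E (p j3 i10 i0) (n j3 i10 i1) (p j3 i10 i2) (n j3 i10 i3) (n j3 i10 i4) (p j3 i10 i5) (n j3 i10 i6) (p j3 i10 i7) (n j3 i10 i8) (p j3 i10 i9) (n j3 i10 i10) (p j3 i10 i11) (p j3 i10 i12) (n j3 i10 i13) (p j3 i10 i14) (n j3 i10 i15))
  (@T16.mk E (n j3 i11 i0) (p j3 i11 i1) (p j3 i11 i2) (n j3 i11 i3) (p j3 i11 i4) (n j3 i11 i5) (n j3 i11 i6) (p j3 i11 i7) (n j3 i11 i8) (p j3 i11 i9) (p j3 i11 i10) (n j3 i11 i11) (p j3 i11 i12) (n j3 i11 i13) (n j3 i11 i14) (p j3 i11 i15))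
  (@T16.mk E (p j3 i12 i0) (n j3 i12 i1) (p j3 i12 i2) (n j3 i12 i3) (p j3 i12 i4) (n j3 i12 i5) (p j3 i12 i6) (n j3 i12 i7) (n j3 i12 i8) (p j3 i12 i9) (n j3 i12 i10) (p j3 i12 i11) (n j3 i12 i12) (p j3 i12 i13) (n j3 i12 i14) (p j3 i12 i15))
  (@T16.mk E (p j3 i13 i0) (n j3 i13 i1) (n j3 i13 i2) (p j3 i13 i3) (p j3 i13 i4) (n j3 i13 i5) (n j3 i13 i6) (p j3 i13 i7) (p j3 i13 i8) (n j3 i13 i9) (n j3 i13 i10) (p j3 i13 i11) (p j3 i13 i12) (n j3 i13 i13) (n j3 i13 i14) (p j3 i13 i15))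
  (@T16.mk E (p j3 i14 i0) (n j3 i14 i1) (p j3 i14 i2) (n j3 i14 i3) (p j3 i14 i4) (n j3 i14 i5) (p j3 i14 i6) (n j3 i14 i7) (n j3 i14 i8) (p j3 i14 i9) (n j3 i14 i10) (p j3 i14 i11) (n j3 i14 i12) (p j3 i14 i13) (n j3 i14 i14) (p j3 i14 i15))
  (@T16.mk E (p j3 i15 i0) (n j3 i15 i1) (n j3 i15 i2) (p j3 i15 i3) (p j3 i15 i4) (n j3 i15 i5) (n j3 i15 i6) (p j3 i15 i7) (p j3 i15 i8) (n j3 i15 i9) (n j3 i15 i10) (p j3 i15 i11) (p j3 i15 i12) (n j3 i15 i13) (n j3 i15 i14) (p j3 i15 i15))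
 )
 (@T16.mk (T16 E)
  (@T16.mk E (p j5 i4 i10) (p j5 i4 i11) (n j5 i4 i8) (n j5 i4 i9) (p j5 i4 i14) (p j5 i4 i15) (n j5 i4 i12) (n j5 i4 i13) (n j5 i4 i2) (n j5 i4 i3) (p j5 i4 i0) (p j5 i4 i1) (n j5 i4 i6) (n j5 i4 i7) (p j5 i4 i4) (p j5 i4 i5))
  (@T16.mk E (n j5 i5 i10) (n j5 i5 i11) (n j5 i5 i8) (n j5 i5 i9) (n j5 i5 i14) (n j5 i5 i15) (n j5 i5 i12) (n j5 i5 i13) (n j5 i5 i2) (n j5 i5 i3) (n j5 i5 i0) (n j5 i5 i1) (n j5 i5 i6) (n j5 i5 i7) (n j5 i5 i4) (n j5 i5 i5))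
  (@T16.mk E (n j5 i6 i10) (n j5 i6 i11) (p j5 i6 i8) (p j5 i6 i9) (n j5 i6 i14) (n j5 i6 i15) (p j5 i6 i12) (p j5 i6 i13) (p j5 i6 i2) (p j5 i6 i3) (n j5 i6 i0) (n j5 i6 i1) (p j5 i6 i6) (p j5 i6 i7) (n j5 i6 i4) (n j5 i6 i5))
  (@T16.mk E (n j5 i7 i10) (n j5 i7 i11) (n j5 i7 i8) (n j5 i7 i9) (n j5 i7 i14) (n j5 i7 i15) (n j5 i7 i12) (n j5 i7 i13) (n j5 i7 i2) (n j5 i7 i3) (n j5 i7 i0) (n j5 i7 i1) (n j5 i7 i6) (n j5 i7 i7) (n j5 i7 i4) (n j5 i7 i5))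
  (@T16.mk E (p j5 i0 i10) (p j5 i0 i11) (n j5 i0 i8) (n j5 i0 i9) (n j5 i0 i14) (n j5 i0 i15) (p j5 i0 i12) (p j5 i0 i13) (n j5 i0 i2) (n j5 i0 i3) (p j5 i0 i0) (p j5 i0 i1) (p j5 i0 i6) (p j5 i0 i7) (n j5 i0 i4) (n j5 i0 i5))
  (@T16.mk E (n j5 i1 i10) (n j5 i1 i11) (n j5 i1 i8) (n j5 i1 i9) (p j5 i1 i14) (p j5 i1 i15) (p j5 i1 i12) (p j5 i1 i13) (n j5 i1 i2) (n j5 i1 i3) (n j5 i1 i0) (n j5 i1 i1) (p j5 i1 i6) (p j5 i1 i7) (p j5 i1 i4) (p j5 i1 i5))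
  (@T16.mk E (n j5 i2 i10) (n j5 i2 i11) (p j5 i2 i8) (p j5 i2 i9) (p j5 i2 i14) (p j5 i2 i15) (n j5 i2 i12) (n j5 i2 i13) (p j5 i2 i2) (p j5 i2 i3) (n j5 i2 i0) (n j5 i2 i1) (n j5 i2 i6) (n j5 i2 i7) (p j5 i2 i4) (p j5 i2 i5))
  (@T16.mk E (p j5 i3 i10) (p j5 i3 i11) (p j5 i3 i8) (p j5 i3 i9) (n j5 i3 i14) (n j5 i3 i15) (n j5 i3 i12) (n j5 i3 i13) (p j5 i3 i2) (p j5 i3 i3) (p j5 i3 i0) (p j5 i3 i1) (n j5 i3 i6) (n j5 i3 i7) (n j5 i3 i4) (n j5 i3 i5))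
  (@T16.mk E (n j5 i12 i10) (p j5 i12 i11) (n j5 i12 i8) (p j5 i12 i9) (p j5 i12 i14) (n j5 i12 i15) (p j5 i12 i12) (n j5 i12 i13) (p j5 i12 i2) (n j5 i12 i3) (p j5 i12 i0) (n j5 i12 i1) (n j5 i12 i6) (p j5 i12 i7) (n j5 i12 i4) (p j5 i12 i5))
  (@T16.mk E (n j5 i13 i10) (p j5 i13 i11) (p j5 i13 i8) (n j5 i13 i9) (p j5 i13 i14) (n j5 i13 i15) (n j5 i13 i12) (p j5 i13 i13) (n j5 i13 i2) (p j5 i13 i3) (p j5 i13 i0) (n j5 i13 i1) (p j5 i13 i6) (n j5 i13 i7) (n j5 i13 i4) (p j5 i13 i5))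
  (@T16.mk E (p j5 i14 i10) (n j5 i14 i11) (p j5 i14 i8) (n j5 i14 i9) (n j5 i14 i14) (p j5 i14 i15) (n j5 i14 i12) (p j5 i14 i13) (n j5 i14 i2) (p j5 i14 i3) (n j5 i14 i0) (p j5 i14 i1) (p j5 i14 i6) (n j5 i14 i7) (p j5 i14 i4) (n j5 i14 i5))
  (@T16.mk E (p j5 i15 i10) (n j5 i15 i11) (n j5 i15 i8) (p j5 i15 i9) (n j5 i15 i14) (p j5 i15 i15) (p j5 i15 i12) (n j5 i15 i13) (p j5 i15 i2) (n j5 i15 i3) (n j5 i15 i0) (p j5 i15 i1) (n j5 i15 i6) (p j5 i15 i7) (p j5 i15 i4) (n j5 i15 i5))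
  (@T16.mk E (p j5 i8 i10) (n j5 i8 i11) (p j5 i8 i8) (n j5 i8 i9) (p j5 i8 i14) (n j5 i8 i15) (p j5 i8 i12) (n j5 i8 i13) (n j5 i8 i2) (p j5 i8 i3) (n j5 i8 i0) (p j5 i8 i1) (n j5 i8 i6) (p j5 i8 i7) (n j5 i8 i4) (p j5 i8 i5))
  (@T16.mk E (p j5 i9 i10) (n j5 i9 i11) (n j5 i9 i8) (p j5 i9 i9) (p j5 i9 i14) (n j5 i9 i15) (n j5 i9 i12) (p j5 i9 i13) (p j5 i9 i2) (n j5 i9 i3) (n j5 i9 i0) (p j5 i9 i1) (p j5 i9 i6) (n j5 i9 i7) (n j5 i9 i4) (p j5 i9 i5))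
  (@T16.mk E (n j5 i10 i10) (p j5 i10 i11) (n j5 i10 i8) (p j5 i10 i9) (n j5 i10 i14) (p j5 i10 i15) (n j5 i10 i12) (p j5 i10 i13) (p j5 i10 i2) (n j5 i10 i3) (p j5 i10 i0) (n j5 i10 i1) (p j5 i10 i6) (n j5 i10 i7) (p j5 i10 i4) (n j5 i10 i5))
  (@T16.mk E (p j5 i11 i10) (n j5 i11 i11) (n j5 i11 i8) (p j5 i11 i9) (p j5 i11 i14) (n j5 i11 i15) (n j5 i11 i12) (p j5 i11 i13) (p j5 i11 i2) (n j5 i11 i3) (n j5 i11 i0) (p j5 i11 i1) (p j5 i11 i6) (n j5 i11 i7) (n j5 i11 i4) (p j5 i11 i5))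
 )
 (@T16.mk (T16 E)
  (@T16.mk E (p j4 i4 i10) (p j4 i4 i11) (n j4 i4 i8) (n j4 i4 i9) (n j4 i4 i14) (n j4 i4 i15) (p j4 i4 i12) (p j4 i4 i13) (n j4 i4 i2) (n j4 i4 i3) (p j4 i4 i0) (p j4 i4 i1) (p j4 i4 i6) (p j4 i4 i7) (n j4 i4 i4) (n j4 i4 i5))
  (@T16.mk E (n j4 i5 i10) (n j4 i5 i11) (n j4 i5 i8) (n j4 i5 i9) (p j4 i5 i14) (p j4 i5 i15) (p j4 i5 i12) (p j4 i5 i13) (n j4 i5 i2) (n j4 i5 i3) (n j4 i5 i0) (n j4 i5 i1) (p j4 i5 i6) (p j4 i5 i7) (p j4 i5 i4) (p j4 i5 i5))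
  (@T16.mk E (n j4 i6 i10) (n j4 i6 i11) (p j4 i6 i8) (p j4 i6 i9) (p j4 i6 i14) (p j4 i6 i15) (n j4 i6 i12) (n j4 i6 i13) (p j4 i6 i2) (p j4 i6 i3) (n j4 i6 i0) (n j4 i6 i1) (n j4 i6 i6) (n j4 i6 i7) (p j4 i6 i4) (p j4 i6 i5))
  (@T16.mk E (p j4 i7 i10) (p j4 i7 i11) (p j4 i7 i8) (p j4 i7 i9) (n j4 i7 i14) (n j4 i7 i15) (n j4 i7 i12) (n j4 i7 i13) (p j4 i7 i2) (p j4 i7 i3) (p j4 i7 i0) (p j4 i7 i1) (n j4 i7 i6) (n j4 i7 i7) (n j4 i7 i4) (n j4 i7 i5))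
  (@T16.mk E (p j4 i0 i10) (p j4 i0 i11) (n j4 i0 i8) (n j4 i0 i9) (p j4 i0 i14) (p j4 i0 i15) (n j4 i0 i12) (n j4 i0 i13) (n j4 i0 i2) (n j4 i0 i3) (p j4 i0 i0) (p j4 i0 i1) (n j4 i0 i6) (n j4 i0 i7) (p j4 i0 i4) (p j4 i0 i5))
  (@T16.mk E (n j4 i1 i10) (n j4 i1 i11) (n j4 i1 i8) (n j4 i1 i9) (n j4 i1 i14) (n j4 i1 i15) (n j4 i1 i12) (n j4 i1 i13) (n j4 i1 i2) (n j4 i1 i3) (n j4 i1 i0) (n j4 i1 i1) (n j4 i1 i6) (n j4 i1 i7) (n j4 i1 i4) (n j4 i1 i5))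
  (@T16.mk E (n j4 i2 i10) (n j4 i2 i11) (p j4 i2 i8) (p j4 i2 i9) (n j4 i2 i14) (n j4 i2 i15) (p j4 i2 i12) (p j4 i2 i13) (p j4 i2 i2) (p j4 i2 i3) (n j4 i2 i0) (n j4 i2 i1) (p j4 i2 i6) (p j4 i2 i7) (n j4 i2 i4) (n j4 i2 i5))
  (@T16.mk E (n j4 i3 i10) (n j4 i3 i11) (n j4 i3 i8) (n j4 i3 i9) (n j4 i3 i14) (n j4 i3 i15) (n j4 i3 i12) (n j4 i3 i13) (n j4 i3 i2) (n j4 i3 i3) (n j4 i3 i0) (n j4 i3 i1) (n j4 i3 i6) (n j4 i3 i7) (n j4 i3 i4) (n j4 i3 i5))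
  (@T16.mk E (n j4 i12 i10) (p j4 i12 i11) (n j4 i12 i8) (p j4 i12 i9) (n j4 i12 i14) (p j4 i12 i15) (n j4 i12 i12) (p j4 i12 i13) (p j4 i12 i2) (n j4 i12 i3) (p j4 i12 i0) (n j4 i12 i1) (p j4 i12 i6) (n j4 i12 i7) (p j4 i12 i4) (n j4 i12 i5))
  (@T16.mk E (n j4 i13 i10) (p j4 i13 i11) (p j4 i13 i8) (n j4 i13 i9) (n j4 i13 i14) (p j4 i13 i15) (p j4 i13 i12) (n j4 i13 i13) (n j4 i13 i2) (p j4 i13 i3) (p j4 i13 i0) (n j4 i13 i1) (n j4 i13 i6) (p j4 i13 i7) (p j4 i13 i4) (n j4 i13 i5))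
  (@T16.mk E (p j4 i14 i10) (n j4 i14 i11) (p j4 i14 i8) (n j4 i14 i9) (p j4 i14 i14) (n j4 i14 i15) (p j4 i14 i12) (n j4 i14 i13) (n j4 i14 i2) (p j4 i14 i3) (n j4 i14 i0) (p j4 i14 i1) (n j4 i14 i6) (p j4 i14 i7) (n j4 i14 i4) (p j4 i14 i5))
  (@T16.mk E (n j4 i15 i10) (p j4 i15 i11) (p j4 i15 i8) (n j4 i15 i9) (n j4 i15 i14) (p j4 i15 i15) (p j4 i15 i12) (n j4 i15 i13) (n j4 i15 i2) (p j4 i15 i3) (p j4 i15 i0) (n j4 i15 i1) (n j4 i15 i6) (p j4 i15 i7) (p j4 i15 i4) (n j4 i15 i5))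
  (@T16.mk E (p j4 i8 i10) (n j4 i8 i11) (p j4 i8 i8) (n j4 i8 i9) (n j4 i8 i14) (p j4 i8 i15) (n j4 i8 i12) (p j4 i8 i13) (n j4 i8 i2) (p j4 i8 i3) (n j4 i8 i0) (p j4 i8 i1) (p j4 i8 i6) (n j4 i8 i7) (p j4 i8 i4) (n j4 i8 i5))
  (@T16.mk E (p j4 i9 i10) (n j4 i9 i11) (n j4 i9 i8) (p j4 i9 i9) (n j4 i9 i14) (p j4 i9 i15) (p j4 i9 i12) (n j4 i9 i13) (p j4 i9 i2) (n j4 i9 i3) (n j4 i9 i0) (p j4 i9 i1) (n j4 i9 i6) (p j4 i9 i7) (p j4 i9 i4) (n j4 i9 i5))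
  (@T16.mk E (n j4 i10 i10) (p j4 i10 i11) (n j4 i10 i8) (p j4 i10 i9) (p j4 i10 i14) (n j4 i10 i15) (p j4 i10 i12) (n j4 i10 i13) (p j4 i10 i2) (n j4 i10 i3) (p j4 i10 i0) (n j4 i10 i1) (n j4 i10 i6) (p j4 i10 i7) (n j4 i10 i4) (p j4 i10 i5))
  (@T16.mk E (n j4 i11 i10) (p j4 i11 i11) (p j4 i11 i8) (n j4 i11 i9) (p j4 i11 i14) (n j4 i11 i15) (n j4 i11 i12) (p j4 i11 i13) (n j4 i11 i2) (p j4 i11 i3) (p j4 i11 i0) (n j4 i11 i1) (p j4 i11 i6) (n j4 i11 i7) (n j4 i11 i4) (p j4 i11 i5))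
 )
 (@T16.mk (T16 E)
  (@T16.mk E (n j7 i4 i10) (n j7 i4 i11) (n j7 i4 i8) (n j7 i4 i9) (n j7 i4 i14) (n j7 i4 i15) (n j7 i4 i12) (n j7 i4 i13) (n j7 i4 i2) (n j7 i4 i3) (n j7 i4 i0) (n j7 i4 i1) (n j7 i4 i6) (n j7 i4 i7) (n j7 i4 i4) (n j7 i4 i5))
  (@T16.mk E (p j7 i5 i10) (p j7 i5 i11) (n j7 i5 i8) (n j7 i5 i9) (p j7 i5 i14) (p j7 i5 i15) (n j7 i5 i12) (n j7 i5 i13) (n j7 i5 i2) (n j7 i5 i3) (p j7 i5 i0) (p j7 i5 i1) (n j7 i5 i6) (n j7 i5 i7) (p j7 i5 i4) (p j7 i5 i5))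
  (@T16.mk E (n j7 i6 i10) (n j7 i6 i11) (n j7 i6 i8) (n j7 i6 i9) (n j7 i6 i14) (n j7 i6 i15) (n j7 i6 i12) (n j7 i6 i13) (n j7 i6 i2) (n j7 i6 i3) (n j7 i6 i0) (n j7 i6 i1) (n j7 i6 i6) (n j7 i6 i7) (n j7 i6 i4) (n j7 i6 i5))
  (@T16.mk E (n j7 i7 i10) (n j7 i7 i11) (p j7 i7 i8) (p j7 i7 i9) (n j7 i7 i14) (n j7 i7 i15) (p j7 i7 i12) (p j7 i7 i13) (p j7 i7 i2) (p j7 i7 i3) (n j7 i7 i0) (n j7 i7 i1) (p j7 i7 i6) (p j7 i7 i7) (n j7 i7 i4) (n j7 i7 i5))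
  (@T16.mk E (n j7 i0 i10) (n j7 i0 i11) (n j7 i0 i8) (n j7 i0 i9) (p j7 i0 i14) (p j7 i0 i15) (p j7 i0 i12) (p j7 i0 i13) (n j7 i0 i2) (n j7 i0 i3) (n j7 i0 i0) (n j7 i0 i1) (p j7 i0 i6) (p j7 i0 i7) (p j7 i0 i4) (p j7 i0 i5))
  (@T16.mk E (p j7 i1 i10) (p j7 i1 i11) (n j7 i1 i8) (n j7 i1 i9) (n j7 i1 i14) (n j7 i1 i15) (p j7 i1 i12) (p j7 i1 i13) (n j7 i1 i2) (n j7 i1 i3) (p j7 i1 i0) (p j7 i1 i1) (p j7 i1 i6) (p j7 i1 i7) (n j7 i1 i4) (n j7 i1 i5))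
  (@T16.mk E (n j7 i2 i10) (n j7 i2 i11) (n j7 i2 i8) (n j7 i2 i9) (p j7 i2 i14) (p j7 i2 i15) (p j7 i2 i12) (p j7 i2 i13) (n j7 i2 i2) (n j7 i2 i3) (n j7 i2 i0) (n j7 i2 i1) (p j7 i2 i6) (p j7 i2 i7) (p j7 i2 i4) (p j7 i2 i5))
  (@T16.mk E (p j7 i3 i10) (p j7 i3 i11) (n j7 i3 i8) (n j7 i3 i9) (n j7 i3 i14) (n j7 i3 i15) (p j7 i3 i12) (p j7 i3 i13) (n j7 i3 i2) (n j7 i3 i3) (p j7 i3 i0) (p j7 i3 i1) (p j7 i3 i6) (p j7 i3 i7) (n j7 i3 i4) (n j7 i3 i5))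
  (@T16.mk E (p j7 i12 i10) (n j7 i12 i11) (n j7 i12 i8) (p j7 i12 i9) (n j7 i12 i14) (p j7 i12 i15) (p j7 i12 i12) (n j7 i12 i13) (p j7 i12 i2) (n j7 i12 i3) (n j7 i12 i0) (p j7 i12 i1) (n j7 i12 i6) (p j7 i12 i7) (p j7 i12 i4) (n j7 i12 i5))
  (@T16.mk E (p j7 i13 i10) (n j7 i13 i11) (p j7 i13 i8) (n j7 i13 i9) (n j7 i13 i14) (p j7 i13 i15) (n j7 i13 i12) (p j7 i13 i13) (n j7 i13 i2) (p j7 i13 i3) (n j7 i13 i0) (p j7 i13 i1) (p j7 i13 i6) (n j7 i13 i7) (p j7 i13 i4) (n j7 i13 i5))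
  (@T16.mk E (n j7 i14 i10) (p j7 i14 i11) (p j7 i14 i8) (n j7 i14 i9) (p j7 i14 i14) (n j7 i14 i15) (n j7 i14 i12) (p j7 i14 i13) (n j7 i14 i2) (p j7 i14 i3) (p j7 i14 i0) (n j7 i14 i1) (p j7 i14 i6) (n j7 i14 i7) (n j7 i14 i4) (p j7 i14 i5))
  (@T16.mk E (n j7 i15 i10) (p j7 i15 i11) (n j7 i15 i8) (p j7 i15 i9) (p j7 i15 i14) (n j7 i15 i15) (p j7 i15 i12) (n j7 i15 i13) (p j7 i15 i2) (n j7 i15 i3) (p j7 i15 i0) (n j7 i15 i1) (n j7 i15 i6) (p j7 i15 i7) (n j7 i15 i4) (p j7 i15 i5))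
  (@T16.mk E (n j7 i8 i10) (p j7 i8 i11) (p j7 i8 i8) (n j7 i8 i9) (n j7 i8 i14) (p j7 i8 i15) (p j7 i8 i12) (n j7 i8 i13) (n j7 i8 i2) (p j7 i8 i3) (p j7 i8 i0) (n j7 i8 i1) (n j7 i8 i6) (p j7 i8 i7) (p j7 i8 i4) (n j7 i8 i5))
  (@T16.mk E (n j7 i9 i10) (p j7 i9 i11) (n j7 i9 i8) (p j7 i9 i9) (n j7 i9 i14) (p j7 i9 i15) (n j7 i9 i12) (p j7 i9 i13) (p j7 i9 i2) (n j7 i9 i3) (p j7 i9 i0) (n j7 i9 i1) (p j7 i9 i6) (n j7 i9 i7) (p j7 i9 i4) (n j7 i9 i5))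
  (@T16.mk E (p j7 i10 i10) (n j7 i10 i11) (n j7 i10 i8) (p j7 i10 i9) (p j7 i10 i14) (n j7 i10 i15) (n j7 i10 i12) (p j7 i10 i13) (p j7 i10 i2) (n j7 i10 i3) (n j7 i10 i0) (p j7 i10 i1) (p j7 i10 i6) (n j7 i10 i7) (n j7 i10 i4) (p j7 i10 i5))
  (@T16.mk E (n j7 i11 i10) (p j7 i11 i11) (n j7 i11 i8) (p j7 i11 i9) (n j7 i11 i14) (p j7 i11 i15) (n j7 i11 i12) (p j7 i11 i13) (p j7 i11 i2) (n j7 i11 i3) (p j7 i11 i0) (n j7 i11 i1) (p j7 i11 i6) (n j7 i11 i7) (p j7 i11 i4) (n j7 i11 i5))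
 )
 (@T16.mk (T16 E)
  (@T16.mk E (n j6 i4 i10) (n j6 i4 i11) (n j6 i4 i8) (n j6 i4 i9) (p j6 i4 i14) (p j6 i4 i15) (p j6 i4 i12) (p j6 i4 i13) (n j6 i4 i2) (n j6 i4 i3) (n j6 i4 i0) (n j6 i4 i1) (p j6 i4 i6) (p j6 i4 i7) (p j6 i4 i4) (p j6 i4 i5))
  (@T16.mk E (p j6 i5 i10) (p j6 i5 i11) (n j6 i5 i8) (n j6 i5 i9) (n j6 i5 i14) (n j6 i5 i15) (p j6 i5 i12) (p j6 i5 i13) (n j6 i5 i2) (n j6 i5 i3) (p j6 i5 i0) (p j6 i5 i1) (p j6 i5 i6) (p j6 i5 i7) (n j6 i5 i4) (n j6 i5 i5))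
  (@T16.mk E (n j6 i6 i10) (n j6 i6 i11) (n j6 i6 i8) (n j6 i6 i9) (p j6 i6 i14) (p j6 i6 i15) (p j6 i6 i12) (p j6 i6 i13) (n j6 i6 i2) (n j6 i6 i3) (n j6 i6 i0) (n j6 i6 i1) (p j6 i6 i6) (p j6 i6 i7) (p j6 i6 i4) (p j6 i6 i5))
  (@T16.mk E (p j6 i7 i10) (p j6 i7 i11) (n j6 i7 i8) (n j6 i7 i9) (n j6 i7 i14) (n j6 i7 i15) (p j6 i7 i12) (p j6 i7 i13) (n j6 i7 i2) (n j6 i7 i3) (p j6 i7 i0) (p j6 i7 i1) (p j6 i7 i6) (p j6 i7 i7) (n j6 i7 i4) (n j6 i7 i5))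
  (@T16.mk E (n j6 i0 i10) (n j6 i0 i11) (n j6 i0 i8) (n j6 i0 i9) (n j6 i0 i14) (n j6 i0 i15) (n j6 i0 i12) (n j6 i0 i13) (n j6 i0 i2) (n j6 i0 i3) (n j6 i0 i0) (n j6 i0 i1) (n j6 i0 i6) (n j6 i0 i7) (n j6 i0 i4) (n j6 i0 i5))
  (@T16.mk E (p j6 i1 i10) (p j6 i1 i11) (n j6 i1 i8) (n j6 i1 i9) (p j6 i1 i14) (p j6 i1 i15) (n j6 i1 i12) (n j6 i1 i13) (n j6 i1 i2) (n j6 i1 i3) (p j6 i1 i0) (p j6 i1 i1) (n j6 i1 i6) (n j6 i1 i7) (p j6 i1 i4) (p j6 i1 i5))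
  (@T16.mk E (n j6 i2 i10) (n j6 i2 i11) (n j6 i2 i8) (n j6 i2 i9) (n j6 i2 i14) (n j6 i2 i15) (n j6 i2 i12) (n j6 i2 i13) (n j6 i2 i2) (n j6 i2 i3) (n j6 i2 i0) (n j6 i2 i1) (n j6 i2 i6) (n j6 i2 i7) (n j6 i2 i4) (n j6 i2 i5))
  (@T16.mk E (n j6 i3 i10) (n j6 i3 i11) (p j6 i3 i8) (p j6 i3 i9) (n j6 i3 i14) (n j6 i3 i15) (p j6 i3 i12) (p j6 i3 i13) (p j6 i3 i2) (p j6 i3 i3) (n j6 i3 i0) (n j6 i3 i1) (p j6 i3 i6) (p j6 i3 i7) (n j6 i3 i4) (n j6 i3 i5))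
  (@T16.mk E (p j6 i12 i10) (n j6 i12 i11) (n j6 i12 i8) (p j6 i12 i9) (p j6 i12 i14) (n j6 i12 i15) (n j6 i12 i12) (p j6 i12 i13) (p j6 i12 i2) (n j6 i12 i3) (n j6 i12 i0) (p j6 i12 i1) (p j6 i12 i6) (n j6 i12 i7) (n j6 i12 i4) (p j6 i12 i5))
  (@T16.mk E (p j6 i13 i10) (n j6 i13 i11) (p j6 i13 i8) (n j6 i13 i9) (p j6 i13 i14) (n j6 i13 i15) (p j6 i13 i12) (n j6 i13 i13) (n j6 i13 i2) (p j6 i13 i3) (n j6 i13 i0) (p j6 i13 i1) (n j6 i13 i6) (p j6 i13 i7) (n j6 i13 i4) (p j6 i13 i5))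
  (@T16.mk E (n j6 i14 i10) (p j6 i14 i11) (p j6 i14 i8) (n j6 i14 i9) (n j6 i14 i14) (p j6 i14 i15) (p j6 i14 i12) (n j6 i14 i13) (n j6 i14 i2) (p j6 i14 i3) (p j6 i14 i0) (n j6 i14 i1) (n j6 i14 i6) (p j6 i14 i7) (p j6 i14 i4) (n j6 i14 i5))
  (@T16.mk E (p j6 i15 i10) (n j6 i15 i11) (p j6 i15 i8) (n j6 i15 i9) (p j6 i15 i14) (n j6 i15 i15) (p j6 i15 i12) (n j6 i15 i13) (n j6 i15 i2) (p j6 i15 i3) (n j6 i15 i0) (p j6 i15 i1) (n j6 i15 i6) (p j6 i15 i7) (n j6 i15 i4) (p j6 i15 i5))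
  (@T16.mk E (n j6 i8 i10) (p j6 i8 i11) (p j6 i8 i8) (n j6 i8 i9) (p j6 i8 i14) (n j6 i8 i15) (n j6 i8 i12) (p j6 i8 i13) (n j6 i8 i2) (p j6 i8 i3) (p j6 i8 i0) (n j6 i8 i1) (p j6 i8 i6) (n j6 i8 i7) (n j6 i8 i4) (p j6 i8 i5))
  (@T16.mk E (n j6 i9 i10) (p j6 i9 i11) (n j6 i9 i8) (p j6 i9 i9) (p j6 i9 i14) (n j6 i9 i15) (p j6 i9 i12) (n j6 i9 i13) (p j6 i9 i2) (n j6 i9 i3) (p j6 i9 i0) (n j6 i9 i1) (n j6 i9 i6) (p j6 i9 i7) (n j6 i9 i4) (p j6 i9 i5))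
  (@T16.mk E (p j6 i10 i10) (n j6 i10 i11) (n j6 i10 i8) (p j6 i10 i9) (n j6 i10 i14) (p j6 i10 i15) (p j6 i10 i12) (n j6 i10 i13) (p j6 i10 i2) (n j6 i10 i3) (n j6 i10 i0) (p j6 i10 i1) (n j6 i10 i6) (p j6 i10 i7) (p j6 i10 i4) (n j6 i10 i5))
  (@T16.mk E (p j6 i11 i10) (n j6 i11 i11) (p j6 i11 i8) (n j6 i11 i9) (n j6 i11 i14) (p j6 i11 i15) (n j6 i11 i12) (p j6 i11 i13) (n j6 i11 i2) (p j6 i11 i3) (n j6 i11 i0) (p j6 i11 i1) (p j6 i11 i6) (n j6 i11 i7) (p j6 i11 i4) (n j6 i11 i5))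
 )
 (@T16.mk (T16 E)
  (@T16.mk E (p j8 i0 i12) (p j8 i0 i13) (p j8 i0 i14) (p j8 i0 i15) (p j8 i0 i8) (p j8 i0 i9) (p j8 i0 i10) (p j8 i0 i11) (p j8 i0 i4) (p j8 i0 i5) (p j8 i0 i6) (p j8 i0 i7) (p j8 i0 i0) (p j8 i0 i1) (p j8 i0 i2) (p j8 i0 i3))
  (@T16.mk E (n j8 i1 i6) (n j8 i1 i7) (n j8 i1 i4) (n j8 i1 i5) (n j8 i1 i2) (n j8 i1 i3) (n j8 i1 i0) (n j8 i1 i1) (n j8 i1 i14) (n j8 i1 i15) (n j8 i1 i12) (n j8 i1 i13) (n j8 i1 i10) (n j8 i1 i11) (n j8 i1 i8) (n j8 i1 i9))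
  (@T16.mk E (p j8 i2 i0) (p j8 i2 i1) (p j8 i2 i2) (p j8 i2 i3) (p j8 i2 i4) (p j8 i2 i5) (p j8 i2 i6) (p j8 i2 i7) (p j8 i2 i8) (p j8 i2 i9) (p j8 i2 i10) (p j8 i2 i11) (p j8 i2 i12) (p j8 i2 i13) (p j8 i2 i14) (p j8 i2 i15))
  (@T16.mk E (n j8 i3 i9) (n j8 i3 i8) (n j8 i3 i11) (n j8 i3 i10) (n j8 i3 i13) (n j8 i3 i12) (n j8 i3 i15) (n j8 i3 i14) (n j8 i3 i1) (n j8 i3 i0) (n j8 i3 i3) (n j8 i3 i2) (n j8 i3 i5) (n j8 i3 i4) (n j8 i3 i7) (n j8 i3 i6))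
  (@T16.mk E (n j8 i4 i13) (n j8 i4 i12) (n j8 i4 i15) (n j8 i4 i14) (n j8 i4 i9) (n j8 i4 i8) (n j8 i4 i11) (n j8 i4 i10) (n j8 i4 i5) (n j8 i4 i4) (n j8 i4 i7) (n j8 i4 i6) (n j8 i4 i1) (n j8 i4 i0) (n j8 i4 i3) (n j8 i4 i2))
  (@T16.mk E (n j8 i5 i4) (n j8 i5 i5) (n j8 i5 i6) (n j8 i5 i7) (n j8 i5 i0) (n j8 i5 i1) (n j8 i5 i2) (n j8 i5 i3) (n j8 i5 i12) (n j8 i5 i13) (n j8 i5 i14) (n j8 i5 i15) (n j8 i5 i8) (n j8 i5 i9) (n j8 i5 i10) (n j8 i5 i11))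
  (@T16.mk E (n j8 i6 i14) (n j8 i6 i15) (n j8 i6 i12) (n j8 i6 i13) (n j8 i6 i10) (n j8 i6 i11) (n j8 i6 i8) (n j8 i6 i9) (n j8 i6 i6) (n j8 i6 i7) (n j8 i6 i4) (n j8 i6 i5) (n j8 i6 i2) (n j8 i6 i3) (n j8 i6 i0) (n j8 i6 i1))
  (@T16.mk E (n j8 i7 i1) (n j8 i7 i0) (n j8 i7 i3) (n j8 i7 i2) (n j8 i7 i5) (n j8 i7 i4) (n j8 i7 i7) (n j8 i7 i6) (n j8 i7 i9) (n j8 i7 i8) (n j8 i7 i11) (n j8 i7 i10) (n j8 i7 i13) (n j8 i7 i12) (n j8 i7 i15) (n j8 i7 i14))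
  (@T16.mk E (n j8 i8 i4) (n j8 i8 i5) (n j8 i8 i6) (n j8 i8 i7) (n j8 i8 i0) (n j8 i8 i1) (n j8 i8 i2) (n j8 i8 i3) (n j8 i8 i12) (n j8 i8 i13) (n j8 i8 i14) (n j8 i8 i15) (n j8 i8 i8) (n j8 i8 i9) (n j8 i8 i10) (n j8 i8 i11))
  (@T16.mk E (p j8 i9 i7) (p j8 i9 i6) (p j8 i9 i5) (p j8 i9 i4) (p j8 i9 i3) (p j8 i9 i2) (p j8 i9 i1) (p j8 i9 i0) (p j8 i9 i15) (p j8 i9 i14) (p j8 i9 i13) (p j8 i9 i12) (p j8 i9 i11) (p j8 i9 i10) (p j8 i9 i9) (p j8 i9 i8))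
  (@T16.mk E (n j8 i10 i9) (n j8 i10 i8) (n j8 i10 i11) (n j8 i10 i10) (n j8 i10 i13) (n j8 i10 i12) (n j8 i10 i15) (n j8 i10 i14) (n j8 i10 i1) (n j8 i10 i0) (n j8 i10 i3) (n j8 i10 i2) (n j8 i10 i5) (n j8 i10 i4) (n j8 i10 i7) (n j8 i10 i6))
  (@T16.mk E (n j8 i11 i11) (n j8 i11 i10) (n j8 i11 i9) (n j8 i11 i8) (n j8 i11 i15) (n j8 i11 i14) (n j8 i11 i13) (n j8 i11 i12) (n j8 i11 i3) (n j8 i11 i2) (n j8 i11 i1) (n j8 i11 i0) (n j8 i11 i7) (n j8 i11 i6) (n j8 i11 i5) (n j8 i11 i4))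
  (@T16.mk E (n j8 i12 i1) (n j8 i12 i0) (n j8 i12 i3) (n j8 i12 i2) (n j8 i12 i5) (n j8 i12 i4) (n j8 i12 i7) (n j8 i12 i6) (n j8 i12 i9) (n j8 i12 i8) (n j8 i12 i11) (n j8 i12 i10) (n j8 i12 i13) (n j8 i12 i12) (n j8 i12 i15) (n j8 i12 i14))
  (@T16.mk E (n j8 i13 i12) (n j8 i13 i13) (n j8 i13 i14) (n j8 i13 i15) (n j8 i13 i8) (n j8 i13 i9) (n j8 i13 i10) (n j8 i13 i11) (n j8 i13 i4) (n j8 i13 i5) (n j8 i13 i6) (n j8 i13 i7) (n j8 i13 i0) (n j8 i13 i1) (n j8 i13 i2) (n j8 i13 i3))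
  (@T16.mk E (n j8 i14 i3) (n j8 i14 i2) (n j8 i14 i1) (n j8 i14 i0) (n j8 i14 i7) (n j8 i14 i6) (n j8 i14 i5) (n j8 i14 i4) (n j8 i14 i11) (n j8 i14 i10) (n j8 i14 i9) (n j8 i14 i8) (n j8 i14 i15) (n j8 i14 i14) (n j8 i14 i13) (n j8 i14 i12))
  (@T16.mk E (n j8 i15 i8) (n j8 i15 i9) (n j8 i15 i10) (n j8 i15 i11) (n j8 i15 i12) (n j8 i15 i13) (n j8 i15 i14) (n j8 i15 i15) (n j8 i15 i0) (n j8 i15 i1) (n j8 i15 i2) (n j8 i15 i3) (n j8 i15 i4) (n j8 i15 i5) (n j8 i15 i6) (n j8 i15 i7))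
 )
 (@T16.mk (T16 E)
  (@T16.mk E (p j9 i0 i2) (p j9 i0 i3) (p j9 i0 i0) (p j9 i0 i1) (p j9 i0 i6) (p j9 i0 i7) (p j9 i0 i4) (p j9 i0 i5) (p j9 i0 i10) (p j9 i0 i11) (p j9 i0 i8) (p j9 i0 i9) (p j9 i0 i14) (p j9 i0 i15) (p j9 i0 i12) (p j9 i0 i13))
  (@T16.mk E (p j9 i1 i8) (p j9 i1 i9) (p j9 i1 i10) (p j9 i1 i11) (p j9 i1 i12) (p j9 i1 i13) (p j9 i1 i14) (p j9 i1 i15) (p j9 i1 i0) (p j9 i1 i1) (p j9 i1 i2) (p j9 i1 i3) (p j9 i1 i4) (p j9 i1 i5) (p j9 i1 i6) (p j9 i1 i7))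
  (@T16.mk E (n j9 i2 i3) (n j9 i2 i2) (n j9 i2 i1) (n j9 i2 i0) (n j9 i2 i7) (n j9 i2 i6) (n j9 i2 i5) (n j9 i2 i4) (n j9 i2 i11) (n j9 i2 i10) (n j9 i2 i9) (n j9 i2 i8) (n j9 i2 i15) (n j9 i2 i14) (n j9 i2 i13) (n j9 i2 i12))
  (@T16.mk E (n j9 i3 i8) (n j9 i3 i9) (n j9 i3 i10) (n j9 i3 i11) (n j9 i3 i12) (n j9 i3 i13) (n j9 i3 i14) (n j9 i3 i15) (n j9 i3 i0) (n j9 i3 i1) (n j9 i3 i2) (n j9 i3 i3) (n j9 i3 i4) (n j9 i3 i5) (n j9 i3 i6) (n j9 i3 i7))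
  (@T16.mk E (n j9 i4 i5) (n j9 i4 i4) (n j9 i4 i7) (n j9 i4 i6) (n j9 i4 i1) (n j9 i4 i0) (n j9 i4 i3) (n j9 i4 i2) (n j9 i4 i13) (n j9 i4 i12) (n j9 i4 i15) (n j9 i4 i14) (n j9 i4 i9) (n j9 i4 i8) (n j9 i4 i11) (n j9 i4 i10))
  (@T16.mk E (p j9 i5 i7) (p j9 i5 i6) (p j9 i5 i5) (p j9 i5 i4) (p j9 i5 i3) (p j9 i5 i2) (p j9 i5 i1) (p j9 i5 i0) (p j9 i5 i15) (p j9 i5 i14) (p j9 i5 i13) (p j9 i5 i12) (p j9 i5 i11) (p j9 i5 i10) (p j9 i5 i9) (p j9 i5 i8))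
  (@T16.mk E (p j9 i6 i10) (p j9 i6 i11) (p j9 i6 i8) (p j9 i6 i9) (p j9 i6 i14) (p j9 i6 i15) (p j9 i6 i12) (p j9 i6 i13) (p j9 i6 i2) (p j9 i6 i3) (p j9 i6 i0) (p j9 i6 i1) (p j9 i6 i6) (p j9 i6 i7) (p j9 i6 i4) (p j9 i6 i5))
  (@T16.mk E (p j9 i7 i13) (p j9 i7 i12) (p j9 i7 i15) (p j9 i7 i14) (p j9 i7 i9) (p j9 i7 i8) (p j9 i7 i11) (p j9 i7 i10) (p j9 i7 i5) (p j9 i7 i4) (p j9 i7 i7) (p j9 i7 i6) (p j9 i7 i1) (p j9 i7 i0) (p j9 i7 i3) (p j9 i7 i2))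
  (@T16.mk E (n j9 i8 i7) (n j9 i8 i6) (n j9 i8 i5) (n j9 i8 i4) (n j9 i8 i3) (n j9 i8 i2) (n j9 i8 i1) (n j9 i8 i0) (n j9 i8 i15) (n j9 i8 i14) (n j9 i8 i13) (n j9 i8 i12) (n j9 i8 i11) (n j9 i8 i10) (n j9 i8 i9) (n j9 i8 i8))
  (@T16.mk E (n j9 i9 i13) (n j9 i9 i12) (n j9 i9 i15) (n j9 i9 i14) (n j9 i9 i9) (n j9 i9 i8) (n j9 i9 i11) (n j9 i9 i10) (n j9 i9 i5) (n j9 i9 i4) (n j9 i9 i7) (n j9 i9 i6) (n j9 i9 i1) (n j9 i9 i0) (n j9 i9 i3) (n j9 i9 i2))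
  (@T16.mk E (p j9 i10 i8) (p j9 i10 i9) (p j9 i10 i10) (p j9 i10 i11) (p j9 i10 i12) (p j9 i10 i13) (p j9 i10 i14) (p j9 i10 i15) (p j9 i10 i0) (p j9 i10 i1) (p j9 i10 i2) (p j9 i10 i3) (p j9 i10 i4) (p j9 i10 i5) (p j9 i10 i6) (p j9 i10 i7))
  (@T16.mk E (n j9 i11 i1) (n j9 i11 i0) (n j9 i11 i3) (n j9 i11 i2) (n j9 i11 i5) (n j9 i11 i4) (n j9 i11 i7) (n j9 i11 i6) (n j9 i11 i9) (n j9 i11 i8) (n j9 i11 i11) (n j9 i11 i10) (n j9 i11 i13) (n j9 i11 i12) (n j9 i11 i15) (n j9 i11 i14))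
  (@T16.mk E (p j9 i12 i0) (p j9 i12 i1) (p j9 i12 i2) (p j9 i12 i3) (p j9 i12 i4) (p j9 i12 i5) (p j9 i12 i6) (p j9 i12 i7) (p j9 i12 i8) (p j9 i12 i9) (p j9 i12 i10) (p j9 i12 i11) (p j9 i12 i12) (p j9 i12 i13) (p j9 i12 i14) (p j9 i12 i15))
  (@T16.mk E (n j9 i13 i5) (n j9 i13 i4) (n j9 i13 i7) (n j9 i13 i6) (n j9 i13 i1) (n j9 i13 i0) (n j9 i13 i3) (n j9 i13 i2) (n j9 i13 i13) (n j9 i13 i12) (n j9 i13 i15) (n j9 i13 i14) (n j9 i13 i9) (n j9 i13 i8) (n j9 i13 i11) (n j9 i13 i10))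
  (@T16.mk E (n j9 i14 i5) (n j9 i14 i4) (n j9 i14 i7) (n j9 i14 i6) (n j9 i14 i1) (n j9 i14 i0) (n j9 i14 i3) (n j9 i14 i2) (n j9 i14 i13) (n j9 i14 i12) (n j9 i14 i15) (n j9 i14 i14) (n j9 i14 i9) (n j9 i14 i8) (n j9 i14 i11) (n j9 i14 i10))
  (@T16.mk E (n j9 i15 i4) (n j9 i15 i5) (n j9 i15 i6) (n j9 i15 i7) (n j9 i15 i0) (n j9 i15 i1) (n j9 i15 i2) (n j9 i15 i3) (n j9 i15 i12) (n j9 i15 i13) (n j9 i15 i14) (n j9 i15 i15) (n j9 i15 i8) (n j9 i15 i9) (n j9 i15 i10) (n j9 i15 i11))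
 )
 (@T16.mk (T16 E)
  (@T16.mk E (n j10 i0 i13) (n j10 i0 i12) (n j10 i0 i15) (n j10 i0 i14) (n j10 i0 i9) (n j10 i0 i8) (n j10 i0 i11) (n j10 i0 i10) (n j10 i0 i5) (n j10 i0 i4) (n j10 i0 i7) (n j10 i0 i6) (n j10 i0 i1) (n j10 i0 i0) (n j10 i0 i3) (n j10 i0 i2))
  (@T16.mk E (n j10 i1 i14) (n j10 i1 i15) (n j10 i1 i12) (n j10 i1 i13) (n j10 i1 i10) (n j10 i1 i11) (n j10 i1 i8) (n j10 i1 i9) (n j10 i1 i6) (n j10 i1 i7) (n j10 i1 i4) (n j10 i1 i5) (n j10 i1 i2) (n j10 i1 i3) (n j10 i1 i0) (n j10 i1 i1))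
  (@T16.mk E (n j10 i2 i6) (n j10 i2 i7) (n j10 i2 i4) (n j10 i2 i5) (n j10 i2 i2) (n j10 i2 i3) (n j10 i2 i0) (n j10 i2 i1) (n j10 i2 i14) (n j10 i2 i15) (n j10 i2 i12) (n j10 i2 i13) (n j10 i2 i10) (n j10 i2 i11) (n j10 i2 i8) (n j10 i2 i9))
  (@T16.mk E (n j10 i3 i3) (n j10 i3 i2) (n j10 i3 i1) (n j10 i3 i0) (n j10 i3 i7) (n j10 i3 i6) (n j10 i3 i5) (n j10 i3 i4) (n j10 i3 i11) (n j10 i3 i10) (n j10 i3 i9) (n j10 i3 i8) (n j10 i3 i15) (n j10 i3 i14) (n j10 i3 i13) (n j10 i3 i12))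
  (@T16.mk E (n j10 i4 i5) (n j10 i4 i4) (n j10 i4 i7) (n j10 i4 i6) (n j10 i4 i1) (n j10 i4 i0) (n j10 i4 i3) (n j10 i4 i2) (n j10 i4 i13) (n j10 i4 i12) (n j10 i4 i15) (n j10 i4 i14) (n j10 i4 i9) (n j10 i4 i8) (n j10 i4 i11) (n j10 i4 i10))
  (@T16.mk E (n j10 i5 i9) (n j10 i5 i8) (n j10 i5 i11) (n j10 i5 i10) (n j10 i5 i13) (n j10 i5 i12) (n j10 i5 i15) (n j10 i5 i14) (n j10 i5 i1) (n j10 i5 i0) (n j10 i5 i3) (n j10 i5 i2) (n j10 i5 i5) (n j10 i5 i4) (n j10 i5 i7) (n j10 i5 i6))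
  (@T16.mk E (n j10 i6 i14) (n j10 i6 i15) (n j10 i6 i12) (n j10 i6 i13) (n j10 i6 i10) (n j10 i6 i11) (n j10 i6 i8) (n j10 i6 i9) (n j10 i6 i6) (n j10 i6 i7) (n j10 i6 i4) (n j10 i6 i5) (n j10 i6 i2) (n j10 i6 i3) (n j10 i6 i0) (n j10 i6 i1))
  (@T16.mk E (n j10 i7 i2) (n j10 i7 i3) (n j10 i7 i0) (n j10 i7 i1) (n j10 i7 i6) (n j10 i7 i7) (n j10 i7 i4) (n j10 i7 i5) (n j10 i7 i10) (n j10 i7 i11) (n j10 i7 i8) (n j10 i7 i9) (n j10 i7 i14) (n j10 i7 i15) (n j10 i7 i12) (n j10 i7 i13))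
  (@T16.mk E (p j10 i8 i0) (p j10 i8 i1) (p j10 i8 i2) (p j10 i8 i3) (p j10 i8 i4) (p j10 i8 i5) (p j10 i8 i6) (p j10 i8 i7) (p j10 i8 i8) (p j10 i8 i9) (p j10 i8 i10) (p j10 i8 i11) (p j10 i8 i12) (p j10 i8 i13) (p j10 i8 i14) (p j10 i8 i15))
  (@T16.mk E (n j10 i9 i3) (n j10 i9 i2) (n j10 i9 i1) (n j10 i9 i0) (n j10 i9 i7) (n j10 i9 i6) (n j10 i9 i5) (n j10 i9 i4) (n j10 i9 i11) (n j10 i9 i10) (n j10 i9 i9) (n j10 i9 i8) (n j10 i9 i15) (n j10 i9 i14) (n j10 i9 i13) (n j10 i9 i12))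
  (@T16.mk E (n j10 i10 i14) (n j10 i10 i15) (n j10 i10 i12) (n j10 i10 i13) (n j10 i10 i10) (n j10 i10 i11) (n j10 i10 i8) (n j10 i10 i9) (n j10 i10 i6) (n j10 i10 i7) (n j10 i10 i4) (n j10 i10 i5) (n j10 i10 i2) (n j10 i10 i3) (n j10 i10 i0) (n j10 i10 i1))
  (@T16.mk E (p j10 i11 i13) (p j10 i11 i12) (p j10 i11 i15) (p j10 i11 i14) (p j10 i11 i9) (p j10 i11 i8) (p j10 i11 i11) (p j10 i11 i10) (p j10 i11 i5) (p j10 i11 i4) (p j10 i11 i7) (p j10 i11 i6) (p j10 i11 i1) (p j10 i11 i0) (p j10 i11 i3) (p j10 i11 i2))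
  (@T16.mk E (p j10 i12 i10) (p j10 i12 i11) (p j10 i12 i8) (p j10 i12 i9) (p j10 i12 i14) (p j10 i12 i15) (p j10 i12 i12) (p j10 i12 i13) (p j10 i12 i2) (p j10 i12 i3) (p j10 i12 i0) (p j10 i12 i1) (p j10 i12 i6) (p j10 i12 i7) (p j10 i12 i4) (p j10 i12 i5))
  (@T16.mk E (n j10 i13 i3) (n j10 i13 i2) (n j10 i13 i1) (n j10 i13 i0) (n j10 i13 i7) (n j10 i13 i6) (n j10 i13 i5) (n j10 i13 i4) (n j10 i13 i11) (n j10 i13 i10) (n j10 i13 i9) (n j10 i13 i8) (n j10 i13 i15) (n j10 i13 i14) (n j10 i13 i13) (n j10 i13 i12))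
  (@T16.mk E (n j10 i14 i10) (n j10 i14 i11) (n j10 i14 i8) (n j10 i14 i9) (n j10 i14 i14) (n j10 i14 i15) (n j10 i14 i12) (n j10 i14 i13) (n j10 i14 i2) (n j10 i14 i3) (n j10 i14 i0) (n j10 i14 i1) (n j10 i14 i6) (n j10 i14 i7) (n j10 i14 i4) (n j10 i14 i5))
  (@T16.mk E (n j10 i15 i1) (n j10 i15 i0) (n j10 i15 i3) (n j10 i15 i2) (n j10 i15 i5) (n j10 i15 i4) (n j10 i15 i7) (n j10 i15 i6) (n j10 i15 i9) (n j10 i15 i8) (n j10 i15 i11) (n j10 i15 i10) (n j10 i15 i13) (n j10 i15 i12) (n j10 i15 i15) (n j10 i15 i14))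
 )
 (@T16.mk (T16 E)
  (@T16.mk E (p j11 i0 i6) (p j11 i0 i7) (p j11 i0 i4) (p j11 i0 i5) (p j11 i0 i2) (p j11 i0 i3) (p j11 i0 i0) (p j11 i0 i1) (p j11 i0 i14) (p j11 i0 i15) (p j11 i0 i12) (p j11 i0 i13) (p j11 i0 i10) (p j11 i0 i11) (p j11 i0 i8) (p j11 i0 i9))
  (@T16.mk E (n j11 i1 i14) (n j11 i1 i15) (n j11 i1 i12) (n j11 i1 i13) (n j11 i1 i10) (n j11 i1 i11) (n j11 i1 i8) (n j11 i1 i9) (n j11 i1 i6) (n j11 i1 i7) (n j11 i1 i4) (n j11 i1 i5) (n j11 i1 i2) (n j11 i1 i3) (n j11 i1 i0) (n j11 i1 i1))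
  (@T16.mk E (n j11 i2 i10) (n j11 i2 i11) (n j11 i2 i8) (n j11 i2 i9) (n j11 i2 i14) (n j11 i2 i15) (n j11 i2 i12) (n j11 i2 i13) (n j11 i2 i2) (n j11 i2 i3) (n j11 i2 i0) (n j11 i2 i1) (n j11 i2 i6) (n j11 i2 i7) (n j11 i2 i4) (n j11 i2 i5))
  (@T16.mk E (p j11 i3 i11) (p j11 i3 i10) (p j11 i3 i9) (p j11 i3 i8) (p j11 i3 i15) (p j11 i3 i14) (p j11 i3 i13) (p j11 i3 i12) (p j11 i3 i3) (p j11 i3 i2) (p j11 i3 i1) (p j11 i3 i0) (p j11 i3 i7) (p j11 i3 i6) (p j11 i3 i5) (p j11 i3 i4))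
  (@T16.mk E (n j11 i4 i8) (n j11 i4 i9) (n j11 i4 i10) (n j11 i4 i11) (n j11 i4 i12) (n j11 i4 i13) (n j11 i4 i14) (n j11 i4 i15) (n j11 i4 i0) (n j11 i4 i1) (n j11 i4 i2) (n j11 i4 i3) (n j11 i4 i4) (n j11 i4 i5) (n j11 i4 i6) (n j11 i4 i7))
  (@T16.mk E (p j11 i5 i0) (p j11 i5 i1) (p j11 i5 i2) (p j11 i5 i3) (p j11 i5 i4) (p j11 i5 i5) (p j11 i5 i6) (p j11 i5 i7) (p j11 i5 i8) (p j11 i5 i9) (p j11 i5 i10) (p j11 i5 i11) (p j11 i5 i12) (p j11 i5 i13) (p j11 i5 i14) (p j11 i5 i15))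
  (@T16.mk E (n j11 i6 i2) (n j11 i6 i3) (n j11 i6 i0) (n j11 i6 i1) (n j11 i6 i6) (n j11 i6 i7) (n j11 i6 i4) (n j11 i6 i5) (n j11 i6 i10) (n j11 i6 i11) (n j11 i6 i8) (n j11 i6 i9) (n j11 i6 i14) (n j11 i6 i15) (n j11 i6 i12) (n j11 i6 i13))
  (@T16.mk E (n j11 i7 i11) (n j11 i7 i10) (n j11 i7 i9) (n j11 i7 i8) (n j11 i7 i15) (n j11 i7 i14) (n j11 i7 i13) (n j11 i7 i12) (n j11 i7 i3) (n j11 i7 i2) (n j11 i7 i1) (n j11 i7 i0) (n j11 i7 i7) (n j11 i7 i6) (n j11 i7 i5) (n j11 i7 i4))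
  (@T16.mk E (n j11 i8 i8) (n j11 i8 i9) (n j11 i8 i10) (n j11 i8 i11) (n j11 i8 i12) (n j11 i8 i13) (n j11 i8 i14) (n j11 i8 i15) (n j11 i8 i0) (n j11 i8 i1) (n j11 i8 i2) (n j11 i8 i3) (n j11 i8 i4) (n j11 i8 i5) (n j11 i8 i6) (n j11 i8 i7))
  (@T16.mk E (p j11 i9 i13) (p j11 i9 i12) (p j11 i9 i15) (p j11 i9 i14) (p j11 i9 i9) (p j11 i9 i8) (p j11 i9 i11) (p j11 i9 i10) (p j11 i9 i5) (p j11 i9 i4) (p j11 i9 i7) (p j11 i9 i6) (p j11 i9 i1) (p j11 i9 i0) (p j11 i9 i3) (p j11 i9 i2))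
  (@T16.mk E (n j11 i10 i14) (n j11 i10 i15) (n j11 i10 i12) (n j11 i10 i13) (n j11 i10 i10) (n j11 i10 i11) (n j11 i10 i8) (n j11 i10 i9) (n j11 i10 i6) (n j11 i10 i7) (n j11 i10 i4) (n j11 i10 i5) (n j11 i10 i2) (n j11 i10 i3) (n j11 i10 i0) (n j11 i10 i1))
  (@T16.mk E (n j11 i11 i5) (n j11 i11 i4) (n j11 i11 i7) (n j11 i11 i6) (n j11 i11 i1) (n j11 i11 i0) (n j11 i11 i3) (n j11 i11 i2) (n j11 i11 i13) (n j11 i11 i12) (n j11 i11 i15) (n j11 i11 i14) (n j11 i11 i9) (n j11 i11 i8) (n j11 i11 i11) (n j11 i11 i10))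
  (@T16.mk E (n j11 i12 i13) (n j11 i12 i12) (n j11 i12 i15) (n j11 i12 i14) (n j11 i12 i9) (n j11 i12 i8) (n j11 i12 i11) (n j11 i12 i10) (n j11 i12 i5) (n j11 i12 i4) (n j11 i12 i7) (n j11 i12 i6) (n j11 i12 i1) (n j11 i12 i0) (n j11 i12 i3) (n j11 i12 i2))
  (@T16.mk E (p j11 i13 i0) (p j11 i13 i1) (p j11 i13 i2) (p j11 i13 i3) (p j11 i13 i4) (p j11 i13 i5) (p j11 i13 i6) (p j11 i13 i7) (p j11 i13 i8) (p j11 i13 i9) (p j11 i13 i10) (p j11 i13 i11) (p j11 i13 i12) (p j11 i13 i13) (p j11 i13 i14) (p j11 i13 i15))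
  (@T16.mk E (n j11 i14 i15) (n j11 i14 i14) (n j11 i14 i13) (n j11 i14 i12) (n j11 i14 i11) (n j11 i14 i10) (n j11 i14 i9) (n j11 i14 i8) (n j11 i14 i7) (n j11 i14 i6) (n j11 i14 i5) (n j11 i14 i4) (n j11 i14 i3) (n j11 i14 i2) (n j11 i14 i1) (n j11 i14 i0))
  (@T16.mk E (n j11 i15 i1) (n j11 i15 i0) (n j11 i15 i3) (n j11 i15 i2) (n j11 i15 i5) (n j11 i15 i4) (n j11 i15 i7) (n j11 i15 i6) (n j11 i15 i9) (n j11 i15 i8) (n j11 i15 i11) (n j11 i15 i10) (n j11 i15 i13) (n j11 i15 i12) (n j11 i15 i15) (n j11 i15 i14))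
 )
 (@T16.mk (T16 E)
  (@T16.mk E (n j12 i0 i7) (n j12 i0 i6) (n j12 i0 i5) (n j12 i0 i4) (n j12 i0 i3) (n j12 i0 i2) (n j12 i0 i1) (n j12 i0 i0) (n j12 i0 i15) (n j12 i0 i14) (n j12 i0 i13) (n j12 i0 i12) (n j12 i0 i11) (n j12 i0 i10) (n j12 i0 i9) (n j12 i0 i8))
  (@T16.mk E (n j12 i1 i4) (n j12 i1 i5) (n j12 i1 i6) (n j12 i1 i7) (n j12 i1 i0) (n j12 i1 i1) (n j12 i1 i2) (n j12 i1 i3) (n j12 i1 i12) (n j12 i1 i13) (n j12 i1 i14) (n j12 i1 i15) (n j12 i1 i8) (n j12 i1 i9) (n j12 i1 i10) (n j12 i1 i11))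
  (@T16.mk E (n j12 i2 i1) (n j12 i2 i0) (n j12 i2 i3) (n j12 i2 i2) (n j12 i2 i5) (n j12 i2 i4) (n j12 i2 i7) (n j12 i2 i6) (n j12 i2 i9) (n j12 i2 i8) (n j12 i2 i11) (n j12 i2 i10) (n j12 i2 i13) (n j12 i2 i12) (n j12 i2 i15) (n j12 i2 i14))
  (@T16.mk E (n j12 i3 i7) (n j12 i3 i6) (n j12 i3 i5) (n j12 i3 i4) (n j12 i3 i3) (n j12 i3 i2) (n j12 i3 i1) (n j12 i3 i0) (n j12 i3 i15) (n j12 i3 i14) (n j12 i3 i13) (n j12 i3 i12) (n j12 i3 i11) (n j12 i3 i10) (n j12 i3 i9) (n j12 i3 i8))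
  (@T16.mk E (n j12 i4 i2) (n j12 i4 i3) (n j12 i4 i0) (n j12 i4 i1) (n j12 i4 i6) (n j12 i4 i7) (n j12 i4 i4) (n j12 i4 i5) (n j12 i4 i10) (n j12 i4 i11) (n j12 i4 i8) (n j12 i4 i9) (n j12 i4 i14) (n j12 i4 i15) (n j12 i4 i12) (n j12 i4 i13))
  (@T16.mk E (n j12 i5 i4) (n j12 i5 i5) (n j12 i5 i6) (n j12 i5 i7) (n j12 i5 i0) (n j12 i5 i1) (n j12 i5 i2) (n j12 i5 i3) (n j12 i5 i12) (n j12 i5 i13) (n j12 i5 i14) (n j12 i5 i15) (n j12 i5 i8) (n j12 i5 i9) (n j12 i5 i10) (n j12 i5 i11))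
  (@T16.mk E (p j12 i6 i0) (p j12 i6 i1) (p j12 i6 i2) (p j12 i6 i3) (p j12 i6 i4) (p j12 i6 i5) (p j12 i6 i6) (p j12 i6 i7) (p j12 i6 i8) (p j12 i6 i9) (p j12 i6 i10) (p j12 i6 i11) (p j12 i6 i12) (p j12 i6 i13) (p j12 i6 i14) (p j12 i6 i15))
  (@T16.mk E (p j12 i7 i7) (p j12 i7 i6) (p j12 i7 i5) (p j12 i7 i4) (p j12 i7 i3) (p j12 i7 i2) (p j12 i7 i1) (p j12 i7 i0) (p j12 i7 i15) (p j12 i7 i14) (p j12 i7 i13) (p j12 i7 i12) (p j12 i7 i11) (p j12 i7 i10) (p j12 i7 i9) (p j12 i7 i8))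
  (@T16.mk E (p j12 i8 i15) (p j12 i8 i14) (p j12 i8 i13) (p j12 i8 i12) (p j12 i8 i11) (p j12 i8 i10) (p j12 i8 i9) (p j12 i8 i8) (p j12 i8 i7) (p j12 i8 i6) (p j12 i8 i5) (p j12 i8 i4) (p j12 i8 i3) (p j12 i8 i2) (p j12 i8 i1) (p j12 i8 i0))
  (@T16.mk E (p j12 i9 i8) (p j12 i9 i9) (p j12 i9 i10) (p j12 i9 i11) (p j12 i9 i12) (p j12 i9 i13) (p j12 i9 i14) (p j12 i9 i15) (p j12 i9 i0) (p j12 i9 i1) (p j12 i9 i2) (p j12 i9 i3) (p j12 i9 i4) (p j12 i9 i5) (p j12 i9 i6) (p j12 i9 i7))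
  (@T16.mk E (p j12 i10 i0) (p j12 i10 i1) (p j12 i10 i2) (p j12 i10 i3) (p j12 i10 i4) (p j12 i10 i5) (p j12 i10 i6) (p j12 i10 i7) (p j12 i10 i8) (p j12 i10 i9) (p j12 i10 i10) (p j12 i10 i11) (p j12 i10 i12) (p j12 i10 i13) (p j12 i10 i14) (p j12 i10 i15))
  (@T16.mk E (n j12 i11 i2) (n j12 i11 i3) (n j12 i11 i0) (n j12 i11 i1) (n j12 i11 i6) (n j12 i11 i7) (n j12 i11 i4) (n j12 i11 i5) (n j12 i11 i10) (n j12 i11 i11) (n j12 i11 i8) (n j12 i11 i9) (n j12 i11 i14) (n j12 i11 i15) (n j12 i11 i12) (n j12 i11 i13))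
  (@T16.mk E (n j12 i12 i13) (n j12 i12 i12) (n j12 i12 i15) (n j12 i12 i14) (n j12 i12 i9) (n j12 i12 i8) (n j12 i12 i11) (n j12 i12 i10) (n j12 i12 i5) (n j12 i12 i4) (n j12 i12 i7) (n j12 i12 i6) (n j12 i12 i1) (n j12 i12 i0) (n j12 i12 i3) (n j12 i12 i2))
  (@T16.mk E (p j13 i10 i8) (p j13 i10 i9) (p j13 i10 i10) (p j13 i10 i11) (p j13 i10 i12) (p j13 i10 i13) (p j13 i10 i14) (p j13 i10 i15) (p j13 i10 i0) (n j13 i10 i1) (n j13 i10 i2) (p j13 i10 i3) (n j13 i10 i4) (p j13 i10 i5) (p j13 i10 i6) (n j13 i10 i7))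
  (@T16.mk E (p j13 i9 i8) (n j13 i9 i9) (p j13 i9 i10) (n j13 i9 i11) (n j13 i9 i12) (p j13 i9 i13) (n j13 i9 i14) (p j13 i9 i15) (p j13 i9 i0) (p j13 i9 i1) (n j13 i9 i2) (n j13 i9 i3) (p j13 i9 i4) (p j13 i9 i5) (n j13 i9 i6) (n j13 i9 i7))
  (@T16.mk E (n j13 i12 i8) (n j13 i12 i9) (p j13 i12 i10) (p j13 i12 i11) (n j13 i12 i12) (n j13 i12 i13) (p j13 i12 i14) (p j13 i12 i15) (p j13 i12 i0) (n j13 i12 i1) (p j13 i12 i2) (n j13 i12 i3) (n j13 i12 i4) (p j13 i12 i5) (n j13 i12 i6) (p j13 i12 i7))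
 )
 (@T16.mk (T16 E)
  (@T16.mk E (p j13 i11 i8) (n j13 i11 i9) (n j13 i11 i10) (p j13 i11 i11) (n j13 i11 i12) (p j13 i11 i13) (p j13 i11 i14) (n j13 i11 i15) (n j13 i11 i0) (n j13 i11 i1) (n j13 i11 i2) (n j13 i11 i3) (n j13 i11 i4) (n j13 i11 i5) (n j13 i11 i6) (n j13 i11 i7))
  (@T16.mk E (p j13 i6 i8) (n j13 i6 i9) (n j13 i6 i10) (p j13 i6 i11) (n j13 i6 i12) (p j13 i6 i13) (p j13 i6 i14) (n j13 i6 i15) (p j13 i6 i0) (p j13 i6 i1) (p j13 i6 i2) (p j13 i6 i3) (p j13 i6 i4) (p j13 i6 i5) (p j13 i6 i6) (p j13 i6 i7))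
  (@T16.mk E (p j13 i5 i8) (p j13 i5 i9) (n j13 i5 i10) (n j13 i5 i11) (p j13 i5 i12) (p j13 i5 i13) (n j13 i5 i14) (n j13 i5 i15) (p j13 i5 i0) (n j13 i5 i1) (p j13 i5 i2) (n j13 i5 i3) (n j13 i5 i4) (p j13 i5 i5) (n j13 i5 i6) (p j13 i5 i7))
  (@T16.mk E (n j13 i8 i8) (p j13 i8 i9) (n j13 i8 i10) (p j13 i8 i11) (p j13 i8 i12) (n j13 i8 i13) (p j13 i8 i14) (n j13 i8 i15) (p j13 i8 i0) (p j13 i8 i1) (n j13 i8 i2) (n j13 i8 i3) (p j13 i8 i4) (p j13 i8 i5) (n j13 i8 i6) (n j13 i8 i7))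
  (@T16.mk E (p j13 i7 i8) (p j13 i7 i9) (p j13 i7 i10) (p j13 i7 i11) (p j13 i7 i12) (p j13 i7 i13) (p j13 i7 i14) (p j13 i7 i15) (n j13 i7 i0) (p j13 i7 i1) (p j13 i7 i2) (n j13 i7 i3) (p j13 i7 i4) (n j13 i7 i5) (n j13 i7 i6) (p j13 i7 i7))
  (@T16.mk E (p j13 i2 i8) (n j13 i2 i9) (p j13 i2 i10) (n j13 i2 i11) (n j13 i2 i12) (p j13 i2 i13) (n j13 i2 i14) (p j13 i2 i15) (p j13 i2 i0) (p j13 i2 i1) (n j13 i2 i2) (n j13 i2 i3) (p j13 i2 i4) (p j13 i2 i5) (n j13 i2 i6) (n j13 i2 i7))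
  (@T16.mk E (p j13 i1 i8) (p j13 i1 i9) (p j13 i1 i10) (p j13 i1 i11) (p j13 i1 i12) (p j13 i1 i13) (p j13 i1 i14) (p j13 i1 i15) (p j13 i1 i0) (n j13 i1 i1) (n j13 i1 i2) (p j13 i1 i3) (n j13 i1 i4) (p j13 i1 i5) (p j13 i1 i6) (n j13 i1 i7))
  (@T16.mk E (n j13 i4 i8) (p j13 i4 i9) (p j13 i4 i10) (n j13 i4 i11) (p j13 i4 i12) (n j13 i4 i13) (n j13 i4 i14) (p j13 i4 i15) (p j13 i4 i0) (p j13 i4 i1) (p j13 i4 i2) (p j13 i4 i3) (p j13 i4 i4) (p j13 i4 i5) (p j13 i4 i6) (p j13 i4 i7))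
  (@T16.mk E (p j13 i3 i8) (p j13 i3 i9) (n j13 i3 i10) (n j13 i3 i11) (p j13 i3 i12) (p j13 i3 i13) (n j13 i3 i14) (n j13 i3 i15) (n j13 i3 i0) (p j13 i3 i1) (n j13 i3 i2) (p j13 i3 i3) (p j13 i3 i4) (n j13 i3 i5) (p j13 i3 i6) (n j13 i3 i7))
  (@T16.mk E (p j12 i14 i8) (p j12 i14 i9) (n j12 i14 i10) (n j12 i14 i11) (p j12 i14 i12) (p j12 i14 i13) (n j12 i14 i14) (n j12 i14 i15) (p j12 i14 i0) (n j12 i14 i1) (p j12 i14 i2) (n j12 i14 i3) (n j12 i14 i4) (p j12 i14 i5) (n j12 i14 i6) (p j12 i14 i7))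
  (@T16.mk E (p j12 i13 i8) (n j12 i13 i9) (n j12 i13 i10) (p j12 i13 i11) (n j12 i13 i12) (p j12 i13 i13) (p j12 i13 i14) (n j12 i13 i15) (p j12 i13 i0) (p j12 i13 i1) (p j12 i13 i2) (p j12 i13 i3) (p j12 i13 i4) (p j12 i13 i5) (p j12 i13 i6) (p j12 i13 i7))
  (@T16.mk E (n j13 i0 i8) (n j13 i0 i9) (n j13 i0 i10) (n j13 i0 i11) (n j13 i0 i12) (n j13 i0 i13) (n j13 i0 i14) (n j13 i0 i15) (p j13 i0 i0) (n j13 i0 i1) (n j13 i0 i2) (p j13 i0 i3) (n j13 i0 i4) (p j13 i0 i5) (p j13 i0 i6) (n j13 i0 i7))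
  (@T16.mk E (p j12 i15 i8) (n j12 i15 i9) (p j12 i15 i10) (n j12 i15 i11) (n j12 i15 i12) (p j12 i15 i13) (n j12 i15 i14) (p j12 i15 i15) (n j12 i15 i0) (n j12 i15 i1) (p j12 i15 i2) (p j12 i15 i3) (n j12 i15 i4) (n j12 i15 i5) (p j12 i15 i6) (p j12 i15 i7))
  (@T16.mk E (p j14 i10 i8) (p j14 i10 i9) (p j14 i10 i10) (p j14 i10 i11) (p j14 i10 i12) (p j14 i10 i13) (p j14 i10 i14) (p j14 i10 i15) (p j14 i10 i0) (n j14 i10 i1) (n j14 i10 i2) (p j14 i10 i3) (n j14 i10 i4) (p j14 i10 i5) (p j14 i10 i6) (n j14 i10 i7))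
  (@T16.mk E (n j14 i9 i8) (p j14 i9 i9) (n j14 i9 i10) (p j14 i9 i11) (p j14 i9 i12) (n j14 i9 i13) (p j14 i9 i14) (n j14 i9 i15) (n j14 i9 i0) (n j14 i9 i1) (p j14 i9 i2) (p j14 i9 i3) (n j14 i9 i4) (n j14 i9 i5) (p j14 i9 i6) (p j14 i9 i7))
  (@T16.mk E (p j14 i12 i8) (p j14 i12 i9) (n j14 i12 i10) (n j14 i12 i11) (p j14 i12 i12) (p j14 i12 i13) (n j14 i12 i14) (n j14 i12 i15) (n j14 i12 i0) (p j14 i12 i1) (n j14 i12 i2) (p j14 i12 i3) (p j14 i12 i4) (n j14 i12 i5) (p j14 i12 i6) (n j14 i12 i7))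
 )
 (@T16.mk (T16 E)
  (@T16.mk E (p j14 i11 i8) (n j14 i11 i9) (n j14 i11 i10) (p j14 i11 i11) (n j14 i11 i12) (p j14 i11 i13) (p j14 i11 i14) (n j14 i11 i15) (n j14 i11 i0) (n j14 i11 i1) (n j14 i11 i2) (n j14 i11 i3) (n j14 i11 i4) (n j14 i11 i5) (n j14 i11 i6) (n j14 i11 i7))
  (@T16.mk E (p j14 i6 i8) (n j14 i6 i9) (n j14 i6 i10) (p j14 i6 i11) (n j14 i6 i12) (p j14 i6 i13) (p j14 i6 i14) (n j14 i6 i15) (p j14 i6 i0) (p j14 i6 i1) (p j14 i6 i2) (p j14 i6 i3) (p j14 i6 i4) (p j14 i6 i5) (p j14 i6 i6) (p j14 i6 i7))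
  (@T16.mk E (n j14 i5 i8) (n j14 i5 i9) (p j14 i5 i10) (p j14 i5 i11) (n j14 i5 i12) (n j14 i5 i13) (p j14 i5 i14) (p j14 i5 i15) (n j14 i5 i0) (p j14 i5 i1) (n j14 i5 i2) (p j14 i5 i3) (p j14 i5 i4) (n j14 i5 i5) (p j14 i5 i6) (n j14 i5 i7))
  (@T16.mk E (p j14 i8 i8) (n j14 i8 i9) (p j14 i8 i10) (n j14 i8 i11) (n j14 i8 i12) (p j14 i8 i13) (n j14 i8 i14) (p j14 i8 i15) (n j14 i8 i0) (n j14 i8 i1) (p j14 i8 i2) (p j14 i8 i3) (n j14 i8 i4) (n j14 i8 i5) (p j14 i8 i6) (p j14 i8 i7))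
  (@T16.mk E (p j14 i7 i8) (p j14 i7 i9) (p j14 i7 i10) (p j14 i7 i11) (p j14 i7 i12) (p j14 i7 i13) (p j14 i7 i14) (p j14 i7 i15) (n j14 i7 i0) (p j14 i7 i1) (p j14 i7 i2) (n j14 i7 i3) (p j14 i7 i4) (n j14 i7 i5) (n j14 i7 i6) (p j14 i7 i7))
  (@T16.mk E (n j14 i2 i8) (p j14 i2 i9) (n j14 i2 i10) (p j14 i2 i11) (p j14 i2 i12) (n j14 i2 i13) (p j14 i2 i14) (n j14 i2 i15) (n j14 i2 i0) (n j14 i2 i1) (p j14 i2 i2) (p j14 i2 i3) (n j14 i2 i4) (n j14 i2 i5) (p j14 i2 i6) (p j14 i2 i7))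
  (@T16.mk E (p j14 i1 i8) (p j14 i1 i9) (p j14 i1 i10) (p j14 i1 i11) (p j14 i1 i12) (p j14 i1 i13) (p j14 i1 i14) (p j14 i1 i15) (p j14 i1 i0) (n j14 i1 i1) (n j14 i1 i2) (p j14 i1 i3) (n j14 i1 i4) (p j14 i1 i5) (p j14 i1 i6) (n j14 i1 i7))
  (@T16.mk E (n j14 i4 i8) (p j14 i4 i9) (p j14 i4 i10) (n j14 i4 i11) (p j14 i4 i12) (n j14 i4 i13) (n j14 i4 i14) (p j14 i4 i15) (p j14 i4 i0) (p j14 i4 i1) (p j14 i4 i2) (p j14 i4 i3) (p j14 i4 i4) (p j14 i4 i5) (p j14 i4 i6) (p j14 i4 i7))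
  (@T16.mk E (n j14 i3 i8) (n j14 i3 i9) (p j14 i3 i10) (p j14 i3 i11) (n j14 i3 i12) (n j14 i3 i13) (p j14 i3 i14) (p j14 i3 i15) (p j14 i3 i0) (n j14 i3 i1) (p j14 i3 i2) (n j14 i3 i3) (n j14 i3 i4) (p j14 i3 i5) (n j14 i3 i6) (p j14 i3 i7))
  (@T16.mk E (n j13 i14 i8) (n j13 i14 i9) (p j13 i14 i10) (p j13 i14 i11) (n j13 i14 i12) (n j13 i14 i13) (p j13 i14 i14) (p j13 i14 i15) (n j13 i14 i0) (p j13 i14 i1) (n j13 i14 i2) (p j13 i14 i3) (p j13 i14 i4) (n j13 i14 i5) (p j13 i14 i6) (n j13 i14 i7))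
  (@T16.mk E (p j13 i13 i8) (n j13 i13 i9) (n j13 i13 i10) (p j13 i13 i11) (n j13 i13 i12) (p j13 i13 i13) (p j13 i13 i14) (n j13 i13 i15) (p j13 i13 i0) (p j13 i13 i1) (p j13 i13 i2) (p j13 i13 i3) (p j13 i13 i4) (p j13 i13 i5) (p j13 i13 i6) (p j13 i13 i7))
  (@T16.mk E (n j14 i0 i8) (n j14 i0 i9) (n j14 i0 i10) (n j14 i0 i11) (n j14 i0 i12) (n j14 i0 i13) (n j14 i0 i14) (n j14 i0 i15) (p j14 i0 i0) (n j14 i0 i1) (n j14 i0 i2) (p j14 i0 i3) (n j14 i0 i4) (p j14 i0 i5) (p j14 i0 i6) (n j14 i0 i7))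
  (@T16.mk E (n j13 i15 i8) (p j13 i15 i9) (n j13 i15 i10) (p j13 i15 i11) (p j13 i15 i12) (n j13 i15 i13) (p j13 i15 i14) (n j13 i15 i15) (p j13 i15 i0) (p j13 i15 i1) (n j13 i15 i2) (n j13 i15 i3) (p j13 i15 i4) (p j13 i15 i5) (n j13 i15 i6) (n j13 i15 i7))
  (@T16.mk E (p j15 i10 i8) (p j15 i10 i9) (p j15 i10 i10) (p j15 i10 i11) (p j15 i10 i12) (p j15 i10 i13) (p j15 i10 i14) (p j15 i10 i15) (p j15 i10 i0) (n j15 i10 i1) (n j15 i10 i2) (p j15 i10 i3) (n j15 i10 i4) (p j15 i10 i5) (p j15 i10 i6) (n j15 i10 i7))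
  (@T16.mk E (p j15 i9 i8) (n j15 i9 i9) (p j15 i9 i10) (n j15 i9 i11) (n j15 i9 i12) (p j15 i9 i13) (n j15 i9 i14) (p j15 i9 i15) (p j15 i9 i0) (p j15 i9 i1) (n j15 i9 i2) (n j15 i9 i3) (p j15 i9 i4) (p j15 i9 i5) (n j15 i9 i6) (n j15 i9 i7))
  (@T16.mk E (n j15 i12 i8) (n j15 i12 i9) (p j15 i12 i10) (p j15 i12 i11) (n j15 i12 i12) (n j15 i12 i13) (p j15 i12 i14) (p j15 i12 i15) (p j15 i12 i0) (n j15 i12 i1) (p j15 i12 i2) (n j15 i12 i3) (n j15 i12 i4) (p j15 i12 i5) (n j15 i12 i6) (p j15 i12 i7))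
 )
 (@T16.mk (T16 E)
  (@T16.mk E (p j15 i11 i8) (n j15 i11 i9) (n j15 i11 i10) (p j15 i11 i11) (n j15 i11 i12) (p j15 i11 i13) (p j15 i11 i14) (n j15 i11 i15) (n j15 i11 i0) (n j15 i11 i1) (n j15 i11 i2) (n j15 i11 i3) (n j15 i11 i4) (n j15 i11 i5) (n j15 i11 i6) (n j15 i11 i7))
  (@T16.mk E (p j15 i6 i8) (n j15 i6 i9) (n j15 i6 i10) (p j15 i6 i11) (n j15 i6 i12) (p j15 i6 i13) (p j15 i6 i14) (n j15 i6 i15) (p j15 i6 i0) (p j15 i6 i1) (p j15 i6 i2) (p j15 i6 i3) (p j15 i6 i4) (p j15 i6 i5) (p j15 i6 i6) (p j15 i6 i7))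
  (@T16.mk E (p j15 i5 i8) (p j15 i5 i9) (n j15 i5 i10) (n j15 i5 i11) (p j15 i5 i12) (p j15 i5 i13) (n j15 i5 i14) (n j15 i5 i15) (p j15 i5 i0) (n j15 i5 i1) (p j15 i5 i2) (n j15 i5 i3) (n j15 i5 i4) (p j15 i5 i5) (n j15 i5 i6) (p j15 i5 i7))
  (@T16.mk E (n j15 i8 i8) (p j15 i8 i9) (n j15 i8 i10) (p j15 i8 i11) (p j15 i8 i12) (n j15 i8 i13) (p j15 i8 i14) (n j15 i8 i15) (p j15 i8 i0) (p j15 i8 i1) (n j15 i8 i2) (n j15 i8 i3) (p j15 i8 i4) (p j15 i8 i5) (n j15 i8 i6) (n j15 i8 i7))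
  (@T16.mk E (p j15 i7 i8) (p j15 i7 i9) (p j15 i7 i10) (p j15 i7 i11) (p j15 i7 i12) (p j15 i7 i13) (p j15 i7 i14) (p j15 i7 i15) (n j15 i7 i0) (p j15 i7 i1) (p j15 i7 i2) (n j15 i7 i3) (p j15 i7 i4) (n j15 i7 i5) (n j15 i7 i6) (p j15 i7 i7))
  (@T16.mk E (p j15 i2 i8) (n j15 i2 i9) (p j15 i2 i10) (n j15 i2 i11) (n j15 i2 i12) (p j15 i2 i13) (n j15 i2 i14) (p j15 i2 i15) (p j15 i2 i0) (p j15 i2 i1) (n j15 i2 i2) (n j15 i2 i3) (p j15 i2 i4) (p j15 i2 i5) (n j15 i2 i6) (n j15 i2 i7))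
  (@T16.mk E (p j15 i1 i8) (p j15 i1 i9) (p j15 i1 i10) (p j15 i1 i11) (p j15 i1 i12) (p j15 i1 i13) (p j15 i1 i14) (p j15 i1 i15) (p j15 i1 i0) (n j15 i1 i1) (n j15 i1 i2) (p j15 i1 i3) (n j15 i1 i4) (p j15 i1 i5) (p j15 i1 i6) (n j15 i1 i7))
  (@T16.mk E (n j15 i4 i8) (p j15 i4 i9) (p j15 i4 i10) (n j15 i4 i11) (p j15 i4 i12) (n j15 i4 i13) (n j15 i4 i14) (p j15 i4 i15) (p j15 i4 i0) (p j15 i4 i1) (p j15 i4 i2) (p j15 i4 i3) (p j15 i4 i4) (p j15 i4 i5) (p j15 i4 i6) (p j15 i4 i7))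
  (@T16.mk E (p j15 i3 i8) (p j15 i3 i9) (n j15 i3 i10) (n j15 i3 i11) (p j15 i3 i12) (p j15 i3 i13) (n j15 i3 i14) (n j15 i3 i15) (n j15 i3 i0) (p j15 i3 i1) (n j15 i3 i2) (p j15 i3 i3) (p j15 i3 i4) (n j15 i3 i5) (p j15 i3 i6) (n j15 i3 i7))
  (@T16.mk E (p j14 i14 i8) (p j14 i14 i9) (n j14 i14 i10) (n j14 i14 i11) (p j14 i14 i12) (p j14 i14 i13) (n j14 i14 i14) (n j14 i14 i15) (p j14 i14 i0) (n j14 i14 i1) (p j14 i14 i2) (n j14 i14 i3) (n j14 i14 i4) (p j14 i14 i5) (n j14 i14 i6) (p j14 i14 i7))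
  (@T16.mk E (p j14 i13 i8) (n j14 i13 i9) (n j14 i13 i10) (p j14 i13 i11) (n j14 i13 i12) (p j14 i13 i13) (p j14 i13 i14) (n j14 i13 i15) (p j14 i13 i0) (p j14 i13 i1) (p j14 i13 i2) (p j14 i13 i3) (p j14 i13 i4) (p j14 i13 i5) (p j14 i13 i6) (p j14 i13 i7))
  (@T16.mk E (n j15 i0 i8) (n j15 i0 i9) (n j15 i0 i10) (n j15 i0 i11) (n j15 i0 i12) (n j15 i0 i13) (n j15 i0 i14) (n j15 i0 i15) (p j15 i0 i0) (n j15 i0 i1) (n j15 i0 i2) (p j15 i0 i3) (n j15 i0 i4) (p j15 i0 i5) (p j15 i0 i6) (n j15 i0 i7))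
  (@T16.mk E (p j14 i15 i8) (n j14 i15 i9) (p j14 i15 i10) (n j14 i15 i11) (n j14 i15 i12) (p j14 i15 i13) (n j14 i15 i14) (p j14 i15 i15) (n j14 i15 i0) (n j14 i15 i1) (p j14 i15 i2) (p j14 i15 i3) (n j14 i15 i4) (n j14 i15 i5) (p j14 i15 i6) (p j14 i15 i7))
  (@T16.mk E (p j16 i10 i8) (p j16 i10 i9) (p j16 i10 i10) (p j16 i10 i11) (p j16 i10 i12) (p j16 i10 i13) (p j16 i10 i14) (p j16 i10 i15) (p j16 i10 i0) (n j16 i10 i1) (n j16 i10 i2) (p j16 i10 i3) (n j16 i10 i4) (p j16 i10 i5) (p j16 i10 i6) (n j16 i10 i7))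
  (@T16.mk E (n j16 i9 i8) (p j16 i9 i9) (n j16 i9 i10) (p j16 i9 i11) (p j16 i9 i12) (n j16 i9 i13) (p j16 i9 i14) (n j16 i9 i15) (n j16 i9 i0) (n j16 i9 i1) (p j16 i9 i2) (p j16 i9 i3) (n j16 i9 i4) (n j16 i9 i5) (p j16 i9 i6) (p j16 i9 i7))
  (@T16.mk E (p j16 i12 i8) (p j16 i12 i9) (n j16 i12 i10) (n j16 i12 i11) (p j16 i12 i12) (p j16 i12 i13) (n j16 i12 i14) (n j16 i12 i15) (n j16 i12 i0) (p j16 i12 i1) (n j16 i12 i2) (p j16 i12 i3) (p j16 i12 i4) (n j16 i12 i5) (p j16 i12 i6) (n j16 i12 i7))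
 )
 (@T16.mk (T16 E)
  (@T16.mk E (p j16 i11 i8) (n j16 i11 i9) (n j16 i11 i10) (p j16 i11 i11) (n j16 i11 i12) (p j16 i11 i13) (p j16 i11 i14) (n j16 i11 i15) (n j16 i11 i0) (n j16 i11 i1) (n j16 i11 i2) (n j16 i11 i3) (n j16 i11 i4) (n j16 i11 i5) (n j16 i11 i6) (n j16 i11 i7))
  (@T16.mk E (p j16 i6 i8) (n j16 i6 i9) (n j16 i6 i10) (p j16 i6 i11) (n j16 i6 i12) (p j16 i6 i13) (p j16 i6 i14) (n j16 i6 i15) (p j16 i6 i0) (p j16 i6 i1) (p j16 i6 i2) (p j16 i6 i3) (p j16 i6 i4) (p j16 i6 i5) (p j16 i6 i6) (p j16 i6 i7))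
  (@T16.mk E (n j16 i5 i8) (n j16 i5 i9) (p j16 i5 i10) (p j16 i5 i11) (n j16 i5 i12) (n j16 i5 i13) (p j16 i5 i14) (p j16 i5 i15) (n j16 i5 i0) (p j16 i5 i1) (n j16 i5 i2) (p j16 i5 i3) (p j16 i5 i4) (n j16 i5 i5) (p j16 i5 i6) (n j16 i5 i7))
  (@T16.mk E (p j16 i8 i8) (n j16 i8 i9) (p j16 i8 i10) (n j16 i8 i11) (n j16 i8 i12) (p j16 i8 i13) (n j16 i8 i14) (p j16 i8 i15) (n j16 i8 i0) (n j16 i8 i1) (p j16 i8 i2) (p j16 i8 i3) (n j16 i8 i4) (n j16 i8 i5) (p j16 i8 i6) (p j16 i8 i7))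
  (@T16.mk E (p j16 i7 i8) (p j16 i7 i9) (p j16 i7 i10) (p j16 i7 i11) (p j16 i7 i12) (p j16 i7 i13) (p j16 i7 i14) (p j16 i7 i15) (n j16 i7 i0) (p j16 i7 i1) (p j16 i7 i2) (n j16 i7 i3) (p j16 i7 i4) (n j16 i7 i5) (n j16 i7 i6) (p j16 i7 i7))
  (@T16.mk E (n j16 i2 i8) (p j16 i2 i9) (n j16 i2 i10) (p j16 i2 i11) (p j16 i2 i12) (n j16 i2 i13) (p j16 i2 i14) (n j16 i2 i15) (n j16 i2 i0) (n j16 i2 i1) (p j16 i2 i2) (p j16 i2 i3) (n j16 i2 i4) (n j16 i2 i5) (p j16 i2 i6) (p j16 i2 i7))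
  (@T16.mk E (p j16 i1 i8) (p j16 i1 i9) (p j16 i1 i10) (p j16 i1 i11) (p j16 i1 i12) (p j16 i1 i13) (p j16 i1 i14) (p j16 i1 i15) (p j16 i1 i0) (n j16 i1 i1) (n j16 i1 i2) (p j16 i1 i3) (n j16 i1 i4) (p j16 i1 i5) (p j16 i1 i6) (n j16 i1 i7))
  (@T16.mk E (n j16 i4 i8) (p j16 i4 i9) (p j16 i4 i10) (n j16 i4 i11) (p j16 i4 i12) (n j16 i4 i13) (n j16 i4 i14) (p j16 i4 i15) (p j16 i4 i0) (p j16 i4 i1) (p j16 i4 i2) (p j16 i4 i3) (p j16 i4 i4) (p j16 i4 i5) (p j16 i4 i6) (p j16 i4 i7))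
  (@T16.mk E (n j16 i3 i8) (n j16 i3 i9) (p j16 i3 i10) (p j16 i3 i11) (n j16 i3 i12) (n j16 i3 i13) (p j16 i3 i14) (p j16 i3 i15) (p j16 i3 i0) (n j16 i3 i1) (p j16 i3 i2) (n j16 i3 i3) (n j16 i3 i4) (p j16 i3 i5) (n j16 i3 i6) (p j16 i3 i7))
  (@T16.mk E (n j15 i14 i8) (n j15 i14 i9) (p j15 i14 i10) (p j15 i14 i11) (n j15 i14 i12) (n j15 i14 i13) (p j15 i14 i14) (p j15 i14 i15) (n j15 i14 i0) (p j15 i14 i1) (n j15 i14 i2) (p j15 i14 i3) (p j15 i14 i4) (n j15 i14 i5) (p j15 i14 i6) (n j15 i14 i7))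
  (@T16.mk E (p j15 i13 i8) (n j15 i13 i9) (n j15 i13 i10) (p j15 i13 i11) (n j15 i13 i12) (p j15 i13 i13) (p j15 i13 i14) (n j15 i13 i15) (p j15 i13 i0) (p j15 i13 i1) (p j15 i13 i2) (p j15 i13 i3) (p j15 i13 i4) (p j15 i13 i5) (p j15 i13 i6) (p j15 i13 i7))
  (@T16.mk E (n j16 i0 i8) (n j16 i0 i9) (n j16 i0 i10) (n j16 i0 i11) (n j16 i0 i12) (n j16 i0 i13) (n j16 i0 i14) (n j16 i0 i15) (p j16 i0 i0) (n j16 i0 i1) (n j16 i0 i2) (p j16 i0 i3) (n j16 i0 i4) (p j16 i0 i5) (p j16 i0 i6) (n j16 i0 i7))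
  (@T16.mk E (n j15 i15 i8) (p j15 i15 i9) (n j15 i15 i10) (p j15 i15 i11) (p j15 i15 i12) (n j15 i15 i13) (p j15 i15 i14) (n j15 i15 i15) (p j15 i15 i0) (p j15 i15 i1) (n j15 i15 i2) (n j15 i15 i3) (p j15 i15 i4) (p j15 i15 i5) (n j15 i15 i6) (n j15 i15 i7))
  (@T16.mk E (p j16 i13 i0) (p j16 i13 i1) (p j16 i13 i2) (n j16 i13 i3) (n j16 i13 i4) (p j16 i13 i5) (n j16 i13 i6) (n j16 i13 i7) (p j16 i13 i8) (p j16 i13 i9) (p j16 i13 i10) (p j16 i13 i11) (n j16 i13 i12) (p j16 i13 i13) (p j16 i13 i14) (p j16 i13 i15))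
  (@T16.mk E (n j16 i14 i0) (n j16 i14 i1) (n j16 i14 i2) (p j16 i14 i3) (p j16 i14 i4) (p j16 i14 i5) (p j16 i14 i6) (p j16 i14 i7) (p j16 i14 i8) (n j16 i15 i15) (n j17 i0 i0) (p j16 i14 i11) (n j17 i0 i2) (n j17 i0 i3) (p j16 i14 i14) (p j16 i14 i15))
  (@T16.mk E (p j16 i15 i0) (p j16 i15 i1) (n j17 i0 i8) (p j16 i15 i3) (p j16 i15 i4) (p j16 i15 i5) (n j17 i0 i12) (n j17 i0 i13) (n j17 i0 i14) (p j16 i15 i9) (p j16 i15 i10) (p j16 i15 i11) (p j16 i15 i12) (p j16 i15 i13) (p j16 i15 i14) (n j16 i14 i9))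
 )
 (@T16.mk (T16 E)
  (@T16.mk E (n j16 i14 i10) (p j17 i0 i1) (n j16 i14 i12) (n j16 i14 i13) (p j17 i0 i4) (p j17 i0 i5) (p j17 i0 i6) (p j17 i0 i7) (n j16 i15 i2) (p j17 i0 i9) (p j17 i0 i10) (p j17 i0 i11) (n j16 i15 i6) (n j16 i15 i7) (n j16 i15 i8) (p j17 i0 i15))
  (@T16.mk E (p j17 i1 i0) (p j17 i1 i1) (p j17 i1 i2) (p j17 i1 i3) (p j17 i1 i4) (p j17 i1 i5) (p j17 i1 i6) (p j17 i1 i7) (p j17 i1 i8) (p j17 i1 i9) (p j17 i1 i10) (p j17 i1 i11) (p j17 i1 i12) (p j17 i1 i13) (p j17 i1 i14) (p j17 i1 i15))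
  (@T16.mk E (p j17 i2 i0) (p j17 i2 i1) (p j17 i2 i2) (p j17 i2 i3) (p j17 i2 i4) (p j17 i2 i5) (p j17 i2 i6) (p j17 i2 i7) (p j17 i2 i8) (p j17 i2 i9) (p j17 i2 i10) (p j17 i2 i11) (p j17 i2 i12) (p j17 i2 i13) (p j17 i2 i14) (p j17 i2 i15))
  (@T16.mk E (p j17 i3 i0) (p j17 i3 i1) (p j17 i3 i2) (p j17 i3 i3) (p j17 i3 i4) (p j17 i3 i5) (p j17 i3 i6) (p j17 i3 i7) (p j17 i3 i8) (p j17 i3 i9) (p j17 i3 i10) (p j17 i3 i11) (p j17 i3 i12) (p j17 i3 i13) (p j17 i3 i14) (p j17 i3 i15))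
  (@T16.mk E (p j17 i4 i0) (p j17 i4 i1) (p j17 i4 i2) (p j17 i4 i3) (p j17 i4 i4) (p j17 i4 i5) (p j17 i4 i6) (p j17 i4 i7) (p j17 i4 i8) (p j17 i4 i9) (p j17 i4 i10) (p j17 i4 i11) (p j17 i4 i12) (p j17 i4 i13) (p j17 i4 i14) (p j17 i4 i15))
  (@T16.mk E (p j17 i5 i0) (p j17 i5 i1) (p j17 i5 i2) (p j17 i5 i3) (p j17 i5 i4) (p j17 i5 i5) (p j17 i5 i6) (p j17 i5 i7) (p j17 i5 i8) (p j17 i5 i9) (p j17 i5 i10) (p j17 i5 i11) (p j17 i5 i12) (p j17 i5 i13) (p j17 i5 i14) (p j17 i5 i15))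
  (@T16.mk E (p j17 i6 i0) (p j17 i6 i1) (p j17 i6 i2) (p j17 i6 i3) (p j17 i6 i4) (p j17 i6 i5) (p j17 i6 i6) (p j17 i6 i7) (p j17 i6 i8) (p j17 i6 i9) (p j17 i6 i10) (p j17 i6 i11) (p j17 i6 i12) (p j17 i6 i13) (p j17 i6 i14) (p j17 i6 i15))
  (@T16.mk E (p j17 i7 i0) (p j17 i7 i1) (p j17 i7 i2) (p j17 i7 i3) (p j17 i7 i4) (p j17 i7 i5) (p j17 i7 i6) (p j17 i7 i7) (p j17 i7 i8) (p j17 i7 i9) (p j17 i7 i10) (p j17 i7 i11) (p j17 i7 i12) (p j17 i7 i13) (p j17 i7 i14) (p j17 i7 i15))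
  (@T16.mk E (p j17 i8 i0) (p j17 i8 i1) (p j17 i8 i2) (p j17 i8 i3) (p j17 i8 i4) (p j17 i8 i5) (p j17 i8 i6) (p j17 i8 i7) (p j17 i8 i8) (p j17 i8 i9) (p j17 i8 i10) (p j17 i8 i11) (p j17 i8 i12) (p j17 i8 i13) (p j17 i8 i14) (p j17 i8 i15))
  (@T16.mk E (p j17 i9 i0) (p j17 i9 i1) (p j17 i9 i2) (p j17 i9 i3) (p j17 i9 i4) (p j17 i9 i5) (p j17 i9 i6) (p j17 i9 i7) (p j17 i9 i8) (p j17 i9 i9) (p j17 i9 i10) (p j17 i9 i11) (p j17 i9 i12) (p j17 i9 i13) (p j17 i9 i14) (p j17 i9 i15))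
  (@T16.mk E (p j17 i10 i0) (p j17 i10 i1) (p j17 i10 i2) (p j17 i10 i3) (p j17 i10 i4) (p j17 i10 i5) (p j17 i10 i6) (p j17 i10 i7) (p j17 i10 i8) (p j17 i10 i9) (p j17 i10 i10) (p j17 i10 i11) (p j17 i10 i12) (p j17 i10 i13) (p j17 i10 i14) (p j17 i10 i15))
  (@T16.mk E (p j17 i11 i0) (p j17 i11 i1) (p j17 i11 i2) (p j17 i11 i3) (p j17 i11 i4) (p j17 i11 i5) (p j17 i11 i6) (p j17 i11 i7) (p j17 i11 i8) (p j17 i11 i9) (p j17 i11 i10) (p j17 i11 i11) (p j17 i11 i12) (p j17 i11 i13) (p j17 i11 i14) (p j17 i11 i15))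
  (@T16.mk E (p j17 i12 i0) (p j17 i12 i1) (p j17 i12 i2) (p j17 i12 i3) (p j17 i12 i4) (p j17 i12 i5) (p j17 i12 i6) (p j17 i12 i7) (p j17 i12 i8) (p j17 i12 i9) (p j17 i12 i10) (p j17 i12 i11) (p j17 i12 i12) (p j17 i12 i13) (p j17 i12 i14) (p j17 i12 i15))
  (@T16.mk E (p j17 i13 i0) (p j17 i13 i1) (p j17 i13 i2) (p j17 i13 i3) (p j17 i13 i4) (p j17 i13 i5) (p j17 i13 i6) (p j17 i13 i7) (p j17 i13 i8) (p j17 i13 i9) (p j17 i13 i10) (p j17 i13 i11) (p j17 i13 i12) (p j17 i13 i13) (p j17 i13 i14) (p j17 i13 i15))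
  (@T16.mk E (p j17 i14 i0) (p j17 i14 i1) (p j17 i14 i2) (p j17 i14 i3) (p j17 i14 i4) (p j17 i14 i5) (p j17 i14 i6) (p j17 i14 i7) (p j17 i14 i8) (p j17 i14 i9) (p j17 i14 i10) (p j17 i14 i11) (p j17 i14 i12) (p j17 i14 i13) (p j17 i14 i14) (p j17 i14 i15))
  (@T16.mk E (p j17 i15 i0) (p j17 i15 i1) (p j17 i15 i2) (p j17 i15 i3) (p j17 i15 i4) (p j17 i15 i5) (p j17 i15 i6) (p j17 i15 i7) (p j17 i15 i8) (p j17 i15 i9) (p j17 i15 i10) (p j17 i15 i11) (p j17 i15 i12) (p j17 i15 i13) (p j17 i15 i14) (p j17 i15 i15))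
 )
theorem tb24_ok : okTab tb24 = true := by decide +kernel
noncomputable def cd24 (s : St) : St :=
@T18.mk (T16 (T16 R))
 (@T16.mk (T16 R)
  (@T16.mk R s.1.1.1 s.1.1.2 s.1.1.3 s.1.1.4 (R.mk s.1.1.5.2 s.1.1.5.1) (R.mk s.1.1.6.2 s.1.1.6.1) (R.mk s.1.1.7.2 s.1.1.7.1) (R.mk s.1.1.8.2 s.1.1.8.1) s.1.1.9 s.1.1.10 s.1.1.11 s.1.1.12 (R.mk s.1.1.13.2 s.1.1.13.1) (R.mk s.1.1.14.2 s.1.1.14.1) (R.mk s.1.1.15.2 s.1.1.15.1) (R.mk s.1.1.16.2 s.1.1.16.1))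
  (@T16.mk R s.1.2.1 s.1.2.2 (R.mk s.1.2.3.2 s.1.2.3.1) (R.mk s.1.2.4.2 s.1.2.4.1) (R.mk s.1.2.5.2 s.1.2.5.1) (R.mk s.1.2.6.2 s.1.2.6.1) s.1.2.7 s.1.2.8 (R.mk s.1.2.9.2 s.1.2.9.1) (R.mk s.1.2.10.2 s.1.2.10.1) s.1.2.11 s.1.2.12 s.1.2.13 s.1.2.14 (R.mk s.1.2.15.2 s.1.2.15.1) (R.mk s.1.2.16.2 s.1.2.16.1))
  (@T16.mk R (R.mk s.1.3.1.2 s.1.3.1.1) (R.mk s.1.3.2.2 s.1.3.2.1) (R.mk s.1.3.3.2 s.1.3.3.1) (R.mk s.1.3.4.2 s.1.3.4.1) s.1.3.5 s.1.3.6 s.1.3.7 s.1.3.8 (R.mk s.1.3.9.2 s.1.3.9.1) (R.mk s.1.3.10.2 s.1.3.10.1) (R.mk s.1.3.11.2 s.1.3.11.1) (R.mk s.1.3.12.2 s.1.3.12.1) s.1.3.13 s.1.3.14 s.1.3.15 s.1.3.16)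
  (@T16.mk R (R.mk s.1.4.1.2 s.1.4.1.1) (R.mk s.1.4.2.2 s.1.4.2.1) s.1.4.3 s.1.4.4 s.1.4.5 s.1.4.6 (R.mk s.1.4.7.2 s.1.4.7.1) (R.mk s.1.4.8.2 s.1.4.8.1) s.1.4.9 s.1.4.10 (R.mk s.1.4.11.2 s.1.4.11.1) (R.mk s.1.4.12.2 s.1.4.12.1) (R.mk s.1.4.13.2 s.1.4.13.1) (R.mk s.1.4.14.2 s.1.4.14.1) s.1.4.15 s.1.4.16)
  (@T16.mk R s.1.5.1 s.1.5.2 s.1.5.3 s.1.5.4 s.1.5.5 s.1.5.6 s.1.5.7 s.1.5.8 s.1.5.9 s.1.5.10 s.1.5.11 s.1.5.12 s.1.5.13 s.1.5.14 s.1.5.15 s.1.5.16)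
  (@T16.mk R (R.mk s.1.6.1.2 s.1.6.1.1) (R.mk s.1.6.2.2 s.1.6.2.1) s.1.6.3 s.1.6.4 (R.mk s.1.6.5.2 s.1.6.5.1) (R.mk s.1.6.6.2 s.1.6.6.1) s.1.6.7 s.1.6.8 s.1.6.9 s.1.6.10 (R.mk s.1.6.11.2 s.1.6.11.1) (R.mk s.1.6.12.2 s.1.6.12.1) s.1.6.13 s.1.6.14 (R.mk s.1.6.15.2 s.1.6.15.1) (R.mk s.1.6.16.2 s.1.6.16.1))
  (@T16.mk R s.1.7.1 s.1.7.2 s.1.7.3 s.1.7.4 s.1.7.5 s.1.7.6 s.1.7.7 s.1.7.8 s.1.7.9 s.1.7.10 s.1.7.11 s.1.7.12 s.1.7.13 s.1.7.14 s.1.7.15 s.1.7.16)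
  (@T16.mk R (R.mk s.1.8.1.2 s.1.8.1.1) (R.mk s.1.8.2.2 s.1.8.2.1) s.1.8.3 s.1.8.4 (R.mk s.1.8.5.2 s.1.8.5.1) (R.mk s.1.8.6.2 s.1.8.6.1) s.1.8.7 s.1.8.8 s.1.8.9 s.1.8.10 (R.mk s.1.8.11.2 s.1.8.11.1) (R.mk s.1.8.12.2 s.1.8.12.1) s.1.8.13 s.1.8.14 (R.mk s.1.8.15.2 s.1.8.15.1) (R.mk s.1.8.16.2 s.1.8.16.1))
  (@T16.mk R (R.mk s.1.9.1.2 s.1.9.1.1) s.1.9.2 s.1.9.3 (R.mk s.1.9.4.2 s.1.9.4.1) (R.mk s.1.9.5.2 s.1.9.5.1) s.1.9.6 s.1.9.7 (R.mk s.1.9.8.2 s.1.9.8.1) (R.mk s.1.9.9.2 s.1.9.9.1) s.1.9.10 s.1.9.11 (R.mk s.1.9.12.2 s.1.9.12.1) (R.mk s.1.9.13.2 s.1.9.13.1) s.1.9.14 s.1.9.15 (R.mk s.1.9.16.2 s.1.9.16.1))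
  (@T16.mk R (R.mk s.1.10.1.2 s.1.10.1.1) s.1.10.2 (R.mk s.1.10.3.2 s.1.10.3.1) s.1.10.4 (R.mk s.1.10.5.2 s.1.10.5.1) s.1.10.6 (R.mk s.1.10.7.2 s.1.10.7.1) s.1.10.8 s.1.10.9 (R.mk s.1.10.10.2 s.1.10.10.1) s.1.10.11 (R.mk s.1.10.12.2 s.1.10.12.1) s.1.10.13 (R.mk s.1.10.14.2 s.1.10.14.1) s.1.10.15 (R.mk s.1.10.16.2 s.1.10.16.1))
  (@T16.mk R (R.mk s.1.11.1.2 s.1.11.1.1) s.1.11.2 s.1.11.3 (R.mk s.1.11.4.2 s.1.11.4.1) (R.mk s.1.11.5.2 s.1.11.5.1) s.1.11.6 s.1.11.7 (R.mk s.1.11.8.2 s.1.11.8.1) (R.mk s.1.11.9.2 s.1.11.9.1) s.1.11.10 s.1.11.11 (R.mk s.1.11.12.2 s.1.11.12.1) (R.mk s.1.11.13.2 s.1.11.13.1) s.1.11.14 s.1.11.15 (R.mk s.1.11.16.2 s.1.11.16.1))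
  (@T16.mk R (R.mk s.1.12.1.2 s.1.12.1.1) s.1.12.2 (R.mk s.1.12.3.2 s.1.12.3.1) s.1.12.4 (R.mk s.1.12.5.2 s.1.12.5.1) s.1.12.6 (R.mk s.1.12.7.2 s.1.12.7.1) s.1.12.8 s.1.12.9 (R.mk s.1.12.10.2 s.1.12.10.1) s.1.12.11 (R.mk s.1.12.12.2 s.1.12.12.1) s.1.12.13 (R.mk s.1.12.14.2 s.1.12.14.1) s.1.12.15 (R.mk s.1.12.16.2 s.1.12.16.1))
  (@T16.mk R s.1.13.1 (R.mk s.1.13.2.2 s.1.13.2.1) (R.mk s.1.13.3.2 s.1.13.3.1) s.1.13.4 (R.mk s.1.13.5.2 s.1.13.5.1) s.1.13.6 s.1.13.7 (R.mk s.1.13.8.2 s.1.13.8.1) s.1.13.9 (R.mk s.1.13.10.2 s.1.13.10.1) (R.mk s.1.13.11.2 s.1.13.11.1) s.1.13.12 (R.mk s.1.13.13.2 s.1.13.13.1) s.1.13.14 s.1.13.15 (R.mk s.1.13.16.2 s.1.13.16.1))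
  (@T16.mk R (R.mk s.1.14.1.2 s.1.14.1.1) s.1.14.2 (R.mk s.1.14.3.2 s.1.14.3.1) s.1.14.4 s.1.14.5 (R.mk s.1.14.6.2 s.1.14.6.1) s.1.14.7 (R.mk s.1.14.8.2 s.1.14.8.1) s.1.14.9 (R.mk s.1.14.10.2 s.1.14.10.1) s.1.14.11 (R.mk s.1.14.12.2 s.1.14.12.1) (R.mk s.1.14.13.2 s.1.14.13.1) s.1.14.14 (R.mk s.1.14.15.2 s.1.14.15.1) s.1.14.16)
  (@T16.mk R (R.mk s.1.15.1.2 s.1.15.1.1) s.1.15.2 s.1.15.3 (R.mk s.1.15.4.2 s.1.15.4.1) s.1.15.5 (R.mk s.1.15.6.2 s.1.15.6.1) (R.mk s.1.15.7.2 s.1.15.7.1) s.1.15.8 (R.mk s.1.15.9.2 s.1.15.9.1) s.1.15.10 s.1.15.11 (R.mk s.1.15.12.2 s.1.15.12.1) s.1.15.13 (R.mk s.1.15.14.2 s.1.15.14.1) (R.mk s.1.15.15.2 s.1.15.15.1) s.1.15.16)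
  (@T16.mk R s.1.16.1 (R.mk s.1.16.2.2 s.1.16.2.1) s.1.16.3 (R.mk s.1.16.4.2 s.1.16.4.1) (R.mk s.1.16.5.2 s.1.16.5.1) s.1.16.6 (R.mk s.1.16.7.2 s.1.16.7.1) s.1.16.8 (R.mk s.1.16.9.2 s.1.16.9.1) s.1.16.10 (R.mk s.1.16.11.2 s.1.16.11.1) s.1.16.12 s.1.16.13 (R.mk s.1.16.14.2 s.1.16.14.1) s.1.16.15 (R.mk s.1.16.16.2 s.1.16.16.1))
 )
 (@T16.mk (T16 R)
  (@T16.mk R s.2.1.1 s.2.1.2 s.2.1.3 s.2.1.4 s.2.1.5 s.2.1.6 s.2.1.7 s.2.1.8 s.2.1.9 s.2.1.10 s.2.1.11 s.2.1.12 s.2.1.13 s.2.1.14 s.2.1.15 s.2.1.16)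
  (@T16.mk R (R.mk s.2.2.1.2 s.2.2.1.1) (R.mk s.2.2.2.2 s.2.2.2.1) s.2.2.3 s.2.2.4 (R.mk s.2.2.5.2 s.2.2.5.1) (R.mk s.2.2.6.2 s.2.2.6.1) s.2.2.7 s.2.2.8 s.2.2.9 s.2.2.10 (R.mk s.2.2.11.2 s.2.2.11.1) (R.mk s.2.2.12.2 s.2.2.12.1) s.2.2.13 s.2.2.14 (R.mk s.2.2.15.2 s.2.2.15.1) (R.mk s.2.2.16.2 s.2.2.16.1))
  (@T16.mk R s.2.3.1 s.2.3.2 s.2.3.3 s.2.3.4 s.2.3.5 s.2.3.6 s.2.3.7 s.2.3.8 s.2.3.9 s.2.3.10 s.2.3.11 s.2.3.12 s.2.3.13 s.2.3.14 s.2.3.15 s.2.3.16)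
  (@T16.mk R (R.mk s.2.4.1.2 s.2.4.1.1) (R.mk s.2.4.2.2 s.2.4.2.1) s.2.4.3 s.2.4.4 (R.mk s.2.4.5.2 s.2.4.5.1) (R.mk s.2.4.6.2 s.2.4.6.1) s.2.4.7 s.2.4.8 s.2.4.9 s.2.4.10 (R.mk s.2.4.11.2 s.2.4.11.1) (R.mk s.2.4.12.2 s.2.4.12.1) s.2.4.13 s.2.4.14 (R.mk s.2.4.15.2 s.2.4.15.1) (R.mk s.2.4.16.2 s.2.4.16.1))
  (@T16.mk R s.2.5.1 s.2.5.2 s.2.5.3 s.2.5.4 (R.mk s.2.5.5.2 s.2.5.5.1) (R.mk s.2.5.6.2 s.2.5.6.1) (R.mk s.2.5.7.2 s.2.5.7.1) (R.mk s.2.5.8.2 s.2.5.8.1) s.2.5.9 s.2.5.10 s.2.5.11 s.2.5.12 (R.mk s.2.5.13.2 s.2.5.13.1) (R.mk s.2.5.14.2 s.2.5.14.1) (R.mk s.2.5.15.2 s.2.5.15.1) (R.mk s.2.5.16.2 s.2.5.16.1))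
  (@T16.mk R s.2.6.1 s.2.6.2 (R.mk s.2.6.3.2 s.2.6.3.1) (R.mk s.2.6.4.2 s.2.6.4.1) (R.mk s.2.6.5.2 s.2.6.5.1) (R.mk s.2.6.6.2 s.2.6.6.1) s.2.6.7 s.2.6.8 (R.mk s.2.6.9.2 s.2.6.9.1) (R.mk s.2.6.10.2 s.2.6.10.1) s.2.6.11 s.2.6.12 s.2.6.13 s.2.6.14 (R.mk s.2.6.15.2 s.2.6.15.1) (R.mk s.2.6.16.2 s.2.6.16.1))
  (@T16.mk R (R.mk s.2.7.1.2 s.2.7.1.1) (R.mk s.2.7.2.2 s.2.7.2.1) (R.mk s.2.7.3.2 s.2.7.3.1) (R.mk s.2.7.4.2 s.2.7.4.1) s.2.7.5 s.2.7.6 s.2.7.7 s.2.7.8 (R.mk s.2.7.9.2 s.2.7.9.1) (R.mk s.2.7.10.2 s.2.7.10.1) (R.mk s.2.7.11.2 s.2.7.11.1) (R.mk s.2.7.12.2 s.2.7.12.1) s.2.7.13 s.2.7.14 s.2.7.15 s.2.7.16)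
  (@T16.mk R (R.mk s.2.8.1.2 s.2.8.1.1) (R.mk s.2.8.2.2 s.2.8.2.1) s.2.8.3 s.2.8.4 s.2.8.5 s.2.8.6 (R.mk s.2.8.7.2 s.2.8.7.1) (R.mk s.2.8.8.2 s.2.8.8.1) s.2.8.9 s.2.8.10 (R.mk s.2.8.11.2 s.2.8.11.1) (R.mk s.2.8.12.2 s.2.8.12.1) (R.mk s.2.8.13.2 s.2.8.13.1) (R.mk s.2.8.14.2 s.2.8.14.1) s.2.8.15 s.2.8.16)
  (@T16.mk R (R.mk s.2.9.1.2 s.2.9.1.1) s.2.9.2 s.2.9.3 (R.mk s.2.9.4.2 s.2.9.4.1) s.2.9.5 (R.mk s.2.9.6.2 s.2.9.6.1) (R.mk s.2.9.7.2 s.2.9.7.1) s.2.9.8 (R.mk s.2.9.9.2 s.2.9.9.1) s.2.9.10 s.2.9.11 (R.mk s.2.9.12.2 s.2.9.12.1) s.2.9.13 (R.mk s.2.9.14.2 s.2.9.14.1) (R.mk s.2.9.15.2 s.2.9.15.1) s.2.9.16)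
  (@T16.mk R s.2.10.1 (R.mk s.2.10.2.2 s.2.10.2.1) s.2.10.3 (R.mk s.2.10.4.2 s.2.10.4.1) (R.mk s.2.10.5.2 s.2.10.5.1) s.2.10.6 (R.mk s.2.10.7.2 s.2.10.7.1) s.2.10.8 (R.mk s.2.10.9.2 s.2.10.9.1) s.2.10.10 (R.mk s.2.10.11.2 s.2.10.11.1) s.2.10.12 s.2.10.13 (R.mk s.2.10.14.2 s.2.10.14.1) s.2.10.15 (R.mk s.2.10.16.2 s.2.10.16.1))
  (@T16.mk R s.2.11.1 (R.mk s.2.11.2.2 s.2.11.2.1) (R.mk s.2.11.3.2 s.2.11.3.1) s.2.11.4 (R.mk s.2.11.5.2 s.2.11.5.1) s.2.11.6 s.2.11.7 (R.mk s.2.11.8.2 s.2.11.8.1) s.2.11.9 (R.mk s.2.11.10.2 s.2.11.10.1) (R.mk s.2.11.11.2 s.2.11.11.1) s.2.11.12 (R.mk s.2.11.13.2 s.2.11.13.1) s.2.11.14 s.2.11.15 (R.mk s.2.11.16.2 s.2.11.16.1))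
  (@T16.mk R (R.mk s.2.12.1.2 s.2.12.1.1) s.2.12.2 (R.mk s.2.12.3.2 s.2.12.3.1) s.2.12.4 s.2.12.5 (R.mk s.2.12.6.2 s.2.12.6.1) s.2.12.7 (R.mk s.2.12.8.2 s.2.12.8.1) s.2.12.9 (R.mk s.2.12.10.2 s.2.12.10.1) s.2.12.11 (R.mk s.2.12.12.2 s.2.12.12.1) (R.mk s.2.12.13.2 s.2.12.13.1) s.2.12.14 (R.mk s.2.12.15.2 s.2.12.15.1) s.2.12.16)
  (@T16.mk R s.2.13.1 (R.mk s.2.13.2.2 s.2.13.2.1) (R.mk s.2.13.3.2 s.2.13.3.1) s.2.13.4 s.2.13.5 (R.mk s.2.13.6.2 s.2.13.6.1) (R.mk s.2.13.7.2 s.2.13.7.1) s.2.13.8 s.2.13.9 (R.mk s.2.13.10.2 s.2.13.10.1) (R.mk s.2.13.11.2 s.2.13.11.1) s.2.13.12 s.2.13.13 (R.mk s.2.13.14.2 s.2.13.14.1) (R.mk s.2.13.15.2 s.2.13.15.1) s.2.13.16)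
  (@T16.mk R s.2.14.1 (R.mk s.2.14.2.2 s.2.14.2.1) s.2.14.3 (R.mk s.2.14.4.2 s.2.14.4.1) s.2.14.5 (R.mk s.2.14.6.2 s.2.14.6.1) s.2.14.7 (R.mk s.2.14.8.2 s.2.14.8.1) (R.mk s.2.14.9.2 s.2.14.9.1) s.2.14.10 (R.mk s.2.14.11.2 s.2.14.11.1) s.2.14.12 (R.mk s.2.14.13.2 s.2.14.13.1) s.2.14.14 (R.mk s.2.14.15.2 s.2.14.15.1) s.2.14.16)
  (@T16.mk R s.2.15.1 (R.mk s.2.15.2.2 s.2.15.2.1) (R.mk s.2.15.3.2 s.2.15.3.1) s.2.15.4 s.2.15.5 (R.mk s.2.15.6.2 s.2.15.6.1) (R.mk s.2.15.7.2 s.2.15.7.1) s.2.15.8 s.2.15.9 (R.mk s.2.15.10.2 s.2.15.10.1) (R.mk s.2.15.11.2 s.2.15.11.1) s.2.15.12 s.2.15.13 (R.mk s.2.15.14.2 s.2.15.14.1) (R.mk s.2.15.15.2 s.2.15.15.1) s.2.15.16)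
  (@T16.mk R s.2.16.1 (R.mk s.2.16.2.2 s.2.16.2.1) s.2.16.3 (R.mk s.2.16.4.2 s.2.16.4.1) s.2.16.5 (R.mk s.2.16.6.2 s.2.16.6.1) s.2.16.7 (R.mk s.2.16.8.2 s.2.16.8.1) (R.mk s.2.16.9.2 s.2.16.9.1) s.2.16.10 (R.mk s.2.16.11.2 s.2.16.11.1) s.2.16.12 (R.mk s.2.16.13.2 s.2.16.13.1) s.2.16.14 (R.mk s.2.16.15.2 s.2.16.15.1) s.2.16.16)
 )
 (@T16.mk (T16 R)
  (@T16.mk R (R.mk s.3.1.1.2 s.3.1.1.1) (R.mk s.3.1.2.2 s.3.1.2.1) s.3.1.3 s.3.1.4 s.3.1.5 s.3.1.6 (R.mk s.3.1.7.2 s.3.1.7.1) (R.mk s.3.1.8.2 s.3.1.8.1) s.3.1.9 s.3.1.10 (R.mk s.3.1.11.2 s.3.1.11.1) (R.mk s.3.1.12.2 s.3.1.12.1) (R.mk s.3.1.13.2 s.3.1.13.1) (R.mk s.3.1.14.2 s.3.1.14.1) s.3.1.15 s.3.1.16)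
  (@T16.mk R (R.mk s.3.2.1.2 s.3.2.1.1) (R.mk s.3.2.2.2 s.3.2.2.1) (R.mk s.3.2.3.2 s.3.2.3.1) (R.mk s.3.2.4.2 s.3.2.4.1) s.3.2.5 s.3.2.6 s.3.2.7 s.3.2.8 (R.mk s.3.2.9.2 s.3.2.9.1) (R.mk s.3.2.10.2 s.3.2.10.1) (R.mk s.3.2.11.2 s.3.2.11.1) (R.mk s.3.2.12.2 s.3.2.12.1) s.3.2.13 s.3.2.14 s.3.2.15 s.3.2.16)
  (@T16.mk R s.3.3.1 s.3.3.2 (R.mk s.3.3.3.2 s.3.3.3.1) (R.mk s.3.3.4.2 s.3.3.4.1) (R.mk s.3.3.5.2 s.3.3.5.1) (R.mk s.3.3.6.2 s.3.3.6.1) s.3.3.7 s.3.3.8 (R.mk s.3.3.9.2 s.3.3.9.1) (R.mk s.3.3.10.2 s.3.3.10.1) s.3.3.11 s.3.3.12 s.3.3.13 s.3.3.14 (R.mk s.3.3.15.2 s.3.3.15.1) (R.mk s.3.3.16.2 s.3.3.16.1))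
  (@T16.mk R s.3.4.1 s.3.4.2 s.3.4.3 s.3.4.4 (R.mk s.3.4.5.2 s.3.4.5.1) (R.mk s.3.4.6.2 s.3.4.6.1) (R.mk s.3.4.7.2 s.3.4.7.1) (R.mk s.3.4.8.2 s.3.4.8.1) s.3.4.9 s.3.4.10 s.3.4.11 s.3.4.12 (R.mk s.3.4.13.2 s.3.4.13.1) (R.mk s.3.4.14.2 s.3.4.14.1) (R.mk s.3.4.15.2 s.3.4.15.1) (R.mk s.3.4.16.2 s.3.4.16.1))
  (@T16.mk R (R.mk s.3.5.1.2 s.3.5.1.1) (R.mk s.3.5.2.2 s.3.5.2.1) s.3.5.3 s.3.5.4 (R.mk s.3.5.5.2 s.3.5.5.1) (R.mk s.3.5.6.2 s.3.5.6.1) s.3.5.7 s.3.5.8 s.3.5.9 s.3.5.10 (R.mk s.3.5.11.2 s.3.5.11.1) (R.mk s.3.5.12.2 s.3.5.12.1) s.3.5.13 s.3.5.14 (R.mk s.3.5.15.2 s.3.5.15.1) (R.mk s.3.5.16.2 s.3.5.16.1))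
  (@T16.mk R s.3.6.1 s.3.6.2 s.3.6.3 s.3.6.4 s.3.6.5 s.3.6.6 s.3.6.7 s.3.6.8 s.3.6.9 s.3.6.10 s.3.6.11 s.3.6.12 s.3.6.13 s.3.6.14 s.3.6.15 s.3.6.16)
  (@T16.mk R (R.mk s.3.7.1.2 s.3.7.1.1) (R.mk s.3.7.2.2 s.3.7.2.1) s.3.7.3 s.3.7.4 (R.mk s.3.7.5.2 s.3.7.5.1) (R.mk s.3.7.6.2 s.3.7.6.1) s.3.7.7 s.3.7.8 s.3.7.9 s.3.7.10 (R.mk s.3.7.11.2 s.3.7.11.1) (R.mk s.3.7.12.2 s.3.7.12.1) s.3.7.13 s.3.7.14 (R.mk s.3.7.15.2 s.3.7.15.1) (R.mk s.3.7.16.2 s.3.7.16.1))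
  (@T16.mk R s.3.8.1 s.3.8.2 s.3.8.3 s.3.8.4 s.3.8.5 s.3.8.6 s.3.8.7 s.3.8.8 s.3.8.9 s.3.8.10 s.3.8.11 s.3.8.12 s.3.8.13 s.3.8.14 s.3.8.15 s.3.8.16)
  (@T16.mk R (R.mk s.3.9.1.2 s.3.9.1.1) s.3.9.2 (R.mk s.3.9.3.2 s.3.9.3.1) s.3.9.4 (R.mk s.3.9.5.2 s.3.9.5.1) s.3.9.6 (R.mk s.3.9.7.2 s.3.9.7.1) s.3.9.8 s.3.9.9 (R.mk s.3.9.10.2 s.3.9.10.1) s.3.9.11 (R.mk s.3.9.12.2 s.3.9.12.1) s.3.9.13 (R.mk s.3.9.14.2 s.3.9.14.1) s.3.9.15 (R.mk s.3.9.16.2 s.3.9.16.1))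
  (@T16.mk R (R.mk s.3.10.1.2 s.3.10.1.1) s.3.10.2 s.3.10.3 (R.mk s.3.10.4.2 s.3.10.4.1) (R.mk s.3.10.5.2 s.3.10.5.1) s.3.10.6 s.3.10.7 (R.mk s.3.10.8.2 s.3.10.8.1) (R.mk s.3.10.9.2 s.3.10.9.1) s.3.10.10 s.3.10.11 (R.mk s.3.10.12.2 s.3.10.12.1) (R.mk s.3.10.13.2 s.3.10.13.1) s.3.10.14 s.3.10.15 (R.mk s.3.10.16.2 s.3.10.16.1))
  (@T16.mk R (R.mk s.3.11.1.2 s.3.11.1.1) s.3.11.2 (R.mk s.3.11.3.2 s.3.11.3.1) s.3.11.4 (R.mk s.3.11.5.2 s.3.11.5.1) s.3.11.6 (R.mk s.3.11.7.2 s.3.11.7.1) s.3.11.8 s.3.11.9 (R.mk s.3.11.10.2 s.3.11.10.1) s.3.11.11 (R.mk s.3.11.12.2 s.3.11.12.1) s.3.11.13 (R.mk s.3.11.14.2 s.3.11.14.1) s.3.11.15 (R.mk s.3.11.16.2 s.3.11.16.1))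
  (@T16.mk R (R.mk s.3.12.1.2 s.3.12.1.1) s.3.12.2 s.3.12.3 (R.mk s.3.12.4.2 s.3.12.4.1) (R.mk s.3.12.5.2 s.3.12.5.1) s.3.12.6 s.3.12.7 (R.mk s.3.12.8.2 s.3.12.8.1) (R.mk s.3.12.9.2 s.3.12.9.1) s.3.12.10 s.3.12.11 (R.mk s.3.12.12.2 s.3.12.12.1) (R.mk s.3.12.13.2 s.3.12.13.1) s.3.12.14 s.3.12.15 (R.mk s.3.12.16.2 s.3.12.16.1))
  (@T16.mk R s.3.13.1 (R.mk s.3.13.2.2 s.3.13.2.1) s.3.13.3 (R.mk s.3.13.4.2 s.3.13.4.1) (R.mk s.3.13.5.2 s.3.13.5.1) s.3.13.6 (R.mk s.3.13.7.2 s.3.13.7.1) s.3.13.8 (R.mk s.3.13.9.2 s.3.13.9.1) s.3.13.10 (R.mk s.3.13.11.2 s.3.13.11.1) s.3.13.12 s.3.13.13 (R.mk s.3.13.14.2 s.3.13.14.1) s.3.13.15 (R.mk s.3.13.16.2 s.3.13.16.1))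
  (@T16.mk R (R.mk s.3.14.1.2 s.3.14.1.1) s.3.14.2 s.3.14.3 (R.mk s.3.14.4.2 s.3.14.4.1) s.3.14.5 (R.mk s.3.14.6.2 s.3.14.6.1) (R.mk s.3.14.7.2 s.3.14.7.1) s.3.14.8 (R.mk s.3.14.9.2 s.3.14.9.1) s.3.14.10 s.3.14.11 (R.mk s.3.14.12.2 s.3.14.12.1) s.3.14.13 (R.mk s.3.14.14.2 s.3.14.14.1) (R.mk s.3.14.15.2 s.3.14.15.1) s.3.14.16)
  (@T16.mk R (R.mk s.3.15.1.2 s.3.15.1.1) s.3.15.2 (R.mk s.3.15.3.2 s.3.15.3.1) s.3.15.4 s.3.15.5 (R.mk s.3.15.6.2 s.3.15.6.1) s.3.15.7 (R.mk s.3.15.8.2 s.3.15.8.1) s.3.15.9 (R.mk s.3.15.10.2 s.3.15.10.1) s.3.15.11 (R.mk s.3.15.12.2 s.3.15.12.1) (R.mk s.3.15.13.2 s.3.15.13.1) s.3.15.14 (R.mk s.3.15.15.2 s.3.15.15.1) s.3.15.16)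
  (@T16.mk R s.3.16.1 (R.mk s.3.16.2.2 s.3.16.2.1) (R.mk s.3.16.3.2 s.3.16.3.1) s.3.16.4 (R.mk s.3.16.5.2 s.3.16.5.1) s.3.16.6 s.3.16.7 (R.mk s.3.16.8.2 s.3.16.8.1) s.3.16.9 (R.mk s.3.16.10.2 s.3.16.10.1) (R.mk s.3.16.11.2 s.3.16.11.1) s.3.16.12 (R.mk s.3.16.13.2 s.3.16.13.1) s.3.16.14 s.3.16.15 (R.mk s.3.16.16.2 s.3.16.16.1))
 )
 (@T16.mk (T16 R)
  (@T16.mk R (R.mk s.4.1.1.2 s.4.1.1.1) (R.mk s.4.1.2.2 s.4.1.2.1) s.4.1.3 s.4.1.4 (R.mk s.4.1.5.2 s.4.1.5.1) (R.mk s.4.1.6.2 s.4.1.6.1) s.4.1.7 s.4.1.8 s.4.1.9 s.4.1.10 (R.mk s.4.1.11.2 s.4.1.11.1) (R.mk s.4.1.12.2 s.4.1.12.1) s.4.1.13 s.4.1.14 (R.mk s.4.1.15.2 s.4.1.15.1) (R.mk s.4.1.16.2 s.4.1.16.1))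
  (@T16.mk R s.4.2.1 s.4.2.2 s.4.2.3 s.4.2.4 s.4.2.5 s.4.2.6 s.4.2.7 s.4.2.8 s.4.2.9 s.4.2.10 s.4.2.11 s.4.2.12 s.4.2.13 s.4.2.14 s.4.2.15 s.4.2.16)
  (@T16.mk R (R.mk s.4.3.1.2 s.4.3.1.1) (R.mk s.4.3.2.2 s.4.3.2.1) s.4.3.3 s.4.3.4 (R.mk s.4.3.5.2 s.4.3.5.1) (R.mk s.4.3.6.2 s.4.3.6.1) s.4.3.7 s.4.3.8 s.4.3.9 s.4.3.10 (R.mk s.4.3.11.2 s.4.3.11.1) (R.mk s.4.3.12.2 s.4.3.12.1) s.4.3.13 s.4.3.14 (R.mk s.4.3.15.2 s.4.3.15.1) (R.mk s.4.3.16.2 s.4.3.16.1))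
  (@T16.mk R s.4.4.1 s.4.4.2 s.4.4.3 s.4.4.4 s.4.4.5 s.4.4.6 s.4.4.7 s.4.4.8 s.4.4.9 s.4.4.10 s.4.4.11 s.4.4.12 s.4.4.13 s.4.4.14 s.4.4.15 s.4.4.16)
  (@T16.mk R (R.mk s.4.5.1.2 s.4.5.1.1) (R.mk s.4.5.2.2 s.4.5.2.1) s.4.5.3 s.4.5.4 s.4.5.5 s.4.5.6 (R.mk s.4.5.7.2 s.4.5.7.1) (R.mk s.4.5.8.2 s.4.5.8.1) s.4.5.9 s.4.5.10 (R.mk s.4.5.11.2 s.4.5.11.1) (R.mk s.4.5.12.2 s.4.5.12.1) (R.mk s.4.5.13.2 s.4.5.13.1) (R.mk s.4.5.14.2 s.4.5.14.1) s.4.5.15 s.4.5.16)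
  (@T16.mk R (R.mk s.4.6.1.2 s.4.6.1.1) (R.mk s.4.6.2.2 s.4.6.2.1) (R.mk s.4.6.3.2 s.4.6.3.1) (R.mk s.4.6.4.2 s.4.6.4.1) s.4.6.5 s.4.6.6 s.4.6.7 s.4.6.8 (R.mk s.4.6.9.2 s.4.6.9.1) (R.mk s.4.6.10.2 s.4.6.10.1) (R.mk s.4.6.11.2 s.4.6.11.1) (R.mk s.4.6.12.2 s.4.6.12.1) s.4.6.13 s.4.6.14 s.4.6.15 s.4.6.16)
  (@T16.mk R s.4.7.1 s.4.7.2 (R.mk s.4.7.3.2 s.4.7.3.1) (R.mk s.4.7.4.2 s.4.7.4.1) (R.mk s.4.7.5.2 s.4.7.5.1) (R.mk s.4.7.6.2 s.4.7.6.1) s.4.7.7 s.4.7.8 (R.mk s.4.7.9.2 s.4.7.9.1) (R.mk s.4.7.10.2 s.4.7.10.1) s.4.7.11 s.4.7.12 s.4.7.13 s.4.7.14 (R.mk s.4.7.15.2 s.4.7.15.1) (R.mk s.4.7.16.2 s.4.7.16.1))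
  (@T16.mk R s.4.8.1 s.4.8.2 s.4.8.3 s.4.8.4 (R.mk s.4.8.5.2 s.4.8.5.1) (R.mk s.4.8.6.2 s.4.8.6.1) (R.mk s.4.8.7.2 s.4.8.7.1) (R.mk s.4.8.8.2 s.4.8.8.1) s.4.8.9 s.4.8.10 s.4.8.11 s.4.8.12 (R.mk s.4.8.13.2 s.4.8.13.1) (R.mk s.4.8.14.2 s.4.8.14.1) (R.mk s.4.8.15.2 s.4.8.15.1) (R.mk s.4.8.16.2 s.4.8.16.1))
  (@T16.mk R (R.mk s.4.9.1.2 s.4.9.1.1) s.4.9.2 (R.mk s.4.9.3.2 s.4.9.3.1) s.4.9.4 s.4.9.5 (R.mk s.4.9.6.2 s.4.9.6.1) s.4.9.7 (R.mk s.4.9.8.2 s.4.9.8.1) s.4.9.9 (R.mk s.4.9.10.2 s.4.9.10.1) s.4.9.11 (R.mk s.4.9.12.2 s.4.9.12.1) (R.mk s.4.9.13.2 s.4.9.13.1) s.4.9.14 (R.mk s.4.9.15.2 s.4.9.15.1) s.4.9.16)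
  (@T16.mk R s.4.10.1 (R.mk s.4.10.2.2 s.4.10.2.1) (R.mk s.4.10.3.2 s.4.10.3.1) s.4.10.4 (R.mk s.4.10.5.2 s.4.10.5.1) s.4.10.6 s.4.10.7 (R.mk s.4.10.8.2 s.4.10.8.1) s.4.10.9 (R.mk s.4.10.10.2 s.4.10.10.1) (R.mk s.4.10.11.2 s.4.10.11.1) s.4.10.12 (R.mk s.4.10.13.2 s.4.10.13.1) s.4.10.14 s.4.10.15 (R.mk s.4.10.16.2 s.4.10.16.1))
  (@T16.mk R s.4.11.1 (R.mk s.4.11.2.2 s.4.11.2.1) s.4.11.3 (R.mk s.4.11.4.2 s.4.11.4.1) (R.mk s.4.11.5.2 s.4.11.5.1) s.4.11.6 (R.mk s.4.11.7.2 s.4.11.7.1) s.4.11.8 (R.mk s.4.11.9.2 s.4.11.9.1) s.4.11.10 (R.mk s.4.11.11.2 s.4.11.11.1) s.4.11.12 s.4.11.13 (R.mk s.4.11.14.2 s.4.11.14.1) s.4.11.15 (R.mk s.4.11.16.2 s.4.11.16.1))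
  (@T16.mk R (R.mk s.4.12.1.2 s.4.12.1.1) s.4.12.2 s.4.12.3 (R.mk s.4.12.4.2 s.4.12.4.1) s.4.12.5 (R.mk s.4.12.6.2 s.4.12.6.1) (R.mk s.4.12.7.2 s.4.12.7.1) s.4.12.8 (R.mk s.4.12.9.2 s.4.12.9.1) s.4.12.10 s.4.12.11 (R.mk s.4.12.12.2 s.4.12.12.1) s.4.12.13 (R.mk s.4.12.14.2 s.4.12.14.1) (R.mk s.4.12.15.2 s.4.12.15.1) s.4.12.16)
  (@T16.mk R s.4.13.1 (R.mk s.4.13.2.2 s.4.13.2.1) s.4.13.3 (R.mk s.4.13.4.2 s.4.13.4.1) s.4.13.5 (R.mk s.4.13.6.2 s.4.13.6.1) s.4.13.7 (R.mk s.4.13.8.2 s.4.13.8.1) (R.mk s.4.13.9.2 s.4.13.9.1) s.4.13.10 (R.mk s.4.13.11.2 s.4.13.11.1) s.4.13.12 (R.mk s.4.13.13.2 s.4.13.13.1) s.4.13.14 (R.mk s.4.13.15.2 s.4.13.15.1) s.4.13.16)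
  (@T16.mk R s.4.14.1 (R.mk s.4.14.2.2 s.4.14.2.1) (R.mk s.4.14.3.2 s.4.14.3.1) s.4.14.4 s.4.14.5 (R.mk s.4.14.6.2 s.4.14.6.1) (R.mk s.4.14.7.2 s.4.14.7.1) s.4.14.8 s.4.14.9 (R.mk s.4.14.10.2 s.4.14.10.1) (R.mk s.4.14.11.2 s.4.14.11.1) s.4.14.12 s.4.14.13 (R.mk s.4.14.14.2 s.4.14.14.1) (R.mk s.4.14.15.2 s.4.14.15.1) s.4.14.16)
  (@T16.mk R s.4.15.1 (R.mk s.4.15.2.2 s.4.15.2.1) s.4.15.3 (R.mk s.4.15.4.2 s.4.15.4.1) s.4.15.5 (R.mk s.4.15.6.2 s.4.15.6.1) s.4.15.7 (R.mk s.4.15.8.2 s.4.15.8.1) (R.mk s.4.15.9.2 s.4.15.9.1) s.4.15.10 (R.mk s.4.15.11.2 s.4.15.11.1) s.4.15.12 (R.mk s.4.15.13.2 s.4.15.13.1) s.4.15.14 (R.mk s.4.15.15.2 s.4.15.15.1) s.4.15.16)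
  (@T16.mk R s.4.16.1 (R.mk s.4.16.2.2 s.4.16.2.1) (R.mk s.4.16.3.2 s.4.16.3.1) s.4.16.4 s.4.16.5 (R.mk s.4.16.6.2 s.4.16.6.1) (R.mk s.4.16.7.2 s.4.16.7.1) s.4.16.8 s.4.16.9 (R.mk s.4.16.10.2 s.4.16.10.1) (R.mk s.4.16.11.2 s.4.16.11.1) s.4.16.12 s.4.16.13 (R.mk s.4.16.14.2 s.4.16.14.1) (R.mk s.4.16.15.2 s.4.16.15.1) s.4.16.16)
 )
 (@T16.mk (T16 R)
  (@T16.mk R s.6.5.11 s.6.5.12 (R.mk s.6.5.9.2 s.6.5.9.1) (R.mk s.6.5.10.2 s.6.5.10.1) s.6.5.15 s.6.5.16 (R.mk s.6.5.13.2 s.6.5.13.1) (R.mk s.6.5.14.2 s.6.5.14.1) (R.mk s.6.5.3.2 s.6.5.3.1) (R.mk s.6.5.4.2 s.6.5.4.1) s.6.5.1 s.6.5.2 (R.mk s.6.5.7.2 s.6.5.7.1) (R.mk s.6.5.8.2 s.6.5.8.1) s.6.5.5 s.6.5.6)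
  (@T16.mk R (R.mk s.6.6.11.2 s.6.6.11.1) (R.mk s.6.6.12.2 s.6.6.12.1) (R.mk s.6.6.9.2 s.6.6.9.1) (R.mk s.6.6.10.2 s.6.6.10.1) (R.mk s.6.6.15.2 s.6.6.15.1) (R.mk s.6.6.16.2 s.6.6.16.1) (R.mk s.6.6.13.2 s.6.6.13.1) (R.mk s.6.6.14.2 s.6.6.14.1) (R.mk s.6.6.3.2 s.6.6.3.1) (R.mk s.6.6.4.2 s.6.6.4.1) (R.mk s.6.6.1.2 s.6.6.1.1) (R.mk s.6.6.2.2 s.6.6.2.1) (R.mk s.6.6.7.2 s.6.6.7.1) (R.mk s.6.6.8.2 s.6.6.8.1) (R.mk s.6.6.5.2 s.6.6.5.1) (R.mk s.6.6.6.2 s.6.6.6.1))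
  (@T16.mk R (R.mk s.6.7.11.2 s.6.7.11.1) (R.mk s.6.7.12.2 s.6.7.12.1) s.6.7.9 s.6.7.10 (R.mk s.6.7.15.2 s.6.7.15.1) (R.mk s.6.7.16.2 s.6.7.16.1) s.6.7.13 s.6.7.14 s.6.7.3 s.6.7.4 (R.mk s.6.7.1.2 s.6.7.1.1) (R.mk s.6.7.2.2 s.6.7.2.1) s.6.7.7 s.6.7.8 (R.mk s.6.7.5.2 s.6.7.5.1) (R.mk s.6.7.6.2 s.6.7.6.1))
  (@T16.mk R (R.mk s.6.8.11.2 s.6.8.11.1) (R.mk s.6.8.12.2 s.6.8.12.1) (R.mk s.6.8.9.2 s.6.8.9.1) (R.mk s.6.8.10.2 s.6.8.10.1) (R.mk s.6.8.15.2 s.6.8.15.1) (R.mk s.6.8.16.2 s.6.8.16.1) (R.mk s.6.8.13.2 s.6.8.13.1) (R.mk s.6.8.14.2 s.6.8.14.1) (R.mk s.6.8.3.2 s.6.8.3.1) (R.mk s.6.8.4.2 s.6.8.4.1) (R.mk s.6.8.1.2 s.6.8.1.1) (R.mk s.6.8.2.2 s.6.8.2.1) (R.mk s.6.8.7.2 s.6.8.7.1) (R.mk s.6.8.8.2 s.6.8.8.1) (R.mk s.6.8.5.2 s.6.8.5.1) (R.mk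 s.6.8.6.2 s.6.8.6.1))
  (@T16.mk R s.6.1.11 s.6.1.12 (R.mk s.6.1.9.2 s.6.1.9.1) (R.mk s.6.1.10.2 s.6.1.10.1) (R.mk s.6.1.15.2 s.6.1.15.1) (R.mk s.6.1.16.2 s.6.1.16.1) s.6.1.13 s.6.1.14 (R.mk s.6.1.3.2 s.6.1.3.1) (R.mk s.6.1.4.2 s.6.1.4.1) s.6.1.1 s.6.1.2 s.6.1.7 s.6.1.8 (R.mk s.6.1.5.2 s.6.1.5.1) (R.mk s.6.1.6.2 s.6.1.6.1))
  (@T16.mk R (R.mk s.6.2.11.2 s.6.2.11.1) (R.mk s.6.2.12.2 s.6.2.12.1) (R.mk s.6.2.9.2 s.6.2.9.1) (R.mk s.6.2.10.2 s.6.2.10.1) s.6.2.15 s.6.2.16 s.6.2.13 s.6.2.14 (R.mk s.6.2.3.2 s.6.2.3.1) (R.mk s.6.2.4.2 s.6.2.4.1) (R.mk s.6.2.1.2 s.6.2.1.1) (R.mk s.6.2.2.2 s.6.2.2.1) s.6.2.7 s.6.2.8 s.6.2.5 s.6.2.6)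
  (@T16.mk R (R.mk s.6.3.11.2 s.6.3.11.1) (R.mk s.6.3.12.2 s.6.3.12.1) s.6.3.9 s.6.3.10 s.6.3.15 s.6.3.16 (R.mk s.6.3.13.2 s.6.3.13.1) (R.mk s.6.3.14.2 s.6.3.14.1) s.6.3.3 s.6.3.4 (R.mk s.6.3.1.2 s.6.3.1.1) (R.mk s.6.3.2.2 s.6.3.2.1) (R.mk s.6.3.7.2 s.6.3.7.1) (R.mk s.6.3.8.2 s.6.3.8.1) s.6.3.5 s.6.3.6)
  (@T16.mk R s.6.4.11 s.6.4.12 s.6.4.9 s.6.4.10 (R.mk s.6.4.15.2 s.6.4.15.1) (R.mk s.6.4.16.2 s.6.4.16.1) (R.mk s.6.4.13.2 s.6.4.13.1) (R.mk s.6.4.14.2 s.6.4.14.1) s.6.4.3 s.6.4.4 s.6.4.1 s.6.4.2 (R.mk s.6.4.7.2 s.6.4.7.1) (R.mk s.6.4.8.2 s.6.4.8.1) (R.mk s.6.4.5.2 s.6.4.5.1) (R.mk s.6.4.6.2 s.6.4.6.1))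
  (@T16.mk R (R.mk s.6.13.11.2 s.6.13.11.1) s.6.13.12 (R.mk s.6.13.9.2 s.6.13.9.1) s.6.13.10 s.6.13.15 (R.mk s.6.13.16.2 s.6.13.16.1) s.6.13.13 (R.mk s.6.13.14.2 s.6.13.14.1) s.6.13.3 (R.mk s.6.13.4.2 s.6.13.4.1) s.6.13.1 (R.mk s.6.13.2.2 s.6.13.2.1) (R.mk s.6.13.7.2 s.6.13.7.1) s.6.13.8 (R.mk s.6.13.5.2 s.6.13.5.1) s.6.13.6)
  (@T16.mk R (R.mk s.6.14.11.2 s.6.14.11.1) s.6.14.12 s.6.14.9 (R.mk s.6.14.10.2 s.6.14.10.1) s.6.14.15 (R.mk s.6.14.16.2 s.6.14.16.1) (R.mk s.6.14.13.2 s.6.14.13.1) s.6.14.14 (R.mk s.6.14.3.2 s.6.14.3.1) s.6.14.4 s.6.14.1 (R.mk s.6.14.2.2 s.6.14.2.1) s.6.14.7 (R.mk s.6.14.8.2 s.6.14.8.1) (R.mk s.6.14.5.2 s.6.14.5.1) s.6.14.6)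
  (@T16.mk R s.6.15.11 (R.mk s.6.15.12.2 s.6.15.12.1) s.6.15.9 (R.mk s.6.15.10.2 s.6.15.10.1) (R.mk s.6.15.15.2 s.6.15.15.1) s.6.15.16 (R.mk s.6.15.13.2 s.6.15.13.1) s.6.15.14 (R.mk s.6.15.3.2 s.6.15.3.1) s.6.15.4 (R.mk s.6.15.1.2 s.6.15.1.1) s.6.15.2 s.6.15.7 (R.mk s.6.15.8.2 s.6.15.8.1) s.6.15.5 (R.mk s.6.15.6.2 s.6.15.6.1))
  (@T16.mk R s.6.16.11 (R.mk s.6.16.12.2 s.6.16.12.1) (R.mk s.6.16.9.2 s.6.16.9.1) s.6.16.10 (R.mk s.6.16.15.2 s.6.16.15.1) s.6.16.16 s.6.16.13 (R.mk s.6.16.14.2 s.6.16.14.1) s.6.16.3 (R.mk s.6.16.4.2 s.6.16.4.1) (R.mk s.6.16.1.2 s.6.16.1.1) s.6.16.2 (R.mk s.6.16.7.2 s.6.16.7.1) s.6.16.8 s.6.16.5 (R.mk s.6.16.6.2 s.6.16.6.1))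
  (@T16.mk R s.6.9.11 (R.mk s.6.9.12.2 s.6.9.12.1) s.6.9.9 (R.mk s.6.9.10.2 s.6.9.10.1) s.6.9.15 (R.mk s.6.9.16.2 s.6.9.16.1) s.6.9.13 (R.mk s.6.9.14.2 s.6.9.14.1) (R.mk s.6.9.3.2 s.6.9.3.1) s.6.9.4 (R.mk s.6.9.1.2 s.6.9.1.1) s.6.9.2 (R.mk s.6.9.7.2 s.6.9.7.1) s.6.9.8 (R.mk s.6.9.5.2 s.6.9.5.1) s.6.9.6)
  (@T16.mk R s.6.10.11 (R.mk s.6.10.12.2 s.6.10.12.1) (R.mk s.6.10.9.2 s.6.10.9.1) s.6.10.10 s.6.10.15 (R.mk s.6.10.16.2 s.6.10.16.1) (R.mk s.6.10.13.2 s.6.10.13.1) s.6.10.14 s.6.10.3 (R.mk s.6.10.4.2 s.6.10.4.1) (R.mk s.6.10.1.2 s.6.10.1.1) s.6.10.2 s.6.10.7 (R.mk s.6.10.8.2 s.6.10.8.1) (R.mk s.6.10.5.2 s.6.10.5.1) s.6.10.6)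
  (@T16.mk R (R.mk s.6.11.11.2 s.6.11.11.1) s.6.11.12 (R.mk s.6.11.9.2 s.6.11.9.1) s.6.11.10 (R.mk s.6.11.15.2 s.6.11.15.1) s.6.11.16 (R.mk s.6.11.13.2 s.6.11.13.1) s.6.11.14 s.6.11.3 (R.mk s.6.11.4.2 s.6.11.4.1) s.6.11.1 (R.mk s.6.11.2.2 s.6.11.2.1) s.6.11.7 (R.mk s.6.11.8.2 s.6.11.8.1) s.6.11.5 (R.mk s.6.11.6.2 s.6.11.6.1))
  (@T16.mk R s.6.12.11 (R.mk s.6.12.12.2 s.6.12.12.1) (R.mk s.6.12.9.2 s.6.12.9.1) s.6.12.10 s.6.12.15 (R.mk s.6.12.16.2 s.6.12.16.1) (R.mk s.6.12.13.2 s.6.12.13.1) s.6.12.14 s.6.12.3 (R.mk s.6.12.4.2 s.6.12.4.1) (R.mk s.6.12.1.2 s.6.12.1.1) s.6.12.2 s.6.12.7 (R.mk s.6.12.8.2 s.6.12.8.1) (R.mk s.6.12.5.2 s.6.12.5.1) s.6.12.6)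
 )
 (@T16.mk (T16 R)
  (@T16.mk R s.5.5.11 s.5.5.12 (R.mk s.5.5.9.2 s.5.5.9.1) (R.mk s.5.5.10.2 s.5.5.10.1) (R.mk s.5.5.15.2 s.5.5.15.1) (R.mk s.5.5.16.2 s.5.5.16.1) s.5.5.13 s.5.5.14 (R.mk s.5.5.3.2 s.5.5.3.1) (R.mk s.5.5.4.2 s.5.5.4.1) s.5.5.1 s.5.5.2 s.5.5.7 s.5.5.8 (R.mk s.5.5.5.2 s.5.5.5.1) (R.mk s.5.5.6.2 s.5.5.6.1))
  (@T16.mk R (R.mk s.5.6.11.2 s.5.6.11.1) (R.mk s.5.6.12.2 s.5.6.12.1) (R.mk s.5.6.9.2 s.5.6.9.1) (R.mk s.5.6.10.2 s.5.6.10.1) s.5.6.15 s.5.6.16 s.5.6.13 s.5.6.14 (R.mk s.5.6.3.2 s.5.6.3.1) (R.mk s.5.6.4.2 s.5.6.4.1) (R.mk s.5.6.1.2 s.5.6.1.1) (R.mk s.5.6.2.2 s.5.6.2.1) s.5.6.7 s.5.6.8 s.5.6.5 s.5.6.6)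
  (@T16.mk R (R.mk s.5.7.11.2 s.5.7.11.1) (R.mk s.5.7.12.2 s.5.7.12.1) s.5.7.9 s.5.7.10 s.5.7.15 s.5.7.16 (R.mk s.5.7.13.2 s.5.7.13.1) (R.mk s.5.7.14.2 s.5.7.14.1) s.5.7.3 s.5.7.4 (R.mk s.5.7.1.2 s.5.7.1.1) (R.mk s.5.7.2.2 s.5.7.2.1) (R.mk s.5.7.7.2 s.5.7.7.1) (R.mk s.5.7.8.2 s.5.7.8.1) s.5.7.5 s.5.7.6)
  (@T16.mk R s.5.8.11 s.5.8.12 s.5.8.9 s.5.8.10 (R.mk s.5.8.15.2 s.5.8.15.1) (R.mk s.5.8.16.2 s.5.8.16.1) (R.mk s.5.8.13.2 s.5.8.13.1) (R.mk s.5.8.14.2 s.5.8.14.1) s.5.8.3 s.5.8.4 s.5.8.1 s.5.8.2 (R.mk s.5.8.7.2 s.5.8.7.1) (R.mk s.5.8.8.2 s.5.8.8.1) (R.mk s.5.8.5.2 s.5.8.5.1) (R.mk s.5.8.6.2 s.5.8.6.1))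
  (@T16.mk R s.5.1.11 s.5.1.12 (R.mk s.5.1.9.2 s.5.1.9.1) (R.mk s.5.1.10.2 s.5.1.10.1) s.5.1.15 s.5.1.16 (R.mk s.5.1.13.2 s.5.1.13.1) (R.mk s.5.1.14.2 s.5.1.14.1) (R.mk s.5.1.3.2 s.5.1.3.1) (R.mk s.5.1.4.2 s.5.1.4.1) s.5.1.1 s.5.1.2 (R.mk s.5.1.7.2 s.5.1.7.1) (R.mk s.5.1.8.2 s.5.1.8.1) s.5.1.5 s.5.1.6)
  (@T16.mk R (R.mk s.5.2.11.2 s.5.2.11.1) (R.mk s.5.2.12.2 s.5.2.12.1) (R.mk s.5.2.9.2 s.5.2.9.1) (R.mk s.5.2.10.2 s.5.2.10.1) (R.mk s.5.2.15.2 s.5.2.15.1) (R.mk s.5.2.16.2 s.5.2.16.1) (R.mk s.5.2.13.2 s.5.2.13.1) (R.mk s.5.2.14.2 s.5.2.14.1) (R.mk s.5.2.3.2 s.5.2.3.1) (R.mk s.5.2.4.2 s.5.2.4.1) (R.mk s.5.2.1.2 s.5.2.1.1) (R.mk s.5.2.2.2 s.5.2.2.1) (R.mk s.5.2.7.2 s.5.2.7.1) (R.mk s.5.2.8.2 s.5.2.8.1) (R.mk s.5.2.5.2 s.5.2.5.1) (R.mk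 s.5.2.6.2 s.5.2.6.1))
  (@T16.mk R (R.mk s.5.3.11.2 s.5.3.11.1) (R.mk s.5.3.12.2 s.5.3.12.1) s.5.3.9 s.5.3.10 (R.mk s.5.3.15.2 s.5.3.15.1) (R.mk s.5.3.16.2 s.5.3.16.1) s.5.3.13 s.5.3.14 s.5.3.3 s.5.3.4 (R.mk s.5.3.1.2 s.5.3.1.1) (R.mk s.5.3.2.2 s.5.3.2.1) s.5.3.7 s.5.3.8 (R.mk s.5.3.5.2 s.5.3.5.1) (R.mk s.5.3.6.2 s.5.3.6.1))
  (@T16.mk R (R.mk s.5.4.11.2 s.5.4.11.1) (R.mk s.5.4.12.2 s.5.4.12.1) (R.mk s.5.4.9.2 s.5.4.9.1) (R.mk s.5.4.10.2 s.5.4.10.1) (R.mk s.5.4.15.2 s.5.4.15.1) (R.mk s.5.4.16.2 s.5.4.16.1) (R.mk s.5.4.13.2 s.5.4.13.1) (R.mk s.5.4.14.2 s.5.4.14.1) (R.mk s.5.4.3.2 s.5.4.3.1) (R.mk s.5.4.4.2 s.5.4.4.1) (R.mk s.5.4.1.2 s.5.4.1.1) (R.mk s.5.4.2.2 s.5.4.2.1) (R.mk s.5.4.7.2 s.5.4.7.1) (R.mk s.5.4.8.2 s.5.4.8.1) (R.mk s.5.4.5.2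 s.5.4.5.1) (R.mk s.5.4.6.2 s.5.4.6.1))
  (@T16.mk R (R.mk s.5.13.11.2 s.5.13.11.1) s.5.13.12 (R.mk s.5.13.9.2 s.5.13.9.1) s.5.13.10 (R.mk s.5.13.15.2 s.5.13.15.1) s.5.13.16 (R.mk s.5.13.13.2 s.5.13.13.1) s.5.13.14 s.5.13.3 (R.mk s.5.13.4.2 s.5.13.4.1) s.5.13.1 (R.mk s.5.13.2.2 s.5.13.2.1) s.5.13.7 (R.mk s.5.13.8.2 s.5.13.8.1) s.5.13.5 (R.mk s.5.13.6.2 s.5.13.6.1))
  (@T16.mk R (R.mk s.5.14.11.2 s.5.14.11.1) s.5.14.12 s.5.14.9 (R.mk s.5.14.10.2 s.5.14.10.1) (R.mk s.5.14.15.2 s.5.14.15.1) s.5.14.16 s.5.14.13 (R.mk s.5.14.14.2 s.5.14.14.1) (R.mk s.5.14.3.2 s.5.14.3.1) s.5.14.4 s.5.14.1 (R.mk s.5.14.2.2 s.5.14.2.1) (R.mk s.5.14.7.2 s.5.14.7.1) s.5.14.8 s.5.14.5 (R.mk s.5.14.6.2 s.5.14.6.1))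
  (@T16.mk R s.5.15.11 (R.mk s.5.15.12.2 s.5.15.12.1) s.5.15.9 (R.mk s.5.15.10.2 s.5.15.10.1) s.5.15.15 (R.mk s.5.15.16.2 s.5.15.16.1) s.5.15.13 (R.mk s.5.15.14.2 s.5.15.14.1) (R.mk s.5.15.3.2 s.5.15.3.1) s.5.15.4 (R.mk s.5.15.1.2 s.5.15.1.1) s.5.15.2 (R.mk s.5.15.7.2 s.5.15.7.1) s.5.15.8 (R.mk s.5.15.5.2 s.5.15.5.1) s.5.15.6)
  (@T16.mk R (R.mk s.5.16.11.2 s.5.16.11.1) s.5.16.12 s.5.16.9 (R.mk s.5.16.10.2 s.5.16.10.1) (R.mk s.5.16.15.2 s.5.16.15.1) s.5.16.16 s.5.16.13 (R.mk s.5.16.14.2 s.5.16.14.1) (R.mk s.5.16.3.2 s.5.16.3.1) s.5.16.4 s.5.16.1 (R.mk s.5.16.2.2 s.5.16.2.1) (R.mk s.5.16.7.2 s.5.16.7.1) s.5.16.8 s.5.16.5 (R.mk s.5.16.6.2 s.5.16.6.1))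
  (@T16.mk R s.5.9.11 (R.mk s.5.9.12.2 s.5.9.12.1) s.5.9.9 (R.mk s.5.9.10.2 s.5.9.10.1) (R.mk s.5.9.15.2 s.5.9.15.1) s.5.9.16 (R.mk s.5.9.13.2 s.5.9.13.1) s.5.9.14 (R.mk s.5.9.3.2 s.5.9.3.1) s.5.9.4 (R.mk s.5.9.1.2 s.5.9.1.1) s.5.9.2 s.5.9.7 (R.mk s.5.9.8.2 s.5.9.8.1) s.5.9.5 (R.mk s.5.9.6.2 s.5.9.6.1))
  (@T16.mk R s.5.10.11 (R.mk s.5.10.12.2 s.5.10.12.1) (R.mk s.5.10.9.2 s.5.10.9.1) s.5.10.10 (R.mk s.5.10.15.2 s.5.10.15.1) s.5.10.16 s.5.10.13 (R.mk s.5.10.14.2 s.5.10.14.1) s.5.10.3 (R.mk s.5.10.4.2 s.5.10.4.1) (R.mk s.5.10.1.2 s.5.10.1.1) s.5.10.2 (R.mk s.5.10.7.2 s.5.10.7.1) s.5.10.8 s.5.10.5 (R.mk s.5.10.6.2 s.5.10.6.1))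
  (@T16.mk R (R.mk s.5.11.11.2 s.5.11.11.1) s.5.11.12 (R.mk s.5.11.9.2 s.5.11.9.1) s.5.11.10 s.5.11.15 (R.mk s.5.11.16.2 s.5.11.16.1) s.5.11.13 (R.mk s.5.11.14.2 s.5.11.14.1) s.5.11.3 (R.mk s.5.11.4.2 s.5.11.4.1) s.5.11.1 (R.mk s.5.11.2.2 s.5.11.2.1) (R.mk s.5.11.7.2 s.5.11.7.1) s.5.11.8 (R.mk s.5.11.5.2 s.5.11.5.1) s.5.11.6)
  (@T16.mk R (R.mk s.5.12.11.2 s.5.12.11.1) s.5.12.12 s.5.12.9 (R.mk s.5.12.10.2 s.5.12.10.1) s.5.12.15 (R.mk s.5.12.16.2 s.5.12.16.1) (R.mk s.5.12.13.2 s.5.12.13.1) s.5.12.14 (R.mk s.5.12.3.2 s.5.12.3.1) s.5.12.4 s.5.12.1 (R.mk s.5.12.2.2 s.5.12.2.1) s.5.12.7 (R.mk s.5.12.8.2 s.5.12.8.1) (R.mk s.5.12.5.2 s.5.12.5.1) s.5.12.6)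
 )
 (@T16.mk (T16 R)
  (@T16.mk R (R.mk s.8.5.11.2 s.8.5.11.1) (R.mk s.8.5.12.2 s.8.5.12.1) (R.mk s.8.5.9.2 s.8.5.9.1) (R.mk s.8.5.10.2 s.8.5.10.1) (R.mk s.8.5.15.2 s.8.5.15.1) (R.mk s.8.5.16.2 s.8.5.16.1) (R.mk s.8.5.13.2 s.8.5.13.1) (R.mk s.8.5.14.2 s.8.5.14.1) (R.mk s.8.5.3.2 s.8.5.3.1) (R.mk s.8.5.4.2 s.8.5.4.1) (R.mk s.8.5.1.2 s.8.5.1.1) (R.mk s.8.5.2.2 s.8.5.2.1) (R.mk s.8.5.7.2 s.8.5.7.1) (R.mk s.8.5.8.2 s.8.5.8.1) (R.mk s.8.5.5.2 s.8.5.5.1) (R.mk s.8.5.6.2 s.8.5.6.1))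
  (@T16.mk R s.8.6.11 s.8.6.12 (R.mk s.8.6.9.2 s.8.6.9.1) (R.mk s.8.6.10.2 s.8.6.10.1) s.8.6.15 s.8.6.16 (R.mk s.8.6.13.2 s.8.6.13.1) (R.mk s.8.6.14.2 s.8.6.14.1) (R.mk s.8.6.3.2 s.8.6.3.1) (R.mk s.8.6.4.2 s.8.6.4.1) s.8.6.1 s.8.6.2 (R.mk s.8.6.7.2 s.8.6.7.1) (R.mk s.8.6.8.2 s.8.6.8.1) s.8.6.5 s.8.6.6)
  (@T16.mk R (R.mk s.8.7.11.2 s.8.7.11.1) (R.mk s.8.7.12.2 s.8.7.12.1) (R.mk s.8.7.9.2 s.8.7.9.1) (R.mk s.8.7.10.2 s.8.7.10.1) (R.mk s.8.7.15.2 s.8.7.15.1) (R.mk s.8.7.16.2 s.8.7.16.1) (R.mk s.8.7.13.2 s.8.7.13.1) (R.mk s.8.7.14.2 s.8.7.14.1) (R.mk s.8.7.3.2 s.8.7.3.1) (R.mk s.8.7.4.2 s.8.7.4.1) (R.mk s.8.7.1.2 s.8.7.1.1) (R.mk s.8.7.2.2 s.8.7.2.1) (R.mk s.8.7.7.2 s.8.7.7.1) (R.mk s.8.7.8.2 s.8.7.8.1) (R.mk s.8.7.5.2 s.8.7.5.1) (R.mk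 s.8.7.6.2 s.8.7.6.1))
  (@T16.mk R (R.mk s.8.8.11.2 s.8.8.11.1) (R.mk s.8.8.12.2 s.8.8.12.1) s.8.8.9 s.8.8.10 (R.mk s.8.8.15.2 s.8.8.15.1) (R.mk s.8.8.16.2 s.8.8.16.1) s.8.8.13 s.8.8.14 s.8.8.3 s.8.8.4 (R.mk s.8.8.1.2 s.8.8.1.1) (R.mk s.8.8.2.2 s.8.8.2.1) s.8.8.7 s.8.8.8 (R.mk s.8.8.5.2 s.8.8.5.1) (R.mk s.8.8.6.2 s.8.8.6.1))
  (@T16.mk R (R.mk s.8.1.11.2 s.8.1.11.1) (R.mk s.8.1.12.2 s.8.1.12.1) (R.mk s.8.1.9.2 s.8.1.9.1) (R.mk s.8.1.10.2 s.8.1.10.1) s.8.1.15 s.8.1.16 s.8.1.13 s.8.1.14 (R.mk s.8.1.3.2 s.8.1.3.1) (R.mk s.8.1.4.2 s.8.1.4.1) (R.mk s.8.1.1.2 s.8.1.1.1) (R.mk s.8.1.2.2 s.8.1.2.1) s.8.1.7 s.8.1.8 s.8.1.5 s.8.1.6)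
  (@T16.mk R s.8.2.11 s.8.2.12 (R.mk s.8.2.9.2 s.8.2.9.1) (R.mk s.8.2.10.2 s.8.2.10.1) (R.mk s.8.2.15.2 s.8.2.15.1) (R.mk s.8.2.16.2 s.8.2.16.1) s.8.2.13 s.8.2.14 (R.mk s.8.2.3.2 s.8.2.3.1) (R.mk s.8.2.4.2 s.8.2.4.1) s.8.2.1 s.8.2.2 s.8.2.7 s.8.2.8 (R.mk s.8.2.5.2 s.8.2.5.1) (R.mk s.8.2.6.2 s.8.2.6.1))
  (@T16.mk R (R.mk s.8.3.11.2 s.8.3.11.1) (R.mk s.8.3.12.2 s.8.3.12.1) (R.mk s.8.3.9.2 s.8.3.9.1) (R.mk s.8.3.10.2 s.8.3.10.1) s.8.3.15 s.8.3.16 s.8.3.13 s.8.3.14 (R.mk s.8.3.3.2 s.8.3.3.1) (R.mk s.8.3.4.2 s.8.3.4.1) (R.mk s.8.3.1.2 s.8.3.1.1) (R.mk s.8.3.2.2 s.8.3.2.1) s.8.3.7 s.8.3.8 s.8.3.5 s.8.3.6)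
  (@T16.mk R s.8.4.11 s.8.4.12 (R.mk s.8.4.9.2 s.8.4.9.1) (R.mk s.8.4.10.2 s.8.4.10.1) (R.mk s.8.4.15.2 s.8.4.15.1) (R.mk s.8.4.16.2 s.8.4.16.1) s.8.4.13 s.8.4.14 (R.mk s.8.4.3.2 s.8.4.3.1) (R.mk s.8.4.4.2 s.8.4.4.1) s.8.4.1 s.8.4.2 s.8.4.7 s.8.4.8 (R.mk s.8.4.5.2 s.8.4.5.1) (R.mk s.8.4.6.2 s.8.4.6.1))
  (@T16.mk R s.8.13.11 (R.mk s.8.13.12.2 s.8.13.12.1) (R.mk s.8.13.9.2 s.8.13.9.1) s.8.13.10 (R.mk s.8.13.15.2 s.8.13.15.1) s.8.13.16 s.8.13.13 (R.mk s.8.13.14.2 s.8.13.14.1) s.8.13.3 (R.mk s.8.13.4.2 s.8.13.4.1) (R.mk s.8.13.1.2 s.8.13.1.1) s.8.13.2 (R.mk s.8.13.7.2 s.8.13.7.1) s.8.13.8 s.8.13.5 (R.mk s.8.13.6.2 s.8.13.6.1))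
  (@T16.mk R s.8.14.11 (R.mk s.8.14.12.2 s.8.14.12.1) s.8.14.9 (R.mk s.8.14.10.2 s.8.14.10.1) (R.mk s.8.14.15.2 s.8.14.15.1) s.8.14.16 (R.mk s.8.14.13.2 s.8.14.13.1) s.8.14.14 (R.mk s.8.14.3.2 s.8.14.3.1) s.8.14.4 (R.mk s.8.14.1.2 s.8.14.1.1) s.8.14.2 s.8.14.7 (R.mk s.8.14.8.2 s.8.14.8.1) s.8.14.5 (R.mk s.8.14.6.2 s.8.14.6.1))
  (@T16.mk R (R.mk s.8.15.11.2 s.8.15.11.1) s.8.15.12 s.8.15.9 (R.mk s.8.15.10.2 s.8.15.10.1) s.8.15.15 (R.mk s.8.15.16.2 s.8.15.16.1) (R.mk s.8.15.13.2 s.8.15.13.1) s.8.15.14 (R.mk s.8.15.3.2 s.8.15.3.1) s.8.15.4 s.8.15.1 (R.mk s.8.15.2.2 s.8.15.2.1) s.8.15.7 (R.mk s.8.15.8.2 s.8.15.8.1) (R.mk s.8.15.5.2 s.8.15.5.1) s.8.15.6)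
  (@T16.mk R (R.mk s.8.16.11.2 s.8.16.11.1) s.8.16.12 (R.mk s.8.16.9.2 s.8.16.9.1) s.8.16.10 s.8.16.15 (R.mk s.8.16.16.2 s.8.16.16.1) s.8.16.13 (R.mk s.8.16.14.2 s.8.16.14.1) s.8.16.3 (R.mk s.8.16.4.2 s.8.16.4.1) s.8.16.1 (R.mk s.8.16.2.2 s.8.16.2.1) (R.mk s.8.16.7.2 s.8.16.7.1) s.8.16.8 (R.mk s.8.16.5.2 s.8.16.5.1) s.8.16.6)
  (@T16.mk R (R.mk s.8.9.11.2 s.8.9.11.1) s.8.9.12 s.8.9.9 (R.mk s.8.9.10.2 s.8.9.10.1) (R.mk s.8.9.15.2 s.8.9.15.1) s.8.9.16 s.8.9.13 (R.mk s.8.9.14.2 s.8.9.14.1) (R.mk s.8.9.3.2 s.8.9.3.1) s.8.9.4 s.8.9.1 (R.mk s.8.9.2.2 s.8.9.2.1) (R.mk s.8.9.7.2 s.8.9.7.1) s.8.9.8 s.8.9.5 (R.mk s.8.9.6.2 s.8.9.6.1))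
  (@T16.mk R (R.mk s.8.10.11.2 s.8.10.11.1) s.8.10.12 (R.mk s.8.10.9.2 s.8.10.9.1) s.8.10.10 (R.mk s.8.10.15.2 s.8.10.15.1) s.8.10.16 (R.mk s.8.10.13.2 s.8.10.13.1) s.8.10.14 s.8.10.3 (R.mk s.8.10.4.2 s.8.10.4.1) s.8.10.1 (R.mk s.8.10.2.2 s.8.10.2.1) s.8.10.7 (R.mk s.8.10.8.2 s.8.10.8.1) s.8.10.5 (R.mk s.8.10.6.2 s.8.10.6.1))
  (@T16.mk R s.8.11.11 (R.mk s.8.11.12.2 s.8.11.12.1) (R.mk s.8.11.9.2 s.8.11.9.1) s.8.11.10 s.8.11.15 (R.mk s.8.11.16.2 s.8.11.16.1) (R.mk s.8.11.13.2 s.8.11.13.1) s.8.11.14 s.8.11.3 (R.mk s.8.11.4.2 s.8.11.4.1) (R.mk s.8.11.1.2 s.8.11.1.1) s.8.11.2 s.8.11.7 (R.mk s.8.11.8.2 s.8.11.8.1) (R.mk s.8.11.5.2 s.8.11.5.1) s.8.11.6)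
  (@T16.mk R (R.mk s.8.12.11.2 s.8.12.11.1) s.8.12.12 (R.mk s.8.12.9.2 s.8.12.9.1) s.8.12.10 (R.mk s.8.12.15.2 s.8.12.15.1) s.8.12.16 (R.mk s.8.12.13.2 s.8.12.13.1) s.8.12.14 s.8.12.3 (R.mk s.8.12.4.2 s.8.12.4.1) s.8.12.1 (R.mk s.8.12.2.2 s.8.12.2.1) s.8.12.7 (R.mk s.8.12.8.2 s.8.12.8.1) s.8.12.5 (R.mk s.8.12.6.2 s.8.12.6.1))
 )
 (@T16.mk (T16 R)
  (@T16.mk R (R.mk s.7.5.11.2 s.7.5.11.1) (R.mk s.7.5.12.2 s.7.5.12.1) (R.mk s.7.5.9.2 s.7.5.9.1) (R.mk s.7.5.10.2 s.7.5.10.1) s.7.5.15 s.7.5.16 s.7.5.13 s.7.5.14 (R.mk s.7.5.3.2 s.7.5.3.1) (R.mk s.7.5.4.2 s.7.5.4.1) (R.mk s.7.5.1.2 s.7.5.1.1) (R.mk s.7.5.2.2 s.7.5.2.1) s.7.5.7 s.7.5.8 s.7.5.5 s.7.5.6)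
  (@T16.mk R s.7.6.11 s.7.6.12 (R.mk s.7.6.9.2 s.7.6.9.1) (R.mk s.7.6.10.2 s.7.6.10.1) (R.mk s.7.6.15.2 s.7.6.15.1) (R.mk s.7.6.16.2 s.7.6.16.1) s.7.6.13 s.7.6.14 (R.mk s.7.6.3.2 s.7.6.3.1) (R.mk s.7.6.4.2 s.7.6.4.1) s.7.6.1 s.7.6.2 s.7.6.7 s.7.6.8 (R.mk s.7.6.5.2 s.7.6.5.1) (R.mk s.7.6.6.2 s.7.6.6.1))
  (@T16.mk R (R.mk s.7.7.11.2 s.7.7.11.1) (R.mk s.7.7.12.2 s.7.7.12.1) (R.mk s.7.7.9.2 s.7.7.9.1) (R.mk s.7.7.10.2 s.7.7.10.1) s.7.7.15 s.7.7.16 s.7.7.13 s.7.7.14 (R.mk s.7.7.3.2 s.7.7.3.1) (R.mk s.7.7.4.2 s.7.7.4.1) (R.mk s.7.7.1.2 s.7.7.1.1) (R.mk s.7.7.2.2 s.7.7.2.1) s.7.7.7 s.7.7.8 s.7.7.5 s.7.7.6)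
  (@T16.mk R s.7.8.11 s.7.8.12 (R.mk s.7.8.9.2 s.7.8.9.1) (R.mk s.7.8.10.2 s.7.8.10.1) (R.mk s.7.8.15.2 s.7.8.15.1) (R.mk s.7.8.16.2 s.7.8.16.1) s.7.8.13 s.7.8.14 (R.mk s.7.8.3.2 s.7.8.3.1) (R.mk s.7.8.4.2 s.7.8.4.1) s.7.8.1 s.7.8.2 s.7.8.7 s.7.8.8 (R.mk s.7.8.5.2 s.7.8.5.1) (R.mk s.7.8.6.2 s.7.8.6.1))
  (@T16.mk R (R.mk s.7.1.11.2 s.7.1.11.1) (R.mk s.7.1.12.2 s.7.1.12.1) (R.mk s.7.1.9.2 s.7.1.9.1) (R.mk s.7.1.10.2 s.7.1.10.1) (R.mk s.7.1.15.2 s.7.1.15.1) (R.mk s.7.1.16.2 s.7.1.16.1) (R.mk s.7.1.13.2 s.7.1.13.1) (R.mk s.7.1.14.2 s.7.1.14.1) (R.mk s.7.1.3.2 s.7.1.3.1) (R.mk s.7.1.4.2 s.7.1.4.1) (R.mk s.7.1.1.2 s.7.1.1.1) (R.mk s.7.1.2.2 s.7.1.2.1) (R.mk s.7.1.7.2 s.7.1.7.1) (R.mk s.7.1.8.2 s.7.1.8.1) (R.mk s.7.1.5.2 s.7.1.5.1) (R.mk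 s.7.1.6.2 s.7.1.6.1))
  (@T16.mk R s.7.2.11 s.7.2.12 (R.mk s.7.2.9.2 s.7.2.9.1) (R.mk s.7.2.10.2 s.7.2.10.1) s.7.2.15 s.7.2.16 (R.mk s.7.2.13.2 s.7.2.13.1) (R.mk s.7.2.14.2 s.7.2.14.1) (R.mk s.7.2.3.2 s.7.2.3.1) (R.mk s.7.2.4.2 s.7.2.4.1) s.7.2.1 s.7.2.2 (R.mk s.7.2.7.2 s.7.2.7.1) (R.mk s.7.2.8.2 s.7.2.8.1) s.7.2.5 s.7.2.6)
  (@T16.mk R (R.mk s.7.3.11.2 s.7.3.11.1) (R.mk s.7.3.12.2 s.7.3.12.1) (R.mk s.7.3.9.2 s.7.3.9.1) (R.mk s.7.3.10.2 s.7.3.10.1) (R.mk s.7.3.15.2 s.7.3.15.1) (R.mk s.7.3.16.2 s.7.3.16.1) (R.mk s.7.3.13.2 s.7.3.13.1) (R.mk s.7.3.14.2 s.7.3.14.1) (R.mk s.7.3.3.2 s.7.3.3.1) (R.mk s.7.3.4.2 s.7.3.4.1) (R.mk s.7.3.1.2 s.7.3.1.1) (R.mk s.7.3.2.2 s.7.3.2.1) (R.mk s.7.3.7.2 s.7.3.7.1) (R.mk s.7.3.8.2 s.7.3.8.1) (R.mk s.7.3.5.2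 s.7.3.5.1) (R.mk s.7.3.6.2 s.7.3.6.1))
  (@T16.mk R (R.mk s.7.4.11.2 s.7.4.11.1) (R.mk s.7.4.12.2 s.7.4.12.1) s.7.4.9 s.7.4.10 (R.mk s.7.4.15.2 s.7.4.15.1) (R.mk s.7.4.16.2 s.7.4.16.1) s.7.4.13 s.7.4.14 s.7.4.3 s.7.4.4 (R.mk s.7.4.1.2 s.7.4.1.1) (R.mk s.7.4.2.2 s.7.4.2.1) s.7.4.7 s.7.4.8 (R.mk s.7.4.5.2 s.7.4.5.1) (R.mk s.7.4.6.2 s.7.4.6.1))
  (@T16.mk R s.7.13.11 (R.mk s.7.13.12.2 s.7.13.12.1) (R.mk s.7.13.9.2 s.7.13.9.1) s.7.13.10 s.7.13.15 (R.mk s.7.13.16.2 s.7.13.16.1) (R.mk s.7.13.13.2 s.7.13.13.1) s.7.13.14 s.7.13.3 (R.mk s.7.13.4.2 s.7.13.4.1) (R.mk s.7.13.1.2 s.7.13.1.1) s.7.13.2 s.7.13.7 (R.mk s.7.13.8.2 s.7.13.8.1) (R.mk s.7.13.5.2 s.7.13.5.1) s.7.13.6)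
  (@T16.mk R s.7.14.11 (R.mk s.7.14.12.2 s.7.14.12.1) s.7.14.9 (R.mk s.7.14.10.2 s.7.14.10.1) s.7.14.15 (R.mk s.7.14.16.2 s.7.14.16.1) s.7.14.13 (R.mk s.7.14.14.2 s.7.14.14.1) (R.mk s.7.14.3.2 s.7.14.3.1) s.7.14.4 (R.mk s.7.14.1.2 s.7.14.1.1) s.7.14.2 (R.mk s.7.14.7.2 s.7.14.7.1) s.7.14.8 (R.mk s.7.14.5.2 s.7.14.5.1) s.7.14.6)
  (@T16.mk R (R.mk s.7.15.11.2 s.7.15.11.1) s.7.15.12 s.7.15.9 (R.mk s.7.15.10.2 s.7.15.10.1) (R.mk s.7.15.15.2 s.7.15.15.1) s.7.15.16 s.7.15.13 (R.mk s.7.15.14.2 s.7.15.14.1) (R.mk s.7.15.3.2 s.7.15.3.1) s.7.15.4 s.7.15.1 (R.mk s.7.15.2.2 s.7.15.2.1) (R.mk s.7.15.7.2 s.7.15.7.1) s.7.15.8 s.7.15.5 (R.mk s.7.15.6.2 s.7.15.6.1))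
  (@T16.mk R s.7.16.11 (R.mk s.7.16.12.2 s.7.16.12.1) s.7.16.9 (R.mk s.7.16.10.2 s.7.16.10.1) s.7.16.15 (R.mk s.7.16.16.2 s.7.16.16.1) s.7.16.13 (R.mk s.7.16.14.2 s.7.16.14.1) (R.mk s.7.16.3.2 s.7.16.3.1) s.7.16.4 (R.mk s.7.16.1.2 s.7.16.1.1) s.7.16.2 (R.mk s.7.16.7.2 s.7.16.7.1) s.7.16.8 (R.mk s.7.16.5.2 s.7.16.5.1) s.7.16.6)
  (@T16.mk R (R.mk s.7.9.11.2 s.7.9.11.1) s.7.9.12 s.7.9.9 (R.mk s.7.9.10.2 s.7.9.10.1) s.7.9.15 (R.mk s.7.9.16.2 s.7.9.16.1) (R.mk s.7.9.13.2 s.7.9.13.1) s.7.9.14 (R.mk s.7.9.3.2 s.7.9.3.1) s.7.9.4 s.7.9.1 (R.mk s.7.9.2.2 s.7.9.2.1) s.7.9.7 (R.mk s.7.9.8.2 s.7.9.8.1) (R.mk s.7.9.5.2 s.7.9.5.1) s.7.9.6)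
  (@T16.mk R (R.mk s.7.10.11.2 s.7.10.11.1) s.7.10.12 (R.mk s.7.10.9.2 s.7.10.9.1) s.7.10.10 s.7.10.15 (R.mk s.7.10.16.2 s.7.10.16.1) s.7.10.13 (R.mk s.7.10.14.2 s.7.10.14.1) s.7.10.3 (R.mk s.7.10.4.2 s.7.10.4.1) s.7.10.1 (R.mk s.7.10.2.2 s.7.10.2.1) (R.mk s.7.10.7.2 s.7.10.7.1) s.7.10.8 (R.mk s.7.10.5.2 s.7.10.5.1) s.7.10.6)
  (@T16.mk R s.7.11.11 (R.mk s.7.11.12.2 s.7.11.12.1) (R.mk s.7.11.9.2 s.7.11.9.1) s.7.11.10 (R.mk s.7.11.15.2 s.7.11.15.1) s.7.11.16 s.7.11.13 (R.mk s.7.11.14.2 s.7.11.14.1) s.7.11.3 (R.mk s.7.11.4.2 s.7.11.4.1) (R.mk s.7.11.1.2 s.7.11.1.1) s.7.11.2 (R.mk s.7.11.7.2 s.7.11.7.1) s.7.11.8 s.7.11.5 (R.mk s.7.11.6.2 s.7.11.6.1))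
  (@T16.mk R s.7.12.11 (R.mk s.7.12.12.2 s.7.12.12.1) s.7.12.9 (R.mk s.7.12.10.2 s.7.12.10.1) (R.mk s.7.12.15.2 s.7.12.15.1) s.7.12.16 (R.mk s.7.12.13.2 s.7.12.13.1) s.7.12.14 (R.mk s.7.12.3.2 s.7.12.3.1) s.7.12.4 (R.mk s.7.12.1.2 s.7.12.1.1) s.7.12.2 s.7.12.7 (R.mk s.7.12.8.2 s.7.12.8.1) s.7.12.5 (R.mk s.7.12.6.2 s.7.12.6.1))
 )
 (@T16.mk (T16 R)
  (@T16.mk R s.9.1.13 s.9.1.14 s.9.1.15 s.9.1.16 s.9.1.9 s.9.1.10 s.9.1.11 s.9.1.12 s.9.1.5 s.9.1.6 s.9.1.7 s.9.1.8 s.9.1.1 s.9.1.2 s.9.1.3 s.9.1.4)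
  (@T16.mk R (R.mk s.9.2.7.2 s.9.2.7.1) (R.mk s.9.2.8.2 s.9.2.8.1) (R.mk s.9.2.5.2 s.9.2.5.1) (R.mk s.9.2.6.2 s.9.2.6.1) (R.mk s.9.2.3.2 s.9.2.3.1) (R.mk s.9.2.4.2 s.9.2.4.1) (R.mk s.9.2.1.2 s.9.2.1.1) (R.mk s.9.2.2.2 s.9.2.2.1) (R.mk s.9.2.15.2 s.9.2.15.1) (R.mk s.9.2.16.2 s.9.2.16.1) (R.mk s.9.2.13.2 s.9.2.13.1) (R.mk s.9.2.14.2 s.9.2.14.1) (R.mk s.9.2.11.2 s.9.2.11.1) (R.mk s.9.2.12.2 s.9.2.12.1) (R.mk s.9.2.9.2 s.9.2.9.1) (R.mk s.9.2.10.2 s.9.2.10.1))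
  (@T16.mk R s.9.3.1 s.9.3.2 s.9.3.3 s.9.3.4 s.9.3.5 s.9.3.6 s.9.3.7 s.9.3.8 s.9.3.9 s.9.3.10 s.9.3.11 s.9.3.12 s.9.3.13 s.9.3.14 s.9.3.15 s.9.3.16)
  (@T16.mk R (R.mk s.9.4.10.2 s.9.4.10.1) (R.mk s.9.4.9.2 s.9.4.9.1) (R.mk s.9.4.12.2 s.9.4.12.1) (R.mk s.9.4.11.2 s.9.4.11.1) (R.mk s.9.4.14.2 s.9.4.14.1) (R.mk s.9.4.13.2 s.9.4.13.1) (R.mk s.9.4.16.2 s.9.4.16.1) (R.mk s.9.4.15.2 s.9.4.15.1) (R.mk s.9.4.2.2 s.9.4.2.1) (R.mk s.9.4.1.2 s.9.4.1.1) (R.mk s.9.4.4.2 s.9.4.4.1) (R.mk s.9.4.3.2 s.9.4.3.1) (R.mk s.9.4.6.2 s.9.4.6.1) (R.mk s.9.4.5.2 s.9.4.5.1) (R.mk s.9.4.8.2 s.9.4.8.1) (R.mk s.9.4.7.2 s.9.4.7.1))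
  (@T16.mk R (R.mk s.9.5.14.2 s.9.5.14.1) (R.mk s.9.5.13.2 s.9.5.13.1) (R.mk s.9.5.16.2 s.9.5.16.1) (R.mk s.9.5.15.2 s.9.5.15.1) (R.mk s.9.5.10.2 s.9.5.10.1) (R.mk s.9.5.9.2 s.9.5.9.1) (R.mk s.9.5.12.2 s.9.5.12.1) (R.mk s.9.5.11.2 s.9.5.11.1) (R.mk s.9.5.6.2 s.9.5.6.1) (R.mk s.9.5.5.2 s.9.5.5.1) (R.mk s.9.5.8.2 s.9.5.8.1) (R.mk s.9.5.7.2 s.9.5.7.1) (R.mk s.9.5.2.2 s.9.5.2.1) (R.mk s.9.5.1.2 s.9.5.1.1) (R.mk s.9.5.4.2 s.9.5.4.1) (R.mk s.9.5.3.2 s.9.5.3.1))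
  (@T16.mk R (R.mk s.9.6.5.2 s.9.6.5.1) (R.mk s.9.6.6.2 s.9.6.6.1) (R.mk s.9.6.7.2 s.9.6.7.1) (R.mk s.9.6.8.2 s.9.6.8.1) (R.mk s.9.6.1.2 s.9.6.1.1) (R.mk s.9.6.2.2 s.9.6.2.1) (R.mk s.9.6.3.2 s.9.6.3.1) (R.mk s.9.6.4.2 s.9.6.4.1) (R.mk s.9.6.13.2 s.9.6.13.1) (R.mk s.9.6.14.2 s.9.6.14.1) (R.mk s.9.6.15.2 s.9.6.15.1) (R.mk s.9.6.16.2 s.9.6.16.1) (R.mk s.9.6.9.2 s.9.6.9.1) (R.mk s.9.6.10.2 s.9.6.10.1) (R.mk s.9.6.11.2 s.9.6.11.1) (R.mk s.9.6.12.2 s.9.6.12.1))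
  (@T16.mk R (R.mk s.9.7.15.2 s.9.7.15.1) (R.mk s.9.7.16.2 s.9.7.16.1) (R.mk s.9.7.13.2 s.9.7.13.1) (R.mk s.9.7.14.2 s.9.7.14.1) (R.mk s.9.7.11.2 s.9.7.11.1) (R.mk s.9.7.12.2 s.9.7.12.1) (R.mk s.9.7.9.2 s.9.7.9.1) (R.mk s.9.7.10.2 s.9.7.10.1) (R.mk s.9.7.7.2 s.9.7.7.1) (R.mk s.9.7.8.2 s.9.7.8.1) (R.mk s.9.7.5.2 s.9.7.5.1) (R.mk s.9.7.6.2 s.9.7.6.1) (R.mk s.9.7.3.2 s.9.7.3.1) (R.mk s.9.7.4.2 s.9.7.4.1) (R.mk s.9.7.1.2 s.9.7.1.1) (R.mk s.9.7.2.2 s.9.7.2.1))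
  (@T16.mk R (R.mk s.9.8.2.2 s.9.8.2.1) (R.mk s.9.8.1.2 s.9.8.1.1) (R.mk s.9.8.4.2 s.9.8.4.1) (R.mk s.9.8.3.2 s.9.8.3.1) (R.mk s.9.8.6.2 s.9.8.6.1) (R.mk s.9.8.5.2 s.9.8.5.1) (R.mk s.9.8.8.2 s.9.8.8.1) (R.mk s.9.8.7.2 s.9.8.7.1) (R.mk s.9.8.10.2 s.9.8.10.1) (R.mk s.9.8.9.2 s.9.8.9.1) (R.mk s.9.8.12.2 s.9.8.12.1) (R.mk s.9.8.11.2 s.9.8.11.1) (R.mk s.9.8.14.2 s.9.8.14.1) (R.mk s.9.8.13.2 s.9.8.13.1) (R.mk s.9.8.16.2 s.9.8.16.1) (R.mk s.9.8.15.2 s.9.8.15.1))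
  (@T16.mk R (R.mk s.9.9.5.2 s.9.9.5.1) (R.mk s.9.9.6.2 s.9.9.6.1) (R.mk s.9.9.7.2 s.9.9.7.1) (R.mk s.9.9.8.2 s.9.9.8.1) (R.mk s.9.9.1.2 s.9.9.1.1) (R.mk s.9.9.2.2 s.9.9.2.1) (R.mk s.9.9.3.2 s.9.9.3.1) (R.mk s.9.9.4.2 s.9.9.4.1) (R.mk s.9.9.13.2 s.9.9.13.1) (R.mk s.9.9.14.2 s.9.9.14.1) (R.mk s.9.9.15.2 s.9.9.15.1) (R.mk s.9.9.16.2 s.9.9.16.1) (R.mk s.9.9.9.2 s.9.9.9.1) (R.mk s.9.9.10.2 s.9.9.10.1) (R.mk s.9.9.11.2 s.9.9.11.1) (R.mk s.9.9.12.2 s.9.9.12.1))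
  (@T16.mk R s.9.10.8 s.9.10.7 s.9.10.6 s.9.10.5 s.9.10.4 s.9.10.3 s.9.10.2 s.9.10.1 s.9.10.16 s.9.10.15 s.9.10.14 s.9.10.13 s.9.10.12 s.9.10.11 s.9.10.10 s.9.10.9)
  (@T16.mk R (R.mk s.9.11.10.2 s.9.11.10.1) (R.mk s.9.11.9.2 s.9.11.9.1) (R.mk s.9.11.12.2 s.9.11.12.1) (R.mk s.9.11.11.2 s.9.11.11.1) (R.mk s.9.11.14.2 s.9.11.14.1) (R.mk s.9.11.13.2 s.9.11.13.1) (R.mk s.9.11.16.2 s.9.11.16.1) (R.mk s.9.11.15.2 s.9.11.15.1) (R.mk s.9.11.2.2 s.9.11.2.1) (R.mk s.9.11.1.2 s.9.11.1.1) (R.mk s.9.11.4.2 s.9.11.4.1) (R.mk s.9.11.3.2 s.9.11.3.1) (R.mk s.9.11.6.2 s.9.11.6.1) (R.mk s.9.11.5.2 s.9.11.5.1) (R.mk s.9.11.8.2 s.9.11.8.1) (R.mk s.9.11.7.2 s.9.11.7.1))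
  (@T16.mk R (R.mk s.9.12.12.2 s.9.12.12.1) (R.mk s.9.12.11.2 s.9.12.11.1) (R.mk s.9.12.10.2 s.9.12.10.1) (R.mk s.9.12.9.2 s.9.12.9.1) (R.mk s.9.12.16.2 s.9.12.16.1) (R.mk s.9.12.15.2 s.9.12.15.1) (R.mk s.9.12.14.2 s.9.12.14.1) (R.mk s.9.12.13.2 s.9.12.13.1) (R.mk s.9.12.4.2 s.9.12.4.1) (R.mk s.9.12.3.2 s.9.12.3.1) (R.mk s.9.12.2.2 s.9.12.2.1) (R.mk s.9.12.1.2 s.9.12.1.1) (R.mk s.9.12.8.2 s.9.12.8.1) (R.mk s.9.12.7.2 s.9.12.7.1) (R.mk s.9.12.6.2 s.9.12.6.1) (R.mk s.9.12.5.2 s.9.12.5.1))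
  (@T16.mk R (R.mk s.9.13.2.2 s.9.13.2.1) (R.mk s.9.13.1.2 s.9.13.1.1) (R.mk s.9.13.4.2 s.9.13.4.1) (R.mk s.9.13.3.2 s.9.13.3.1) (R.mk s.9.13.6.2 s.9.13.6.1) (R.mk s.9.13.5.2 s.9.13.5.1) (R.mk s.9.13.8.2 s.9.13.8.1) (R.mk s.9.13.7.2 s.9.13.7.1) (R.mk s.9.13.10.2 s.9.13.10.1) (R.mk s.9.13.9.2 s.9.13.9.1) (R.mk s.9.13.12.2 s.9.13.12.1) (R.mk s.9.13.11.2 s.9.13.11.1) (R.mk s.9.13.14.2 s.9.13.14.1) (R.mk s.9.13.13.2 s.9.13.13.1) (R.mk s.9.13.16.2 s.9.13.16.1) (R.mk s.9.13.15.2 s.9.13.15.1))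
  (@T16.mk R (R.mk s.9.14.13.2 s.9.14.13.1) (R.mk s.9.14.14.2 s.9.14.14.1) (R.mk s.9.14.15.2 s.9.14.15.1) (R.mk s.9.14.16.2 s.9.14.16.1) (R.mk s.9.14.9.2 s.9.14.9.1) (R.mk s.9.14.10.2 s.9.14.10.1) (R.mk s.9.14.11.2 s.9.14.11.1) (R.mk s.9.14.12.2 s.9.14.12.1) (R.mk s.9.14.5.2 s.9.14.5.1) (R.mk s.9.14.6.2 s.9.14.6.1) (R.mk s.9.14.7.2 s.9.14.7.1) (R.mk s.9.14.8.2 s.9.14.8.1) (R.mk s.9.14.1.2 s.9.14.1.1) (R.mk s.9.14.2.2 s.9.14.2.1) (R.mk s.9.14.3.2 s.9.14.3.1) (R.mk s.9.14.4.2 s.9.14.4.1))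
  (@T16.mk R (R.mk s.9.15.4.2 s.9.15.4.1) (R.mk s.9.15.3.2 s.9.15.3.1) (R.mk s.9.15.2.2 s.9.15.2.1) (R.mk s.9.15.1.2 s.9.15.1.1) (R.mk s.9.15.8.2 s.9.15.8.1) (R.mk s.9.15.7.2 s.9.15.7.1) (R.mk s.9.15.6.2 s.9.15.6.1) (R.mk s.9.15.5.2 s.9.15.5.1) (R.mk s.9.15.12.2 s.9.15.12.1) (R.mk s.9.15.11.2 s.9.15.11.1) (R.mk s.9.15.10.2 s.9.15.10.1) (R.mk s.9.15.9.2 s.9.15.9.1) (R.mk s.9.15.16.2 s.9.15.16.1) (R.mk s.9.15.15.2 s.9.15.15.1) (R.mk s.9.15.14.2 s.9.15.14.1) (R.mk s.9.15.13.2 s.9.15.13.1))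
  (@T16.mk R (R.mk s.9.16.9.2 s.9.16.9.1) (R.mk s.9.16.10.2 s.9.16.10.1) (R.mk s.9.16.11.2 s.9.16.11.1) (R.mk s.9.16.12.2 s.9.16.12.1) (R.mk s.9.16.13.2 s.9.16.13.1) (R.mk s.9.16.14.2 s.9.16.14.1) (R.mk s.9.16.15.2 s.9.16.15.1) (R.mk s.9.16.16.2 s.9.16.16.1) (R.mk s.9.16.1.2 s.9.16.1.1) (R.mk s.9.16.2.2 s.9.16.2.1) (R.mk s.9.16.3.2 s.9.16.3.1) (R.mk s.9.16.4.2 s.9.16.4.1) (R.mk s.9.16.5.2 s.9.16.5.1) (R.mk s.9.16.6.2 s.9.16.6.1) (R.mk s.9.16.7.2 s.9.16.7.1) (R.mk s.9.16.8.2 s.9.16.8.1))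
 )
 (@T16.mk (T16 R)
  (@T16.mk R s.10.1.3 s.10.1.4 s.10.1.1 s.10.1.2 s.10.1.7 s.10.1.8 s.10.1.5 s.10.1.6 s.10.1.11 s.10.1.12 s.10.1.9 s.10.1.10 s.10.1.15 s.10.1.16 s.10.1.13 s.10.1.14)
  (@T16.mk R s.10.2.9 s.10.2.10 s.10.2.11 s.10.2.12 s.10.2.13 s.10.2.14 s.10.2.15 s.10.2.16 s.10.2.1 s.10.2.2 s.10.2.3 s.10.2.4 s.10.2.5 s.10.2.6 s.10.2.7 s.10.2.8)
  (@T16.mk R (R.mk s.10.3.4.2 s.10.3.4.1) (R.mk s.10.3.3.2 s.10.3.3.1) (R.mk s.10.3.2.2 s.10.3.2.1) (R.mk s.10.3.1.2 s.10.3.1.1) (R.mk s.10.3.8.2 s.10.3.8.1) (R.mk s.10.3.7.2 s.10.3.7.1) (R.mk s.10.3.6.2 s.10.3.6.1) (R.mk s.10.3.5.2 s.10.3.5.1) (R.mk s.10.3.12.2 s.10.3.12.1) (R.mk s.10.3.11.2 s.10.3.11.1) (R.mk s.10.3.10.2 s.10.3.10.1) (R.mk s.10.3.9.2 s.10.3.9.1) (R.mk s.10.3.16.2 s.10.3.16.1)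 (R.mk s.10.3.15.2 s.10.3.15.1) (R.mk s.10.3.14.2 s.10.3.14.1) (R.mk s.10.3.13.2 s.10.3.13.1))
  (@T16.mk R (R.mk s.10.4.9.2 s.10.4.9.1) (R.mk s.10.4.10.2 s.10.4.10.1) (R.mk s.10.4.11.2 s.10.4.11.1) (R.mk s.10.4.12.2 s.10.4.12.1) (R.mk s.10.4.13.2 s.10.4.13.1) (R.mk s.10.4.14.2 s.10.4.14.1) (R.mk s.10.4.15.2 s.10.4.15.1) (R.mk s.10.4.16.2 s.10.4.16.1) (R.mk s.10.4.1.2 s.10.4.1.1) (R.mk s.10.4.2.2 s.10.4.2.1) (R.mk s.10.4.3.2 s.10.4.3.1) (R.mk s.10.4.4.2 s.10.4.4.1) (R.mk s.10.4.5.2 s.10.4.5.1) (R.mk s.10.4.6.2 s.10.4.6.1) (R.mk s.10.4.7.2 s.10.4.7.1) (R.mk s.10.4.8.2 s.10.4.8.1))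
  (@T16.mk R (R.mk s.10.5.6.2 s.10.5.6.1) (R.mk s.10.5.5.2 s.10.5.5.1) (R.mk s.10.5.8.2 s.10.5.8.1) (R.mk s.10.5.7.2 s.10.5.7.1) (R.mk s.10.5.2.2 s.10.5.2.1) (R.mk s.10.5.1.2 s.10.5.1.1) (R.mk s.10.5.4.2 s.10.5.4.1) (R.mk s.10.5.3.2 s.10.5.3.1) (R.mk s.10.5.14.2 s.10.5.14.1) (R.mk s.10.5.13.2 s.10.5.13.1) (R.mk s.10.5.16.2 s.10.5.16.1) (R.mk s.10.5.15.2 s.10.5.15.1) (R.mk s.10.5.10.2 s.10.5.10.1) (R.mk s.10.5.9.2 s.10.5.9.1) (R.mk s.10.5.12.2 s.10.5.12.1) (R.mk s.10.5.11.2 s.10.5.11.1))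
  (@T16.mk R s.10.6.8 s.10.6.7 s.10.6.6 s.10.6.5 s.10.6.4 s.10.6.3 s.10.6.2 s.10.6.1 s.10.6.16 s.10.6.15 s.10.6.14 s.10.6.13 s.10.6.12 s.10.6.11 s.10.6.10 s.10.6.9)
  (@T16.mk R s.10.7.11 s.10.7.12 s.10.7.9 s.10.7.10 s.10.7.15 s.10.7.16 s.10.7.13 s.10.7.14 s.10.7.3 s.10.7.4 s.10.7.1 s.10.7.2 s.10.7.7 s.10.7.8 s.10.7.5 s.10.7.6)
  (@T16.mk R s.10.8.14 s.10.8.13 s.10.8.16 s.10.8.15 s.10.8.10 s.10.8.9 s.10.8.12 s.10.8.11 s.10.8.6 s.10.8.5 s.10.8.8 s.10.8.7 s.10.8.2 s.10.8.1 s.10.8.4 s.10.8.3)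
  (@T16.mk R (R.mk s.10.9.8.2 s.10.9.8.1) (R.mk s.10.9.7.2 s.10.9.7.1) (R.mk s.10.9.6.2 s.10.9.6.1) (R.mk s.10.9.5.2 s.10.9.5.1) (R.mk s.10.9.4.2 s.10.9.4.1) (R.mk s.10.9.3.2 s.10.9.3.1) (R.mk s.10.9.2.2 s.10.9.2.1) (R.mk s.10.9.1.2 s.10.9.1.1) (R.mk s.10.9.16.2 s.10.9.16.1) (R.mk s.10.9.15.2 s.10.9.15.1) (R.mk s.10.9.14.2 s.10.9.14.1) (R.mk s.10.9.13.2 s.10.9.13.1) (R.mk s.10.9.12.2 s.10.9.12.1) (R.mk s.10.9.11.2 s.10.9.11.1) (R.mk s.10.9.10.2 s.10.9.10.1) (R.mk s.10.9.9.2 s.10.9.9.1))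
  (@T16.mk R (R.mk s.10.10.14.2 s.10.10.14.1) (R.mk s.10.10.13.2 s.10.10.13.1) (R.mk s.10.10.16.2 s.10.10.16.1) (R.mk s.10.10.15.2 s.10.10.15.1) (R.mk s.10.10.10.2 s.10.10.10.1) (R.mk s.10.10.9.2 s.10.10.9.1) (R.mk s.10.10.12.2 s.10.10.12.1) (R.mk s.10.10.11.2 s.10.10.11.1) (R.mk s.10.10.6.2 s.10.10.6.1) (R.mk s.10.10.5.2 s.10.10.5.1) (R.mk s.10.10.8.2 s.10.10.8.1) (R.mk s.10.10.7.2 s.10.10.7.1) (R.mk s.10.10.2.2 s.10.10.2.1) (R.mk s.10.10.1.2 s.10.10.1.1) (R.mk s.10.10.4.2 s.10.10.4.1) (R.mk s.10.10.3.2 s.10.10.3.1))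
  (@T16.mk R s.10.11.9 s.10.11.10 s.10.11.11 s.10.11.12 s.10.11.13 s.10.11.14 s.10.11.15 s.10.11.16 s.10.11.1 s.10.11.2 s.10.11.3 s.10.11.4 s.10.11.5 s.10.11.6 s.10.11.7 s.10.11.8)
  (@T16.mk R (R.mk s.10.12.2.2 s.10.12.2.1) (R.mk s.10.12.1.2 s.10.12.1.1) (R.mk s.10.12.4.2 s.10.12.4.1) (R.mk s.10.12.3.2 s.10.12.3.1) (R.mk s.10.12.6.2 s.10.12.6.1) (R.mk s.10.12.5.2 s.10.12.5.1) (R.mk s.10.12.8.2 s.10.12.8.1) (R.mk s.10.12.7.2 s.10.12.7.1) (R.mk s.10.12.10.2 s.10.12.10.1) (R.mk s.10.12.9.2 s.10.12.9.1) (R.mk s.10.12.12.2 s.10.12.12.1) (R.mk s.10.12.11.2 s.10.12.11.1) (R.mk s.10.12.14.2 s.10.12.14.1) (R.mk s.10.12.13.2 s.10.12.13.1) (R.mk s.10.12.16.2 s.10.12.16.1) (R.mk s.10.12.15.2 s.10.12.15.1))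
  (@T16.mk R s.10.13.1 s.10.13.2 s.10.13.3 s.10.13.4 s.10.13.5 s.10.13.6 s.10.13.7 s.10.13.8 s.10.13.9 s.10.13.10 s.10.13.11 s.10.13.12 s.10.13.13 s.10.13.14 s.10.13.15 s.10.13.16)
  (@T16.mk R (R.mk s.10.14.6.2 s.10.14.6.1) (R.mk s.10.14.5.2 s.10.14.5.1) (R.mk s.10.14.8.2 s.10.14.8.1) (R.mk s.10.14.7.2 s.10.14.7.1) (R.mk s.10.14.2.2 s.10.14.2.1) (R.mk s.10.14.1.2 s.10.14.1.1) (R.mk s.10.14.4.2 s.10.14.4.1) (R.mk s.10.14.3.2 s.10.14.3.1) (R.mk s.10.14.14.2 s.10.14.14.1) (R.mk s.10.14.13.2 s.10.14.13.1) (R.mk s.10.14.16.2 s.10.14.16.1) (R.mk s.10.14.15.2 s.10.14.15.1) (R.mk s.10.14.10.2 s.10.14.10.1) (R.mk s.10.14.9.2 s.10.14.9.1) (R.mk s.10.14.12.2 s.10.14.12.1) (R.mk s.10.14.11.2 s.10.14.11.1))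
  (@T16.mk R (R.mk s.10.15.6.2 s.10.15.6.1) (R.mk s.10.15.5.2 s.10.15.5.1) (R.mk s.10.15.8.2 s.10.15.8.1) (R.mk s.10.15.7.2 s.10.15.7.1) (R.mk s.10.15.2.2 s.10.15.2.1) (R.mk s.10.15.1.2 s.10.15.1.1) (R.mk s.10.15.4.2 s.10.15.4.1) (R.mk s.10.15.3.2 s.10.15.3.1) (R.mk s.10.15.14.2 s.10.15.14.1) (R.mk s.10.15.13.2 s.10.15.13.1) (R.mk s.10.15.16.2 s.10.15.16.1) (R.mk s.10.15.15.2 s.10.15.15.1) (R.mk s.10.15.10.2 s.10.15.10.1) (R.mk s.10.15.9.2 s.10.15.9.1) (R.mk s.10.15.12.2 s.10.15.12.1) (R.mk s.10.15.11.2 s.10.15.11.1))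
  (@T16.mk R (R.mk s.10.16.5.2 s.10.16.5.1) (R.mk s.10.16.6.2 s.10.16.6.1) (R.mk s.10.16.7.2 s.10.16.7.1) (R.mk s.10.16.8.2 s.10.16.8.1) (R.mk s.10.16.1.2 s.10.16.1.1) (R.mk s.10.16.2.2 s.10.16.2.1) (R.mk s.10.16.3.2 s.10.16.3.1) (R.mk s.10.16.4.2 s.10.16.4.1) (R.mk s.10.16.13.2 s.10.16.13.1) (R.mk s.10.16.14.2 s.10.16.14.1) (R.mk s.10.16.15.2 s.10.16.15.1) (R.mk s.10.16.16.2 s.10.16.16.1) (R.mk s.10.16.9.2 s.10.16.9.1) (R.mk s.10.16.10.2 s.10.16.10.1) (R.mk s.10.16.11.2 s.10.16.11.1) (R.mk s.10.16.12.2 s.10.16.12.1))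
 )
 (@T16.mk (T16 R)
  (@T16.mk R (R.mk s.11.1.14.2 s.11.1.14.1) (R.mk s.11.1.13.2 s.11.1.13.1) (R.mk s.11.1.16.2 s.11.1.16.1) (R.mk s.11.1.15.2 s.11.1.15.1) (R.mk s.11.1.10.2 s.11.1.10.1) (R.mk s.11.1.9.2 s.11.1.9.1) (R.mk s.11.1.12.2 s.11.1.12.1) (R.mk s.11.1.11.2 s.11.1.11.1) (R.mk s.11.1.6.2 s.11.1.6.1) (R.mk s.11.1.5.2 s.11.1.5.1) (R.mk s.11.1.8.2 s.11.1.8.1) (R.mk s.11.1.7.2 s.11.1.7.1) (R.mk s.11.1.2.2 s.11.1.2.1) (R.mk s.11.1.1.2 s.11.1.1.1) (R.mk s.11.1.4.2 s.11.1.4.1) (R.mk s.11.1.3.2 s.11.1.3.1))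
  (@T16.mk R (R.mk s.11.2.15.2 s.11.2.15.1) (R.mk s.11.2.16.2 s.11.2.16.1) (R.mk s.11.2.13.2 s.11.2.13.1) (R.mk s.11.2.14.2 s.11.2.14.1) (R.mk s.11.2.11.2 s.11.2.11.1) (R.mk s.11.2.12.2 s.11.2.12.1) (R.mk s.11.2.9.2 s.11.2.9.1) (R.mk s.11.2.10.2 s.11.2.10.1) (R.mk s.11.2.7.2 s.11.2.7.1) (R.mk s.11.2.8.2 s.11.2.8.1) (R.mk s.11.2.5.2 s.11.2.5.1) (R.mk s.11.2.6.2 s.11.2.6.1) (R.mk s.11.2.3.2 s.11.2.3.1) (R.mk s.11.2.4.2 s.11.2.4.1) (R.mk s.11.2.1.2 s.11.2.1.1) (R.mk s.11.2.2.2 s.11.2.2.1))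
  (@T16.mk R (R.mk s.11.3.7.2 s.11.3.7.1) (R.mk s.11.3.8.2 s.11.3.8.1) (R.mk s.11.3.5.2 s.11.3.5.1) (R.mk s.11.3.6.2 s.11.3.6.1) (R.mk s.11.3.3.2 s.11.3.3.1) (R.mk s.11.3.4.2 s.11.3.4.1) (R.mk s.11.3.1.2 s.11.3.1.1) (R.mk s.11.3.2.2 s.11.3.2.1) (R.mk s.11.3.15.2 s.11.3.15.1) (R.mk s.11.3.16.2 s.11.3.16.1) (R.mk s.11.3.13.2 s.11.3.13.1) (R.mk s.11.3.14.2 s.11.3.14.1) (R.mk s.11.3.11.2 s.11.3.11.1) (R.mk s.11.3.12.2 s.11.3.12.1) (R.mk s.11.3.9.2 s.11.3.9.1) (R.mk s.11.3.10.2 s.11.3.10.1))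
  (@T16.mk R (R.mk s.11.4.4.2 s.11.4.4.1) (R.mk s.11.4.3.2 s.11.4.3.1) (R.mk s.11.4.2.2 s.11.4.2.1) (R.mk s.11.4.1.2 s.11.4.1.1) (R.mk s.11.4.8.2 s.11.4.8.1) (R.mk s.11.4.7.2 s.11.4.7.1) (R.mk s.11.4.6.2 s.11.4.6.1) (R.mk s.11.4.5.2 s.11.4.5.1) (R.mk s.11.4.12.2 s.11.4.12.1) (R.mk s.11.4.11.2 s.11.4.11.1) (R.mk s.11.4.10.2 s.11.4.10.1) (R.mk s.11.4.9.2 s.11.4.9.1) (R.mk s.11.4.16.2 s.11.4.16.1) (R.mk s.11.4.15.2 s.11.4.15.1) (R.mk s.11.4.14.2 s.11.4.14.1) (R.mk s.11.4.13.2 s.11.4.13.1))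
  (@T16.mk R (R.mk s.11.5.6.2 s.11.5.6.1) (R.mk s.11.5.5.2 s.11.5.5.1) (R.mk s.11.5.8.2 s.11.5.8.1) (R.mk s.11.5.7.2 s.11.5.7.1) (R.mk s.11.5.2.2 s.11.5.2.1) (R.mk s.11.5.1.2 s.11.5.1.1) (R.mk s.11.5.4.2 s.11.5.4.1) (R.mk s.11.5.3.2 s.11.5.3.1) (R.mk s.11.5.14.2 s.11.5.14.1) (R.mk s.11.5.13.2 s.11.5.13.1) (R.mk s.11.5.16.2 s.11.5.16.1) (R.mk s.11.5.15.2 s.11.5.15.1) (R.mk s.11.5.10.2 s.11.5.10.1) (R.mk s.11.5.9.2 s.11.5.9.1) (R.mk s.11.5.12.2 s.11.5.12.1) (R.mk s.11.5.11.2 s.11.5.11.1))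
  (@T16.mk R (R.mk s.11.6.10.2 s.11.6.10.1) (R.mk s.11.6.9.2 s.11.6.9.1) (R.mk s.11.6.12.2 s.11.6.12.1) (R.mk s.11.6.11.2 s.11.6.11.1) (R.mk s.11.6.14.2 s.11.6.14.1) (R.mk s.11.6.13.2 s.11.6.13.1) (R.mk s.11.6.16.2 s.11.6.16.1) (R.mk s.11.6.15.2 s.11.6.15.1) (R.mk s.11.6.2.2 s.11.6.2.1) (R.mk s.11.6.1.2 s.11.6.1.1) (R.mk s.11.6.4.2 s.11.6.4.1) (R.mk s.11.6.3.2 s.11.6.3.1) (R.mk s.11.6.6.2 s.11.6.6.1) (R.mk s.11.6.5.2 s.11.6.5.1) (R.mk s.11.6.8.2 s.11.6.8.1) (R.mk s.11.6.7.2 s.11.6.7.1))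
  (@T16.mk R (R.mk s.11.7.15.2 s.11.7.15.1) (R.mk s.11.7.16.2 s.11.7.16.1) (R.mk s.11.7.13.2 s.11.7.13.1) (R.mk s.11.7.14.2 s.11.7.14.1) (R.mk s.11.7.11.2 s.11.7.11.1) (R.mk s.11.7.12.2 s.11.7.12.1) (R.mk s.11.7.9.2 s.11.7.9.1) (R.mk s.11.7.10.2 s.11.7.10.1) (R.mk s.11.7.7.2 s.11.7.7.1) (R.mk s.11.7.8.2 s.11.7.8.1) (R.mk s.11.7.5.2 s.11.7.5.1) (R.mk s.11.7.6.2 s.11.7.6.1) (R.mk s.11.7.3.2 s.11.7.3.1) (R.mk s.11.7.4.2 s.11.7.4.1) (R.mk s.11.7.1.2 s.11.7.1.1) (R.mk s.11.7.2.2 s.11.7.2.1))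
  (@T16.mk R (R.mk s.11.8.3.2 s.11.8.3.1) (R.mk s.11.8.4.2 s.11.8.4.1) (R.mk s.11.8.1.2 s.11.8.1.1) (R.mk s.11.8.2.2 s.11.8.2.1) (R.mk s.11.8.7.2 s.11.8.7.1) (R.mk s.11.8.8.2 s.11.8.8.1) (R.mk s.11.8.5.2 s.11.8.5.1) (R.mk s.11.8.6.2 s.11.8.6.1) (R.mk s.11.8.11.2 s.11.8.11.1) (R.mk s.11.8.12.2 s.11.8.12.1) (R.mk s.11.8.9.2 s.11.8.9.1) (R.mk s.11.8.10.2 s.11.8.10.1) (R.mk s.11.8.15.2 s.11.8.15.1) (R.mk s.11.8.16.2 s.11.8.16.1) (R.mk s.11.8.13.2 s.11.8.13.1) (R.mk s.11.8.14.2 s.11.8.14.1))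
  (@T16.mk R s.11.9.1 s.11.9.2 s.11.9.3 s.11.9.4 s.11.9.5 s.11.9.6 s.11.9.7 s.11.9.8 s.11.9.9 s.11.9.10 s.11.9.11 s.11.9.12 s.11.9.13 s.11.9.14 s.11.9.15 s.11.9.16)
  (@T16.mk R (R.mk s.11.10.4.2 s.11.10.4.1) (R.mk s.11.10.3.2 s.11.10.3.1) (R.mk s.11.10.2.2 s.11.10.2.1) (R.mk s.11.10.1.2 s.11.10.1.1) (R.mk s.11.10.8.2 s.11.10.8.1) (R.mk s.11.10.7.2 s.11.10.7.1) (R.mk s.11.10.6.2 s.11.10.6.1) (R.mk s.11.10.5.2 s.11.10.5.1) (R.mk s.11.10.12.2 s.11.10.12.1) (R.mk s.11.10.11.2 s.11.10.11.1) (R.mk s.11.10.10.2 s.11.10.10.1) (R.mk s.11.10.9.2 s.11.10.9.1) (R.mk s.11.10.16.2 s.11.10.16.1) (R.mk s.11.10.15.2 s.11.10.15.1) (R.mk s.11.10.14.2 s.11.10.14.1) (R.mk s.11.10.13.2 s.11.10.13.1))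
  (@T16.mk R (R.mk s.11.11.15.2 s.11.11.15.1) (R.mk s.11.11.16.2 s.11.11.16.1) (R.mk s.11.11.13.2 s.11.11.13.1) (R.mk s.11.11.14.2 s.11.11.14.1) (R.mk s.11.11.11.2 s.11.11.11.1) (R.mk s.11.11.12.2 s.11.11.12.1) (R.mk s.11.11.9.2 s.11.11.9.1) (R.mk s.11.11.10.2 s.11.11.10.1) (R.mk s.11.11.7.2 s.11.11.7.1) (R.mk s.11.11.8.2 s.11.11.8.1) (R.mk s.11.11.5.2 s.11.11.5.1) (R.mk s.11.11.6.2 s.11.11.6.1) (R.mk s.11.11.3.2 s.11.11.3.1) (R.mk s.11.11.4.2 s.11.11.4.1) (R.mk s.11.11.1.2 s.11.11.1.1) (R.mk s.11.11.2.2 s.11.11.2.1))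
  (@T16.mk R s.11.12.14 s.11.12.13 s.11.12.16 s.11.12.15 s.11.12.10 s.11.12.9 s.11.12.12 s.11.12.11 s.11.12.6 s.11.12.5 s.11.12.8 s.11.12.7 s.11.12.2 s.11.12.1 s.11.12.4 s.11.12.3)
  (@T16.mk R s.11.13.11 s.11.13.12 s.11.13.9 s.11.13.10 s.11.13.15 s.11.13.16 s.11.13.13 s.11.13.14 s.11.13.3 s.11.13.4 s.11.13.1 s.11.13.2 s.11.13.7 s.11.13.8 s.11.13.5 s.11.13.6)
  (@T16.mk R (R.mk s.11.14.4.2 s.11.14.4.1) (R.mk s.11.14.3.2 s.11.14.3.1) (R.mk s.11.14.2.2 s.11.14.2.1) (R.mk s.11.14.1.2 s.11.14.1.1) (R.mk s.11.14.8.2 s.11.14.8.1) (R.mk s.11.14.7.2 s.11.14.7.1) (R.mk s.11.14.6.2 s.11.14.6.1) (R.mk s.11.14.5.2 s.11.14.5.1) (R.mk s.11.14.12.2 s.11.14.12.1) (R.mk s.11.14.11.2 s.11.14.11.1) (R.mk s.11.14.10.2 s.11.14.10.1) (R.mk s.11.14.9.2 s.11.14.9.1)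 (R.mk s.11.14.16.2 s.11.14.16.1) (R.mk s.11.14.15.2 s.11.14.15.1) (R.mk s.11.14.14.2 s.11.14.14.1) (R.mk s.11.14.13.2 s.11.14.13.1))
  (@T16.mk R (R.mk s.11.15.11.2 s.11.15.11.1) (R.mk s.11.15.12.2 s.11.15.12.1) (R.mk s.11.15.9.2 s.11.15.9.1) (R.mk s.11.15.10.2 s.11.15.10.1) (R.mk s.11.15.15.2 s.11.15.15.1) (R.mk s.11.15.16.2 s.11.15.16.1) (R.mk s.11.15.13.2 s.11.15.13.1) (R.mk s.11.15.14.2 s.11.15.14.1) (R.mk s.11.15.3.2 s.11.15.3.1) (R.mk s.11.15.4.2 s.11.15.4.1) (R.mk s.11.15.1.2 s.11.15.1.1) (R.mk s.11.15.2.2 s.11.15.2.1) (R.mk s.11.15.7.2 s.11.15.7.1) (R.mk s.11.15.8.2 s.11.15.8.1) (R.mk s.11.15.5.2 s.11.15.5.1) (R.mk s.11.15.6.2 s.11.15.6.1))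
  (@T16.mk R (R.mk s.11.16.2.2 s.11.16.2.1) (R.mk s.11.16.1.2 s.11.16.1.1) (R.mk s.11.16.4.2 s.11.16.4.1) (R.mk s.11.16.3.2 s.11.16.3.1) (R.mk s.11.16.6.2 s.11.16.6.1) (R.mk s.11.16.5.2 s.11.16.5.1) (R.mk s.11.16.8.2 s.11.16.8.1) (R.mk s.11.16.7.2 s.11.16.7.1) (R.mk s.11.16.10.2 s.11.16.10.1) (R.mk s.11.16.9.2 s.11.16.9.1) (R.mk s.11.16.12.2 s.11.16.12.1) (R.mk s.11.16.11.2 s.11.16.11.1) (R.mk s.11.16.14.2 s.11.16.14.1) (R.mk s.11.16.13.2 s.11.16.13.1) (R.mk s.11.16.16.2 s.11.16.16.1) (R.mk s.11.16.15.2 s.11.16.15.1))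
 )
 (@T16.mk (T16 R)
  (@T16.mk R s.12.1.7 s.12.1.8 s.12.1.5 s.12.1.6 s.12.1.3 s.12.1.4 s.12.1.1 s.12.1.2 s.12.1.15 s.12.1.16 s.12.1.13 s.12.1.14 s.12.1.11 s.12.1.12 s.12.1.9 s.12.1.10)
  (@T16.mk R (R.mk s.12.2.15.2 s.12.2.15.1) (R.mk s.12.2.16.2 s.12.2.16.1) (R.mk s.12.2.13.2 s.12.2.13.1) (R.mk s.12.2.14.2 s.12.2.14.1) (R.mk s.12.2.11.2 s.12.2.11.1) (R.mk s.12.2.12.2 s.12.2.12.1) (R.mk s.12.2.9.2 s.12.2.9.1) (R.mk s.12.2.10.2 s.12.2.10.1) (R.mk s.12.2.7.2 s.12.2.7.1) (R.mk s.12.2.8.2 s.12.2.8.1) (R.mk s.12.2.5.2 s.12.2.5.1) (R.mk s.12.2.6.2 s.12.2.6.1) (R.mk s.12.2.3.2 s.12.2.3.1) (R.mk s.12.2.4.2 s.12.2.4.1) (R.mk s.12.2.1.2 s.12.2.1.1) (R.mk s.12.2.2.2 s.12.2.2.1))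
  (@T16.mk R (R.mk s.12.3.11.2 s.12.3.11.1) (R.mk s.12.3.12.2 s.12.3.12.1) (R.mk s.12.3.9.2 s.12.3.9.1) (R.mk s.12.3.10.2 s.12.3.10.1) (R.mk s.12.3.15.2 s.12.3.15.1) (R.mk s.12.3.16.2 s.12.3.16.1) (R.mk s.12.3.13.2 s.12.3.13.1) (R.mk s.12.3.14.2 s.12.3.14.1) (R.mk s.12.3.3.2 s.12.3.3.1) (R.mk s.12.3.4.2 s.12.3.4.1) (R.mk s.12.3.1.2 s.12.3.1.1) (R.mk s.12.3.2.2 s.12.3.2.1) (R.mk s.12.3.7.2 s.12.3.7.1) (R.mk s.12.3.8.2 s.12.3.8.1) (R.mk s.12.3.5.2 s.12.3.5.1) (R.mk s.12.3.6.2 s.12.3.6.1))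
  (@T16.mk R s.12.4.12 s.12.4.11 s.12.4.10 s.12.4.9 s.12.4.16 s.12.4.15 s.12.4.14 s.12.4.13 s.12.4.4 s.12.4.3 s.12.4.2 s.12.4.1 s.12.4.8 s.12.4.7 s.12.4.6 s.12.4.5)
  (@T16.mk R (R.mk s.12.5.9.2 s.12.5.9.1) (R.mk s.12.5.10.2 s.12.5.10.1) (R.mk s.12.5.11.2 s.12.5.11.1) (R.mk s.12.5.12.2 s.12.5.12.1) (R.mk s.12.5.13.2 s.12.5.13.1) (R.mk s.12.5.14.2 s.12.5.14.1) (R.mk s.12.5.15.2 s.12.5.15.1) (R.mk s.12.5.16.2 s.12.5.16.1) (R.mk s.12.5.1.2 s.12.5.1.1) (R.mk s.12.5.2.2 s.12.5.2.1) (R.mk s.12.5.3.2 s.12.5.3.1) (R.mk s.12.5.4.2 s.12.5.4.1) (R.mk s.12.5.5.2 s.12.5.5.1) (R.mk s.12.5.6.2 s.12.5.6.1) (R.mk s.12.5.7.2 s.12.5.7.1) (R.mk s.12.5.8.2 s.12.5.8.1))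
  (@T16.mk R s.12.6.1 s.12.6.2 s.12.6.3 s.12.6.4 s.12.6.5 s.12.6.6 s.12.6.7 s.12.6.8 s.12.6.9 s.12.6.10 s.12.6.11 s.12.6.12 s.12.6.13 s.12.6.14 s.12.6.15 s.12.6.16)
  (@T16.mk R (R.mk s.12.7.3.2 s.12.7.3.1) (R.mk s.12.7.4.2 s.12.7.4.1) (R.mk s.12.7.1.2 s.12.7.1.1) (R.mk s.12.7.2.2 s.12.7.2.1) (R.mk s.12.7.7.2 s.12.7.7.1) (R.mk s.12.7.8.2 s.12.7.8.1) (R.mk s.12.7.5.2 s.12.7.5.1) (R.mk s.12.7.6.2 s.12.7.6.1) (R.mk s.12.7.11.2 s.12.7.11.1) (R.mk s.12.7.12.2 s.12.7.12.1) (R.mk s.12.7.9.2 s.12.7.9.1) (R.mk s.12.7.10.2 s.12.7.10.1) (R.mk s.12.7.15.2 s.12.7.15.1) (R.mk s.12.7.16.2 s.12.7.16.1) (R.mk s.12.7.13.2 s.12.7.13.1) (R.mk s.12.7.14.2 s.12.7.14.1))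
  (@T16.mk R (R.mk s.12.8.12.2 s.12.8.12.1) (R.mk s.12.8.11.2 s.12.8.11.1) (R.mk s.12.8.10.2 s.12.8.10.1) (R.mk s.12.8.9.2 s.12.8.9.1) (R.mk s.12.8.16.2 s.12.8.16.1) (R.mk s.12.8.15.2 s.12.8.15.1) (R.mk s.12.8.14.2 s.12.8.14.1) (R.mk s.12.8.13.2 s.12.8.13.1) (R.mk s.12.8.4.2 s.12.8.4.1) (R.mk s.12.8.3.2 s.12.8.3.1) (R.mk s.12.8.2.2 s.12.8.2.1) (R.mk s.12.8.1.2 s.12.8.1.1) (R.mk s.12.8.8.2 s.12.8.8.1) (R.mk s.12.8.7.2 s.12.8.7.1) (R.mk s.12.8.6.2 s.12.8.6.1) (R.mk s.12.8.5.2 s.12.8.5.1))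
  (@T16.mk R (R.mk s.12.9.9.2 s.12.9.9.1) (R.mk s.12.9.10.2 s.12.9.10.1) (R.mk s.12.9.11.2 s.12.9.11.1) (R.mk s.12.9.12.2 s.12.9.12.1) (R.mk s.12.9.13.2 s.12.9.13.1) (R.mk s.12.9.14.2 s.12.9.14.1) (R.mk s.12.9.15.2 s.12.9.15.1) (R.mk s.12.9.16.2 s.12.9.16.1) (R.mk s.12.9.1.2 s.12.9.1.1) (R.mk s.12.9.2.2 s.12.9.2.1) (R.mk s.12.9.3.2 s.12.9.3.1) (R.mk s.12.9.4.2 s.12.9.4.1) (R.mk s.12.9.5.2 s.12.9.5.1) (R.mk s.12.9.6.2 s.12.9.6.1) (R.mk s.12.9.7.2 s.12.9.7.1) (R.mk s.12.9.8.2 s.12.9.8.1))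
  (@T16.mk R s.12.10.14 s.12.10.13 s.12.10.16 s.12.10.15 s.12.10.10 s.12.10.9 s.12.10.12 s.12.10.11 s.12.10.6 s.12.10.5 s.12.10.8 s.12.10.7 s.12.10.2 s.12.10.1 s.12.10.4 s.12.10.3)
  (@T16.mk R (R.mk s.12.11.15.2 s.12.11.15.1) (R.mk s.12.11.16.2 s.12.11.16.1) (R.mk s.12.11.13.2 s.12.11.13.1) (R.mk s.12.11.14.2 s.12.11.14.1) (R.mk s.12.11.11.2 s.12.11.11.1) (R.mk s.12.11.12.2 s.12.11.12.1) (R.mk s.12.11.9.2 s.12.11.9.1) (R.mk s.12.11.10.2 s.12.11.10.1) (R.mk s.12.11.7.2 s.12.11.7.1) (R.mk s.12.11.8.2 s.12.11.8.1) (R.mk s.12.11.5.2 s.12.11.5.1) (R.mk s.12.11.6.2 s.12.11.6.1) (R.mk s.12.11.3.2 s.12.11.3.1) (R.mk s.12.11.4.2 s.12.11.4.1) (R.mk s.12.11.1.2 s.12.11.1.1) (R.mk s.12.11.2.2 s.12.11.2.1))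
  (@T16.mk R (R.mk s.12.12.6.2 s.12.12.6.1) (R.mk s.12.12.5.2 s.12.12.5.1) (R.mk s.12.12.8.2 s.12.12.8.1) (R.mk s.12.12.7.2 s.12.12.7.1) (R.mk s.12.12.2.2 s.12.12.2.1) (R.mk s.12.12.1.2 s.12.12.1.1) (R.mk s.12.12.4.2 s.12.12.4.1) (R.mk s.12.12.3.2 s.12.12.3.1) (R.mk s.12.12.14.2 s.12.12.14.1) (R.mk s.12.12.13.2 s.12.12.13.1) (R.mk s.12.12.16.2 s.12.12.16.1) (R.mk s.12.12.15.2 s.12.12.15.1) (R.mk s.12.12.10.2 s.12.12.10.1) (R.mk s.12.12.9.2 s.12.12.9.1) (R.mk s.12.12.12.2 s.12.12.12.1) (R.mk s.12.12.11.2 s.12.12.11.1))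
  (@T16.mk R (R.mk s.12.13.14.2 s.12.13.14.1) (R.mk s.12.13.13.2 s.12.13.13.1) (R.mk s.12.13.16.2 s.12.13.16.1) (R.mk s.12.13.15.2 s.12.13.15.1) (R.mk s.12.13.10.2 s.12.13.10.1) (R.mk s.12.13.9.2 s.12.13.9.1) (R.mk s.12.13.12.2 s.12.13.12.1) (R.mk s.12.13.11.2 s.12.13.11.1) (R.mk s.12.13.6.2 s.12.13.6.1) (R.mk s.12.13.5.2 s.12.13.5.1) (R.mk s.12.13.8.2 s.12.13.8.1) (R.mk s.12.13.7.2 s.12.13.7.1) (R.mk s.12.13.2.2 s.12.13.2.1) (R.mk s.12.13.1.2 s.12.13.1.1) (R.mk s.12.13.4.2 s.12.13.4.1) (R.mk s.12.13.3.2 s.12.13.3.1))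
  (@T16.mk R s.12.14.1 s.12.14.2 s.12.14.3 s.12.14.4 s.12.14.5 s.12.14.6 s.12.14.7 s.12.14.8 s.12.14.9 s.12.14.10 s.12.14.11 s.12.14.12 s.12.14.13 s.12.14.14 s.12.14.15 s.12.14.16)
  (@T16.mk R (R.mk s.12.15.16.2 s.12.15.16.1) (R.mk s.12.15.15.2 s.12.15.15.1) (R.mk s.12.15.14.2 s.12.15.14.1) (R.mk s.12.15.13.2 s.12.15.13.1) (R.mk s.12.15.12.2 s.12.15.12.1) (R.mk s.12.15.11.2 s.12.15.11.1) (R.mk s.12.15.10.2 s.12.15.10.1) (R.mk s.12.15.9.2 s.12.15.9.1) (R.mk s.12.15.8.2 s.12.15.8.1) (R.mk s.12.15.7.2 s.12.15.7.1) (R.mk s.12.15.6.2 s.12.15.6.1) (R.mk s.12.15.5.2 s.12.15.5.1) (R.mk s.12.15.4.2 s.12.15.4.1) (R.mk s.12.15.3.2 s.12.15.3.1) (R.mk s.12.15.2.2 s.12.15.2.1) (R.mk s.12.15.1.2 s.12.15.1.1))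
  (@T16.mk R (R.mk s.12.16.2.2 s.12.16.2.1) (R.mk s.12.16.1.2 s.12.16.1.1) (R.mk s.12.16.4.2 s.12.16.4.1) (R.mk s.12.16.3.2 s.12.16.3.1) (R.mk s.12.16.6.2 s.12.16.6.1) (R.mk s.12.16.5.2 s.12.16.5.1) (R.mk s.12.16.8.2 s.12.16.8.1) (R.mk s.12.16.7.2 s.12.16.7.1) (R.mk s.12.16.10.2 s.12.16.10.1) (R.mk s.12.16.9.2 s.12.16.9.1) (R.mk s.12.16.12.2 s.12.16.12.1) (R.mk s.12.16.11.2 s.12.16.11.1) (R.mk s.12.16.14.2 s.12.16.14.1) (R.mk s.12.16.13.2 s.12.16.13.1) (R.mk s.12.16.16.2 s.12.16.16.1) (R.mk s.12.16.15.2 s.12.16.15.1))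
 )
 (@T16.mk (T16 R)
  (@T16.mk R (R.mk s.13.1.8.2 s.13.1.8.1) (R.mk s.13.1.7.2 s.13.1.7.1) (R.mk s.13.1.6.2 s.13.1.6.1) (R.mk s.13.1.5.2 s.13.1.5.1) (R.mk s.13.1.4.2 s.13.1.4.1) (R.mk s.13.1.3.2 s.13.1.3.1) (R.mk s.13.1.2.2 s.13.1.2.1) (R.mk s.13.1.1.2 s.13.1.1.1) (R.mk s.13.1.16.2 s.13.1.16.1) (R.mk s.13.1.15.2 s.13.1.15.1) (R.mk s.13.1.14.2 s.13.1.14.1) (R.mk s.13.1.13.2 s.13.1.13.1) (R.mk s.13.1.12.2 s.13.1.12.1) (R.mk s.13.1.11.2 s.13.1.11.1) (R.mk s.13.1.10.2 s.13.1.10.1) (R.mk s.13.1.9.2 s.13.1.9.1))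
  (@T16.mk R (R.mk s.13.2.5.2 s.13.2.5.1) (R.mk s.13.2.6.2 s.13.2.6.1) (R.mk s.13.2.7.2 s.13.2.7.1) (R.mk s.13.2.8.2 s.13.2.8.1) (R.mk s.13.2.1.2 s.13.2.1.1) (R.mk s.13.2.2.2 s.13.2.2.1) (R.mk s.13.2.3.2 s.13.2.3.1) (R.mk s.13.2.4.2 s.13.2.4.1) (R.mk s.13.2.13.2 s.13.2.13.1) (R.mk s.13.2.14.2 s.13.2.14.1) (R.mk s.13.2.15.2 s.13.2.15.1) (R.mk s.13.2.16.2 s.13.2.16.1) (R.mk s.13.2.9.2 s.13.2.9.1) (R.mk s.13.2.10.2 s.13.2.10.1) (R.mk s.13.2.11.2 s.13.2.11.1) (R.mk s.13.2.12.2 s.13.2.12.1))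
  (@T16.mk R (R.mk s.13.3.2.2 s.13.3.2.1) (R.mk s.13.3.1.2 s.13.3.1.1) (R.mk s.13.3.4.2 s.13.3.4.1) (R.mk s.13.3.3.2 s.13.3.3.1) (R.mk s.13.3.6.2 s.13.3.6.1) (R.mk s.13.3.5.2 s.13.3.5.1) (R.mk s.13.3.8.2 s.13.3.8.1) (R.mk s.13.3.7.2 s.13.3.7.1) (R.mk s.13.3.10.2 s.13.3.10.1) (R.mk s.13.3.9.2 s.13.3.9.1) (R.mk s.13.3.12.2 s.13.3.12.1) (R.mk s.13.3.11.2 s.13.3.11.1) (R.mk s.13.3.14.2 s.13.3.14.1) (R.mk s.13.3.13.2 s.13.3.13.1) (R.mk s.13.3.16.2 s.13.3.16.1) (R.mk s.13.3.15.2 s.13.3.15.1))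
  (@T16.mk R (R.mk s.13.4.8.2 s.13.4.8.1) (R.mk s.13.4.7.2 s.13.4.7.1) (R.mk s.13.4.6.2 s.13.4.6.1) (R.mk s.13.4.5.2 s.13.4.5.1) (R.mk s.13.4.4.2 s.13.4.4.1) (R.mk s.13.4.3.2 s.13.4.3.1) (R.mk s.13.4.2.2 s.13.4.2.1) (R.mk s.13.4.1.2 s.13.4.1.1) (R.mk s.13.4.16.2 s.13.4.16.1) (R.mk s.13.4.15.2 s.13.4.15.1) (R.mk s.13.4.14.2 s.13.4.14.1) (R.mk s.13.4.13.2 s.13.4.13.1) (R.mk s.13.4.12.2 s.13.4.12.1) (R.mk s.13.4.11.2 s.13.4.11.1) (R.mk s.13.4.10.2 s.13.4.10.1) (R.mk s.13.4.9.2 s.13.4.9.1))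
  (@T16.mk R (R.mk s.13.5.3.2 s.13.5.3.1) (R.mk s.13.5.4.2 s.13.5.4.1) (R.mk s.13.5.1.2 s.13.5.1.1) (R.mk s.13.5.2.2 s.13.5.2.1) (R.mk s.13.5.7.2 s.13.5.7.1) (R.mk s.13.5.8.2 s.13.5.8.1) (R.mk s.13.5.5.2 s.13.5.5.1) (R.mk s.13.5.6.2 s.13.5.6.1) (R.mk s.13.5.11.2 s.13.5.11.1) (R.mk s.13.5.12.2 s.13.5.12.1) (R.mk s.13.5.9.2 s.13.5.9.1) (R.mk s.13.5.10.2 s.13.5.10.1) (R.mk s.13.5.15.2 s.13.5.15.1) (R.mk s.13.5.16.2 s.13.5.16.1) (R.mk s.13.5.13.2 s.13.5.13.1) (R.mk s.13.5.14.2 s.13.5.14.1))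
  (@T16.mk R (R.mk s.13.6.5.2 s.13.6.5.1) (R.mk s.13.6.6.2 s.13.6.6.1) (R.mk s.13.6.7.2 s.13.6.7.1) (R.mk s.13.6.8.2 s.13.6.8.1) (R.mk s.13.6.1.2 s.13.6.1.1) (R.mk s.13.6.2.2 s.13.6.2.1) (R.mk s.13.6.3.2 s.13.6.3.1) (R.mk s.13.6.4.2 s.13.6.4.1) (R.mk s.13.6.13.2 s.13.6.13.1) (R.mk s.13.6.14.2 s.13.6.14.1) (R.mk s.13.6.15.2 s.13.6.15.1) (R.mk s.13.6.16.2 s.13.6.16.1) (R.mk s.13.6.9.2 s.13.6.9.1) (R.mk s.13.6.10.2 s.13.6.10.1) (R.mk s.13.6.11.2 s.13.6.11.1) (R.mk s.13.6.12.2 s.13.6.12.1))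
  (@T16.mk R s.13.7.1 s.13.7.2 s.13.7.3 s.13.7.4 s.13.7.5 s.13.7.6 s.13.7.7 s.13.7.8 s.13.7.9 s.13.7.10 s.13.7.11 s.13.7.12 s.13.7.13 s.13.7.14 s.13.7.15 s.13.7.16)
  (@T16.mk R s.13.8.8 s.13.8.7 s.13.8.6 s.13.8.5 s.13.8.4 s.13.8.3 s.13.8.2 s.13.8.1 s.13.8.16 s.13.8.15 s.13.8.14 s.13.8.13 s.13.8.12 s.13.8.11 s.13.8.10 s.13.8.9)
  (@T16.mk R s.13.9.16 s.13.9.15 s.13.9.14 s.13.9.13 s.13.9.12 s.13.9.11 s.13.9.10 s.13.9.9 s.13.9.8 s.13.9.7 s.13.9.6 s.13.9.5 s.13.9.4 s.13.9.3 s.13.9.2 s.13.9.1)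
  (@T16.mk R s.13.10.9 s.13.10.10 s.13.10.11 s.13.10.12 s.13.10.13 s.13.10.14 s.13.10.15 s.13.10.16 s.13.10.1 s.13.10.2 s.13.10.3 s.13.10.4 s.13.10.5 s.13.10.6 s.13.10.7 s.13.10.8)
  (@T16.mk R s.13.11.1 s.13.11.2 s.13.11.3 s.13.11.4 s.13.11.5 s.13.11.6 s.13.11.7 s.13.11.8 s.13.11.9 s.13.11.10 s.13.11.11 s.13.11.12 s.13.11.13 s.13.11.14 s.13.11.15 s.13.11.16)
  (@T16.mk R (R.mk s.13.12.3.2 s.13.12.3.1) (R.mk s.13.12.4.2 s.13.12.4.1) (R.mk s.13.12.1.2 s.13.12.1.1) (R.mk s.13.12.2.2 s.13.12.2.1) (R.mk s.13.12.7.2 s.13.12.7.1) (R.mk s.13.12.8.2 s.13.12.8.1) (R.mk s.13.12.5.2 s.13.12.5.1) (R.mk s.13.12.6.2 s.13.12.6.1) (R.mk s.13.12.11.2 s.13.12.11.1) (R.mk s.13.12.12.2 s.13.12.12.1) (R.mk s.13.12.9.2 s.13.12.9.1) (R.mk s.13.12.10.2 s.13.12.10.1)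 (R.mk s.13.12.15.2 s.13.12.15.1) (R.mk s.13.12.16.2 s.13.12.16.1) (R.mk s.13.12.13.2 s.13.12.13.1) (R.mk s.13.12.14.2 s.13.12.14.1))
  (@T16.mk R (R.mk s.13.13.14.2 s.13.13.14.1) (R.mk s.13.13.13.2 s.13.13.13.1) (R.mk s.13.13.16.2 s.13.13.16.1) (R.mk s.13.13.15.2 s.13.13.15.1) (R.mk s.13.13.10.2 s.13.13.10.1) (R.mk s.13.13.9.2 s.13.13.9.1) (R.mk s.13.13.12.2 s.13.13.12.1) (R.mk s.13.13.11.2 s.13.13.11.1) (R.mk s.13.13.6.2 s.13.13.6.1) (R.mk s.13.13.5.2 s.13.13.5.1) (R.mk s.13.13.8.2 s.13.13.8.1) (R.mk s.13.13.7.2 s.13.13.7.1) (R.mk s.13.13.2.2 s.13.13.2.1) (R.mk s.13.13.1.2 s.13.13.1.1) (R.mk s.13.13.4.2 s.13.13.4.1) (R.mk s.13.13.3.2 s.13.13.3.1))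
  (@T16.mk R s.14.11.9 s.14.11.10 s.14.11.11 s.14.11.12 s.14.11.13 s.14.11.14 s.14.11.15 s.14.11.16 s.14.11.1 (R.mk s.14.11.2.2 s.14.11.2.1) (R.mk s.14.11.3.2 s.14.11.3.1) s.14.11.4 (R.mk s.14.11.5.2 s.14.11.5.1) s.14.11.6 s.14.11.7 (R.mk s.14.11.8.2 s.14.11.8.1))
  (@T16.mk R s.14.10.9 (R.mk s.14.10.10.2 s.14.10.10.1) s.14.10.11 (R.mk s.14.10.12.2 s.14.10.12.1) (R.mk s.14.10.13.2 s.14.10.13.1) s.14.10.14 (R.mk s.14.10.15.2 s.14.10.15.1) s.14.10.16 s.14.10.1 s.14.10.2 (R.mk s.14.10.3.2 s.14.10.3.1) (R.mk s.14.10.4.2 s.14.10.4.1) s.14.10.5 s.14.10.6 (R.mk s.14.10.7.2 s.14.10.7.1) (R.mk s.14.10.8.2 s.14.10.8.1))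
  (@T16.mk R (R.mk s.14.13.9.2 s.14.13.9.1) (R.mk s.14.13.10.2 s.14.13.10.1) s.14.13.11 s.14.13.12 (R.mk s.14.13.13.2 s.14.13.13.1) (R.mk s.14.13.14.2 s.14.13.14.1) s.14.13.15 s.14.13.16 s.14.13.1 (R.mk s.14.13.2.2 s.14.13.2.1) s.14.13.3 (R.mk s.14.13.4.2 s.14.13.4.1) (R.mk s.14.13.5.2 s.14.13.5.1) s.14.13.6 (R.mk s.14.13.7.2 s.14.13.7.1) s.14.13.8)
 )
 (@T16.mk (T16 R)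
  (@T16.mk R s.14.12.9 (R.mk s.14.12.10.2 s.14.12.10.1) (R.mk s.14.12.11.2 s.14.12.11.1) s.14.12.12 (R.mk s.14.12.13.2 s.14.12.13.1) s.14.12.14 s.14.12.15 (R.mk s.14.12.16.2 s.14.12.16.1) (R.mk s.14.12.1.2 s.14.12.1.1) (R.mk s.14.12.2.2 s.14.12.2.1) (R.mk s.14.12.3.2 s.14.12.3.1) (R.mk s.14.12.4.2 s.14.12.4.1) (R.mk s.14.12.5.2 s.14.12.5.1) (R.mk s.14.12.6.2 s.14.12.6.1) (R.mk s.14.12.7.2 s.14.12.7.1) (R.mk s.14.12.8.2 s.14.12.8.1))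
  (@T16.mk R s.14.7.9 (R.mk s.14.7.10.2 s.14.7.10.1) (R.mk s.14.7.11.2 s.14.7.11.1) s.14.7.12 (R.mk s.14.7.13.2 s.14.7.13.1) s.14.7.14 s.14.7.15 (R.mk s.14.7.16.2 s.14.7.16.1) s.14.7.1 s.14.7.2 s.14.7.3 s.14.7.4 s.14.7.5 s.14.7.6 s.14.7.7 s.14.7.8)
  (@T16.mk R s.14.6.9 s.14.6.10 (R.mk s.14.6.11.2 s.14.6.11.1) (R.mk s.14.6.12.2 s.14.6.12.1) s.14.6.13 s.14.6.14 (R.mk s.14.6.15.2 s.14.6.15.1) (R.mk s.14.6.16.2 s.14.6.16.1) s.14.6.1 (R.mk s.14.6.2.2 s.14.6.2.1) s.14.6.3 (R.mk s.14.6.4.2 s.14.6.4.1) (R.mk s.14.6.5.2 s.14.6.5.1) s.14.6.6 (R.mk s.14.6.7.2 s.14.6.7.1) s.14.6.8)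
  (@T16.mk R (R.mk s.14.9.9.2 s.14.9.9.1) s.14.9.10 (R.mk s.14.9.11.2 s.14.9.11.1) s.14.9.12 s.14.9.13 (R.mk s.14.9.14.2 s.14.9.14.1) s.14.9.15 (R.mk s.14.9.16.2 s.14.9.16.1) s.14.9.1 s.14.9.2 (R.mk s.14.9.3.2 s.14.9.3.1) (R.mk s.14.9.4.2 s.14.9.4.1) s.14.9.5 s.14.9.6 (R.mk s.14.9.7.2 s.14.9.7.1) (R.mk s.14.9.8.2 s.14.9.8.1))
  (@T16.mk R s.14.8.9 s.14.8.10 s.14.8.11 s.14.8.12 s.14.8.13 s.14.8.14 s.14.8.15 s.14.8.16 (R.mk s.14.8.1.2 s.14.8.1.1) s.14.8.2 s.14.8.3 (R.mk s.14.8.4.2 s.14.8.4.1) s.14.8.5 (R.mk s.14.8.6.2 s.14.8.6.1) (R.mk s.14.8.7.2 s.14.8.7.1) s.14.8.8)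
  (@T16.mk R s.14.3.9 (R.mk s.14.3.10.2 s.14.3.10.1) s.14.3.11 (R.mk s.14.3.12.2 s.14.3.12.1) (R.mk s.14.3.13.2 s.14.3.13.1) s.14.3.14 (R.mk s.14.3.15.2 s.14.3.15.1) s.14.3.16 s.14.3.1 s.14.3.2 (R.mk s.14.3.3.2 s.14.3.3.1) (R.mk s.14.3.4.2 s.14.3.4.1) s.14.3.5 s.14.3.6 (R.mk s.14.3.7.2 s.14.3.7.1) (R.mk s.14.3.8.2 s.14.3.8.1))
  (@T16.mk R s.14.2.9 s.14.2.10 s.14.2.11 s.14.2.12 s.14.2.13 s.14.2.14 s.14.2.15 s.14.2.16 s.14.2.1 (R.mk s.14.2.2.2 s.14.2.2.1) (R.mk s.14.2.3.2 s.14.2.3.1) s.14.2.4 (R.mk s.14.2.5.2 s.14.2.5.1) s.14.2.6 s.14.2.7 (R.mk s.14.2.8.2 s.14.2.8.1))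
  (@T16.mk R (R.mk s.14.5.9.2 s.14.5.9.1) s.14.5.10 s.14.5.11 (R.mk s.14.5.12.2 s.14.5.12.1) s.14.5.13 (R.mk s.14.5.14.2 s.14.5.14.1) (R.mk s.14.5.15.2 s.14.5.15.1) s.14.5.16 s.14.5.1 s.14.5.2 s.14.5.3 s.14.5.4 s.14.5.5 s.14.5.6 s.14.5.7 s.14.5.8)
  (@T16.mk R s.14.4.9 s.14.4.10 (R.mk s.14.4.11.2 s.14.4.11.1) (R.mk s.14.4.12.2 s.14.4.12.1) s.14.4.13 s.14.4.14 (R.mk s.14.4.15.2 s.14.4.15.1) (R.mk s.14.4.16.2 s.14.4.16.1) (R.mk s.14.4.1.2 s.14.4.1.1) s.14.4.2 (R.mk s.14.4.3.2 s.14.4.3.1) s.14.4.4 s.14.4.5 (R.mk s.14.4.6.2 s.14.4.6.1) s.14.4.7 (R.mk s.14.4.8.2 s.14.4.8.1))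
  (@T16.mk R s.13.15.9 s.13.15.10 (R.mk s.13.15.11.2 s.13.15.11.1) (R.mk s.13.15.12.2 s.13.15.12.1) s.13.15.13 s.13.15.14 (R.mk s.13.15.15.2 s.13.15.15.1) (R.mk s.13.15.16.2 s.13.15.16.1) s.13.15.1 (R.mk s.13.15.2.2 s.13.15.2.1) s.13.15.3 (R.mk s.13.15.4.2 s.13.15.4.1) (R.mk s.13.15.5.2 s.13.15.5.1) s.13.15.6 (R.mk s.13.15.7.2 s.13.15.7.1) s.13.15.8)
  (@T16.mk R s.13.14.9 (R.mk s.13.14.10.2 s.13.14.10.1) (R.mk s.13.14.11.2 s.13.14.11.1) s.13.14.12 (R.mk s.13.14.13.2 s.13.14.13.1) s.13.14.14 s.13.14.15 (R.mk s.13.14.16.2 s.13.14.16.1) s.13.14.1 s.13.14.2 s.13.14.3 s.13.14.4 s.13.14.5 s.13.14.6 s.13.14.7 s.13.14.8)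
  (@T16.mk R (R.mk s.14.1.9.2 s.14.1.9.1) (R.mk s.14.1.10.2 s.14.1.10.1) (R.mk s.14.1.11.2 s.14.1.11.1) (R.mk s.14.1.12.2 s.14.1.12.1) (R.mk s.14.1.13.2 s.14.1.13.1) (R.mk s.14.1.14.2 s.14.1.14.1) (R.mk s.14.1.15.2 s.14.1.15.1) (R.mk s.14.1.16.2 s.14.1.16.1) s.14.1.1 (R.mk s.14.1.2.2 s.14.1.2.1) (R.mk s.14.1.3.2 s.14.1.3.1) s.14.1.4 (R.mk s.14.1.5.2 s.14.1.5.1) s.14.1.6 s.14.1.7 (R.mk s.14.1.8.2 s.14.1.8.1))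
  (@T16.mk R s.13.16.9 (R.mk s.13.16.10.2 s.13.16.10.1) s.13.16.11 (R.mk s.13.16.12.2 s.13.16.12.1) (R.mk s.13.16.13.2 s.13.16.13.1) s.13.16.14 (R.mk s.13.16.15.2 s.13.16.15.1) s.13.16.16 (R.mk s.13.16.1.2 s.13.16.1.1) (R.mk s.13.16.2.2 s.13.16.2.1) s.13.16.3 s.13.16.4 (R.mk s.13.16.5.2 s.13.16.5.1) (R.mk s.13.16.6.2 s.13.16.6.1) s.13.16.7 s.13.16.8)
  (@T16.mk R s.15.11.9 s.15.11.10 s.15.11.11 s.15.11.12 s.15.11.13 s.15.11.14 s.15.11.15 s.15.11.16 s.15.11.1 (R.mk s.15.11.2.2 s.15.11.2.1) (R.mk s.15.11.3.2 s.15.11.3.1) s.15.11.4 (R.mk s.15.11.5.2 s.15.11.5.1) s.15.11.6 s.15.11.7 (R.mk s.15.11.8.2 s.15.11.8.1))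
  (@T16.mk R (R.mk s.15.10.9.2 s.15.10.9.1) s.15.10.10 (R.mk s.15.10.11.2 s.15.10.11.1) s.15.10.12 s.15.10.13 (R.mk s.15.10.14.2 s.15.10.14.1) s.15.10.15 (R.mk s.15.10.16.2 s.15.10.16.1) (R.mk s.15.10.1.2 s.15.10.1.1) (R.mk s.15.10.2.2 s.15.10.2.1) s.15.10.3 s.15.10.4 (R.mk s.15.10.5.2 s.15.10.5.1) (R.mk s.15.10.6.2 s.15.10.6.1) s.15.10.7 s.15.10.8)
  (@T16.mk R s.15.13.9 s.15.13.10 (R.mk s.15.13.11.2 s.15.13.11.1) (R.mk s.15.13.12.2 s.15.13.12.1) s.15.13.13 s.15.13.14 (R.mk s.15.13.15.2 s.15.13.15.1) (R.mk s.15.13.16.2 s.15.13.16.1) (R.mk s.15.13.1.2 s.15.13.1.1) s.15.13.2 (R.mk s.15.13.3.2 s.15.13.3.1) s.15.13.4 s.15.13.5 (R.mk s.15.13.6.2 s.15.13.6.1) s.15.13.7 (R.mk s.15.13.8.2 s.15.13.8.1))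
 )
 (@T16.mk (T16 R)
  (@T16.mk R s.15.12.9 (R.mk s.15.12.10.2 s.15.12.10.1) (R.mk s.15.12.11.2 s.15.12.11.1) s.15.12.12 (R.mk s.15.12.13.2 s.15.12.13.1) s.15.12.14 s.15.12.15 (R.mk s.15.12.16.2 s.15.12.16.1) (R.mk s.15.12.1.2 s.15.12.1.1) (R.mk s.15.12.2.2 s.15.12.2.1) (R.mk s.15.12.3.2 s.15.12.3.1) (R.mk s.15.12.4.2 s.15.12.4.1) (R.mk s.15.12.5.2 s.15.12.5.1) (R.mk s.15.12.6.2 s.15.12.6.1) (R.mk s.15.12.7.2 s.15.12.7.1) (R.mk s.15.12.8.2 s.15.12.8.1))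
  (@T16.mk R s.15.7.9 (R.mk s.15.7.10.2 s.15.7.10.1) (R.mk s.15.7.11.2 s.15.7.11.1) s.15.7.12 (R.mk s.15.7.13.2 s.15.7.13.1) s.15.7.14 s.15.7.15 (R.mk s.15.7.16.2 s.15.7.16.1) s.15.7.1 s.15.7.2 s.15.7.3 s.15.7.4 s.15.7.5 s.15.7.6 s.15.7.7 s.15.7.8)
  (@T16.mk R (R.mk s.15.6.9.2 s.15.6.9.1) (R.mk s.15.6.10.2 s.15.6.10.1) s.15.6.11 s.15.6.12 (R.mk s.15.6.13.2 s.15.6.13.1) (R.mk s.15.6.14.2 s.15.6.14.1) s.15.6.15 s.15.6.16 (R.mk s.15.6.1.2 s.15.6.1.1) s.15.6.2 (R.mk s.15.6.3.2 s.15.6.3.1) s.15.6.4 s.15.6.5 (R.mk s.15.6.6.2 s.15.6.6.1) s.15.6.7 (R.mk s.15.6.8.2 s.15.6.8.1))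
  (@T16.mk R s.15.9.9 (R.mk s.15.9.10.2 s.15.9.10.1) s.15.9.11 (R.mk s.15.9.12.2 s.15.9.12.1) (R.mk s.15.9.13.2 s.15.9.13.1) s.15.9.14 (R.mk s.15.9.15.2 s.15.9.15.1) s.15.9.16 (R.mk s.15.9.1.2 s.15.9.1.1) (R.mk s.15.9.2.2 s.15.9.2.1) s.15.9.3 s.15.9.4 (R.mk s.15.9.5.2 s.15.9.5.1) (R.mk s.15.9.6.2 s.15.9.6.1) s.15.9.7 s.15.9.8)
  (@T16.mk R s.15.8.9 s.15.8.10 s.15.8.11 s.15.8.12 s.15.8.13 s.15.8.14 s.15.8.15 s.15.8.16 (R.mk s.15.8.1.2 s.15.8.1.1) s.15.8.2 s.15.8.3 (R.mk s.15.8.4.2 s.15.8.4.1) s.15.8.5 (R.mk s.15.8.6.2 s.15.8.6.1) (R.mk s.15.8.7.2 s.15.8.7.1) s.15.8.8)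
  (@T16.mk R (R.mk s.15.3.9.2 s.15.3.9.1) s.15.3.10 (R.mk s.15.3.11.2 s.15.3.11.1) s.15.3.12 s.15.3.13 (R.mk s.15.3.14.2 s.15.3.14.1) s.15.3.15 (R.mk s.15.3.16.2 s.15.3.16.1) (R.mk s.15.3.1.2 s.15.3.1.1) (R.mk s.15.3.2.2 s.15.3.2.1) s.15.3.3 s.15.3.4 (R.mk s.15.3.5.2 s.15.3.5.1) (R.mk s.15.3.6.2 s.15.3.6.1) s.15.3.7 s.15.3.8)
  (@T16.mk R s.15.2.9 s.15.2.10 s.15.2.11 s.15.2.12 s.15.2.13 s.15.2.14 s.15.2.15 s.15.2.16 s.15.2.1 (R.mk s.15.2.2.2 s.15.2.2.1) (R.mk s.15.2.3.2 s.15.2.3.1) s.15.2.4 (R.mk s.15.2.5.2 s.15.2.5.1) s.15.2.6 s.15.2.7 (R.mk s.15.2.8.2 s.15.2.8.1))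
  (@T16.mk R (R.mk s.15.5.9.2 s.15.5.9.1) s.15.5.10 s.15.5.11 (R.mk s.15.5.12.2 s.15.5.12.1) s.15.5.13 (R.mk s.15.5.14.2 s.15.5.14.1) (R.mk s.15.5.15.2 s.15.5.15.1) s.15.5.16 s.15.5.1 s.15.5.2 s.15.5.3 s.15.5.4 s.15.5.5 s.15.5.6 s.15.5.7 s.15.5.8)
  (@T16.mk R (R.mk s.15.4.9.2 s.15.4.9.1) (R.mk s.15.4.10.2 s.15.4.10.1) s.15.4.11 s.15.4.12 (R.mk s.15.4.13.2 s.15.4.13.1) (R.mk s.15.4.14.2 s.15.4.14.1) s.15.4.15 s.15.4.16 s.15.4.1 (R.mk s.15.4.2.2 s.15.4.2.1) s.15.4.3 (R.mk s.15.4.4.2 s.15.4.4.1) (R.mk s.15.4.5.2 s.15.4.5.1) s.15.4.6 (R.mk s.15.4.7.2 s.15.4.7.1) s.15.4.8)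
  (@T16.mk R (R.mk s.14.15.9.2 s.14.15.9.1) (R.mk s.14.15.10.2 s.14.15.10.1) s.14.15.11 s.14.15.12 (R.mk s.14.15.13.2 s.14.15.13.1) (R.mk s.14.15.14.2 s.14.15.14.1) s.14.15.15 s.14.15.16 (R.mk s.14.15.1.2 s.14.15.1.1) s.14.15.2 (R.mk s.14.15.3.2 s.14.15.3.1) s.14.15.4 s.14.15.5 (R.mk s.14.15.6.2 s.14.15.6.1) s.14.15.7 (R.mk s.14.15.8.2 s.14.15.8.1))
  (@T16.mk R s.14.14.9 (R.mk s.14.14.10.2 s.14.14.10.1) (R.mk s.14.14.11.2 s.14.14.11.1) s.14.14.12 (R.mk s.14.14.13.2 s.14.14.13.1) s.14.14.14 s.14.14.15 (R.mk s.14.14.16.2 s.14.14.16.1) s.14.14.1 s.14.14.2 s.14.14.3 s.14.14.4 s.14.14.5 s.14.14.6 s.14.14.7 s.14.14.8)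
  (@T16.mk R (R.mk s.15.1.9.2 s.15.1.9.1) (R.mk s.15.1.10.2 s.15.1.10.1) (R.mk s.15.1.11.2 s.15.1.11.1) (R.mk s.15.1.12.2 s.15.1.12.1) (R.mk s.15.1.13.2 s.15.1.13.1) (R.mk s.15.1.14.2 s.15.1.14.1) (R.mk s.15.1.15.2 s.15.1.15.1) (R.mk s.15.1.16.2 s.15.1.16.1) s.15.1.1 (R.mk s.15.1.2.2 s.15.1.2.1) (R.mk s.15.1.3.2 s.15.1.3.1) s.15.1.4 (R.mk s.15.1.5.2 s.15.1.5.1) s.15.1.6 s.15.1.7 (R.mk s.15.1.8.2 s.15.1.8.1))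
  (@T16.mk R (R.mk s.14.16.9.2 s.14.16.9.1) s.14.16.10 (R.mk s.14.16.11.2 s.14.16.11.1) s.14.16.12 s.14.16.13 (R.mk s.14.16.14.2 s.14.16.14.1) s.14.16.15 (R.mk s.14.16.16.2 s.14.16.16.1) s.14.16.1 s.14.16.2 (R.mk s.14.16.3.2 s.14.16.3.1) (R.mk s.14.16.4.2 s.14.16.4.1) s.14.16.5 s.14.16.6 (R.mk s.14.16.7.2 s.14.16.7.1) (R.mk s.14.16.8.2 s.14.16.8.1))
  (@T16.mk R s.16.11.9 s.16.11.10 s.16.11.11 s.16.11.12 s.16.11.13 s.16.11.14 s.16.11.15 s.16.11.16 s.16.11.1 (R.mk s.16.11.2.2 s.16.11.2.1) (R.mk s.16.11.3.2 s.16.11.3.1) s.16.11.4 (R.mk s.16.11.5.2 s.16.11.5.1) s.16.11.6 s.16.11.7 (R.mk s.16.11.8.2 s.16.11.8.1))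
  (@T16.mk R s.16.10.9 (R.mk s.16.10.10.2 s.16.10.10.1) s.16.10.11 (R.mk s.16.10.12.2 s.16.10.12.1) (R.mk s.16.10.13.2 s.16.10.13.1) s.16.10.14 (R.mk s.16.10.15.2 s.16.10.15.1) s.16.10.16 s.16.10.1 s.16.10.2 (R.mk s.16.10.3.2 s.16.10.3.1) (R.mk s.16.10.4.2 s.16.10.4.1) s.16.10.5 s.16.10.6 (R.mk s.16.10.7.2 s.16.10.7.1) (R.mk s.16.10.8.2 s.16.10.8.1))
  (@T16.mk R (R.mk s.16.13.9.2 s.16.13.9.1) (R.mk s.16.13.10.2 s.16.13.10.1) s.16.13.11 s.16.13.12 (R.mk s.16.13.13.2 s.16.13.13.1) (R.mk s.16.13.14.2 s.16.13.14.1) s.16.13.15 s.16.13.16 s.16.13.1 (R.mk s.16.13.2.2 s.16.13.2.1) s.16.13.3 (R.mk s.16.13.4.2 s.16.13.4.1) (R.mk s.16.13.5.2 s.16.13.5.1) s.16.13.6 (R.mk s.16.13.7.2 s.16.13.7.1) s.16.13.8)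
 )
 (@T16.mk (T16 R)
  (@T16.mk R s.16.12.9 (R.mk s.16.12.10.2 s.16.12.10.1) (R.mk s.16.12.11.2 s.16.12.11.1) s.16.12.12 (R.mk s.16.12.13.2 s.16.12.13.1) s.16.12.14 s.16.12.15 (R.mk s.16.12.16.2 s.16.12.16.1) (R.mk s.16.12.1.2 s.16.12.1.1) (R.mk s.16.12.2.2 s.16.12.2.1) (R.mk s.16.12.3.2 s.16.12.3.1) (R.mk s.16.12.4.2 s.16.12.4.1) (R.mk s.16.12.5.2 s.16.12.5.1) (R.mk s.16.12.6.2 s.16.12.6.1) (R.mk s.16.12.7.2 s.16.12.7.1) (R.mk s.16.12.8.2 s.16.12.8.1))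
  (@T16.mk R s.16.7.9 (R.mk s.16.7.10.2 s.16.7.10.1) (R.mk s.16.7.11.2 s.16.7.11.1) s.16.7.12 (R.mk s.16.7.13.2 s.16.7.13.1) s.16.7.14 s.16.7.15 (R.mk s.16.7.16.2 s.16.7.16.1) s.16.7.1 s.16.7.2 s.16.7.3 s.16.7.4 s.16.7.5 s.16.7.6 s.16.7.7 s.16.7.8)
  (@T16.mk R s.16.6.9 s.16.6.10 (R.mk s.16.6.11.2 s.16.6.11.1) (R.mk s.16.6.12.2 s.16.6.12.1) s.16.6.13 s.16.6.14 (R.mk s.16.6.15.2 s.16.6.15.1) (R.mk s.16.6.16.2 s.16.6.16.1) s.16.6.1 (R.mk s.16.6.2.2 s.16.6.2.1) s.16.6.3 (R.mk s.16.6.4.2 s.16.6.4.1) (R.mk s.16.6.5.2 s.16.6.5.1) s.16.6.6 (R.mk s.16.6.7.2 s.16.6.7.1) s.16.6.8)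
  (@T16.mk R (R.mk s.16.9.9.2 s.16.9.9.1) s.16.9.10 (R.mk s.16.9.11.2 s.16.9.11.1) s.16.9.12 s.16.9.13 (R.mk s.16.9.14.2 s.16.9.14.1) s.16.9.15 (R.mk s.16.9.16.2 s.16.9.16.1) s.16.9.1 s.16.9.2 (R.mk s.16.9.3.2 s.16.9.3.1) (R.mk s.16.9.4.2 s.16.9.4.1) s.16.9.5 s.16.9.6 (R.mk s.16.9.7.2 s.16.9.7.1) (R.mk s.16.9.8.2 s.16.9.8.1))
  (@T16.mk R s.16.8.9 s.16.8.10 s.16.8.11 s.16.8.12 s.16.8.13 s.16.8.14 s.16.8.15 s.16.8.16 (R.mk s.16.8.1.2 s.16.8.1.1) s.16.8.2 s.16.8.3 (R.mk s.16.8.4.2 s.16.8.4.1) s.16.8.5 (R.mk s.16.8.6.2 s.16.8.6.1) (R.mk s.16.8.7.2 s.16.8.7.1) s.16.8.8)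
  (@T16.mk R s.16.3.9 (R.mk s.16.3.10.2 s.16.3.10.1) s.16.3.11 (R.mk s.16.3.12.2 s.16.3.12.1) (R.mk s.16.3.13.2 s.16.3.13.1) s.16.3.14 (R.mk s.16.3.15.2 s.16.3.15.1) s.16.3.16 s.16.3.1 s.16.3.2 (R.mk s.16.3.3.2 s.16.3.3.1) (R.mk s.16.3.4.2 s.16.3.4.1) s.16.3.5 s.16.3.6 (R.mk s.16.3.7.2 s.16.3.7.1) (R.mk s.16.3.8.2 s.16.3.8.1))
  (@T16.mk R s.16.2.9 s.16.2.10 s.16.2.11 s.16.2.12 s.16.2.13 s.16.2.14 s.16.2.15 s.16.2.16 s.16.2.1 (R.mk s.16.2.2.2 s.16.2.2.1) (R.mk s.16.2.3.2 s.16.2.3.1) s.16.2.4 (R.mk s.16.2.5.2 s.16.2.5.1) s.16.2.6 s.16.2.7 (R.mk s.16.2.8.2 s.16.2.8.1))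
  (@T16.mk R (R.mk s.16.5.9.2 s.16.5.9.1) s.16.5.10 s.16.5.11 (R.mk s.16.5.12.2 s.16.5.12.1) s.16.5.13 (R.mk s.16.5.14.2 s.16.5.14.1) (R.mk s.16.5.15.2 s.16.5.15.1) s.16.5.16 s.16.5.1 s.16.5.2 s.16.5.3 s.16.5.4 s.16.5.5 s.16.5.6 s.16.5.7 s.16.5.8)
  (@T16.mk R s.16.4.9 s.16.4.10 (R.mk s.16.4.11.2 s.16.4.11.1) (R.mk s.16.4.12.2 s.16.4.12.1) s.16.4.13 s.16.4.14 (R.mk s.16.4.15.2 s.16.4.15.1) (R.mk s.16.4.16.2 s.16.4.16.1) (R.mk s.16.4.1.2 s.16.4.1.1) s.16.4.2 (R.mk s.16.4.3.2 s.16.4.3.1) s.16.4.4 s.16.4.5 (R.mk s.16.4.6.2 s.16.4.6.1) s.16.4.7 (R.mk s.16.4.8.2 s.16.4.8.1))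
  (@T16.mk R s.15.15.9 s.15.15.10 (R.mk s.15.15.11.2 s.15.15.11.1) (R.mk s.15.15.12.2 s.15.15.12.1) s.15.15.13 s.15.15.14 (R.mk s.15.15.15.2 s.15.15.15.1) (R.mk s.15.15.16.2 s.15.15.16.1) s.15.15.1 (R.mk s.15.15.2.2 s.15.15.2.1) s.15.15.3 (R.mk s.15.15.4.2 s.15.15.4.1) (R.mk s.15.15.5.2 s.15.15.5.1) s.15.15.6 (R.mk s.15.15.7.2 s.15.15.7.1) s.15.15.8)
  (@T16.mk R s.15.14.9 (R.mk s.15.14.10.2 s.15.14.10.1) (R.mk s.15.14.11.2 s.15.14.11.1) s.15.14.12 (R.mk s.15.14.13.2 s.15.14.13.1) s.15.14.14 s.15.14.15 (R.mk s.15.14.16.2 s.15.14.16.1) s.15.14.1 s.15.14.2 s.15.14.3 s.15.14.4 s.15.14.5 s.15.14.6 s.15.14.7 s.15.14.8)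
  (@T16.mk R (R.mk s.16.1.9.2 s.16.1.9.1) (R.mk s.16.1.10.2 s.16.1.10.1) (R.mk s.16.1.11.2 s.16.1.11.1) (R.mk s.16.1.12.2 s.16.1.12.1) (R.mk s.16.1.13.2 s.16.1.13.1) (R.mk s.16.1.14.2 s.16.1.14.1) (R.mk s.16.1.15.2 s.16.1.15.1) (R.mk s.16.1.16.2 s.16.1.16.1) s.16.1.1 (R.mk s.16.1.2.2 s.16.1.2.1) (R.mk s.16.1.3.2 s.16.1.3.1) s.16.1.4 (R.mk s.16.1.5.2 s.16.1.5.1) s.16.1.6 s.16.1.7 (R.mk s.16.1.8.2 s.16.1.8.1))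
  (@T16.mk R s.15.16.9 (R.mk s.15.16.10.2 s.15.16.10.1) s.15.16.11 (R.mk s.15.16.12.2 s.15.16.12.1) (R.mk s.15.16.13.2 s.15.16.13.1) s.15.16.14 (R.mk s.15.16.15.2 s.15.16.15.1) s.15.16.16 (R.mk s.15.16.1.2 s.15.16.1.1) (R.mk s.15.16.2.2 s.15.16.2.1) s.15.16.3 s.15.16.4 (R.mk s.15.16.5.2 s.15.16.5.1) (R.mk s.15.16.6.2 s.15.16.6.1) s.15.16.7 s.15.16.8)
  (@T16.mk R s.17.11.9 s.17.11.10 s.17.11.11 s.17.11.12 s.17.11.13 s.17.11.14 s.17.11.15 s.17.11.16 s.17.11.1 (R.mk s.17.11.2.2 s.17.11.2.1) (R.mk s.17.11.3.2 s.17.11.3.1) s.17.11.4 (R.mk s.17.11.5.2 s.17.11.5.1) s.17.11.6 s.17.11.7 (R.mk s.17.11.8.2 s.17.11.8.1))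
  (@T16.mk R (R.mk s.17.10.9.2 s.17.10.9.1) s.17.10.10 (R.mk s.17.10.11.2 s.17.10.11.1) s.17.10.12 s.17.10.13 (R.mk s.17.10.14.2 s.17.10.14.1) s.17.10.15 (R.mk s.17.10.16.2 s.17.10.16.1) (R.mk s.17.10.1.2 s.17.10.1.1) (R.mk s.17.10.2.2 s.17.10.2.1) s.17.10.3 s.17.10.4 (R.mk s.17.10.5.2 s.17.10.5.1) (R.mk s.17.10.6.2 s.17.10.6.1) s.17.10.7 s.17.10.8)
  (@T16.mk R s.17.13.9 s.17.13.10 (R.mk s.17.13.11.2 s.17.13.11.1) (R.mk s.17.13.12.2 s.17.13.12.1) s.17.13.13 s.17.13.14 (R.mk s.17.13.15.2 s.17.13.15.1) (R.mk s.17.13.16.2 s.17.13.16.1) (R.mk s.17.13.1.2 s.17.13.1.1) s.17.13.2 (R.mk s.17.13.3.2 s.17.13.3.1) s.17.13.4 s.17.13.5 (R.mk s.17.13.6.2 s.17.13.6.1) s.17.13.7 (R.mk s.17.13.8.2 s.17.13.8.1))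
 )
 (@T16.mk (T16 R)
  (@T16.mk R s.17.12.9 (R.mk s.17.12.10.2 s.17.12.10.1) (R.mk s.17.12.11.2 s.17.12.11.1) s.17.12.12 (R.mk s.17.12.13.2 s.17.12.13.1) s.17.12.14 s.17.12.15 (R.mk s.17.12.16.2 s.17.12.16.1) (R.mk s.17.12.1.2 s.17.12.1.1) (R.mk s.17.12.2.2 s.17.12.2.1) (R.mk s.17.12.3.2 s.17.12.3.1) (R.mk s.17.12.4.2 s.17.12.4.1) (R.mk s.17.12.5.2 s.17.12.5.1) (R.mk s.17.12.6.2 s.17.12.6.1) (R.mk s.17.12.7.2 s.17.12.7.1) (R.mk s.17.12.8.2 s.17.12.8.1))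
  (@T16.mk R s.17.7.9 (R.mk s.17.7.10.2 s.17.7.10.1) (R.mk s.17.7.11.2 s.17.7.11.1) s.17.7.12 (R.mk s.17.7.13.2 s.17.7.13.1) s.17.7.14 s.17.7.15 (R.mk s.17.7.16.2 s.17.7.16.1) s.17.7.1 s.17.7.2 s.17.7.3 s.17.7.4 s.17.7.5 s.17.7.6 s.17.7.7 s.17.7.8)
  (@T16.mk R (R.mk s.17.6.9.2 s.17.6.9.1) (R.mk s.17.6.10.2 s.17.6.10.1) s.17.6.11 s.17.6.12 (R.mk s.17.6.13.2 s.17.6.13.1) (R.mk s.17.6.14.2 s.17.6.14.1) s.17.6.15 s.17.6.16 (R.mk s.17.6.1.2 s.17.6.1.1) s.17.6.2 (R.mk s.17.6.3.2 s.17.6.3.1) s.17.6.4 s.17.6.5 (R.mk s.17.6.6.2 s.17.6.6.1) s.17.6.7 (R.mk s.17.6.8.2 s.17.6.8.1))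
  (@T16.mk R s.17.9.9 (R.mk s.17.9.10.2 s.17.9.10.1) s.17.9.11 (R.mk s.17.9.12.2 s.17.9.12.1) (R.mk s.17.9.13.2 s.17.9.13.1) s.17.9.14 (R.mk s.17.9.15.2 s.17.9.15.1) s.17.9.16 (R.mk s.17.9.1.2 s.17.9.1.1) (R.mk s.17.9.2.2 s.17.9.2.1) s.17.9.3 s.17.9.4 (R.mk s.17.9.5.2 s.17.9.5.1) (R.mk s.17.9.6.2 s.17.9.6.1) s.17.9.7 s.17.9.8)
  (@T16.mk R s.17.8.9 s.17.8.10 s.17.8.11 s.17.8.12 s.17.8.13 s.17.8.14 s.17.8.15 s.17.8.16 (R.mk s.17.8.1.2 s.17.8.1.1) s.17.8.2 s.17.8.3 (R.mk s.17.8.4.2 s.17.8.4.1) s.17.8.5 (R.mk s.17.8.6.2 s.17.8.6.1) (R.mk s.17.8.7.2 s.17.8.7.1) s.17.8.8)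
  (@T16.mk R (R.mk s.17.3.9.2 s.17.3.9.1) s.17.3.10 (R.mk s.17.3.11.2 s.17.3.11.1) s.17.3.12 s.17.3.13 (R.mk s.17.3.14.2 s.17.3.14.1) s.17.3.15 (R.mk s.17.3.16.2 s.17.3.16.1) (R.mk s.17.3.1.2 s.17.3.1.1) (R.mk s.17.3.2.2 s.17.3.2.1) s.17.3.3 s.17.3.4 (R.mk s.17.3.5.2 s.17.3.5.1) (R.mk s.17.3.6.2 s.17.3.6.1) s.17.3.7 s.17.3.8)
  (@T16.mk R s.17.2.9 s.17.2.10 s.17.2.11 s.17.2.12 s.17.2.13 s.17.2.14 s.17.2.15 s.17.2.16 s.17.2.1 (R.mk s.17.2.2.2 s.17.2.2.1) (R.mk s.17.2.3.2 s.17.2.3.1) s.17.2.4 (R.mk s.17.2.5.2 s.17.2.5.1) s.17.2.6 s.17.2.7 (R.mk s.17.2.8.2 s.17.2.8.1))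
  (@T16.mk R (R.mk s.17.5.9.2 s.17.5.9.1) s.17.5.10 s.17.5.11 (R.mk s.17.5.12.2 s.17.5.12.1) s.17.5.13 (R.mk s.17.5.14.2 s.17.5.14.1) (R.mk s.17.5.15.2 s.17.5.15.1) s.17.5.16 s.17.5.1 s.17.5.2 s.17.5.3 s.17.5.4 s.17.5.5 s.17.5.6 s.17.5.7 s.17.5.8)
  (@T16.mk R (R.mk s.17.4.9.2 s.17.4.9.1) (R.mk s.17.4.10.2 s.17.4.10.1) s.17.4.11 s.17.4.12 (R.mk s.17.4.13.2 s.17.4.13.1) (R.mk s.17.4.14.2 s.17.4.14.1) s.17.4.15 s.17.4.16 s.17.4.1 (R.mk s.17.4.2.2 s.17.4.2.1) s.17.4.3 (R.mk s.17.4.4.2 s.17.4.4.1) (R.mk s.17.4.5.2 s.17.4.5.1) s.17.4.6 (R.mk s.17.4.7.2 s.17.4.7.1) s.17.4.8)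
  (@T16.mk R (R.mk s.16.15.9.2 s.16.15.9.1) (R.mk s.16.15.10.2 s.16.15.10.1) s.16.15.11 s.16.15.12 (R.mk s.16.15.13.2 s.16.15.13.1) (R.mk s.16.15.14.2 s.16.15.14.1) s.16.15.15 s.16.15.16 (R.mk s.16.15.1.2 s.16.15.1.1) s.16.15.2 (R.mk s.16.15.3.2 s.16.15.3.1) s.16.15.4 s.16.15.5 (R.mk s.16.15.6.2 s.16.15.6.1) s.16.15.7 (R.mk s.16.15.8.2 s.16.15.8.1))
  (@T16.mk R s.16.14.9 (R.mk s.16.14.10.2 s.16.14.10.1) (R.mk s.16.14.11.2 s.16.14.11.1) s.16.14.12 (R.mk s.16.14.13.2 s.16.14.13.1) s.16.14.14 s.16.14.15 (R.mk s.16.14.16.2 s.16.14.16.1) s.16.14.1 s.16.14.2 s.16.14.3 s.16.14.4 s.16.14.5 s.16.14.6 s.16.14.7 s.16.14.8)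
  (@T16.mk R (R.mk s.17.1.9.2 s.17.1.9.1) (R.mk s.17.1.10.2 s.17.1.10.1) (R.mk s.17.1.11.2 s.17.1.11.1) (R.mk s.17.1.12.2 s.17.1.12.1) (R.mk s.17.1.13.2 s.17.1.13.1) (R.mk s.17.1.14.2 s.17.1.14.1) (R.mk s.17.1.15.2 s.17.1.15.1) (R.mk s.17.1.16.2 s.17.1.16.1) s.17.1.1 (R.mk s.17.1.2.2 s.17.1.2.1) (R.mk s.17.1.3.2 s.17.1.3.1) s.17.1.4 (R.mk s.17.1.5.2 s.17.1.5.1) s.17.1.6 s.17.1.7 (R.mk s.17.1.8.2 s.17.1.8.1))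
  (@T16.mk R (R.mk s.16.16.9.2 s.16.16.9.1) s.16.16.10 (R.mk s.16.16.11.2 s.16.16.11.1) s.16.16.12 s.16.16.13 (R.mk s.16.16.14.2 s.16.16.14.1) s.16.16.15 (R.mk s.16.16.16.2 s.16.16.16.1) s.16.16.1 s.16.16.2 (R.mk s.16.16.3.2 s.16.16.3.1) (R.mk s.16.16.4.2 s.16.16.4.1) s.16.16.5 s.16.16.6 (R.mk s.16.16.7.2 s.16.16.7.1) (R.mk s.16.16.8.2 s.16.16.8.1))
  (@T16.mk R s.17.14.1 s.17.14.2 s.17.14.3 (R.mk s.17.14.4.2 s.17.14.4.1) (R.mk s.17.14.5.2 s.17.14.5.1) s.17.14.6 (R.mk s.17.14.7.2 s.17.14.7.1) (R.mk s.17.14.8.2 s.17.14.8.1) s.17.14.9 s.17.14.10 s.17.14.11 s.17.14.12 (R.mk s.17.14.13.2 s.17.14.13.1) s.17.14.14 s.17.14.15 s.17.14.16)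
  (@T16.mk R (R.mk s.17.15.1.2 s.17.15.1.1) (R.mk s.17.15.2.2 s.17.15.2.1) (R.mk s.17.15.3.2 s.17.15.3.1) s.17.15.4 s.17.15.5 s.17.15.6 s.17.15.7 s.17.15.8 s.17.15.9 (R.mk s.17.16.16.2 s.17.16.16.1) (R.mk s.18.1.1.2 s.18.1.1.1) s.17.15.12 (R.mk s.18.1.3.2 s.18.1.3.1) (R.mk s.18.1.4.2 s.18.1.4.1) s.17.15.15 s.17.15.16)
  (@T16.mk R s.17.16.1 s.17.16.2 (R.mk s.18.1.9.2 s.18.1.9.1) s.17.16.4 s.17.16.5 s.17.16.6 (R.mk s.18.1.13.2 s.18.1.13.1) (R.mk s.18.1.14.2 s.18.1.14.1) (R.mk s.18.1.15.2 s.18.1.15.1) s.17.16.10 s.17.16.11 s.17.16.12 s.17.16.13 s.17.16.14 s.17.16.15 (R.mk s.17.15.10.2 s.17.15.10.1))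
 )
 (@T16.mk (T16 R)
  (@T16.mk R (R.mk s.17.15.11.2 s.17.15.11.1) s.18.1.2 (R.mk s.17.15.13.2 s.17.15.13.1) (R.mk s.17.15.14.2 s.17.15.14.1) s.18.1.5 s.18.1.6 s.18.1.7 s.18.1.8 (R.mk s.17.16.3.2 s.17.16.3.1) s.18.1.10 s.18.1.11 s.18.1.12 (R.mk s.17.16.7.2 s.17.16.7.1) (R.mk s.17.16.8.2 s.17.16.8.1) (R.mk s.17.16.9.2 s.17.16.9.1) s.18.1.16)
  (@T16.mk R s.18.2.1 s.18.2.2 s.18.2.3 s.18.2.4 s.18.2.5 s.18.2.6 s.18.2.7 s.18.2.8 s.18.2.9 s.18.2.10 s.18.2.11 s.18.2.12 s.18.2.13 s.18.2.14 s.18.2.15 s.18.2.16)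
  (@T16.mk R s.18.3.1 s.18.3.2 s.18.3.3 s.18.3.4 s.18.3.5 s.18.3.6 s.18.3.7 s.18.3.8 s.18.3.9 s.18.3.10 s.18.3.11 s.18.3.12 s.18.3.13 s.18.3.14 s.18.3.15 s.18.3.16)
  (@T16.mk R s.18.4.1 s.18.4.2 s.18.4.3 s.18.4.4 s.18.4.5 s.18.4.6 s.18.4.7 s.18.4.8 s.18.4.9 s.18.4.10 s.18.4.11 s.18.4.12 s.18.4.13 s.18.4.14 s.18.4.15 s.18.4.16)
  (@T16.mk R s.18.5.1 s.18.5.2 s.18.5.3 s.18.5.4 s.18.5.5 s.18.5.6 s.18.5.7 s.18.5.8 s.18.5.9 s.18.5.10 s.18.5.11 s.18.5.12 s.18.5.13 s.18.5.14 s.18.5.15 s.18.5.16)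
  (@T16.mk R s.18.6.1 s.18.6.2 s.18.6.3 s.18.6.4 s.18.6.5 s.18.6.6 s.18.6.7 s.18.6.8 s.18.6.9 s.18.6.10 s.18.6.11 s.18.6.12 s.18.6.13 s.18.6.14 s.18.6.15 s.18.6.16)
  (@T16.mk R s.18.7.1 s.18.7.2 s.18.7.3 s.18.7.4 s.18.7.5 s.18.7.6 s.18.7.7 s.18.7.8 s.18.7.9 s.18.7.10 s.18.7.11 s.18.7.12 s.18.7.13 s.18.7.14 s.18.7.15 s.18.7.16)
  (@T16.mk R s.18.8.1 s.18.8.2 s.18.8.3 s.18.8.4 s.18.8.5 s.18.8.6 s.18.8.7 s.18.8.8 s.18.8.9 s.18.8.10 s.18.8.11 s.18.8.12 s.18.8.13 s.18.8.14 s.18.8.15 s.18.8.16)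
  (@T16.mk R s.18.9.1 s.18.9.2 s.18.9.3 s.18.9.4 s.18.9.5 s.18.9.6 s.18.9.7 s.18.9.8 s.18.9.9 s.18.9.10 s.18.9.11 s.18.9.12 s.18.9.13 s.18.9.14 s.18.9.15 s.18.9.16)
  (@T16.mk R s.18.10.1 s.18.10.2 s.18.10.3 s.18.10.4 s.18.10.5 s.18.10.6 s.18.10.7 s.18.10.8 s.18.10.9 s.18.10.10 s.18.10.11 s.18.10.12 s.18.10.13 s.18.10.14 s.18.10.15 s.18.10.16)
  (@T16.mk R s.18.11.1 s.18.11.2 s.18.11.3 s.18.11.4 s.18.11.5 s.18.11.6 s.18.11.7 s.18.11.8 s.18.11.9 s.18.11.10 s.18.11.11 s.18.11.12 s.18.11.13 s.18.11.14 s.18.11.15 s.18.11.16)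
  (@T16.mk R s.18.12.1 s.18.12.2 s.18.12.3 s.18.12.4 s.18.12.5 s.18.12.6 s.18.12.7 s.18.12.8 s.18.12.9 s.18.12.10 s.18.12.11 s.18.12.12 s.18.12.13 s.18.12.14 s.18.12.15 s.18.12.16)
  (@T16.mk R s.18.13.1 s.18.13.2 s.18.13.3 s.18.13.4 s.18.13.5 s.18.13.6 s.18.13.7 s.18.13.8 s.18.13.9 s.18.13.10 s.18.13.11 s.18.13.12 s.18.13.13 s.18.13.14 s.18.13.15 s.18.13.16)
  (@T16.mk R s.18.14.1 s.18.14.2 s.18.14.3 s.18.14.4 s.18.14.5 s.18.14.6 s.18.14.7 s.18.14.8 s.18.14.9 s.18.14.10 s.18.14.11 s.18.14.12 s.18.14.13 s.18.14.14 s.18.14.15 s.18.14.16)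
  (@T16.mk R s.18.15.1 s.18.15.2 s.18.15.3 s.18.15.4 s.18.15.5 s.18.15.6 s.18.15.7 s.18.15.8 s.18.15.9 s.18.15.10 s.18.15.11 s.18.15.12 s.18.15.13 s.18.15.14 s.18.15.15 s.18.15.16)
  (@T16.mk R s.18.16.1 s.18.16.2 s.18.16.3 s.18.16.4 s.18.16.5 s.18.16.6 s.18.16.7 s.18.16.8 s.18.16.9 s.18.16.10 s.18.16.11 s.18.16.12 s.18.16.13 s.18.16.14 s.18.16.15 s.18.16.16)
 )
theorem cd24_eq (s : St) : cd24 s = gather tb24 s := by rfl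
noncomputable def tb25 : Tab :=
@T18.mk (T16 (T16 E))
 (@T16.mk (T16 E)
  (@T16.mk E (p j0 i0 i0) (p j0 i0 i1) (n j0 i0 i2) (p j0 i0 i3) (n j0 i0 i4) (p j0 i0 i5) (n j0 i0 i6) (n j0 i0 i7) (n j0 i0 i8) (p j0 i0 i9) (n j0 i0 i10) (n j0 i0 i11) (n j0 i0 i12) (n j0 i0 i13) (p j0 i0 i14) (n j0 i0 i15))
  (@T16.mk E (n j0 i1 i0) (n j0 i1 i1) (n j0 i1 i2) (p j0 i1 i3) (p j0 i1 i4) (n j0 i1 i5) (n j0 i1 i6) (n j0 i1 i7) (n j0 i1 i8) (p j0 i1 i9) (p j0 i1 i10) (p j0 i1 i11) (n j0 i1 i12) (n j0 i1 i13) (n j0 i1 i14) (p j0 i1 i15))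
  (@T16.mk E (n j0 i2 i0) (p j0 i2 i1) (n j0 i2 i2) (n j0 i2 i3) (p j0 i2 i4) (p j0 i2 i5) (n j0 i2 i6) (p j0 i2 i7) (p j0 i2 i8) (p j0 i2 i9) (n j0 i2 i10) (p j0 i2 i11) (p j0 i2 i12) (n j0 i2 i13) (p j0 i2 i14) (p j0 i2 i15))
  (@T16.mk E (n j0 i3 i0) (p j0 i3 i1) (p j0 i3 i2) (p j0 i3 i3) (p j0 i3 i4) (p j0 i3 i5) (p j0 i3 i6) (n j0 i3 i7) (n j0 i3 i8) (n j0 i3 i9) (n j0 i3 i10) (p j0 i3 i11) (n j0 i3 i12) (p j0 i3 i13) (p j0 i3 i14) (p j0 i3 i15))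
  (@T16.mk E (p j0 i4 i0) (p j0 i4 i1) (p j0 i4 i2) (n j0 i4 i3) (n j0 i4 i4) (p j0 i4 i5) (p j0 i4 i6) (p j0 i4 i7) (p j0 i4 i8) (n j0 i4 i9) (n j0 i4 i10) (n j0 i4 i11) (p j0 i4 i12) (p j0 i4 i13) (p j0 i4 i14) (n j0 i4 i15))
  (@T16.mk E (n j0 i5 i0) (n j0 i5 i1) (p j0 i5 i2) (n j0 i5 i3) (p j0 i5 i4) (n j0 i5 i5) (p j0 i5 i6) (p j0 i5 i7) (p j0 i5 i8) (n j0 i5 i9) (p j0 i5 i10) (p j0 i5 i11) (p j0 i5 i12) (p j0 i5 i13) (n j0 i5 i14) (p j0 i5 i15))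
  (@T16.mk E (n j0 i6 i0) (p j0 i6 i1) (p j0 i6 i2) (p j0 i6 i3) (p j0 i6 i4) (p j0 i6 i5) (p j0 i6 i6) (n j0 i6 i7) (n j0 i6 i8) (n j0 i6 i9) (n j0 i6 i10) (p j0 i6 i11) (n j0 i6 i12) (p j0 i6 i13) (p j0 i6 i14) (p j0 i6 i15))
  (@T16.mk E (n j0 i7 i0) (p j0 i7 i1) (n j0 i7 i2) (n j0 i7 i3) (p j0 i7 i4) (p j0 i7 i5) (n j0 i7 i6) (p j0 i7 i7) (p j0 i7 i8) (p j0 i7 i9) (n j0 i7 i10) (p j0 i7 i11) (p j0 i7 i12) (n j0 i7 i13) (p j0 i7 i14) (p j0 i7 i15))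
  (@T16.mk E (p j0 i8 i0) (n j0 i8 i1) (n j0 i8 i2) (n j0 i8 i3) (n j0 i8 i4) (n j0 i8 i5) (n j0 i8 i6) (p j0 i8 i7) (n j0 i8 i8) (n j0 i8 i9) (n j0 i8 i10) (p j0 i8 i11) (n j0 i8 i12) (p j0 i8 i13) (p j0 i8 i14) (p j0 i8 i15))
  (@T16.mk E (n j0 i9 i0) (p j0 i9 i1) (n j0 i9 i2) (n j0 i9 i3) (p j0 i9 i4) (p j0 i9 i5) (n j0 i9 i6) (p j0 i9 i7) (n j0 i9 i8) (n j0 i9 i9) (p j0 i9 i10) (n j0 i9 i11) (n j0 i9 i12) (p j0 i9 i13) (n j0 i9 i14) (n j0 i9 i15))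
  (@T16.mk E (p j0 i10 i0) (p j0 i10 i1) (p j0 i10 i2) (n j0 i10 i3) (n j0 i10 i4) (p j0 i10 i5) (p j0 i10 i6) (p j0 i10 i7) (n j0 i10 i8) (p j0 i10 i9) (p j0 i10 i10) (p j0 i10 i11) (n j0 i10 i12) (n j0 i10 i13) (n j0 i10 i14) (p j0 i10 i15))
  (@T16.mk E (p j0 i11 i0) (p j0 i11 i1) (n j0 i11 i2) (p j0 i11 i3) (n j0 i11 i4) (p j0 i11 i5) (n j0 i11 i6) (n j0 i11 i7) (p j0 i11 i8) (n j0 i11 i9) (p j0 i11 i10) (p j0 i11 i11) (p j0 i11 i12) (p j0 i11 i13) (n j0 i11 i14) (p j0 i11 i15))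
  (@T16.mk E (p j0 i12 i0) (n j0 i12 i1) (p j0 i12 i2) (p j0 i12 i3) (n j0 i12 i4) (n j0 i12 i5) (p j0 i12 i6) (n j0 i12 i7) (p j0 i12 i8) (p j0 i12 i9) (n j0 i12 i10) (p j0 i12 i11) (p j0 i12 i12) (n j0 i12 i13) (p j0 i12 i14) (p j0 i12 i15))
  (@T16.mk E (n j0 i13 i0) (p j0 i13 i1) (p j0 i13 i2) (p j0 i13 i3) (p j0 i13 i4) (p j0 i13 i5) (p j0 i13 i6) (n j0 i13 i7) (p j0 i13 i8) (p j0 i13 i9) (p j0 i13 i10) (n j0 i13 i11) (p j0 i13 i12) (n j0 i13 i13) (n j0 i13 i14) (n j0 i13 i15))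
  (@T16.mk E (p j0 i14 i0) (p j0 i14 i1) (n j0 i14 i2) (p j0 i14 i3) (n j0 i14 i4) (p j0 i14 i5) (n j0 i14 i6) (n j0 i14 i7) (p j0 i14 i8) (n j0 i14 i9) (p j0 i14 i10) (p j0 i14 i11) (p j0 i14 i12) (p j0 i14 i13) (n j0 i14 i14) (p j0 i14 i15))
  (@T16.mk E (p j0 i15 i0) (p j0 i15 i1) (p j0 i15 i2) (n j0 i15 i3) (n j0 i15 i4) (p j0 i15 i5) (p j0 i15 i6) (p j0 i15 i7) (n j0 i15 i8) (p j0 i15 i9) (p j0 i15 i10) (p j0 i15 i11) (n j0 i15 i12) (n j0 i15 i13) (n j0 i15 i14) (p j0 i15 i15))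
 )
 (@T16.mk (T16 E)
  (@T16.mk E (n j1 i0 i0) (p j1 i0 i1) (p j1 i0 i2) (p j1 i0 i3) (p j1 i0 i4) (p j1 i0 i5) (p j1 i0 i6) (n j1 i0 i7) (n j1 i0 i8) (n j1 i0 i9) (n j1 i0 i10) (p j1 i0 i11) (n j1 i0 i12) (p j1 i0 i13) (p j1 i0 i14) (p j1 i0 i15))
  (@T16.mk E (n j1 i1 i0) (p j1 i1 i1) (n j1 i1 i2) (n j1 i1 i3) (p j1 i1 i4) (p j1 i1 i5) (n j1 i1 i6) (p j1 i1 i7) (p j1 i1 i8) (p j1 i1 i9) (n j1 i1 i10) (p j1 i1 i11) (p j1 i1 i12) (n j1 i1 i13) (p j1 i1 i14) (p j1 i1 i15))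
  (@T16.mk E (n j1 i2 i0) (n j1 i2 i1) (n j1 i2 i2) (p j1 i2 i3) (p j1 i2 i4) (n j1 i2 i5) (n j1 i2 i6) (n j1 i2 i7) (n j1 i2 i8) (p j1 i2 i9) (p j1 i2 i10) (p j1 i2 i11) (n j1 i2 i12) (n j1 i2 i13) (n j1 i2 i14) (p j1 i2 i15))
  (@T16.mk E (p j1 i3 i0) (p j1 i3 i1) (n j1 i3 i2) (p j1 i3 i3) (n j1 i3 i4) (p j1 i3 i5) (n j1 i3 i6) (n j1 i3 i7) (n j1 i3 i8) (p j1 i3 i9) (n j1 i3 i10) (n j1 i3 i11) (n j1 i3 i12) (n j1 i3 i13) (p j1 i3 i14) (n j1 i3 i15))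
  (@T16.mk E (n j1 i4 i0) (p j1 i4 i1) (n j1 i4 i2) (n j1 i4 i3) (p j1 i4 i4) (p j1 i4 i5) (n j1 i4 i6) (p j1 i4 i7) (p j1 i4 i8) (p j1 i4 i9) (n j1 i4 i10) (p j1 i4 i11) (p j1 i4 i12) (n j1 i4 i13) (p j1 i4 i14) (p j1 i4 i15))
  (@T16.mk E (n j1 i5 i0) (p j1 i5 i1) (p j1 i5 i2) (p j1 i5 i3) (p j1 i5 i4) (p j1 i5 i5) (p j1 i5 i6) (n j1 i5 i7) (n j1 i5 i8) (n j1 i5 i9) (n j1 i5 i10) (p j1 i5 i11) (n j1 i5 i12) (p j1 i5 i13) (p j1 i5 i14) (p j1 i5 i15))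
  (@T16.mk E (n j1 i6 i0) (n j1 i6 i1) (p j1 i6 i2) (n j1 i6 i3) (p j1 i6 i4) (n j1 i6 i5) (p j1 i6 i6) (p j1 i6 i7) (p j1 i6 i8) (n j1 i6 i9) (p j1 i6 i10) (p j1 i6 i11) (p j1 i6 i12) (p j1 i6 i13) (n j1 i6 i14) (p j1 i6 i15))
  (@T16.mk E (p j1 i7 i0) (p j1 i7 i1) (p j1 i7 i2) (n j1 i7 i3) (n j1 i7 i4) (p j1 i7 i5) (p j1 i7 i6) (p j1 i7 i7) (p j1 i7 i8) (n j1 i7 i9) (n j1 i7 i10) (n j1 i7 i11) (p j1 i7 i12) (p j1 i7 i13) (p j1 i7 i14) (n j1 i7 i15))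
  (@T16.mk E (p j1 i8 i0) (p j1 i8 i1) (n j1 i8 i2) (p j1 i8 i3) (n j1 i8 i4) (p j1 i8 i5) (n j1 i8 i6) (n j1 i8 i7) (p j1 i8 i8) (n j1 i8 i9) (p j1 i8 i10) (p j1 i8 i11) (p j1 i8 i12) (p j1 i8 i13) (n j1 i8 i14) (p j1 i8 i15))
  (@T16.mk E (p j1 i9 i0) (p j1 i9 i1) (p j1 i9 i2) (n j1 i9 i3) (n j1 i9 i4) (p j1 i9 i5) (p j1 i9 i6) (p j1 i9 i7) (n j1 i9 i8) (p j1 i9 i9) (p j1 i9 i10) (p j1 i9 i11) (n j1 i9 i12) (n j1 i9 i13) (n j1 i9 i14) (p j1 i9 i15))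
  (@T16.mk E (n j1 i10 i0) (p j1 i10 i1) (n j1 i10 i2) (n j1 i10 i3) (p j1 i10 i4) (p j1 i10 i5) (n j1 i10 i6) (p j1 i10 i7) (n j1 i10 i8) (n j1 i10 i9) (p j1 i10 i10) (n j1 i10 i11) (n j1 i10 i12) (p j1 i10 i13) (n j1 i10 i14) (n j1 i10 i15))
  (@T16.mk E (p j1 i11 i0) (n j1 i11 i1) (n j1 i11 i2) (n j1 i11 i3) (n j1 i11 i4) (n j1 i11 i5) (n j1 i11 i6) (p j1 i11 i7) (n j1 i11 i8) (n j1 i11 i9) (n j1 i11 i10) (p j1 i11 i11) (n j1 i11 i12) (p j1 i11 i13) (p j1 i11 i14) (p j1 i11 i15))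
  (@T16.mk E (p j1 i12 i0) (p j1 i12 i1) (p j1 i12 i2) (n j1 i12 i3) (n j1 i12 i4) (p j1 i12 i5) (p j1 i12 i6) (p j1 i12 i7) (n j1 i12 i8) (p j1 i12 i9) (p j1 i12 i10) (p j1 i12 i11) (n j1 i12 i12) (n j1 i12 i13) (n j1 i12 i14) (p j1 i12 i15))
  (@T16.mk E (p j1 i13 i0) (p j1 i13 i1) (n j1 i13 i2) (p j1 i13 i3) (n j1 i13 i4) (p j1 i13 i5) (n j1 i13 i6) (n j1 i13 i7) (p j1 i13 i8) (n j1 i13 i9) (p j1 i13 i10) (p j1 i13 i11) (p j1 i13 i12) (p j1 i13 i13) (n j1 i13 i14) (p j1 i13 i15))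
  (@T16.mk E (n j1 i14 i0) (p j1 i14 i1) (p j1 i14 i2) (p j1 i14 i3) (p j1 i14 i4) (p j1 i14 i5) (p j1 i14 i6) (n j1 i14 i7) (p j1 i14 i8) (p j1 i14 i9) (p j1 i14 i10) (n j1 i14 i11) (p j1 i14 i12) (n j1 i14 i13) (n j1 i14 i14) (n j1 i14 i15))
  (@T16.mk E (p j1 i15 i0) (n j1 i15 i1) (p j1 i15 i2) (p j1 i15 i3) (n j1 i15 i4) (n j1 i15 i5) (p j1 i15 i6) (n j1 i15 i7) (p j1 i15 i8) (p j1 i15 i9) (n j1 i15 i10) (p j1 i15 i11) (p j1 i15 i12) (n j1 i15 i13) (p j1 i15 i14) (p j1 i15 i15))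
 )
 (@T16.mk (T16 E)
  (@T16.mk E (n j2 i0 i0) (p j2 i0 i1) (n j2 i0 i2) (n j2 i0 i3) (n j2 i0 i4) (n j2 i0 i5) (p j2 i0 i6) (n j2 i0 i7) (p j2 i0 i8) (p j2 i0 i9) (n j2 i0 i10) (p j2 i0 i11) (n j2 i0 i12) (p j2 i0 i13) (n j2 i0 i14) (n j2 i0 i15))
  (@T16.mk E (n j2 i1 i0) (p j2 i1 i1) (p j2 i1 i2) (p j2 i1 i3) (n j2 i1 i4) (n j2 i1 i5) (n j2 i1 i6) (p j2 i1 i7) (n j2 i1 i8) (n j2 i1 i9) (n j2 i1 i10) (p j2 i1 i11) (p j2 i1 i12) (n j2 i1 i13) (n j2 i1 i14) (n j2 i1 i15))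
  (@T16.mk E (p j2 i2 i0) (p j2 i2 i1) (n j2 i2 i2) (p j2 i2 i3) (p j2 i2 i4) (n j2 i2 i5) (p j2 i2 i6) (p j2 i2 i7) (n j2 i2 i8) (p j2 i2 i9) (n j2 i2 i10) (n j2 i2 i11) (p j2 i2 i12) (p j2 i2 i13) (n j2 i2 i14) (p j2 i2 i15))
  (@T16.mk E (n j2 i3 i0) (n j2 i3 i1) (n j2 i3 i2) (p j2 i3 i3) (n j2 i3 i4) (p j2 i3 i5) (p j2 i3 i6) (p j2 i3 i7) (n j2 i3 i8) (p j2 i3 i9) (p j2 i3 i10) (p j2 i3 i11) (p j2 i3 i12) (p j2 i3 i13) (p j2 i3 i14) (n j2 i3 i15))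
  (@T16.mk E (p j2 i4 i0) (n j2 i4 i1) (n j2 i4 i2) (n j2 i4 i3) (p j2 i4 i4) (p j2 i4 i5) (p j2 i4 i6) (n j2 i4 i7) (p j2 i4 i8) (p j2 i4 i9) (p j2 i4 i10) (n j2 i4 i11) (n j2 i4 i12) (p j2 i4 i13) (p j2 i4 i14) (p j2 i4 i15))
  (@T16.mk E (p j2 i5 i0) (n j2 i5 i1) (p j2 i5 i2) (p j2 i5 i3) (p j2 i5 i4) (p j2 i5 i5) (n j2 i5 i6) (p j2 i5 i7) (n j2 i5 i8) (n j2 i5 i9) (p j2 i5 i10) (n j2 i5 i11) (p j2 i5 i12) (n j2 i5 i13) (p j2 i5 i14) (p j2 i5 i15))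
  (@T16.mk E (n j2 i6 i0) (n j2 i6 i1) (n j2 i6 i2) (p j2 i6 i3) (n j2 i6 i4) (p j2 i6 i5) (p j2 i6 i6) (p j2 i6 i7) (n j2 i6 i8) (p j2 i6 i9) (p j2 i6 i10) (p j2 i6 i11) (p j2 i6 i12) (p j2 i6 i13) (p j2 i6 i14) (n j2 i6 i15))
  (@T16.mk E (p j2 i7 i0) (p j2 i7 i1) (n j2 i7 i2) (p j2 i7 i3) (p j2 i7 i4) (n j2 i7 i5) (p j2 i7 i6) (p j2 i7 i7) (n j2 i7 i8) (p j2 i7 i9) (n j2 i7 i10) (n j2 i7 i11) (p j2 i7 i12) (p j2 i7 i13) (n j2 i7 i14) (p j2 i7 i15))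
  (@T16.mk E (n j2 i8 i0) (n j2 i8 i1) (n j2 i8 i2) (p j2 i8 i3) (n j2 i8 i4) (p j2 i8 i5) (p j2 i8 i6) (p j2 i8 i7) (p j2 i8 i8) (n j2 i8 i9) (n j2 i8 i10) (n j2 i8 i11) (n j2 i8 i12) (n j2 i8 i13) (n j2 i8 i14) (p j2 i8 i15))
  (@T16.mk E (n j2 i9 i0) (n j2 i9 i1) (p j2 i9 i2) (n j2 i9 i3) (n j2 i9 i4) (p j2 i9 i5) (n j2 i9 i6) (n j2 i9 i7) (n j2 i9 i8) (p j2 i9 i9) (n j2 i9 i10) (n j2 i9 i11) (p j2 i9 i12) (p j2 i9 i13) (n j2 i9 i14) (p j2 i9 i15))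
  (@T16.mk E (n j2 i10 i0) (p j2 i10 i1) (p j2 i10 i2) (p j2 i10 i3) (n j2 i10 i4) (n j2 i10 i5) (n j2 i10 i6) (p j2 i10 i7) (p j2 i10 i8) (p j2 i10 i9) (p j2 i10 i10) (n j2 i10 i11) (n j2 i10 i12) (p j2 i10 i13) (p j2 i10 i14) (p j2 i10 i15))
  (@T16.mk E (p j2 i11 i0) (n j2 i11 i1) (p j2 i11 i2) (p j2 i11 i3) (p j2 i11 i4) (p j2 i11 i5) (n j2 i11 i6) (p j2 i11 i7) (p j2 i11 i8) (p j2 i11 i9) (n j2 i11 i10) (p j2 i11 i11) (n j2 i11 i12) (p j2 i11 i13) (n j2 i11 i14) (n j2 i11 i15))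
  (@T16.mk E (p j2 i12 i0) (p j2 i12 i1) (n j2 i12 i2) (p j2 i12 i3) (p j2 i12 i4) (n j2 i12 i5) (p j2 i12 i6) (p j2 i12 i7) (p j2 i12 i8) (n j2 i12 i9) (p j2 i12 i10) (p j2 i12 i11) (n j2 i12 i12) (n j2 i12 i13) (p j2 i12 i14) (n j2 i12 i15))
  (@T16.mk E (p j2 i13 i0) (p j2 i13 i1) (p j2 i13 i2) (n j2 i13 i3) (p j2 i13 i4) (n j2 i13 i5) (n j2 i13 i6) (n j2 i13 i7) (n j2 i13 i8) (p j2 i13 i9) (p j2 i13 i10) (p j2 i13 i11) (p j2 i13 i12) (p j2 i13 i13) (p j2 i13 i14) (n j2 i13 i15))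
  (@T16.mk E (p j2 i14 i0) (n j2 i14 i1) (p j2 i14 i2) (p j2 i14 i3) (p j2 i14 i4) (p j2 i14 i5) (n j2 i14 i6) (p j2 i14 i7) (p j2 i14 i8) (p j2 i14 i9) (n j2 i14 i10) (p j2 i14 i11) (n j2 i14 i12) (p j2 i14 i13) (n j2 i14 i14) (n j2 i14 i15))
  (@T16.mk E (n j2 i15 i0) (p j2 i15 i1) (p j2 i15 i2) (p j2 i15 i3) (n j2 i15 i4) (n j2 i15 i5) (n j2 i15 i6) (p j2 i15 i7) (p j2 i15 i8) (p j2 i15 i9) (p j2 i15 i10) (n j2 i15 i11) (n j2 i15 i12) (p j2 i15 i13) (p j2 i15 i14) (p j2 i15 i15))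
 )
 (@T16.mk (T16 E)
  (@T16.mk E (n j3 i0 i0) (n j3 i0 i1) (n j3 i0 i2) (p j3 i0 i3) (n j3 i0 i4) (p j3 i0 i5) (p j3 i0 i6) (p j3 i0 i7) (n j3 i0 i8) (p j3 i0 i9) (p j3 i0 i10) (p j3 i0 i11) (p j3 i0 i12) (p j3 i0 i13) (p j3 i0 i14) (n j3 i0 i15))
  (@T16.mk E (p j3 i1 i0) (p j3 i1 i1) (n j3 i1 i2) (p j3 i1 i3) (p j3 i1 i4) (n j3 i1 i5) (p j3 i1 i6) (p j3 i1 i7) (n j3 i1 i8) (p j3 i1 i9) (n j3 i1 i10) (n j3 i1 i11) (p j3 i1 i12) (p j3 i1 i13) (n j3 i1 i14) (p j3 i1 i15))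
  (@T16.mk E (n j3 i2 i0) (p j3 i2 i1) (p j3 i2 i2) (p j3 i2 i3) (n j3 i2 i4) (n j3 i2 i5) (n j3 i2 i6) (p j3 i2 i7) (n j3 i2 i8) (n j3 i2 i9) (n j3 i2 i10) (p j3 i2 i11) (p j3 i2 i12) (n j3 i2 i13) (n j3 i2 i14) (n j3 i2 i15))
  (@T16.mk E (n j3 i3 i0) (p j3 i3 i1) (n j3 i3 i2) (n j3 i3 i3) (n j3 i3 i4) (n j3 i3 i5) (p j3 i3 i6) (n j3 i3 i7) (p j3 i3 i8) (p j3 i3 i9) (n j3 i3 i10) (p j3 i3 i11) (n j3 i3 i12) (p j3 i3 i13) (n j3 i3 i14) (n j3 i3 i15))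
  (@T16.mk E (p j3 i4 i0) (p j3 i4 i1) (n j3 i4 i2) (p j3 i4 i3) (p j3 i4 i4) (n j3 i4 i5) (p j3 i4 i6) (p j3 i4 i7) (n j3 i4 i8) (p j3 i4 i9) (n j3 i4 i10) (n j3 i4 i11) (p j3 i4 i12) (p j3 i4 i13) (n j3 i4 i14) (p j3 i4 i15))
  (@T16.mk E (n j3 i5 i0) (n j3 i5 i1) (n j3 i5 i2) (p j3 i5 i3) (n j3 i5 i4) (p j3 i5 i5) (p j3 i5 i6) (p j3 i5 i7) (n j3 i5 i8) (p j3 i5 i9) (p j3 i5 i10) (p j3 i5 i11) (p j3 i5 i12) (p j3 i5 i13) (p j3 i5 i14) (n j3 i5 i15))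
  (@T16.mk E (p j3 i6 i0) (n j3 i6 i1) (p j3 i6 i2) (p j3 i6 i3) (p j3 i6 i4) (p j3 i6 i5) (n j3 i6 i6) (p j3 i6 i7) (n j3 i6 i8) (n j3 i6 i9) (p j3 i6 i10) (n j3 i6 i11) (p j3 i6 i12) (n j3 i6 i13) (p j3 i6 i14) (p j3 i6 i15))
  (@T16.mk E (p j3 i7 i0) (n j3 i7 i1) (n j3 i7 i2) (n j3 i7 i3) (p j3 i7 i4) (p j3 i7 i5) (p j3 i7 i6) (n j3 i7 i7) (p j3 i7 i8) (p j3 i7 i9) (p j3 i7 i10) (n j3 i7 i11) (n j3 i7 i12) (p j3 i7 i13) (p j3 i7 i14) (p j3 i7 i15))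
  (@T16.mk E (p j3 i8 i0) (n j3 i8 i1) (p j3 i8 i2) (p j3 i8 i3) (p j3 i8 i4) (p j3 i8 i5) (n j3 i8 i6) (p j3 i8 i7) (p j3 i8 i8) (p j3 i8 i9) (n j3 i8 i10) (p j3 i8 i11) (n j3 i8 i12) (p j3 i8 i13) (n j3 i8 i14) (n j3 i8 i15))
  (@T16.mk E (n j3 i9 i0) (p j3 i9 i1) (p j3 i9 i2) (p j3 i9 i3) (n j3 i9 i4) (n j3 i9 i5) (n j3 i9 i6) (p j3 i9 i7) (p j3 i9 i8) (p j3 i9 i9) (p j3 i9 i10) (n j3 i9 i11) (n j3 i9 i12) (p j3 i9 i13) (p j3 i9 i14) (p j3 i9 i15))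
  (@T16.mk E (n j3 i10 i0) (n j3 i10 i1) (p j3 i10 i2) (n j3 i10 i3) (n j3 i10 i4) (p j3 i10 i5) (n j3 i10 i6) (n j3 i10 i7) (n j3 i10 i8) (p j3 i10 i9) (n j3 i10 i10) (n j3 i10 i11) (p j3 i10 i12) (p j3 i10 i13) (n j3 i10 i14) (p j3 i10 i15))
  (@T16.mk E (n j3 i11 i0) (n j3 i11 i1) (n j3 i11 i2) (p j3 i11 i3) (n j3 i11 i4) (p j3 i11 i5) (p j3 i11 i6) (p j3 i11 i7) (p j3 i11 i8) (n j3 i11 i9) (n j3 i11 i10) (n j3 i11 i11) (n j3 i11 i12) (n j3 i11 i13) (n j3 i11 i14) (p j3 i11 i15))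
  (@T16.mk E (n j3 i12 i0) (p j3 i12 i1) (p j3 i12 i2) (p j3 i12 i3) (n j3 i12 i4) (n j3 i12 i5) (n j3 i12 i6) (p j3 i12 i7) (p j3 i12 i8) (p j3 i12 i9) (p j3 i12 i10) (n j3 i12 i11) (n j3 i12 i12) (p j3 i12 i13) (p j3 i12 i14) (p j3 i12 i15))
  (@T16.mk E (p j3 i13 i0) (n j3 i13 i1) (p j3 i13 i2) (p j3 i13 i3) (p j3 i13 i4) (p j3 i13 i5) (n j3 i13 i6) (p j3 i13 i7) (p j3 i13 i8) (p j3 i13 i9) (n j3 i13 i10) (p j3 i13 i11) (n j3 i13 i12) (p j3 i13 i13) (n j3 i13 i14) (n j3 i13 i15))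
  (@T16.mk E (p j3 i14 i0) (p j3 i14 i1) (p j3 i14 i2) (n j3 i14 i3) (p j3 i14 i4) (n j3 i14 i5) (n j3 i14 i6) (n j3 i14 i7) (n j3 i14 i8) (p j3 i14 i9) (p j3 i14 i10) (p j3 i14 i11) (p j3 i14 i12) (p j3 i14 i13) (p j3 i14 i14) (n j3 i14 i15))
  (@T16.mk E (p j3 i15 i0) (p j3 i15 i1) (n j3 i15 i2) (p j3 i15 i3) (p j3 i15 i4) (n j3 i15 i5) (p j3 i15 i6) (p j3 i15 i7) (p j3 i15 i8) (n j3 i15 i9) (p j3 i15 i10) (p j3 i15 i11) (n j3 i15 i12) (n j3 i15 i13) (p j3 i15 i14) (n j3 i15 i15))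
 )
 (@T16.mk (T16 E)
  (@T16.mk E (p j5 i11 i14) (n j5 i11 i15) (p j5 i11 i12) (p j5 i11 i13) (p j5 i11 i10) (p j5 i11 i11) (n j5 i11 i8) (p j5 i11 i9) (p j5 i11 i6) (p j5 i11 i7) (n j5 i11 i4) (p j5 i11 i5) (n j5 i11 i2) (p j5 i11 i3) (n j5 i11 i0) (n j5 i11 i1))
  (@T16.mk E (n j5 i10 i14) (p j5 i10 i15) (p j5 i10 i12) (p j5 i10 i13) (n j5 i10 i10) (n j5 i10 i11) (n j5 i10 i8) (p j5 i10 i9) (p j5 i10 i6) (p j5 i10 i7) (p j5 i10 i4) (n j5 i10 i5) (n j5 i10 i2) (p j5 i10 i3) (p j5 i10 i0) (p j5 i10 i1))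
  (@T16.mk E (n j5 i9 i14) (n j5 i9 i15) (p j5 i9 i12) (n j5 i9 i13) (n j5 i9 i10) (p j5 i9 i11) (n j5 i9 i8) (n j5 i9 i9) (n j5 i9 i6) (p j5 i9 i7) (n j5 i9 i4) (n j5 i9 i5) (p j5 i9 i2) (p j5 i9 i3) (n j5 i9 i0) (p j5 i9 i1))
  (@T16.mk E (p j5 i8 i14) (p j5 i8 i15) (p j5 i8 i12) (n j5 i8 i13) (p j5 i8 i10) (n j5 i8 i11) (n j5 i8 i8) (n j5 i8 i9) (n j5 i8 i6) (p j5 i8 i7) (p j5 i8 i4) (p j5 i8 i5) (p j5 i8 i2) (p j5 i8 i3) (p j5 i8 i0) (n j5 i8 i1))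
  (@T16.mk E (n j5 i15 i14) (p j5 i15 i15) (p j5 i15 i12) (p j5 i15 i13) (n j5 i15 i10) (n j5 i15 i11) (n j5 i15 i8) (p j5 i15 i9) (p j5 i15 i6) (p j5 i15 i7) (p j5 i15 i4) (n j5 i15 i5) (n j5 i15 i2) (p j5 i15 i3) (p j5 i15 i0) (p j5 i15 i1))
  (@T16.mk E (p j5 i14 i14) (n j5 i14 i15) (p j5 i14 i12) (p j5 i14 i13) (p j5 i14 i10) (p j5 i14 i11) (n j5 i14 i8) (p j5 i14 i9) (p j5 i14 i6) (p j5 i14 i7) (n j5 i14 i4) (p j5 i14 i5) (n j5 i14 i2) (p j5 i14 i3) (n j5 i14 i0) (n j5 i14 i1))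
  (@T16.mk E (n j5 i13 i14) (n j5 i13 i15) (n j5 i13 i12) (p j5 i13 i13) (n j5 i13 i10) (p j5 i13 i11) (p j5 i13 i8) (p j5 i13 i9) (p j5 i13 i6) (n j5 i13 i7) (n j5 i13 i4) (n j5 i13 i5) (n j5 i13 i2) (n j5 i13 i3) (n j5 i13 i0) (p j5 i13 i1))
  (@T16.mk E (n j5 i12 i14) (n j5 i12 i15) (p j5 i12 i12) (n j5 i12 i13) (n j5 i12 i10) (p j5 i12 i11) (n j5 i12 i8) (n j5 i12 i9) (n j5 i12 i6) (p j5 i12 i7) (n j5 i12 i4) (n j5 i12 i5) (p j5 i12 i2) (p j5 i12 i3) (n j5 i12 i0) (p j5 i12 i1))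
  (@T16.mk E (p j5 i3 i14) (p j5 i3 i15) (p j5 i3 i12) (n j5 i3 i13) (p j5 i3 i10) (n j5 i3 i11) (n j5 i3 i8) (n j5 i3 i9) (p j5 i3 i6) (n j5 i3 i7) (n j5 i3 i4) (n j5 i3 i5) (n j5 i3 i2) (n j5 i3 i3) (n j5 i3 i0) (p j5 i3 i1))
  (@T16.mk E (n j5 i2 i14) (n j5 i2 i15) (p j5 i2 i12) (n j5 i2 i13) (n j5 i2 i10) (p j5 i2 i11) (n j5 i2 i8) (n j5 i2 i9) (p j5 i2 i6) (n j5 i2 i7) (p j5 i2 i4) (p j5 i2 i5) (n j5 i2 i2) (n j5 i2 i3) (p j5 i2 i0) (n j5 i2 i1))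
  (@T16.mk E (n j5 i1 i14) (p j5 i1 i15) (p j5 i1 i12) (p j5 i1 i13) (n j5 i1 i10) (n j5 i1 i11) (n j5 i1 i8) (p j5 i1 i9) (n j5 i1 i6) (n j5 i1 i7) (n j5 i1 i4) (p j5 i1 i5) (p j5 i1 i2) (n j5 i1 i3) (n j5 i1 i0) (n j5 i1 i1))
  (@T16.mk E (n j5 i0 i14) (p j5 i0 i15) (n j5 i0 i12) (n j5 i0 i13) (n j5 i0 i10) (n j5 i0 i11) (p j5 i0 i8) (n j5 i0 i9) (p j5 i0 i6) (p j5 i0 i7) (n j5 i0 i4) (p j5 i0 i5) (n j5 i0 i2) (p j5 i0 i3) (n j5 i0 i0) (n j5 i0 i1))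
  (@T16.mk E (p j5 i7 i14) (p j5 i7 i15) (n j5 i7 i12) (p j5 i7 i13) (p j5 i7 i10) (n j5 i7 i11) (p j5 i7 i8) (p j5 i7 i9) (n j5 i7 i6) (p j5 i7 i7) (n j5 i7 i4) (n j5 i7 i5) (p j5 i7 i2) (p j5 i7 i3) (n j5 i7 i0) (p j5 i7 i1))
  (@T16.mk E (n j5 i6 i14) (n j5 i6 i15) (n j5 i6 i12) (p j5 i6 i13) (n j5 i6 i10) (p j5 i6 i11) (p j5 i6 i8) (p j5 i6 i9) (n j5 i6 i6) (p j5 i6 i7) (p j5 i6 i4) (p j5 i6 i5) (p j5 i6 i2) (p j5 i6 i3) (p j5 i6 i0) (n j5 i6 i1))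
  (@T16.mk E (p j5 i5 i14) (n j5 i5 i15) (p j5 i5 i12) (p j5 i5 i13) (p j5 i5 i10) (p j5 i5 i11) (n j5 i5 i8) (p j5 i5 i9) (n j5 i5 i6) (n j5 i5 i7) (p j5 i5 i4) (n j5 i5 i5) (p j5 i5 i2) (n j5 i5 i3) (p j5 i5 i0) (p j5 i5 i1))
  (@T16.mk E (n j5 i4 i14) (p j5 i4 i15) (p j5 i4 i12) (p j5 i4 i13) (n j5 i4 i10) (n j5 i4 i11) (n j5 i4 i8) (p j5 i4 i9) (n j5 i4 i6) (n j5 i4 i7) (n j5 i4 i4) (p j5 i4 i5) (p j5 i4 i2) (n j5 i4 i3) (n j5 i4 i0) (n j5 i4 i1))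
 )
 (@T16.mk (T16 E)
  (@T16.mk E (n j4 i11 i14) (n j4 i11 i15) (n j4 i11 i12) (p j4 i11 i13) (n j4 i11 i10) (p j4 i11 i11) (p j4 i11 i8) (p j4 i11 i9) (p j4 i11 i6) (n j4 i11 i7) (n j4 i11 i4) (n j4 i11 i5) (n j4 i11 i2) (n j4 i11 i3) (n j4 i11 i0) (p j4 i11 i1))
  (@T16.mk E (n j4 i10 i14) (n j4 i10 i15) (p j4 i10 i12) (n j4 i10 i13) (n j4 i10 i10) (p j4 i10 i11) (n j4 i10 i8) (n j4 i10 i9) (n j4 i10 i6) (p j4 i10 i7) (n j4 i10 i4) (n j4 i10 i5) (p j4 i10 i2) (p j4 i10 i3) (n j4 i10 i0) (p j4 i10 i1))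
  (@T16.mk E (p j4 i9 i14) (n j4 i9 i15) (n j4 i9 i12) (n j4 i9 i13) (p j4 i9 i10) (p j4 i9 i11) (p j4 i9 i8) (n j4 i9 i9) (n j4 i9 i6) (n j4 i9 i7) (n j4 i9 i4) (p j4 i9 i5) (p j4 i9 i2) (n j4 i9 i3) (n j4 i9 i0) (n j4 i9 i1))
  (@T16.mk E (n j4 i8 i14) (p j4 i8 i15) (n j4 i8 i12) (n j4 i8 i13) (n j4 i8 i10) (n j4 i8 i11) (p j4 i8 i8) (n j4 i8 i9) (n j4 i8 i6) (n j4 i8 i7) (p j4 i8 i4) (n j4 i8 i5) (p j4 i8 i2) (n j4 i8 i3) (p j4 i8 i0) (p j4 i8 i1))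
  (@T16.mk E (n j4 i15 i14) (n j4 i15 i15) (p j4 i15 i12) (n j4 i15 i13) (n j4 i15 i10) (p j4 i15 i11) (n j4 i15 i8) (n j4 i15 i9) (n j4 i15 i6) (p j4 i15 i7) (n j4 i15 i4) (n j4 i15 i5) (p j4 i15 i2) (p j4 i15 i3) (n j4 i15 i0) (p j4 i15 i1))
  (@T16.mk E (p j4 i14 i14) (p j4 i14 i15) (p j4 i14 i12) (n j4 i14 i13) (p j4 i14 i10) (n j4 i14 i11) (n j4 i14 i8) (n j4 i14 i9) (n j4 i14 i6) (p j4 i14 i7) (p j4 i14 i4) (p j4 i14 i5) (p j4 i14 i2) (p j4 i14 i3) (p j4 i14 i0) (n j4 i14 i1))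
  (@T16.mk E (p j4 i13 i14) (n j4 i13 i15) (p j4 i13 i12) (p j4 i13 i13) (p j4 i13 i10) (p j4 i13 i11) (n j4 i13 i8) (p j4 i13 i9) (p j4 i13 i6) (p j4 i13 i7) (n j4 i13 i4) (p j4 i13 i5) (n j4 i13 i2) (p j4 i13 i3) (n j4 i13 i0) (n j4 i13 i1))
  (@T16.mk E (n j4 i12 i14) (p j4 i12 i15) (p j4 i12 i12) (p j4 i12 i13) (n j4 i12 i10) (n j4 i12 i11) (n j4 i12 i8) (p j4 i12 i9) (p j4 i12 i6) (p j4 i12 i7) (p j4 i12 i4) (n j4 i12 i5) (n j4 i12 i2) (p j4 i12 i3) (p j4 i12 i0) (p j4 i12 i1))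
  (@T16.mk E (p j4 i3 i14) (n j4 i3 i15) (p j4 i3 i12) (p j4 i3 i13) (p j4 i3 i10) (p j4 i3 i11) (n j4 i3 i8) (p j4 i3 i9) (n j4 i3 i6) (n j4 i3 i7) (p j4 i3 i4) (n j4 i3 i5) (p j4 i3 i2) (n j4 i3 i3) (p j4 i3 i0) (p j4 i3 i1))
  (@T16.mk E (n j4 i2 i14) (p j4 i2 i15) (p j4 i2 i12) (p j4 i2 i13) (n j4 i2 i10) (n j4 i2 i11) (n j4 i2 i8) (p j4 i2 i9) (n j4 i2 i6) (n j4 i2 i7) (n j4 i2 i4) (p j4 i2 i5) (p j4 i2 i2) (n j4 i2 i3) (n j4 i2 i0) (n j4 i2 i1))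
  (@T16.mk E (p j4 i1 i14) (p j4 i1 i15) (n j4 i1 i12) (p j4 i1 i13) (p j4 i1 i10) (n j4 i1 i11) (p j4 i1 i8) (p j4 i1 i9) (n j4 i1 i6) (p j4 i1 i7) (n j4 i1 i4) (n j4 i1 i5) (p j4 i1 i2) (p j4 i1 i3) (n j4 i1 i0) (p j4 i1 i1))
  (@T16.mk E (n j4 i0 i14) (n j4 i0 i15) (n j4 i0 i12) (p j4 i0 i13) (n j4 i0 i10) (p j4 i0 i11) (p j4 i0 i8) (p j4 i0 i9) (n j4 i0 i6) (p j4 i0 i7) (p j4 i0 i4) (p j4 i0 i5) (p j4 i0 i2) (p j4 i0 i3) (p j4 i0 i0) (n j4 i0 i1))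
  (@T16.mk E (n j4 i7 i14) (p j4 i7 i15) (p j4 i7 i12) (p j4 i7 i13) (n j4 i7 i10) (n j4 i7 i11) (n j4 i7 i8) (p j4 i7 i9) (n j4 i7 i6) (n j4 i7 i7) (n j4 i7 i4) (p j4 i7 i5) (p j4 i7 i2) (n j4 i7 i3) (n j4 i7 i0) (n j4 i7 i1))
  (@T16.mk E (n j4 i6 i14) (p j4 i6 i15) (n j4 i6 i12) (n j4 i6 i13) (n j4 i6 i10) (n j4 i6 i11) (p j4 i6 i8) (n j4 i6 i9) (p j4 i6 i6) (p j4 i6 i7) (n j4 i6 i4) (p j4 i6 i5) (n j4 i6 i2) (p j4 i6 i3) (n j4 i6 i0) (n j4 i6 i1))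
  (@T16.mk E (n j4 i5 i14) (n j4 i5 i15) (n j4 i5 i12) (p j4 i5 i13) (n j4 i5 i10) (p j4 i5 i11) (p j4 i5 i8) (p j4 i5 i9) (n j4 i5 i6) (p j4 i5 i7) (p j4 i5 i4) (p j4 i5 i5) (p j4 i5 i2) (p j4 i5 i3) (p j4 i5 i0) (n j4 i5 i1))
  (@T16.mk E (p j4 i4 i14) (p j4 i4 i15) (n j4 i4 i12) (p j4 i4 i13) (p j4 i4 i10) (n j4 i4 i11) (p j4 i4 i8) (p j4 i4 i9) (n j4 i4 i6) (p j4 i4 i7) (n j4 i4 i4) (n j4 i4 i5) (p j4 i4 i2) (p j4 i4 i3) (n j4 i4 i0) (p j4 i4 i1))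
 )
 (@T16.mk (T16 E)
  (@T16.mk E (n j7 i11 i14) (n j7 i11 i15) (p j7 i11 i12) (n j7 i11 i13) (p j7 i11 i10) (n j7 i11 i11) (p j7 i11 i8) (p j7 i11 i9) (n j7 i11 i6) (p j7 i11 i7) (n j7 i11 i4) (n j7 i11 i5) (n j7 i11 i2) (n j7 i11 i3) (p j7 i11 i0) (n j7 i11 i1))
  (@T16.mk E (p j7 i10 i14) (p j7 i10 i15) (p j7 i10 i12) (n j7 i10 i13) (n j7 i10 i10) (p j7 i10 i11) (p j7 i10 i8) (p j7 i10 i9) (n j7 i10 i6) (p j7 i10 i7) (p j7 i10 i4) (p j7 i10 i5) (n j7 i10 i2) (n j7 i10 i3) (n j7 i10 i0) (p j7 i10 i1))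
  (@T16.mk E (p j7 i9 i14) (n j7 i9 i15) (p j7 i9 i12) (p j7 i9 i13) (n j7 i9 i10) (n j7 i9 i11) (p j7 i9 i8) (n j7 i9 i9) (p j7 i9 i6) (p j7 i9 i7) (n j7 i9 i4) (p j7 i9 i5) (p j7 i9 i2) (n j7 i9 i3) (p j7 i9 i0) (p j7 i9 i1))
  (@T16.mk E (n j7 i8 i14) (p j7 i8 i15) (p j7 i8 i12) (p j7 i8 i13) (p j7 i8 i10) (p j7 i8 i11) (p j7 i8 i8) (n j7 i8 i9) (p j7 i8 i6) (p j7 i8 i7) (p j7 i8 i4) (n j7 i8 i5) (p j7 i8 i2) (n j7 i8 i3) (n j7 i8 i0) (n j7 i8 i1))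
  (@T16.mk E (n j7 i15 i14) (n j7 i15 i15) (n j7 i15 i12) (p j7 i15 i13) (p j7 i15 i10) (n j7 i15 i11) (n j7 i15 i8) (n j7 i15 i9) (p j7 i15 i6) (n j7 i15 i7) (n j7 i15 i4) (n j7 i15 i5) (p j7 i15 i2) (p j7 i15 i3) (p j7 i15 i0) (n j7 i15 i1))
  (@T16.mk E (p j7 i14 i14) (p j7 i14 i15) (n j7 i14 i12) (p j7 i14 i13) (n j7 i14 i10) (p j7 i14 i11) (n j7 i14 i8) (n j7 i14 i9) (p j7 i14 i6) (n j7 i14 i7) (p j7 i14 i4) (p j7 i14 i5) (p j7 i14 i2) (p j7 i14 i3) (n j7 i14 i0) (p j7 i14 i1))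
  (@T16.mk E (n j7 i13 i14) (p j7 i13 i15) (p j7 i13 i12) (p j7 i13 i13) (p j7 i13 i10) (p j7 i13 i11) (p j7 i13 i8) (n j7 i13 i9) (p j7 i13 i6) (p j7 i13 i7) (p j7 i13 i4) (n j7 i13 i5) (p j7 i13 i2) (n j7 i13 i3) (n j7 i13 i0) (n j7 i13 i1))
  (@T16.mk E (n j7 i12 i14) (p j7 i12 i15) (n j7 i12 i12) (n j7 i12 i13) (p j7 i12 i10) (p j7 i12 i11) (n j7 i12 i8) (p j7 i12 i9) (n j7 i12 i6) (n j7 i12 i7) (p j7 i12 i4) (n j7 i12 i5) (n j7 i12 i2) (p j7 i12 i3) (n j7 i12 i0) (n j7 i12 i1))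
  (@T16.mk E (p j7 i3 i14) (n j7 i3 i15) (n j7 i3 i12) (n j7 i3 i13) (n j7 i3 i10) (n j7 i3 i11) (n j7 i3 i8) (p j7 i3 i9) (p j7 i3 i6) (p j7 i3 i7) (p j7 i3 i4) (n j7 i3 i5) (p j7 i3 i2) (n j7 i3 i3) (n j7 i3 i0) (n j7 i3 i1))
  (@T16.mk E (n j7 i2 i14) (p j7 i2 i15) (n j7 i2 i12) (n j7 i2 i13) (p j7 i2 i10) (p j7 i2 i11) (n j7 i2 i8) (p j7 i2 i9) (p j7 i2 i6) (p j7 i2 i7) (n j7 i2 i4) (p j7 i2 i5) (p j7 i2 i2) (n j7 i2 i3) (p j7 i2 i0) (p j7 i2 i1))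
  (@T16.mk E (p j7 i1 i14) (p j7 i1 i15) (p j7 i1 i12) (n j7 i1 i13) (n j7 i1 i10) (p j7 i1 i11) (p j7 i1 i8) (p j7 i1 i9) (p j7 i1 i6) (n j7 i1 i7) (n j7 i1 i4) (n j7 i1 i5) (p j7 i1 i2) (p j7 i1 i3) (p j7 i1 i0) (n j7 i1 i1))
  (@T16.mk E (p j7 i0 i14) (p j7 i0 i15) (n j7 i0 i12) (p j7 i0 i13) (n j7 i0 i10) (p j7 i0 i11) (n j7 i0 i8) (n j7 i0 i9) (n j7 i0 i6) (p j7 i0 i7) (n j7 i0 i4) (n j7 i0 i5) (n j7 i0 i2) (n j7 i0 i3) (p j7 i0 i0) (n j7 i0 i1))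
  (@T16.mk E (n j7 i7 i14) (p j7 i7 i15) (n j7 i7 i12) (n j7 i7 i13) (p j7 i7 i10) (p j7 i7 i11) (n j7 i7 i8) (p j7 i7 i9) (p j7 i7 i6) (p j7 i7 i7) (n j7 i7 i4) (p j7 i7 i5) (p j7 i7 i2) (n j7 i7 i3) (p j7 i7 i0) (p j7 i7 i1))
  (@T16.mk E (p j7 i6 i14) (n j7 i6 i15) (n j7 i6 i12) (n j7 i6 i13) (n j7 i6 i10) (n j7 i6 i11) (n j7 i6 i8) (p j7 i6 i9) (p j7 i6 i6) (p j7 i6 i7) (p j7 i6 i4) (n j7 i6 i5) (p j7 i6 i2) (n j7 i6 i3) (n j7 i6 i0) (n j7 i6 i1))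
  (@T16.mk E (p j7 i5 i14) (p j7 i5 i15) (n j7 i5 i12) (p j7 i5 i13) (n j7 i5 i10) (p j7 i5 i11) (n j7 i5 i8) (n j7 i5 i9) (n j7 i5 i6) (p j7 i5 i7) (n j7 i5 i4) (n j7 i5 i5) (n j7 i5 i2) (n j7 i5 i3) (p j7 i5 i0) (n j7 i5 i1))
  (@T16.mk E (n j7 i4 i14) (n j7 i4 i15) (n j7 i4 i12) (p j7 i4 i13) (p j7 i4 i10) (n j7 i4 i11) (n j7 i4 i8) (n j7 i4 i9) (n j7 i4 i6) (p j7 i4 i7) (p j7 i4 i4) (p j7 i4 i5) (n j7 i4 i2) (n j7 i4 i3) (n j7 i4 i0) (p j7 i4 i1))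
 )
 (@T16.mk (T16 E)
  (@T16.mk E (p j6 i11 i14) (n j6 i11 i15) (n j6 i11 i12) (n j6 i11 i13) (n j6 i11 i10) (n j6 i11 i11) (n j6 i11 i8) (p j6 i11 i9) (n j6 i11 i6) (n j6 i11 i7) (n j6 i11 i4) (p j6 i11 i5) (n j6 i11 i2) (p j6 i11 i3) (p j6 i11 i0) (p j6 i11 i1))
  (@T16.mk E (p j6 i10 i14) (n j6 i10 i15) (p j6 i10 i12) (p j6 i10 i13) (n j6 i10 i10) (n j6 i10 i11) (p j6 i10 i8) (n j6 i10 i9) (p j6 i10 i6) (p j6 i10 i7) (n j6 i10 i4) (p j6 i10 i5) (p j6 i10 i2) (n j6 i10 i3) (p j6 i10 i0) (p j6 i10 i1))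
  (@T16.mk E (p j6 i9 i14) (p j6 i9 i15) (p j6 i9 i12) (n j6 i9 i13) (n j6 i9 i10) (p j6 i9 i11) (p j6 i9 i8) (p j6 i9 i9) (n j6 i9 i6) (p j6 i9 i7) (p j6 i9 i4) (p j6 i9 i5) (n j6 i9 i2) (n j6 i9 i3) (n j6 i9 i0) (p j6 i9 i1))
  (@T16.mk E (n j6 i8 i14) (n j6 i8 i15) (p j6 i8 i12) (n j6 i8 i13) (p j6 i8 i10) (n j6 i8 i11) (p j6 i8 i8) (p j6 i8 i9) (n j6 i8 i6) (p j6 i8 i7) (n j6 i8 i4) (n j6 i8 i5) (n j6 i8 i2) (n j6 i8 i3) (p j6 i8 i0) (n j6 i8 i1))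
  (@T16.mk E (n j6 i15 i14) (p j6 i15 i15) (n j6 i15 i12) (n j6 i15 i13) (p j6 i15 i10) (p j6 i15 i11) (n j6 i15 i8) (p j6 i15 i9) (n j6 i15 i6) (n j6 i15 i7) (p j6 i15 i4) (n j6 i15 i5) (n j6 i15 i2) (p j6 i15 i3) (n j6 i15 i0) (n j6 i15 i1))
  (@T16.mk E (p j6 i14 i14) (n j6 i14 i15) (n j6 i14 i12) (n j6 i14 i13) (n j6 i14 i10) (n j6 i14 i11) (n j6 i14 i8) (p j6 i14 i9) (n j6 i14 i6) (n j6 i14 i7) (n j6 i14 i4) (p j6 i14 i5) (n j6 i14 i2) (p j6 i14 i3) (p j6 i14 i0) (p j6 i14 i1))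
  (@T16.mk E (n j6 i13 i14) (n j6 i13 i15) (p j6 i13 i12) (n j6 i13 i13) (p j6 i13 i10) (n j6 i13 i11) (p j6 i13 i8) (p j6 i13 i9) (n j6 i13 i6) (p j6 i13 i7) (n j6 i13 i4) (n j6 i13 i5) (n j6 i13 i2) (n j6 i13 i3) (p j6 i13 i0) (n j6 i13 i1))
  (@T16.mk E (p j6 i12 i14) (p j6 i12 i15) (p j6 i12 i12) (n j6 i12 i13) (n j6 i12 i10) (p j6 i12 i11) (p j6 i12 i8) (p j6 i12 i9) (n j6 i12 i6) (p j6 i12 i7) (p j6 i12 i4) (p j6 i12 i5) (n j6 i12 i2) (n j6 i12 i3) (n j6 i12 i0) (p j6 i12 i1))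
  (@T16.mk E (n j6 i3 i14) (n j6 i3 i15) (p j6 i3 i12) (n j6 i3 i13) (p j6 i3 i10) (n j6 i3 i11) (p j6 i3 i8) (p j6 i3 i9) (p j6 i3 i6) (n j6 i3 i7) (p j6 i3 i4) (p j6 i3 i5) (p j6 i3 i2) (p j6 i3 i3) (n j6 i3 i0) (p j6 i3 i1))
  (@T16.mk E (p j6 i2 i14) (p j6 i2 i15) (p j6 i2 i12) (n j6 i2 i13) (n j6 i2 i10) (p j6 i2 i11) (p j6 i2 i8) (p j6 i2 i9) (p j6 i2 i6) (n j6 i2 i7) (n j6 i2 i4) (n j6 i2 i5) (p j6 i2 i2) (p j6 i2 i3) (p j6 i2 i0) (n j6 i2 i1))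
  (@T16.mk E (n j6 i1 i14) (p j6 i1 i15) (n j6 i1 i12) (n j6 i1 i13) (p j6 i1 i10) (p j6 i1 i11) (n j6 i1 i8) (p j6 i1 i9) (p j6 i1 i6) (p j6 i1 i7) (n j6 i1 i4) (p j6 i1 i5) (p j6 i1 i2) (n j6 i1 i3) (p j6 i1 i0) (p j6 i1 i1))
  (@T16.mk E (p j6 i0 i14) (n j6 i0 i15) (n j6 i0 i12) (n j6 i0 i13) (n j6 i0 i10) (n j6 i0 i11) (n j6 i0 i8) (p j6 i0 i9) (p j6 i0 i6) (p j6 i0 i7) (p j6 i0 i4) (n j6 i0 i5) (p j6 i0 i2) (n j6 i0 i3) (n j6 i0 i0) (n j6 i0 i1))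
  (@T16.mk E (n j6 i7 i14) (n j6 i7 i15) (n j6 i7 i12) (p j6 i7 i13) (p j6 i7 i10) (n j6 i7 i11) (n j6 i7 i8) (n j6 i7 i9) (n j6 i7 i6) (p j6 i7 i7) (p j6 i7 i4) (p j6 i7 i5) (n j6 i7 i2) (n j6 i7 i3) (n j6 i7 i0) (p j6 i7 i1))
  (@T16.mk E (n j6 i6 i14) (n j6 i6 i15) (p j6 i6 i12) (n j6 i6 i13) (p j6 i6 i10) (n j6 i6 i11) (p j6 i6 i8) (p j6 i6 i9) (p j6 i6 i6) (n j6 i6 i7) (p j6 i6 i4) (p j6 i6 i5) (p j6 i6 i2) (p j6 i6 i3) (n j6 i6 i0) (p j6 i6 i1))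
  (@T16.mk E (n j6 i5 i14) (p j6 i5 i15) (p j6 i5 i12) (p j6 i5 i13) (p j6 i5 i10) (p j6 i5 i11) (p j6 i5 i8) (n j6 i5 i9) (n j6 i5 i6) (n j6 i5 i7) (n j6 i5 i4) (p j6 i5 i5) (n j6 i5 i2) (p j6 i5 i3) (p j6 i5 i0) (p j6 i5 i1))
  (@T16.mk E (p j6 i4 i14) (n j6 i4 i15) (p j6 i4 i12) (p j6 i4 i13) (n j6 i4 i10) (n j6 i4 i11) (p j6 i4 i8) (n j6 i4 i9) (n j6 i4 i6) (n j6 i4 i7) (p j6 i4 i4) (n j6 i4 i5) (n j6 i4 i2) (p j6 i4 i3) (n j6 i4 i0) (n j6 i4 i1))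
 )
 (@T16.mk (T16 E)
  (@T16.mk E (p j8 i0 i11) (p j8 i0 i10) (p j8 i0 i9) (p j8 i0 i8) (p j8 i0 i15) (p j8 i0 i14) (p j8 i0 i13) (p j8 i0 i12) (p j8 i0 i3) (p j8 i0 i2) (p j8 i0 i1) (p j8 i0 i0) (p j8 i0 i7) (p j8 i0 i6) (p j8 i0 i5) (p j8 i0 i4))
  (@T16.mk E (n j8 i1 i4) (n j8 i1 i5) (n j8 i1 i6) (n j8 i1 i7) (n j8 i1 i0) (n j8 i1 i1) (n j8 i1 i2) (n j8 i1 i3) (n j8 i1 i12) (n j8 i1 i13) (n j8 i1 i14) (n j8 i1 i15) (n j8 i1 i8) (n j8 i1 i9) (n j8 i1 i10) (n j8 i1 i11))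
  (@T16.mk E (n j8 i2 i13) (n j8 i2 i12) (n j8 i2 i15) (n j8 i2 i14) (n j8 i2 i9) (n j8 i2 i8) (n j8 i2 i11) (n j8 i2 i10) (n j8 i2 i5) (n j8 i2 i4) (n j8 i2 i7) (n j8 i2 i6) (n j8 i2 i1) (n j8 i2 i0) (n j8 i2 i3) (n j8 i2 i2))
  (@T16.mk E (p j8 i3 i6) (p j8 i3 i7) (p j8 i3 i4) (p j8 i3 i5) (p j8 i3 i2) (p j8 i3 i3) (p j8 i3 i0) (p j8 i3 i1) (p j8 i3 i14) (p j8 i3 i15) (p j8 i3 i12) (p j8 i3 i13) (p j8 i3 i10) (p j8 i3 i11) (p j8 i3 i8) (p j8 i3 i9))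
  (@T16.mk E (n j8 i4 i9) (n j8 i4 i8) (n j8 i4 i11) (n j8 i4 i10) (n j8 i4 i13) (n j8 i4 i12) (n j8 i4 i15) (n j8 i4 i14) (n j8 i4 i1) (n j8 i4 i0) (n j8 i4 i3) (n j8 i4 i2) (n j8 i4 i5) (n j8 i4 i4) (n j8 i4 i7) (n j8 i4 i6))
  (@T16.mk E (p j8 i5 i9) (p j8 i5 i8) (p j8 i5 i11) (p j8 i5 i10) (p j8 i5 i13) (p j8 i5 i12) (p j8 i5 i15) (p j8 i5 i14) (p j8 i5 i1) (p j8 i5 i0) (p j8 i5 i3) (p j8 i5 i2) (p j8 i5 i5) (p j8 i5 i4) (p j8 i5 i7) (p j8 i5 i6))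
  (@T16.mk E (p j8 i6 i15) (p j8 i6 i14) (p j8 i6 i13) (p j8 i6 i12) (p j8 i6 i11) (p j8 i6 i10) (p j8 i6 i9) (p j8 i6 i8) (p j8 i6 i7) (p j8 i6 i6) (p j8 i6 i5) (p j8 i6 i4) (p j8 i6 i3) (p j8 i6 i2) (p j8 i6 i1) (p j8 i6 i0))
  (@T16.mk E (p j8 i7 i11) (p j8 i7 i10) (p j8 i7 i9) (p j8 i7 i8) (p j8 i7 i15) (p j8 i7 i14) (p j8 i7 i13) (p j8 i7 i12) (p j8 i7 i3) (p j8 i7 i2) (p j8 i7 i1) (p j8 i7 i0) (p j8 i7 i7) (p j8 i7 i6) (p j8 i7 i5) (p j8 i7 i4))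
  (@T16.mk E (n j8 i8 i7) (n j8 i8 i6) (n j8 i8 i5) (n j8 i8 i4) (n j8 i8 i3) (n j8 i8 i2) (n j8 i8 i1) (n j8 i8 i0) (n j8 i8 i15) (n j8 i8 i14) (n j8 i8 i13) (n j8 i8 i12) (n j8 i8 i11) (n j8 i8 i10) (n j8 i8 i9) (n j8 i8 i8))
  (@T16.mk E (n j8 i9 i15) (n j8 i9 i14) (n j8 i9 i13) (n j8 i9 i12) (n j8 i9 i11) (n j8 i9 i10) (n j8 i9 i9) (n j8 i9 i8) (n j8 i9 i7) (n j8 i9 i6) (n j8 i9 i5) (n j8 i9 i4) (n j8 i9 i3) (n j8 i9 i2) (n j8 i9 i1) (n j8 i9 i0))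
  (@T16.mk E (p j8 i10 i12) (p j8 i10 i13) (p j8 i10 i14) (p j8 i10 i15) (p j8 i10 i8) (p j8 i10 i9) (p j8 i10 i10) (p j8 i10 i11) (p j8 i10 i4) (p j8 i10 i5) (p j8 i10 i6) (p j8 i10 i7) (p j8 i10 i0) (p j8 i10 i1) (p j8 i10 i2) (p j8 i10 i3))
  (@T16.mk E (n j8 i11 i5) (n j8 i11 i4) (n j8 i11 i7) (n j8 i11 i6) (n j8 i11 i1) (n j8 i11 i0) (n j8 i11 i3) (n j8 i11 i2) (n j8 i11 i13) (n j8 i11 i12) (n j8 i11 i15) (n j8 i11 i14) (n j8 i11 i9) (n j8 i11 i8) (n j8 i11 i11) (n j8 i11 i10))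
  (@T16.mk E (n j8 i12 i15) (n j8 i12 i14) (n j8 i12 i13) (n j8 i12 i12) (n j8 i12 i11) (n j8 i12 i10) (n j8 i12 i9) (n j8 i12 i8) (n j8 i12 i7) (n j8 i12 i6) (n j8 i12 i5) (n j8 i12 i4) (n j8 i12 i3) (n j8 i12 i2) (n j8 i12 i1) (n j8 i12 i0))
  (@T16.mk E (p j8 i13 i5) (p j8 i13 i4) (p j8 i13 i7) (p j8 i13 i6) (p j8 i13 i1) (p j8 i13 i0) (p j8 i13 i3) (p j8 i13 i2) (p j8 i13 i13) (p j8 i13 i12) (p j8 i13 i15) (p j8 i13 i14) (p j8 i13 i9) (p j8 i13 i8) (p j8 i13 i11) (p j8 i13 i10))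
  (@T16.mk E (p j8 i14 i0) (p j8 i14 i1) (p j8 i14 i2) (p j8 i14 i3) (p j8 i14 i4) (p j8 i14 i5) (p j8 i14 i6) (p j8 i14 i7) (p j8 i14 i8) (p j8 i14 i9) (p j8 i14 i10) (p j8 i14 i11) (p j8 i14 i12) (p j8 i14 i13) (p j8 i14 i14) (p j8 i14 i15))
  (@T16.mk E (p j8 i15 i2) (p j8 i15 i3) (p j8 i15 i0) (p j8 i15 i1) (p j8 i15 i6) (p j8 i15 i7) (p j8 i15 i4) (p j8 i15 i5) (p j8 i15 i10) (p j8 i15 i11) (p j8 i15 i8) (p j8 i15 i9) (p j8 i15 i14) (p j8 i15 i15) (p j8 i15 i12) (p j8 i15 i13))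
 )
 (@T16.mk (T16 E)
  (@T16.mk E (p j9 i0 i2) (p j9 i0 i3) (p j9 i0 i0) (p j9 i0 i1) (p j9 i0 i6) (p j9 i0 i7) (p j9 i0 i4) (p j9 i0 i5) (p j9 i0 i10) (p j9 i0 i11) (p j9 i0 i8) (p j9 i0 i9) (p j9 i0 i14) (p j9 i0 i15) (p j9 i0 i12) (p j9 i0 i13))
  (@T16.mk E (n j9 i1 i15) (n j9 i1 i14) (n j9 i1 i13) (n j9 i1 i12) (n j9 i1 i11) (n j9 i1 i10) (n j9 i1 i9) (n j9 i1 i8) (n j9 i1 i7) (n j9 i1 i6) (n j9 i1 i5) (n j9 i1 i4) (n j9 i1 i3) (n j9 i1 i2) (n j9 i1 i1) (n j9 i1 i0))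
  (@T16.mk E (n j9 i2 i6) (n j9 i2 i7) (n j9 i2 i4) (n j9 i2 i5) (n j9 i2 i2) (n j9 i2 i3) (n j9 i2 i0) (n j9 i2 i1) (n j9 i2 i14) (n j9 i2 i15) (n j9 i2 i12) (n j9 i2 i13) (n j9 i2 i10) (n j9 i2 i11) (n j9 i2 i8) (n j9 i2 i9))
  (@T16.mk E (n j9 i3 i10) (n j9 i3 i11) (n j9 i3 i8) (n j9 i3 i9) (n j9 i3 i14) (n j9 i3 i15) (n j9 i3 i12) (n j9 i3 i13) (n j9 i3 i2) (n j9 i3 i3) (n j9 i3 i0) (n j9 i3 i1) (n j9 i3 i6) (n j9 i3 i7) (n j9 i3 i4) (n j9 i3 i5))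
  (@T16.mk E (p j9 i4 i11) (p j9 i4 i10) (p j9 i4 i9) (p j9 i4 i8) (p j9 i4 i15) (p j9 i4 i14) (p j9 i4 i13) (p j9 i4 i12) (p j9 i4 i3) (p j9 i4 i2) (p j9 i4 i1) (p j9 i4 i0) (p j9 i4 i7) (p j9 i4 i6) (p j9 i4 i5) (p j9 i4 i4))
  (@T16.mk E (p j9 i5 i11) (p j9 i5 i10) (p j9 i5 i9) (p j9 i5 i8) (p j9 i5 i15) (p j9 i5 i14) (p j9 i5 i13) (p j9 i5 i12) (p j9 i5 i3) (p j9 i5 i2) (p j9 i5 i1) (p j9 i5 i0) (p j9 i5 i7) (p j9 i5 i6) (p j9 i5 i5) (p j9 i5 i4))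
  (@T16.mk E (n j9 i6 i11) (n j9 i6 i10) (n j9 i6 i9) (n j9 i6 i8) (n j9 i6 i15) (n j9 i6 i14) (n j9 i6 i13) (n j9 i6 i12) (n j9 i6 i3) (n j9 i6 i2) (n j9 i6 i1) (n j9 i6 i0) (n j9 i6 i7) (n j9 i6 i6) (n j9 i6 i5) (n j9 i6 i4))
  (@T16.mk E (n j9 i7 i8) (n j9 i7 i9) (n j9 i7 i10) (n j9 i7 i11) (n j9 i7 i12) (n j9 i7 i13) (n j9 i7 i14) (n j9 i7 i15) (n j9 i7 i0) (n j9 i7 i1) (n j9 i7 i2) (n j9 i7 i3) (n j9 i7 i4) (n j9 i7 i5) (n j9 i7 i6) (n j9 i7 i7))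
  (@T16.mk E (p j9 i8 i0) (p j9 i8 i1) (p j9 i8 i2) (p j9 i8 i3) (p j9 i8 i4) (p j9 i8 i5) (p j9 i8 i6) (p j9 i8 i7) (p j9 i8 i8) (p j9 i8 i9) (p j9 i8 i10) (p j9 i8 i11) (p j9 i8 i12) (p j9 i8 i13) (p j9 i8 i14) (p j9 i8 i15))
  (@T16.mk E (n j9 i9 i7) (n j9 i9 i6) (n j9 i9 i5) (n j9 i9 i4) (n j9 i9 i3) (n j9 i9 i2) (n j9 i9 i1) (n j9 i9 i0) (n j9 i9 i15) (n j9 i9 i14) (n j9 i9 i13) (n j9 i9 i12) (n j9 i9 i11) (n j9 i9 i10) (n j9 i9 i9) (n j9 i9 i8))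
  (@T16.mk E (p j9 i10 i9) (p j9 i10 i8) (p j9 i10 i11) (p j9 i10 i10) (p j9 i10 i13) (p j9 i10 i12) (p j9 i10 i15) (p j9 i10 i14) (p j9 i10 i1) (p j9 i10 i0) (p j9 i10 i3) (p j9 i10 i2) (p j9 i10 i5) (p j9 i10 i4) (p j9 i10 i7) (p j9 i10 i6))
  (@T16.mk E (n j9 i11 i7) (n j9 i11 i6) (n j9 i11 i5) (n j9 i11 i4) (n j9 i11 i3) (n j9 i11 i2) (n j9 i11 i1) (n j9 i11 i0) (n j9 i11 i15) (n j9 i11 i14) (n j9 i11 i13) (n j9 i11 i12) (n j9 i11 i11) (n j9 i11 i10) (n j9 i11 i9) (n j9 i11 i8))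
  (@T16.mk E (p j9 i12 i14) (p j9 i12 i15) (p j9 i12 i12) (p j9 i12 i13) (p j9 i12 i10) (p j9 i12 i11) (p j9 i12 i8) (p j9 i12 i9) (p j9 i12 i6) (p j9 i12 i7) (p j9 i12 i4) (p j9 i12 i5) (p j9 i12 i2) (p j9 i12 i3) (p j9 i12 i0) (p j9 i12 i1))
  (@T16.mk E (n j9 i13 i10) (n j9 i13 i11) (n j9 i13 i8) (n j9 i13 i9) (n j9 i13 i14) (n j9 i13 i15) (n j9 i13 i12) (n j9 i13 i13) (n j9 i13 i2) (n j9 i13 i3) (n j9 i13 i0) (n j9 i13 i1) (n j9 i13 i6) (n j9 i13 i7) (n j9 i13 i4) (n j9 i13 i5))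
  (@T16.mk E (p j9 i14 i0) (p j9 i14 i1) (p j9 i14 i2) (p j9 i14 i3) (p j9 i14 i4) (p j9 i14 i5) (p j9 i14 i6) (p j9 i14 i7) (p j9 i14 i8) (p j9 i14 i9) (p j9 i14 i10) (p j9 i14 i11) (p j9 i14 i12) (p j9 i14 i13) (p j9 i14 i14) (p j9 i14 i15))
  (@T16.mk E (p j9 i15 i11) (p j9 i15 i10) (p j9 i15 i9) (p j9 i15 i8) (p j9 i15 i15) (p j9 i15 i14) (p j9 i15 i13) (p j9 i15 i12) (p j9 i15 i3) (p j9 i15 i2) (p j9 i15 i1) (p j9 i15 i0) (p j9 i15 i7) (p j9 i15 i6) (p j9 i15 i5) (p j9 i15 i4))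
 )
 (@T16.mk (T16 E)
  (@T16.mk E (n j10 i0 i10) (n j10 i0 i11) (n j10 i0 i8) (n j10 i0 i9) (n j10 i0 i14) (n j10 i0 i15) (n j10 i0 i12) (n j10 i0 i13) (n j10 i0 i2) (n j10 i0 i3) (n j10 i0 i0) (n j10 i0 i1) (n j10 i0 i6) (n j10 i0 i7) (n j10 i0 i4) (n j10 i0 i5))
  (@T16.mk E (n j10 i1 i9) (n j10 i1 i8) (n j10 i1 i11) (n j10 i1 i10) (n j10 i1 i13) (n j10 i1 i12) (n j10 i1 i15) (n j10 i1 i14) (n j10 i1 i1) (n j10 i1 i0) (n j10 i1 i3) (n j10 i1 i2) (n j10 i1 i5) (n j10 i1 i4) (n j10 i1 i7) (n j10 i1 i6))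
  (@T16.mk E (p j10 i2 i15) (p j10 i2 i14) (p j10 i2 i13) (p j10 i2 i12) (p j10 i2 i11) (p j10 i2 i10) (p j10 i2 i9) (p j10 i2 i8) (p j10 i2 i7) (p j10 i2 i6) (p j10 i2 i5) (p j10 i2 i4) (p j10 i2 i3) (p j10 i2 i2) (p j10 i2 i1) (p j10 i2 i0))
  (@T16.mk E (n j10 i3 i8) (n j10 i3 i9) (n j10 i3 i10) (n j10 i3 i11) (n j10 i3 i12) (n j10 i3 i13) (n j10 i3 i14) (n j10 i3 i15) (n j10 i3 i0) (n j10 i3 i1) (n j10 i3 i2) (n j10 i3 i3) (n j10 i3 i4) (n j10 i3 i5) (n j10 i3 i6) (n j10 i3 i7))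
  (@T16.mk E (p j10 i4 i15) (p j10 i4 i14) (p j10 i4 i13) (p j10 i4 i12) (p j10 i4 i11) (p j10 i4 i10) (p j10 i4 i9) (p j10 i4 i8) (p j10 i4 i7) (p j10 i4 i6) (p j10 i4 i5) (p j10 i4 i4) (p j10 i4 i3) (p j10 i4 i2) (p j10 i4 i1) (p j10 i4 i0))
  (@T16.mk E (n j10 i5 i10) (n j10 i5 i11) (n j10 i5 i8) (n j10 i5 i9) (n j10 i5 i14) (n j10 i5 i15) (n j10 i5 i12) (n j10 i5 i13) (n j10 i5 i2) (n j10 i5 i3) (n j10 i5 i0) (n j10 i5 i1) (n j10 i5 i6) (n j10 i5 i7) (n j10 i5 i4) (n j10 i5 i5))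
  (@T16.mk E (p j10 i6 i5) (p j10 i6 i4) (p j10 i6 i7) (p j10 i6 i6) (p j10 i6 i1) (p j10 i6 i0) (p j10 i6 i3) (p j10 i6 i2) (p j10 i6 i13) (p j10 i6 i12) (p j10 i6 i15) (p j10 i6 i14) (p j10 i6 i9) (p j10 i6 i8) (p j10 i6 i11) (p j10 i6 i10))
  (@T16.mk E (p j10 i7 i0) (p j10 i7 i1) (p j10 i7 i2) (p j10 i7 i3) (p j10 i7 i4) (p j10 i7 i5) (p j10 i7 i6) (p j10 i7 i7) (p j10 i7 i8) (p j10 i7 i9) (p j10 i7 i10) (p j10 i7 i11) (p j10 i7 i12) (p j10 i7 i13) (p j10 i7 i14) (p j10 i7 i15))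
  (@T16.mk E (n j10 i8 i11) (n j10 i8 i10) (n j10 i8 i9) (n j10 i8 i8) (n j10 i8 i15) (n j10 i8 i14) (n j10 i8 i13) (n j10 i8 i12) (n j10 i8 i3) (n j10 i8 i2) (n j10 i8 i1) (n j10 i8 i0) (n j10 i8 i7) (n j10 i8 i6) (n j10 i8 i5) (n j10 i8 i4))
  (@T16.mk E (n j10 i9 i11) (n j10 i9 i10) (n j10 i9 i9) (n j10 i9 i8) (n j10 i9 i15) (n j10 i9 i14) (n j10 i9 i13) (n j10 i9 i12) (n j10 i9 i3) (n j10 i9 i2) (n j10 i9 i1) (n j10 i9 i0) (n j10 i9 i7) (n j10 i9 i6) (n j10 i9 i5) (n j10 i9 i4))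
  (@T16.mk E (n j10 i10 i10) (n j10 i10 i11) (n j10 i10 i8) (n j10 i10 i9) (n j10 i10 i14) (n j10 i10 i15) (n j10 i10 i12) (n j10 i10 i13) (n j10 i10 i2) (n j10 i10 i3) (n j10 i10 i0) (n j10 i10 i1) (n j10 i10 i6) (n j10 i10 i7) (n j10 i10 i4) (n j10 i10 i5))
  (@T16.mk E (n j10 i11 i7) (n j10 i11 i6) (n j10 i11 i5) (n j10 i11 i4) (n j10 i11 i3) (n j10 i11 i2) (n j10 i11 i1) (n j10 i11 i0) (n j10 i11 i15) (n j10 i11 i14) (n j10 i11 i13) (n j10 i11 i12) (n j10 i11 i11) (n j10 i11 i10) (n j10 i11 i9) (n j10 i11 i8))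
  (@T16.mk E (n j10 i12 i9) (n j10 i12 i8) (n j10 i12 i11) (n j10 i12 i10) (n j10 i12 i13) (n j10 i12 i12) (n j10 i12 i15) (n j10 i12 i14) (n j10 i12 i1) (n j10 i12 i0) (n j10 i12 i3) (n j10 i12 i2) (n j10 i12 i5) (n j10 i12 i4) (n j10 i12 i7) (n j10 i12 i6))
  (@T16.mk E (p j10 i13 i13) (p j10 i13 i12) (p j10 i13 i15) (p j10 i13 i14) (p j10 i13 i9) (p j10 i13 i8) (p j10 i13 i11) (p j10 i13 i10) (p j10 i13 i5) (p j10 i13 i4) (p j10 i13 i7) (p j10 i13 i6) (p j10 i13 i1) (p j10 i13 i0) (p j10 i13 i3) (p j10 i13 i2))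
  (@T16.mk E (p j10 i14 i3) (p j10 i14 i2) (p j10 i14 i1) (p j10 i14 i0) (p j10 i14 i7) (p j10 i14 i6) (p j10 i14 i5) (p j10 i14 i4) (p j10 i14 i11) (p j10 i14 i10) (p j10 i14 i9) (p j10 i14 i8) (p j10 i14 i15) (p j10 i14 i14) (p j10 i14 i13) (p j10 i14 i12))
  (@T16.mk E (n j10 i15 i5) (n j10 i15 i4) (n j10 i15 i7) (n j10 i15 i6) (n j10 i15 i1) (n j10 i15 i0) (n j10 i15 i3) (n j10 i15 i2) (n j10 i15 i13) (n j10 i15 i12) (n j10 i15 i15) (n j10 i15 i14) (n j10 i15 i9) (n j10 i15 i8) (n j10 i15 i11) (n j10 i15 i10))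
 )
 (@T16.mk (T16 E)
  (@T16.mk E (n j11 i0 i9) (n j11 i0 i8) (n j11 i0 i11) (n j11 i0 i10) (n j11 i0 i13) (n j11 i0 i12) (n j11 i0 i15) (n j11 i0 i14) (n j11 i0 i1) (n j11 i0 i0) (n j11 i0 i3) (n j11 i0 i2) (n j11 i0 i5) (n j11 i0 i4) (n j11 i0 i7) (n j11 i0 i6))
  (@T16.mk E (n j11 i1 i3) (n j11 i1 i2) (n j11 i1 i1) (n j11 i1 i0) (n j11 i1 i7) (n j11 i1 i6) (n j11 i1 i5) (n j11 i1 i4) (n j11 i1 i11) (n j11 i1 i10) (n j11 i1 i9) (n j11 i1 i8) (n j11 i1 i15) (n j11 i1 i14) (n j11 i1 i13) (n j11 i1 i12))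
  (@T16.mk E (n j11 i2 i10) (n j11 i2 i11) (n j11 i2 i8) (n j11 i2 i9) (n j11 i2 i14) (n j11 i2 i15) (n j11 i2 i12) (n j11 i2 i13) (n j11 i2 i2) (n j11 i2 i3) (n j11 i2 i0) (n j11 i2 i1) (n j11 i2 i6) (n j11 i2 i7) (n j11 i2 i4) (n j11 i2 i5))
  (@T16.mk E (n j11 i3 i12) (n j11 i3 i13) (n j11 i3 i14) (n j11 i3 i15) (n j11 i3 i8) (n j11 i3 i9) (n j11 i3 i10) (n j11 i3 i11) (n j11 i3 i4) (n j11 i3 i5) (n j11 i3 i6) (n j11 i3 i7) (n j11 i3 i0) (n j11 i3 i1) (n j11 i3 i2) (n j11 i3 i3))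
  (@T16.mk E (n j11 i4 i4) (n j11 i4 i5) (n j11 i4 i6) (n j11 i4 i7) (n j11 i4 i0) (n j11 i4 i1) (n j11 i4 i2) (n j11 i4 i3) (n j11 i4 i12) (n j11 i4 i13) (n j11 i4 i14) (n j11 i4 i15) (n j11 i4 i8) (n j11 i4 i9) (n j11 i4 i10) (n j11 i4 i11))
  (@T16.mk E (p j11 i5 i3) (p j11 i5 i2) (p j11 i5 i1) (p j11 i5 i0) (p j11 i5 i7) (p j11 i5 i6) (p j11 i5 i5) (p j11 i5 i4) (p j11 i5 i11) (p j11 i5 i10) (p j11 i5 i9) (p j11 i5 i8) (p j11 i5 i15) (p j11 i5 i14) (p j11 i5 i13) (p j11 i5 i12))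
  (@T16.mk E (n j11 i6 i11) (n j11 i6 i10) (n j11 i6 i9) (n j11 i6 i8) (n j11 i6 i15) (n j11 i6 i14) (n j11 i6 i13) (n j11 i6 i12) (n j11 i6 i3) (n j11 i6 i2) (n j11 i6 i1) (n j11 i6 i0) (n j11 i6 i7) (n j11 i6 i6) (n j11 i6 i5) (n j11 i6 i4))
  (@T16.mk E (n j11 i7 i1) (n j11 i7 i0) (n j11 i7 i3) (n j11 i7 i2) (n j11 i7 i5) (n j11 i7 i4) (n j11 i7 i7) (n j11 i7 i6) (n j11 i7 i9) (n j11 i7 i8) (n j11 i7 i11) (n j11 i7 i10) (n j11 i7 i13) (n j11 i7 i12) (n j11 i7 i15) (n j11 i7 i14))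
  (@T16.mk E (n j11 i8 i13) (n j11 i8 i12) (n j11 i8 i15) (n j11 i8 i14) (n j11 i8 i9) (n j11 i8 i8) (n j11 i8 i11) (n j11 i8 i10) (n j11 i8 i5) (n j11 i8 i4) (n j11 i8 i7) (n j11 i8 i6) (n j11 i8 i1) (n j11 i8 i0) (n j11 i8 i3) (n j11 i8 i2))
  (@T16.mk E (n j11 i9 i15) (n j11 i9 i14) (n j11 i9 i13) (n j11 i9 i12) (n j11 i9 i11) (n j11 i9 i10) (n j11 i9 i9) (n j11 i9 i8) (n j11 i9 i7) (n j11 i9 i6) (n j11 i9 i5) (n j11 i9 i4) (n j11 i9 i3) (n j11 i9 i2) (n j11 i9 i1) (n j11 i9 i0))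
  (@T16.mk E (p j11 i10 i10) (p j11 i10 i11) (p j11 i10 i8) (p j11 i10 i9) (p j11 i10 i14) (p j11 i10 i15) (p j11 i10 i12) (p j11 i10 i13) (p j11 i10 i2) (p j11 i10 i3) (p j11 i10 i0) (p j11 i10 i1) (p j11 i10 i6) (p j11 i10 i7) (p j11 i10 i4) (p j11 i10 i5))
  (@T16.mk E (n j11 i11 i9) (n j11 i11 i8) (n j11 i11 i11) (n j11 i11 i10) (n j11 i11 i13) (n j11 i11 i12) (n j11 i11 i15) (n j11 i11 i14) (n j11 i11 i1) (n j11 i11 i0) (n j11 i11 i3) (n j11 i11 i2) (n j11 i11 i5) (n j11 i11 i4) (n j11 i11 i7) (n j11 i11 i6))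
  (@T16.mk E (n j11 i12 i7) (n j11 i12 i6) (n j11 i12 i5) (n j11 i12 i4) (n j11 i12 i3) (n j11 i12 i2) (n j11 i12 i1) (n j11 i12 i0) (n j11 i12 i15) (n j11 i12 i14) (n j11 i12 i13) (n j11 i12 i12) (n j11 i12 i11) (n j11 i12 i10) (n j11 i12 i9) (n j11 i12 i8))
  (@T16.mk E (p j11 i13 i11) (p j11 i13 i10) (p j11 i13 i9) (p j11 i13 i8) (p j11 i13 i15) (p j11 i13 i14) (p j11 i13 i13) (p j11 i13 i12) (p j11 i13 i3) (p j11 i13 i2) (p j11 i13 i1) (p j11 i13 i0) (p j11 i13 i7) (p j11 i13 i6) (p j11 i13 i5) (p j11 i13 i4))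
  (@T16.mk E (p j11 i14 i0) (p j11 i14 i1) (p j11 i14 i2) (p j11 i14 i3) (p j11 i14 i4) (p j11 i14 i5) (p j11 i14 i6) (p j11 i14 i7) (p j11 i14 i8) (p j11 i14 i9) (p j11 i14 i10) (p j11 i14 i11) (p j11 i14 i12) (p j11 i14 i13) (p j11 i14 i14) (p j11 i14 i15))
  (@T16.mk E (n j11 i15 i9) (n j11 i15 i8) (n j11 i15 i11) (n j11 i15 i10) (n j11 i15 i13) (n j11 i15 i12) (n j11 i15 i15) (n j11 i15 i14) (n j11 i15 i1) (n j11 i15 i0) (n j11 i15 i3) (n j11 i15 i2) (n j11 i15 i5) (n j11 i15 i4) (n j11 i15 i7) (n j11 i15 i6))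
 )
 (@T16.mk (T16 E)
  (@T16.mk E (p j12 i0 i0) (p j12 i0 i1) (p j12 i0 i2) (p j12 i0 i3) (p j12 i0 i4) (p j12 i0 i5) (p j12 i0 i6) (p j12 i0 i7) (p j12 i0 i8) (p j12 i0 i9) (p j12 i0 i10) (p j12 i0 i11) (p j12 i0 i12) (p j12 i0 i13) (p j12 i0 i14) (p j12 i0 i15))
  (@T16.mk E (p j12 i1 i11) (p j12 i1 i10) (p j12 i1 i9) (p j12 i1 i8) (p j12 i1 i15) (p j12 i1 i14) (p j12 i1 i13) (p j12 i1 i12) (p j12 i1 i3) (p j12 i1 i2) (p j12 i1 i1) (p j12 i1 i0) (p j12 i1 i7) (p j12 i1 i6) (p j12 i1 i5) (p j12 i1 i4))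
  (@T16.mk E (p j12 i2 i15) (p j12 i2 i14) (p j12 i2 i13) (p j12 i2 i12) (p j12 i2 i11) (p j12 i2 i10) (p j12 i2 i9) (p j12 i2 i8) (p j12 i2 i7) (p j12 i2 i6) (p j12 i2 i5) (p j12 i2 i4) (p j12 i2 i3) (p j12 i2 i2) (p j12 i2 i1) (p j12 i2 i0))
  (@T16.mk E (p j12 i3 i6) (p j12 i3 i7) (p j12 i3 i4) (p j12 i3 i5) (p j12 i3 i2) (p j12 i3 i3) (p j12 i3 i0) (p j12 i3 i1) (p j12 i3 i14) (p j12 i3 i15) (p j12 i3 i12) (p j12 i3 i13) (p j12 i3 i10) (p j12 i3 i11) (p j12 i3 i8) (p j12 i3 i9))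
  (@T16.mk E (p j12 i4 i0) (p j12 i4 i1) (p j12 i4 i2) (p j12 i4 i3) (p j12 i4 i4) (p j12 i4 i5) (p j12 i4 i6) (p j12 i4 i7) (p j12 i4 i8) (p j12 i4 i9) (p j12 i4 i10) (p j12 i4 i11) (p j12 i4 i12) (p j12 i4 i13) (p j12 i4 i14) (p j12 i4 i15))
  (@T16.mk E (p j12 i5 i12) (p j12 i5 i13) (p j12 i5 i14) (p j12 i5 i15) (p j12 i5 i8) (p j12 i5 i9) (p j12 i5 i10) (p j12 i5 i11) (p j12 i5 i4) (p j12 i5 i5) (p j12 i5 i6) (p j12 i5 i7) (p j12 i5 i0) (p j12 i5 i1) (p j12 i5 i2) (p j12 i5 i3))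
  (@T16.mk E (n j12 i6 i11) (n j12 i6 i10) (n j12 i6 i9) (n j12 i6 i8) (n j12 i6 i15) (n j12 i6 i14) (n j12 i6 i13) (n j12 i6 i12) (n j12 i6 i3) (n j12 i6 i2) (n j12 i6 i1) (n j12 i6 i0) (n j12 i6 i7) (n j12 i6 i6) (n j12 i6 i5) (n j12 i6 i4))
  (@T16.mk E (p j12 i7 i11) (p j12 i7 i10) (p j12 i7 i9) (p j12 i7 i8) (p j12 i7 i15) (p j12 i7 i14) (p j12 i7 i13) (p j12 i7 i12) (p j12 i7 i3) (p j12 i7 i2) (p j12 i7 i1) (p j12 i7 i0) (p j12 i7 i7) (p j12 i7 i6) (p j12 i7 i5) (p j12 i7 i4))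
  (@T16.mk E (p j12 i8 i10) (p j12 i8 i11) (p j12 i8 i8) (p j12 i8 i9) (p j12 i8 i14) (p j12 i8 i15) (p j12 i8 i12) (p j12 i8 i13) (p j12 i8 i2) (p j12 i8 i3) (p j12 i8 i0) (p j12 i8 i1) (p j12 i8 i6) (p j12 i8 i7) (p j12 i8 i4) (p j12 i8 i5))
  (@T16.mk E (n j12 i9 i10) (n j12 i9 i11) (n j12 i9 i8) (n j12 i9 i9) (n j12 i9 i14) (n j12 i9 i15) (n j12 i9 i12) (n j12 i9 i13) (n j12 i9 i2) (n j12 i9 i3) (n j12 i9 i0) (n j12 i9 i1) (n j12 i9 i6) (n j12 i9 i7) (n j12 i9 i4) (n j12 i9 i5))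
  (@T16.mk E (n j12 i10 i15) (n j12 i10 i14) (n j12 i10 i13) (n j12 i10 i12) (n j12 i10 i11) (n j12 i10 i10) (n j12 i10 i9) (n j12 i10 i8) (n j12 i10 i7) (n j12 i10 i6) (n j12 i10 i5) (n j12 i10 i4) (n j12 i10 i3) (n j12 i10 i2) (n j12 i10 i1) (n j12 i10 i0))
  (@T16.mk E (p j12 i11 i7) (p j12 i11 i6) (p j12 i11 i5) (p j12 i11 i4) (p j12 i11 i3) (p j12 i11 i2) (p j12 i11 i1) (p j12 i11 i0) (p j12 i11 i15) (p j12 i11 i14) (p j12 i11 i13) (p j12 i11 i12) (p j12 i11 i11) (p j12 i11 i10) (p j12 i11 i9) (p j12 i11 i8))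
  (@T16.mk E (n j12 i12 i9) (n j12 i12 i8) (n j12 i12 i11) (n j12 i12 i10) (n j12 i12 i13) (n j12 i12 i12) (n j12 i12 i15) (n j12 i12 i14) (n j12 i12 i1) (n j12 i12 i0) (n j12 i12 i3) (n j12 i12 i2) (n j12 i12 i5) (n j12 i12 i4) (n j12 i12 i7) (n j12 i12 i6))
  (@T16.mk E (p j14 i15 i12) (n j14 i15 i13) (p j14 i15 i14) (p j14 i15 i15) (p j14 i15 i8) (p j14 i15 i9) (n j14 i15 i10) (p j14 i15 i11) (p j14 i15 i4) (n j14 i15 i5) (p j14 i15 i6) (p j14 i15 i7) (p j14 i15 i0) (p j14 i15 i1) (n j14 i15 i2) (p j14 i15 i3))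
  (@T16.mk E (p j15 i0 i12) (p j15 i0 i13) (n j15 i0 i14) (p j15 i0 i15) (n j15 i0 i8) (p j15 i0 i9) (n j15 i0 i10) (n j15 i0 i11) (n j15 i0 i4) (n j15 i0 i5) (p j15 i0 i6) (n j15 i0 i7) (p j15 i0 i0) (n j15 i0 i1) (p j15 i0 i2) (p j15 i0 i3))
  (@T16.mk E (n j14 i13 i12) (p j14 i13 i13) (p j14 i13 i14) (p j14 i13 i15) (n j14 i13 i8) (n j14 i13 i9) (n j14 i13 i10) (p j14 i13 i11) (n j14 i13 i4) (p j14 i13 i5) (p j14 i13 i6) (p j14 i13 i7) (n j14 i13 i0) (n j14 i13 i1) (n j14 i13 i2) (p j14 i13 i3))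
 )
 (@T16.mk (T16 E)
  (@T16.mk E (n j14 i14 i12) (n j14 i14 i13) (n j14 i14 i14) (p j14 i14 i15) (p j14 i14 i8) (n j14 i14 i9) (n j14 i14 i10) (n j14 i14 i11) (p j14 i14 i4) (p j14 i14 i5) (p j14 i14 i6) (n j14 i14 i7) (n j14 i14 i0) (p j14 i14 i1) (p j14 i14 i2) (p j14 i14 i3))
  (@T16.mk E (p j15 i3 i12) (p j15 i3 i13) (n j15 i3 i14) (p j15 i3 i15) (p j15 i3 i8) (n j15 i3 i9) (p j15 i3 i10) (p j15 i3 i11) (p j15 i3 i4) (p j15 i3 i5) (n j15 i3 i6) (p j15 i3 i7) (p j15 i3 i0) (n j15 i3 i1) (p j15 i3 i2) (p j15 i3 i3))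
  (@T16.mk E (p j15 i4 i12) (n j15 i4 i13) (p j15 i4 i14) (p j15 i4 i15) (n j15 i4 i8) (n j15 i4 i9) (p j15 i4 i10) (n j15 i4 i11) (n j15 i4 i4) (p j15 i4 i5) (n j15 i4 i6) (n j15 i4 i7) (p j15 i4 i0) (p j15 i4 i1) (n j15 i4 i2) (p j15 i4 i3))
  (@T16.mk E (p j15 i1 i12) (p j15 i1 i13) (p j15 i1 i14) (n j15 i1 i15) (p j15 i1 i8) (n j15 i1 i9) (n j15 i1 i10) (n j15 i1 i11) (p j15 i1 i4) (p j15 i1 i5) (p j15 i1 i6) (n j15 i1 i7) (p j15 i1 i0) (n j15 i1 i1) (n j15 i1 i2) (n j15 i1 i3))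
  (@T16.mk E (p j15 i2 i12) (n j15 i2 i13) (n j15 i2 i14) (n j15 i2 i15) (n j15 i2 i8) (n j15 i2 i9) (n j15 i2 i10) (p j15 i2 i11) (n j15 i2 i4) (p j15 i2 i5) (p j15 i2 i6) (p j15 i2 i7) (p j15 i2 i0) (p j15 i2 i1) (p j15 i2 i2) (n j15 i2 i3))
  (@T16.mk E (p j15 i7 i12) (p j15 i7 i13) (p j15 i7 i14) (n j15 i7 i15) (p j15 i7 i8) (n j15 i7 i9) (n j15 i7 i10) (n j15 i7 i11) (n j15 i7 i4) (n j15 i7 i5) (n j15 i7 i6) (p j15 i7 i7) (n j15 i7 i0) (p j15 i7 i1) (p j15 i7 i2) (p j15 i7 i3))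
  (@T16.mk E (n j15 i8 i12) (p j15 i8 i13) (p j15 i8 i14) (p j15 i8 i15) (p j15 i8 i8) (p j15 i8 i9) (p j15 i8 i10) (n j15 i8 i11) (n j15 i8 i4) (p j15 i8 i5) (p j15 i8 i6) (p j15 i8 i7) (p j15 i8 i0) (p j15 i8 i1) (p j15 i8 i2) (n j15 i8 i3))
  (@T16.mk E (n j15 i5 i12) (n j15 i5 i13) (p j15 i5 i14) (n j15 i5 i15) (n j15 i5 i8) (p j15 i5 i9) (n j15 i5 i10) (n j15 i5 i11) (p j15 i5 i4) (p j15 i5 i5) (n j15 i5 i6) (p j15 i5 i7) (p j15 i5 i0) (n j15 i5 i1) (p j15 i5 i2) (p j15 i5 i3))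
  (@T16.mk E (p j15 i6 i12) (n j15 i6 i13) (p j15 i6 i14) (p j15 i6 i15) (n j15 i6 i8) (n j15 i6 i9) (p j15 i6 i10) (n j15 i6 i11) (p j15 i6 i4) (n j15 i6 i5) (p j15 i6 i6) (p j15 i6 i7) (n j15 i6 i0) (n j15 i6 i1) (p j15 i6 i2) (n j15 i6 i3))
  (@T16.mk E (n j15 i11 i12) (p j15 i11 i13) (p j15 i11 i14) (p j15 i11 i15) (n j15 i11 i8) (n j15 i11 i9) (n j15 i11 i10) (p j15 i11 i11) (p j15 i11 i4) (n j15 i11 i5) (n j15 i11 i6) (n j15 i11 i7) (p j15 i11 i0) (p j15 i11 i1) (p j15 i11 i2) (n j15 i11 i3))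
  (@T16.mk E (p j15 i12 i12) (p j15 i12 i13) (p j15 i12 i14) (n j15 i12 i15) (n j15 i12 i8) (p j15 i12 i9) (p j15 i12 i10) (p j15 i12 i11) (p j15 i12 i4) (p j15 i12 i5) (p j15 i12 i6) (n j15 i12 i7) (n j15 i12 i0) (p j15 i12 i1) (p j15 i12 i2) (p j15 i12 i3))
  (@T16.mk E (n j15 i9 i12) (p j15 i9 i13) (n j15 i9 i14) (n j15 i9 i15) (n j15 i9 i8) (n j15 i9 i9) (p j15 i9 i10) (n j15 i9 i11) (p j15 i9 i4) (n j15 i9 i5) (p j15 i9 i6) (p j15 i9 i7) (p j15 i9 i0) (p j15 i9 i1) (n j15 i9 i2) (p j15 i9 i3))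
  (@T16.mk E (p j15 i10 i12) (p j15 i10 i13) (n j15 i10 i14) (p j15 i10 i15) (n j15 i10 i8) (p j15 i10 i9) (n j15 i10 i10) (n j15 i10 i11) (p j15 i10 i4) (p j15 i10 i5) (n j15 i10 i6) (p j15 i10 i7) (n j15 i10 i0) (p j15 i10 i1) (n j15 i10 i2) (n j15 i10 i3))
  (@T16.mk E (p j15 i15 i12) (p j15 i15 i13) (p j15 i15 i14) (n j15 i15 i15) (p j15 i15 i8) (n j15 i15 i9) (n j15 i15 i10) (n j15 i15 i11) (n j15 i15 i4) (n j15 i15 i5) (n j15 i15 i6) (p j15 i15 i7) (n j15 i15 i0) (p j15 i15 i1) (p j15 i15 i2) (p j15 i15 i3))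
  (@T16.mk E (n j16 i0 i12) (p j16 i0 i13) (p j16 i0 i14) (p j16 i0 i15) (p j16 i0 i8) (p j16 i0 i9) (p j16 i0 i10) (n j16 i0 i11) (n j16 i0 i4) (p j16 i0 i5) (p j16 i0 i6) (p j16 i0 i7) (p j16 i0 i0) (p j16 i0 i1) (p j16 i0 i2) (n j16 i0 i3))
  (@T16.mk E (n j15 i13 i12) (n j15 i13 i13) (p j15 i13 i14) (n j15 i13 i15) (n j15 i13 i8) (p j15 i13 i9) (n j15 i13 i10) (n j15 i13 i11) (p j15 i13 i4) (p j15 i13 i5) (n j15 i13 i6) (p j15 i13 i7) (p j15 i13 i0) (n j15 i13 i1) (p j15 i13 i2) (p j15 i13 i3))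
 )
 (@T16.mk (T16 E)
  (@T16.mk E (p j15 i14 i12) (n j15 i14 i13) (p j15 i14 i14) (p j15 i14 i15) (n j15 i14 i8) (n j15 i14 i9) (p j15 i14 i10) (n j15 i14 i11) (p j15 i14 i4) (n j15 i14 i5) (p j15 i14 i6) (p j15 i14 i7) (n j15 i14 i0) (n j15 i14 i1) (p j15 i14 i2) (n j15 i14 i3))
  (@T16.mk E (n j16 i3 i12) (p j16 i3 i13) (p j16 i3 i14) (p j16 i3 i15) (n j16 i3 i8) (n j16 i3 i9) (n j16 i3 i10) (p j16 i3 i11) (p j16 i3 i4) (n j16 i3 i5) (n j16 i3 i6) (n j16 i3 i7) (p j16 i3 i0) (p j16 i3 i1) (p j16 i3 i2) (n j16 i3 i3))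
  (@T16.mk E (p j16 i4 i12) (p j16 i4 i13) (p j16 i4 i14) (n j16 i4 i15) (n j16 i4 i8) (p j16 i4 i9) (p j16 i4 i10) (p j16 i4 i11) (p j16 i4 i4) (p j16 i4 i5) (p j16 i4 i6) (n j16 i4 i7) (n j16 i4 i0) (p j16 i4 i1) (p j16 i4 i2) (p j16 i4 i3))
  (@T16.mk E (n j16 i1 i12) (p j16 i1 i13) (n j16 i1 i14) (n j16 i1 i15) (n j16 i1 i8) (n j16 i1 i9) (p j16 i1 i10) (n j16 i1 i11) (p j16 i1 i4) (n j16 i1 i5) (p j16 i1 i6) (p j16 i1 i7) (p j16 i1 i0) (p j16 i1 i1) (n j16 i1 i2) (p j16 i1 i3))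
  (@T16.mk E (p j16 i2 i12) (p j16 i2 i13) (n j16 i2 i14) (p j16 i2 i15) (n j16 i2 i8) (p j16 i2 i9) (n j16 i2 i10) (n j16 i2 i11) (p j16 i2 i4) (p j16 i2 i5) (n j16 i2 i6) (p j16 i2 i7) (n j16 i2 i0) (p j16 i2 i1) (n j16 i2 i2) (n j16 i2 i3))
  (@T16.mk E (p j16 i7 i12) (n j16 i7 i13) (p j16 i7 i14) (p j16 i7 i15) (p j16 i7 i8) (p j16 i7 i9) (n j16 i7 i10) (p j16 i7 i11) (p j16 i7 i4) (n j16 i7 i5) (p j16 i7 i6) (p j16 i7 i7) (p j16 i7 i0) (p j16 i7 i1) (n j16 i7 i2) (p j16 i7 i3))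
  (@T16.mk E (p j16 i8 i12) (p j16 i8 i13) (n j16 i8 i14) (p j16 i8 i15) (n j16 i8 i8) (p j16 i8 i9) (n j16 i8 i10) (n j16 i8 i11) (n j16 i8 i4) (n j16 i8 i5) (p j16 i8 i6) (n j16 i8 i7) (p j16 i8 i0) (n j16 i8 i1) (p j16 i8 i2) (p j16 i8 i3))
  (@T16.mk E (n j16 i5 i12) (p j16 i5 i13) (p j16 i5 i14) (p j16 i5 i15) (n j16 i5 i8) (n j16 i5 i9) (n j16 i5 i10) (p j16 i5 i11) (n j16 i5 i4) (p j16 i5 i5) (p j16 i5 i6) (p j16 i5 i7) (n j16 i5 i0) (n j16 i5 i1) (n j16 i5 i2) (p j16 i5 i3))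
  (@T16.mk E (n j16 i6 i12) (n j16 i6 i13) (n j16 i6 i14) (p j16 i6 i15) (p j16 i6 i8) (n j16 i6 i9) (n j16 i6 i10) (n j16 i6 i11) (p j16 i6 i4) (p j16 i6 i5) (p j16 i6 i6) (n j16 i6 i7) (n j16 i6 i0) (p j16 i6 i1) (p j16 i6 i2) (p j16 i6 i3))
  (@T16.mk E (p j16 i11 i12) (p j16 i11 i13) (n j16 i11 i14) (p j16 i11 i15) (p j16 i11 i8) (n j16 i11 i9) (p j16 i11 i10) (p j16 i11 i11) (p j16 i11 i4) (p j16 i11 i5) (n j16 i11 i6) (p j16 i11 i7) (p j16 i11 i0) (n j16 i11 i1) (p j16 i11 i2) (p j16 i11 i3))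
  (@T16.mk E (p j16 i12 i12) (n j16 i12 i13) (p j16 i12 i14) (p j16 i12 i15) (n j16 i12 i8) (n j16 i12 i9) (p j16 i12 i10) (n j16 i12 i11) (n j16 i12 i4) (p j16 i12 i5) (n j16 i12 i6) (n j16 i12 i7) (p j16 i12 i0) (p j16 i12 i1) (n j16 i12 i2) (p j16 i12 i3))
  (@T16.mk E (p j16 i9 i12) (p j16 i9 i13) (p j16 i9 i14) (n j16 i9 i15) (p j16 i9 i8) (n j16 i9 i9) (n j16 i9 i10) (n j16 i9 i11) (p j16 i9 i4) (p j16 i9 i5) (p j16 i9 i6) (n j16 i9 i7) (p j16 i9 i0) (n j16 i9 i1) (n j16 i9 i2) (n j16 i9 i3))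
  (@T16.mk E (p j16 i10 i12) (n j16 i10 i13) (n j16 i10 i14) (n j16 i10 i15) (n j16 i10 i8) (n j16 i10 i9) (n j16 i10 i10) (p j16 i10 i11) (n j16 i10 i4) (p j16 i10 i5) (p j16 i10 i6) (p j16 i10 i7) (p j16 i10 i0) (p j16 i10 i1) (p j16 i10 i2) (n j16 i10 i3))
  (@T16.mk E (n j12 i15 i12) (n j12 i15 i13) (n j12 i15 i14) (p j12 i15 i15) (n j12 i15 i8) (p j12 i15 i9) (p j12 i15 i10) (p j12 i15 i11) (n j12 i15 i4) (n j12 i15 i5) (n j12 i15 i6) (p j12 i15 i7) (n j12 i15 i0) (p j12 i15 i1) (p j12 i15 i2) (p j12 i15 i3))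
  (@T16.mk E (n j13 i0 i12) (p j13 i0 i13) (p j13 i0 i14) (p j13 i0 i15) (p j13 i0 i8) (p j13 i0 i9) (p j13 i0 i10) (n j13 i0 i11) (p j13 i0 i4) (n j13 i0 i5) (n j13 i0 i6) (n j13 i0 i7) (n j13 i0 i0) (n j13 i0 i1) (n j13 i0 i2) (p j13 i0 i3))
  (@T16.mk E (p j12 i13 i12) (p j12 i13 i13) (n j12 i13 i14) (p j12 i13 i15) (p j12 i13 i8) (n j12 i13 i9) (p j12 i13 i10) (p j12 i13 i11) (p j12 i13 i4) (p j12 i13 i5) (n j12 i13 i6) (p j12 i13 i7) (p j12 i13 i0) (n j12 i13 i1) (p j12 i13 i2) (p j12 i13 i3))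
 )
 (@T16.mk (T16 E)
  (@T16.mk E (p j12 i14 i12) (n j12 i14 i13) (p j12 i14 i14) (p j12 i14 i15) (n j12 i14 i8) (n j12 i14 i9) (p j12 i14 i10) (n j12 i14 i11) (n j12 i14 i4) (p j12 i14 i5) (n j12 i14 i6) (n j12 i14 i7) (p j12 i14 i0) (p j12 i14 i1) (n j12 i14 i2) (p j12 i14 i3))
  (@T16.mk E (p j13 i3 i12) (n j13 i3 i13) (n j13 i3 i14) (n j13 i3 i15) (p j13 i3 i8) (p j13 i3 i9) (p j13 i3 i10) (n j13 i3 i11) (p j13 i3 i4) (n j13 i3 i5) (n j13 i3 i6) (n j13 i3 i7) (p j13 i3 i0) (p j13 i3 i1) (p j13 i3 i2) (n j13 i3 i3))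
  (@T16.mk E (p j13 i4 i12) (p j13 i4 i13) (p j13 i4 i14) (n j13 i4 i15) (n j13 i4 i8) (p j13 i4 i9) (p j13 i4 i10) (p j13 i4 i11) (n j13 i4 i4) (n j13 i4 i5) (n j13 i4 i6) (p j13 i4 i7) (p j13 i4 i0) (n j13 i4 i1) (n j13 i4 i2) (n j13 i4 i3))
  (@T16.mk E (p j13 i1 i12) (n j13 i1 i13) (p j13 i1 i14) (p j13 i1 i15) (p j13 i1 i8) (p j13 i1 i9) (n j13 i1 i10) (p j13 i1 i11) (p j13 i1 i4) (n j13 i1 i5) (p j13 i1 i6) (p j13 i1 i7) (p j13 i1 i0) (p j13 i1 i1) (n j13 i1 i2) (p j13 i1 i3))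
  (@T16.mk E (p j13 i2 i12) (p j13 i2 i13) (n j13 i2 i14) (p j13 i2 i15) (n j13 i2 i8) (p j13 i2 i9) (n j13 i2 i10) (n j13 i2 i11) (n j13 i2 i4) (n j13 i2 i5) (p j13 i2 i6) (n j13 i2 i7) (p j13 i2 i0) (n j13 i2 i1) (p j13 i2 i2) (p j13 i2 i3))
  (@T16.mk E (p j13 i7 i12) (n j13 i7 i13) (p j13 i7 i14) (p j13 i7 i15) (p j13 i7 i8) (p j13 i7 i9) (n j13 i7 i10) (p j13 i7 i11) (n j13 i7 i4) (p j13 i7 i5) (n j13 i7 i6) (n j13 i7 i7) (n j13 i7 i0) (n j13 i7 i1) (p j13 i7 i2) (n j13 i7 i3))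
  (@T16.mk E (n j13 i8 i12) (n j13 i8 i13) (p j13 i8 i14) (n j13 i8 i15) (p j13 i8 i8) (n j13 i8 i9) (p j13 i8 i10) (p j13 i8 i11) (n j13 i8 i4) (n j13 i8 i5) (p j13 i8 i6) (n j13 i8 i7) (p j13 i8 i0) (n j13 i8 i1) (p j13 i8 i2) (p j13 i8 i3))
  (@T16.mk E (n j13 i5 i12) (p j13 i5 i13) (p j13 i5 i14) (p j13 i5 i15) (n j13 i5 i8) (n j13 i5 i9) (n j13 i5 i10) (p j13 i5 i11) (p j13 i5 i4) (n j13 i5 i5) (n j13 i5 i6) (n j13 i5 i7) (p j13 i5 i0) (p j13 i5 i1) (p j13 i5 i2) (n j13 i5 i3))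
  (@T16.mk E (p j13 i6 i12) (p j13 i6 i13) (p j13 i6 i14) (n j13 i6 i15) (n j13 i6 i8) (p j13 i6 i9) (p j13 i6 i10) (p j13 i6 i11) (p j13 i6 i4) (p j13 i6 i5) (p j13 i6 i6) (n j13 i6 i7) (n j13 i6 i0) (p j13 i6 i1) (p j13 i6 i2) (p j13 i6 i3))
  (@T16.mk E (p j13 i11 i12) (p j13 i11 i13) (n j13 i11 i14) (p j13 i11 i15) (p j13 i11 i8) (n j13 i11 i9) (p j13 i11 i10) (p j13 i11 i11) (n j13 i11 i4) (n j13 i11 i5) (p j13 i11 i6) (n j13 i11 i7) (n j13 i11 i0) (p j13 i11 i1) (n j13 i11 i2) (n j13 i11 i3))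
  (@T16.mk E (n j13 i12 i12) (p j13 i12 i13) (n j13 i12 i14) (n j13 i12 i15) (p j13 i12 i8) (p j13 i12 i9) (n j13 i12 i10) (p j13 i12 i11) (n j13 i12 i4) (p j13 i12 i5) (n j13 i12 i6) (n j13 i12 i7) (p j13 i12 i0) (p j13 i12 i1) (n j13 i12 i2) (p j13 i12 i3))
  (@T16.mk E (p j13 i9 i12) (p j13 i9 i13) (p j13 i9 i14) (n j13 i9 i15) (p j13 i9 i8) (n j13 i9 i9) (n j13 i9 i10) (n j13 i9 i11) (n j13 i9 i4) (n j13 i9 i5) (n j13 i9 i6) (p j13 i9 i7) (n j13 i9 i0) (p j13 i9 i1) (p j13 i9 i2) (p j13 i9 i3))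
  (@T16.mk E (n j13 i10 i12) (p j13 i10 i13) (p j13 i10 i14) (p j13 i10 i15) (p j13 i10 i8) (p j13 i10 i9) (p j13 i10 i10) (n j13 i10 i11) (n j13 i10 i4) (p j13 i10 i5) (p j13 i10 i6) (p j13 i10 i7) (p j13 i10 i0) (p j13 i10 i1) (p j13 i10 i2) (n j13 i10 i3))
  (@T16.mk E (p j13 i15 i12) (n j13 i15 i13) (p j13 i15 i14) (p j13 i15 i15) (p j13 i15 i8) (p j13 i15 i9) (n j13 i15 i10) (p j13 i15 i11) (n j13 i15 i4) (p j13 i15 i5) (n j13 i15 i6) (n j13 i15 i7) (n j13 i15 i0) (n j13 i15 i1) (p j13 i15 i2) (n j13 i15 i3))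
  (@T16.mk E (n j14 i0 i12) (n j14 i0 i13) (p j14 i0 i14) (n j14 i0 i15) (p j14 i0 i8) (n j14 i0 i9) (p j14 i0 i10) (p j14 i0 i11) (n j14 i0 i4) (n j14 i0 i5) (p j14 i0 i6) (n j14 i0 i7) (p j14 i0 i0) (n j14 i0 i1) (p j14 i0 i2) (p j14 i0 i3))
  (@T16.mk E (n j13 i13 i12) (p j13 i13 i13) (p j13 i13 i14) (p j13 i13 i15) (n j13 i13 i8) (n j13 i13 i9) (n j13 i13 i10) (p j13 i13 i11) (p j13 i13 i4) (n j13 i13 i5) (n j13 i13 i6) (n j13 i13 i7) (p j13 i13 i0) (p j13 i13 i1) (p j13 i13 i2) (n j13 i13 i3))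
 )
 (@T16.mk (T16 E)
  (@T16.mk E (p j13 i14 i12) (p j13 i14 i13) (p j13 i14 i14) (n j13 i14 i15) (n j13 i14 i8) (p j13 i14 i9) (p j13 i14 i10) (p j13 i14 i11) (p j13 i14 i4) (p j13 i14 i5) (p j13 i14 i6) (n j13 i14 i7) (n j13 i14 i0) (p j13 i14 i1) (p j13 i14 i2) (p j13 i14 i3))
  (@T16.mk E (p j14 i3 i12) (p j14 i3 i13) (n j14 i3 i14) (p j14 i3 i15) (p j14 i3 i8) (n j14 i3 i9) (p j14 i3 i10) (p j14 i3 i11) (n j14 i3 i4) (n j14 i3 i5) (p j14 i3 i6) (n j14 i3 i7) (n j14 i3 i0) (p j14 i3 i1) (n j14 i3 i2) (n j14 i3 i3))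
  (@T16.mk E (n j14 i4 i12) (p j14 i4 i13) (n j14 i4 i14) (n j14 i4 i15) (p j14 i4 i8) (p j14 i4 i9) (n j14 i4 i10) (p j14 i4 i11) (n j14 i4 i4) (p j14 i4 i5) (n j14 i4 i6) (n j14 i4 i7) (p j14 i4 i0) (p j14 i4 i1) (n j14 i4 i2) (p j14 i4 i3))
  (@T16.mk E (p j14 i1 i12) (p j14 i1 i13) (p j14 i1 i14) (n j14 i1 i15) (p j14 i1 i8) (n j14 i1 i9) (n j14 i1 i10) (n j14 i1 i11) (n j14 i1 i4) (n j14 i1 i5) (n j14 i1 i6) (p j14 i1 i7) (n j14 i1 i0) (p j14 i1 i1) (p j14 i1 i2) (p j14 i1 i3))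
  (@T16.mk E (n j14 i2 i12) (p j14 i2 i13) (p j14 i2 i14) (p j14 i2 i15) (p j14 i2 i8) (p j14 i2 i9) (p j14 i2 i10) (n j14 i2 i11) (n j14 i2 i4) (p j14 i2 i5) (p j14 i2 i6) (p j14 i2 i7) (p j14 i2 i0) (p j14 i2 i1) (p j14 i2 i2) (n j14 i2 i3))
  (@T16.mk E (n j14 i7 i12) (n j14 i7 i13) (n j14 i7 i14) (p j14 i7 i15) (n j14 i7 i8) (p j14 i7 i9) (p j14 i7 i10) (p j14 i7 i11) (n j14 i7 i4) (n j14 i7 i5) (n j14 i7 i6) (p j14 i7 i7) (n j14 i7 i0) (p j14 i7 i1) (p j14 i7 i2) (p j14 i7 i3))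
  (@T16.mk E (n j14 i8 i12) (p j14 i8 i13) (p j14 i8 i14) (p j14 i8 i15) (p j14 i8 i8) (p j14 i8 i9) (p j14 i8 i10) (n j14 i8 i11) (p j14 i8 i4) (n j14 i8 i5) (n j14 i8 i6) (n j14 i8 i7) (n j14 i8 i0) (n j14 i8 i1) (n j14 i8 i2) (p j14 i8 i3))
  (@T16.mk E (p j14 i5 i12) (p j14 i5 i13) (n j14 i5 i14) (p j14 i5 i15) (p j14 i5 i8) (n j14 i5 i9) (p j14 i5 i10) (p j14 i5 i11) (p j14 i5 i4) (p j14 i5 i5) (n j14 i5 i6) (p j14 i5 i7) (p j14 i5 i0) (n j14 i5 i1) (p j14 i5 i2) (p j14 i5 i3))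
  (@T16.mk E (p j14 i6 i12) (n j14 i6 i13) (p j14 i6 i14) (p j14 i6 i15) (n j14 i6 i8) (n j14 i6 i9) (p j14 i6 i10) (n j14 i6 i11) (n j14 i6 i4) (p j14 i6 i5) (n j14 i6 i6) (n j14 i6 i7) (p j14 i6 i0) (p j14 i6 i1) (n j14 i6 i2) (p j14 i6 i3))
  (@T16.mk E (p j14 i11 i12) (n j14 i11 i13) (n j14 i11 i14) (n j14 i11 i15) (p j14 i11 i8) (p j14 i11 i9) (p j14 i11 i10) (n j14 i11 i11) (p j14 i11 i4) (n j14 i11 i5) (n j14 i11 i6) (n j14 i11 i7) (p j14 i11 i0) (p j14 i11 i1) (p j14 i11 i2) (n j14 i11 i3))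
  (@T16.mk E (p j14 i12 i12) (p j14 i12 i13) (p j14 i12 i14) (n j14 i12 i15) (n j14 i12 i8) (p j14 i12 i9) (p j14 i12 i10) (p j14 i12 i11) (n j14 i12 i4) (n j14 i12 i5) (n j14 i12 i6) (p j14 i12 i7) (p j14 i12 i0) (n j14 i12 i1) (n j14 i12 i2) (n j14 i12 i3))
  (@T16.mk E (p j14 i9 i12) (n j14 i9 i13) (p j14 i9 i14) (p j14 i9 i15) (p j14 i9 i8) (p j14 i9 i9) (n j14 i9 i10) (p j14 i9 i11) (p j14 i9 i4) (n j14 i9 i5) (p j14 i9 i6) (p j14 i9 i7) (p j14 i9 i0) (p j14 i9 i1) (n j14 i9 i2) (p j14 i9 i3))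
  (@T16.mk E (p j14 i10 i12) (p j14 i10 i13) (n j14 i10 i14) (p j14 i10 i15) (n j14 i10 i8) (p j14 i10 i9) (n j14 i10 i10) (n j14 i10 i11) (n j14 i10 i4) (n j14 i10 i5) (p j14 i10 i6) (n j14 i10 i7) (p j14 i10 i0) (n j14 i10 i1) (p j14 i10 i2) (p j14 i10 i3))
  (@T16.mk E (p j16 i13 i0) (p j16 i13 i1) (n j16 i13 i2) (n j16 i13 i3) (p j16 i13 i4) (n j16 i13 i5) (p j16 i13 i6) (p j16 i13 i7) (p j16 i13 i8) (n j16 i13 i9) (p j16 i13 i10) (n j16 i13 i11) (p j16 i13 i12) (p j16 i13 i13) (p j16 i13 i14) (p j16 i13 i15))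
  (@T16.mk E (p j16 i14 i0) (p j16 i14 i1) (n j16 i14 i2) (p j16 i14 i3) (n j16 i14 i4) (p j16 i14 i5) (n j16 i14 i6) (p j16 i14 i7) (n j16 i15 i14) (n j16 i15 i15) (p j16 i14 i10) (n j17 i0 i1) (p j16 i14 i12) (p j16 i14 i13) (p j16 i14 i14) (n j17 i0 i5))
  (@T16.mk E (p j16 i15 i0) (n j17 i0 i7) (p j16 i15 i2) (p j16 i15 i3) (p j16 i15 i4) (p j16 i15 i5) (p j16 i15 i6) (p j16 i15 i7) (n j17 i0 i14) (p j16 i15 i9) (n j17 i1 i0) (p j16 i15 i11) (n j17 i1 i2) (p j16 i15 i13) (n j16 i14 i8) (n j16 i14 i9))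
 )
 (@T16.mk (T16 E)
  (@T16.mk E (p j17 i0 i0) (n j16 i14 i11) (p j17 i0 i2) (p j17 i0 i3) (p j17 i0 i4) (n j16 i14 i15) (p j17 i0 i6) (n j16 i15 i1) (p j17 i0 i8) (p j17 i0 i9) (p j17 i0 i10) (p j17 i0 i11) (p j17 i0 i12) (p j17 i0 i13) (n j16 i15 i8) (p j17 i0 i15))
  (@T16.mk E (n j16 i15 i10) (p j17 i1 i1) (n j16 i15 i12) (p j17 i1 i3) (p j17 i1 i4) (p j17 i1 i5) (p j17 i1 i6) (p j17 i1 i7) (p j17 i1 i8) (p j17 i1 i9) (p j17 i1 i10) (p j17 i1 i11) (p j17 i1 i12) (p j17 i1 i13) (p j17 i1 i14) (p j17 i1 i15))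
  (@T16.mk E (p j17 i2 i0) (p j17 i2 i1) (p j17 i2 i2) (p j17 i2 i3) (p j17 i2 i4) (p j17 i2 i5) (p j17 i2 i6) (p j17 i2 i7) (p j17 i2 i8) (p j17 i2 i9) (p j17 i2 i10) (p j17 i2 i11) (p j17 i2 i12) (p j17 i2 i13) (p j17 i2 i14) (p j17 i2 i15))
  (@T16.mk E (p j17 i3 i0) (p j17 i3 i1) (p j17 i3 i2) (p j17 i3 i3) (p j17 i3 i4) (p j17 i3 i5) (p j17 i3 i6) (p j17 i3 i7) (p j17 i3 i8) (p j17 i3 i9) (p j17 i3 i10) (p j17 i3 i11) (p j17 i3 i12) (p j17 i3 i13) (p j17 i3 i14) (p j17 i3 i15))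
  (@T16.mk E (p j17 i4 i0) (p j17 i4 i1) (p j17 i4 i2) (p j17 i4 i3) (p j17 i4 i4) (p j17 i4 i5) (p j17 i4 i6) (p j17 i4 i7) (p j17 i4 i8) (p j17 i4 i9) (p j17 i4 i10) (p j17 i4 i11) (p j17 i4 i12) (p j17 i4 i13) (p j17 i4 i14) (p j17 i4 i15))
  (@T16.mk E (p j17 i5 i0) (p j17 i5 i1) (p j17 i5 i2) (p j17 i5 i3) (p j17 i5 i4) (p j17 i5 i5) (p j17 i5 i6) (p j17 i5 i7) (p j17 i5 i8) (p j17 i5 i9) (p j17 i5 i10) (p j17 i5 i11) (p j17 i5 i12) (p j17 i5 i13) (p j17 i5 i14) (p j17 i5 i15))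
  (@T16.mk E (p j17 i6 i0) (p j17 i6 i1) (p j17 i6 i2) (p j17 i6 i3) (p j17 i6 i4) (p j17 i6 i5) (p j17 i6 i6) (p j17 i6 i7) (p j17 i6 i8) (p j17 i6 i9) (p j17 i6 i10) (p j17 i6 i11) (p j17 i6 i12) (p j17 i6 i13) (p j17 i6 i14) (p j17 i6 i15))
  (@T16.mk E (p j17 i7 i0) (p j17 i7 i1) (p j17 i7 i2) (p j17 i7 i3) (p j17 i7 i4) (p j17 i7 i5) (p j17 i7 i6) (p j17 i7 i7) (p j17 i7 i8) (p j17 i7 i9) (p j17 i7 i10) (p j17 i7 i11) (p j17 i7 i12) (p j17 i7 i13) (p j17 i7 i14) (p j17 i7 i15))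
  (@T16.mk E (p j17 i8 i0) (p j17 i8 i1) (p j17 i8 i2) (p j17 i8 i3) (p j17 i8 i4) (p j17 i8 i5) (p j17 i8 i6) (p j17 i8 i7) (p j17 i8 i8) (p j17 i8 i9) (p j17 i8 i10) (p j17 i8 i11) (p j17 i8 i12) (p j17 i8 i13) (p j17 i8 i14) (p j17 i8 i15))
  (@T16.mk E (p j17 i9 i0) (p j17 i9 i1) (p j17 i9 i2) (p j17 i9 i3) (p j17 i9 i4) (p j17 i9 i5) (p j17 i9 i6) (p j17 i9 i7) (p j17 i9 i8) (p j17 i9 i9) (p j17 i9 i10) (p j17 i9 i11) (p j17 i9 i12) (p j17 i9 i13) (p j17 i9 i14) (p j17 i9 i15))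
  (@T16.mk E (p j17 i10 i0) (p j17 i10 i1) (p j17 i10 i2) (p j17 i10 i3) (p j17 i10 i4) (p j17 i10 i5) (p j17 i10 i6) (p j17 i10 i7) (p j17 i10 i8) (p j17 i10 i9) (p j17 i10 i10) (p j17 i10 i11) (p j17 i10 i12) (p j17 i10 i13) (p j17 i10 i14) (p j17 i10 i15))
  (@T16.mk E (p j17 i11 i0) (p j17 i11 i1) (p j17 i11 i2) (p j17 i11 i3) (p j17 i11 i4) (p j17 i11 i5) (p j17 i11 i6) (p j17 i11 i7) (p j17 i11 i8) (p j17 i11 i9) (p j17 i11 i10) (p j17 i11 i11) (p j17 i11 i12) (p j17 i11 i13) (p j17 i11 i14) (p j17 i11 i15))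
  (@T16.mk E (p j17 i12 i0) (p j17 i12 i1) (p j17 i12 i2) (p j17 i12 i3) (p j17 i12 i4) (p j17 i12 i5) (p j17 i12 i6) (p j17 i12 i7) (p j17 i12 i8) (p j17 i12 i9) (p j17 i12 i10) (p j17 i12 i11) (p j17 i12 i12) (p j17 i12 i13) (p j17 i12 i14) (p j17 i12 i15))
  (@T16.mk E (p j17 i13 i0) (p j17 i13 i1) (p j17 i13 i2) (p j17 i13 i3) (p j17 i13 i4) (p j17 i13 i5) (p j17 i13 i6) (p j17 i13 i7) (p j17 i13 i8) (p j17 i13 i9) (p j17 i13 i10) (p j17 i13 i11) (p j17 i13 i12) (p j17 i13 i13) (p j17 i13 i14) (p j17 i13 i15))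
  (@T16.mk E (p j17 i14 i0) (p j17 i14 i1) (p j17 i14 i2) (p j17 i14 i3) (p j17 i14 i4) (p j17 i14 i5) (p j17 i14 i6) (p j17 i14 i7) (p j17 i14 i8) (p j17 i14 i9) (p j17 i14 i10) (p j17 i14 i11) (p j17 i14 i12) (p j17 i14 i13) (p j17 i14 i14) (p j17 i14 i15))
  (@T16.mk E (p j17 i15 i0) (p j17 i15 i1) (p j17 i15 i2) (p j17 i15 i3) (p j17 i15 i4) (p j17 i15 i5) (p j17 i15 i6) (p j17 i15 i7) (p j17 i15 i8) (p j17 i15 i9) (p j17 i15 i10) (p j17 i15 i11) (p j17 i15 i12) (p j17 i15 i13) (p j17 i15 i14) (p j17 i15 i15))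
 )
theorem tb25_ok : okTab tb25 = true := by decide +kernel
noncomputable def cd25 (s : St) : St :=
@T18.mk (T16 (T16 R))
 (@T16.mk (T16 R)
  (@T16.mk R s.1.1.1 s.1.1.2 (R.mk s.1.1.3.2 s.1.1.3.1) s.1.1.4 (R.mk s.1.1.5.2 s.1.1.5.1) s.1.1.6 (R.mk s.1.1.7.2 s.1.1.7.1) (R.mk s.1.1.8.2 s.1.1.8.1) (R.mk s.1.1.9.2 s.1.1.9.1) s.1.1.10 (R.mk s.1.1.11.2 s.1.1.11.1) (R.mk s.1.1.12.2 s.1.1.12.1) (R.mk s.1.1.13.2 s.1.1.13.1) (R.mk s.1.1.14.2 s.1.1.14.1) s.1.1.15 (R.mk s.1.1.16.2 s.1.1.16.1))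
  (@T16.mk R (R.mk s.1.2.1.2 s.1.2.1.1) (R.mk s.1.2.2.2 s.1.2.2.1) (R.mk s.1.2.3.2 s.1.2.3.1) s.1.2.4 s.1.2.5 (R.mk s.1.2.6.2 s.1.2.6.1) (R.mk s.1.2.7.2 s.1.2.7.1) (R.mk s.1.2.8.2 s.1.2.8.1) (R.mk s.1.2.9.2 s.1.2.9.1) s.1.2.10 s.1.2.11 s.1.2.12 (R.mk s.1.2.13.2 s.1.2.13.1) (R.mk s.1.2.14.2 s.1.2.14.1) (R.mk s.1.2.15.2 s.1.2.15.1) s.1.2.16)
  (@T16.mk R (R.mk s.1.3.1.2 s.1.3.1.1) s.1.3.2 (R.mk s.1.3.3.2 s.1.3.3.1) (R.mk s.1.3.4.2 s.1.3.4.1) s.1.3.5 s.1.3.6 (R.mk s.1.3.7.2 s.1.3.7.1) s.1.3.8 s.1.3.9 s.1.3.10 (R.mk s.1.3.11.2 s.1.3.11.1) s.1.3.12 s.1.3.13 (R.mk s.1.3.14.2 s.1.3.14.1) s.1.3.15 s.1.3.16)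
  (@T16.mk R (R.mk s.1.4.1.2 s.1.4.1.1) s.1.4.2 s.1.4.3 s.1.4.4 s.1.4.5 s.1.4.6 s.1.4.7 (R.mk s.1.4.8.2 s.1.4.8.1) (R.mk s.1.4.9.2 s.1.4.9.1) (R.mk s.1.4.10.2 s.1.4.10.1) (R.mk s.1.4.11.2 s.1.4.11.1) s.1.4.12 (R.mk s.1.4.13.2 s.1.4.13.1) s.1.4.14 s.1.4.15 s.1.4.16)
  (@T16.mk R s.1.5.1 s.1.5.2 s.1.5.3 (R.mk s.1.5.4.2 s.1.5.4.1) (R.mk s.1.5.5.2 s.1.5.5.1) s.1.5.6 s.1.5.7 s.1.5.8 s.1.5.9 (R.mk s.1.5.10.2 s.1.5.10.1) (R.mk s.1.5.11.2 s.1.5.11.1) (R.mk s.1.5.12.2 s.1.5.12.1) s.1.5.13 s.1.5.14 s.1.5.15 (R.mk s.1.5.16.2 s.1.5.16.1))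
  (@T16.mk R (R.mk s.1.6.1.2 s.1.6.1.1) (R.mk s.1.6.2.2 s.1.6.2.1) s.1.6.3 (R.mk s.1.6.4.2 s.1.6.4.1) s.1.6.5 (R.mk s.1.6.6.2 s.1.6.6.1) s.1.6.7 s.1.6.8 s.1.6.9 (R.mk s.1.6.10.2 s.1.6.10.1) s.1.6.11 s.1.6.12 s.1.6.13 s.1.6.14 (R.mk s.1.6.15.2 s.1.6.15.1) s.1.6.16)
  (@T16.mk R (R.mk s.1.7.1.2 s.1.7.1.1) s.1.7.2 s.1.7.3 s.1.7.4 s.1.7.5 s.1.7.6 s.1.7.7 (R.mk s.1.7.8.2 s.1.7.8.1) (R.mk s.1.7.9.2 s.1.7.9.1) (R.mk s.1.7.10.2 s.1.7.10.1) (R.mk s.1.7.11.2 s.1.7.11.1) s.1.7.12 (R.mk s.1.7.13.2 s.1.7.13.1) s.1.7.14 s.1.7.15 s.1.7.16)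
  (@T16.mk R (R.mk s.1.8.1.2 s.1.8.1.1) s.1.8.2 (R.mk s.1.8.3.2 s.1.8.3.1) (R.mk s.1.8.4.2 s.1.8.4.1) s.1.8.5 s.1.8.6 (R.mk s.1.8.7.2 s.1.8.7.1) s.1.8.8 s.1.8.9 s.1.8.10 (R.mk s.1.8.11.2 s.1.8.11.1) s.1.8.12 s.1.8.13 (R.mk s.1.8.14.2 s.1.8.14.1) s.1.8.15 s.1.8.16)
  (@T16.mk R s.1.9.1 (R.mk s.1.9.2.2 s.1.9.2.1) (R.mk s.1.9.3.2 s.1.9.3.1) (R.mk s.1.9.4.2 s.1.9.4.1) (R.mk s.1.9.5.2 s.1.9.5.1) (R.mk s.1.9.6.2 s.1.9.6.1) (R.mk s.1.9.7.2 s.1.9.7.1) s.1.9.8 (R.mk s.1.9.9.2 s.1.9.9.1) (R.mk s.1.9.10.2 s.1.9.10.1) (R.mk s.1.9.11.2 s.1.9.11.1) s.1.9.12 (R.mk s.1.9.13.2 s.1.9.13.1) s.1.9.14 s.1.9.15 s.1.9.16)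
  (@T16.mk R (R.mk s.1.10.1.2 s.1.10.1.1) s.1.10.2 (R.mk s.1.10.3.2 s.1.10.3.1) (R.mk s.1.10.4.2 s.1.10.4.1) s.1.10.5 s.1.10.6 (R.mk s.1.10.7.2 s.1.10.7.1) s.1.10.8 (R.mk s.1.10.9.2 s.1.10.9.1) (R.mk s.1.10.10.2 s.1.10.10.1) s.1.10.11 (R.mk s.1.10.12.2 s.1.10.12.1) (R.mk s.1.10.13.2 s.1.10.13.1) s.1.10.14 (R.mk s.1.10.15.2 s.1.10.15.1) (R.mk s.1.10.16.2 s.1.10.16.1))
  (@T16.mk R s.1.11.1 s.1.11.2 s.1.11.3 (R.mk s.1.11.4.2 s.1.11.4.1) (R.mk s.1.11.5.2 s.1.11.5.1) s.1.11.6 s.1.11.7 s.1.11.8 (R.mk s.1.11.9.2 s.1.11.9.1) s.1.11.10 s.1.11.11 s.1.11.12 (R.mk s.1.11.13.2 s.1.11.13.1) (R.mk s.1.11.14.2 s.1.11.14.1) (R.mk s.1.11.15.2 s.1.11.15.1) s.1.11.16)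
  (@T16.mk R s.1.12.1 s.1.12.2 (R.mk s.1.12.3.2 s.1.12.3.1) s.1.12.4 (R.mk s.1.12.5.2 s.1.12.5.1) s.1.12.6 (R.mk s.1.12.7.2 s.1.12.7.1) (R.mk s.1.12.8.2 s.1.12.8.1) s.1.12.9 (R.mk s.1.12.10.2 s.1.12.10.1) s.1.12.11 s.1.12.12 s.1.12.13 s.1.12.14 (R.mk s.1.12.15.2 s.1.12.15.1) s.1.12.16)
  (@T16.mk R s.1.13.1 (R.mk s.1.13.2.2 s.1.13.2.1) s.1.13.3 s.1.13.4 (R.mk s.1.13.5.2 s.1.13.5.1) (R.mk s.1.13.6.2 s.1.13.6.1) s.1.13.7 (R.mk s.1.13.8.2 s.1.13.8.1) s.1.13.9 s.1.13.10 (R.mk s.1.13.11.2 s.1.13.11.1) s.1.13.12 s.1.13.13 (R.mk s.1.13.14.2 s.1.13.14.1) s.1.13.15 s.1.13.16)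
  (@T16.mk R (R.mk s.1.14.1.2 s.1.14.1.1) s.1.14.2 s.1.14.3 s.1.14.4 s.1.14.5 s.1.14.6 s.1.14.7 (R.mk s.1.14.8.2 s.1.14.8.1) s.1.14.9 s.1.14.10 s.1.14.11 (R.mk s.1.14.12.2 s.1.14.12.1) s.1.14.13 (R.mk s.1.14.14.2 s.1.14.14.1) (R.mk s.1.14.15.2 s.1.14.15.1) (R.mk s.1.14.16.2 s.1.14.16.1))
  (@T16.mk R s.1.15.1 s.1.15.2 (R.mk s.1.15.3.2 s.1.15.3.1) s.1.15.4 (R.mk s.1.15.5.2 s.1.15.5.1) s.1.15.6 (R.mk s.1.15.7.2 s.1.15.7.1) (R.mk s.1.15.8.2 s.1.15.8.1) s.1.15.9 (R.mk s.1.15.10.2 s.1.15.10.1) s.1.15.11 s.1.15.12 s.1.15.13 s.1.15.14 (R.mk s.1.15.15.2 s.1.15.15.1) s.1.15.16)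
  (@T16.mk R s.1.16.1 s.1.16.2 s.1.16.3 (R.mk s.1.16.4.2 s.1.16.4.1) (R.mk s.1.16.5.2 s.1.16.5.1) s.1.16.6 s.1.16.7 s.1.16.8 (R.mk s.1.16.9.2 s.1.16.9.1) s.1.16.10 s.1.16.11 s.1.16.12 (R.mk s.1.16.13.2 s.1.16.13.1) (R.mk s.1.16.14.2 s.1.16.14.1) (R.mk s.1.16.15.2 s.1.16.15.1) s.1.16.16)
 )
 (@T16.mk (T16 R)
  (@T16.mk R (R.mk s.2.1.1.2 s.2.1.1.1) s.2.1.2 s.2.1.3 s.2.1.4 s.2.1.5 s.2.1.6 s.2.1.7 (R.mk s.2.1.8.2 s.2.1.8.1) (R.mk s.2.1.9.2 s.2.1.9.1) (R.mk s.2.1.10.2 s.2.1.10.1) (R.mk s.2.1.11.2 s.2.1.11.1) s.2.1.12 (R.mk s.2.1.13.2 s.2.1.13.1) s.2.1.14 s.2.1.15 s.2.1.16)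
  (@T16.mk R (R.mk s.2.2.1.2 s.2.2.1.1) s.2.2.2 (R.mk s.2.2.3.2 s.2.2.3.1) (R.mk s.2.2.4.2 s.2.2.4.1) s.2.2.5 s.2.2.6 (R.mk s.2.2.7.2 s.2.2.7.1) s.2.2.8 s.2.2.9 s.2.2.10 (R.mk s.2.2.11.2 s.2.2.11.1) s.2.2.12 s.2.2.13 (R.mk s.2.2.14.2 s.2.2.14.1) s.2.2.15 s.2.2.16)
  (@T16.mk R (R.mk s.2.3.1.2 s.2.3.1.1) (R.mk s.2.3.2.2 s.2.3.2.1) (R.mk s.2.3.3.2 s.2.3.3.1) s.2.3.4 s.2.3.5 (R.mk s.2.3.6.2 s.2.3.6.1) (R.mk s.2.3.7.2 s.2.3.7.1) (R.mk s.2.3.8.2 s.2.3.8.1) (R.mk s.2.3.9.2 s.2.3.9.1) s.2.3.10 s.2.3.11 s.2.3.12 (R.mk s.2.3.13.2 s.2.3.13.1) (R.mk s.2.3.14.2 s.2.3.14.1) (R.mk s.2.3.15.2 s.2.3.15.1) s.2.3.16)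
  (@T16.mk R s.2.4.1 s.2.4.2 (R.mk s.2.4.3.2 s.2.4.3.1) s.2.4.4 (R.mk s.2.4.5.2 s.2.4.5.1) s.2.4.6 (R.mk s.2.4.7.2 s.2.4.7.1) (R.mk s.2.4.8.2 s.2.4.8.1) (R.mk s.2.4.9.2 s.2.4.9.1) s.2.4.10 (R.mk s.2.4.11.2 s.2.4.11.1) (R.mk s.2.4.12.2 s.2.4.12.1) (R.mk s.2.4.13.2 s.2.4.13.1) (R.mk s.2.4.14.2 s.2.4.14.1) s.2.4.15 (R.mk s.2.4.16.2 s.2.4.16.1))
  (@T16.mk R (R.mk s.2.5.1.2 s.2.5.1.1) s.2.5.2 (R.mk s.2.5.3.2 s.2.5.3.1) (R.mk s.2.5.4.2 s.2.5.4.1) s.2.5.5 s.2.5.6 (R.mk s.2.5.7.2 s.2.5.7.1) s.2.5.8 s.2.5.9 s.2.5.10 (R.mk s.2.5.11.2 s.2.5.11.1) s.2.5.12 s.2.5.13 (R.mk s.2.5.14.2 s.2.5.14.1) s.2.5.15 s.2.5.16)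
  (@T16.mk R (R.mk s.2.6.1.2 s.2.6.1.1) s.2.6.2 s.2.6.3 s.2.6.4 s.2.6.5 s.2.6.6 s.2.6.7 (R.mk s.2.6.8.2 s.2.6.8.1) (R.mk s.2.6.9.2 s.2.6.9.1) (R.mk s.2.6.10.2 s.2.6.10.1) (R.mk s.2.6.11.2 s.2.6.11.1) s.2.6.12 (R.mk s.2.6.13.2 s.2.6.13.1) s.2.6.14 s.2.6.15 s.2.6.16)
  (@T16.mk R (R.mk s.2.7.1.2 s.2.7.1.1) (R.mk s.2.7.2.2 s.2.7.2.1) s.2.7.3 (R.mk s.2.7.4.2 s.2.7.4.1) s.2.7.5 (R.mk s.2.7.6.2 s.2.7.6.1) s.2.7.7 s.2.7.8 s.2.7.9 (R.mk s.2.7.10.2 s.2.7.10.1) s.2.7.11 s.2.7.12 s.2.7.13 s.2.7.14 (R.mk s.2.7.15.2 s.2.7.15.1) s.2.7.16)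
  (@T16.mk R s.2.8.1 s.2.8.2 s.2.8.3 (R.mk s.2.8.4.2 s.2.8.4.1) (R.mk s.2.8.5.2 s.2.8.5.1) s.2.8.6 s.2.8.7 s.2.8.8 s.2.8.9 (R.mk s.2.8.10.2 s.2.8.10.1) (R.mk s.2.8.11.2 s.2.8.11.1) (R.mk s.2.8.12.2 s.2.8.12.1) s.2.8.13 s.2.8.14 s.2.8.15 (R.mk s.2.8.16.2 s.2.8.16.1))
  (@T16.mk R s.2.9.1 s.2.9.2 (R.mk s.2.9.3.2 s.2.9.3.1) s.2.9.4 (R.mk s.2.9.5.2 s.2.9.5.1) s.2.9.6 (R.mk s.2.9.7.2 s.2.9.7.1) (R.mk s.2.9.8.2 s.2.9.8.1) s.2.9.9 (R.mk s.2.9.10.2 s.2.9.10.1) s.2.9.11 s.2.9.12 s.2.9.13 s.2.9.14 (R.mk s.2.9.15.2 s.2.9.15.1) s.2.9.16)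
  (@T16.mk R s.2.10.1 s.2.10.2 s.2.10.3 (R.mk s.2.10.4.2 s.2.10.4.1) (R.mk s.2.10.5.2 s.2.10.5.1) s.2.10.6 s.2.10.7 s.2.10.8 (R.mk s.2.10.9.2 s.2.10.9.1) s.2.10.10 s.2.10.11 s.2.10.12 (R.mk s.2.10.13.2 s.2.10.13.1) (R.mk s.2.10.14.2 s.2.10.14.1) (R.mk s.2.10.15.2 s.2.10.15.1) s.2.10.16)
  (@T16.mk R (R.mk s.2.11.1.2 s.2.11.1.1) s.2.11.2 (R.mk s.2.11.3.2 s.2.11.3.1) (R.mk s.2.11.4.2 s.2.11.4.1) s.2.11.5 s.2.11.6 (R.mk s.2.11.7.2 s.2.11.7.1) s.2.11.8 (R.mk s.2.11.9.2 s.2.11.9.1) (R.mk s.2.11.10.2 s.2.11.10.1) s.2.11.11 (R.mk s.2.11.12.2 s.2.11.12.1) (R.mk s.2.11.13.2 s.2.11.13.1) s.2.11.14 (R.mk s.2.11.15.2 s.2.11.15.1) (R.mk s.2.11.16.2 s.2.11.16.1))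
  (@T16.mk R s.2.12.1 (R.mk s.2.12.2.2 s.2.12.2.1) (R.mk s.2.12.3.2 s.2.12.3.1) (R.mk s.2.12.4.2 s.2.12.4.1) (R.mk s.2.12.5.2 s.2.12.5.1) (R.mk s.2.12.6.2 s.2.12.6.1) (R.mk s.2.12.7.2 s.2.12.7.1) s.2.12.8 (R.mk s.2.12.9.2 s.2.12.9.1) (R.mk s.2.12.10.2 s.2.12.10.1) (R.mk s.2.12.11.2 s.2.12.11.1) s.2.12.12 (R.mk s.2.12.13.2 s.2.12.13.1) s.2.12.14 s.2.12.15 s.2.12.16)
  (@T16.mk R s.2.13.1 s.2.13.2 s.2.13.3 (R.mk s.2.13.4.2 s.2.13.4.1) (R.mk s.2.13.5.2 s.2.13.5.1) s.2.13.6 s.2.13.7 s.2.13.8 (R.mk s.2.13.9.2 s.2.13.9.1) s.2.13.10 s.2.13.11 s.2.13.12 (R.mk s.2.13.13.2 s.2.13.13.1) (R.mk s.2.13.14.2 s.2.13.14.1) (R.mk s.2.13.15.2 s.2.13.15.1) s.2.13.16)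
  (@T16.mk R s.2.14.1 s.2.14.2 (R.mk s.2.14.3.2 s.2.14.3.1) s.2.14.4 (R.mk s.2.14.5.2 s.2.14.5.1) s.2.14.6 (R.mk s.2.14.7.2 s.2.14.7.1) (R.mk s.2.14.8.2 s.2.14.8.1) s.2.14.9 (R.mk s.2.14.10.2 s.2.14.10.1) s.2.14.11 s.2.14.12 s.2.14.13 s.2.14.14 (R.mk s.2.14.15.2 s.2.14.15.1) s.2.14.16)
  (@T16.mk R (R.mk s.2.15.1.2 s.2.15.1.1) s.2.15.2 s.2.15.3 s.2.15.4 s.2.15.5 s.2.15.6 s.2.15.7 (R.mk s.2.15.8.2 s.2.15.8.1) s.2.15.9 s.2.15.10 s.2.15.11 (R.mk s.2.15.12.2 s.2.15.12.1) s.2.15.13 (R.mk s.2.15.14.2 s.2.15.14.1) (R.mk s.2.15.15.2 s.2.15.15.1) (R.mk s.2.15.16.2 s.2.15.16.1))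
  (@T16.mk R s.2.16.1 (R.mk s.2.16.2.2 s.2.16.2.1) s.2.16.3 s.2.16.4 (R.mk s.2.16.5.2 s.2.16.5.1) (R.mk s.2.16.6.2 s.2.16.6.1) s.2.16.7 (R.mk s.2.16.8.2 s.2.16.8.1) s.2.16.9 s.2.16.10 (R.mk s.2.16.11.2 s.2.16.11.1) s.2.16.12 s.2.16.13 (R.mk s.2.16.14.2 s.2.16.14.1) s.2.16.15 s.2.16.16)
 )
 (@T16.mk (T16 R)
  (@T16.mk R (R.mk s.3.1.1.2 s.3.1.1.1) s.3.1.2 (R.mk s.3.1.3.2 s.3.1.3.1) (R.mk s.3.1.4.2 s.3.1.4.1) (R.mk s.3.1.5.2 s.3.1.5.1) (R.mk s.3.1.6.2 s.3.1.6.1) s.3.1.7 (R.mk s.3.1.8.2 s.3.1.8.1) s.3.1.9 s.3.1.10 (R.mk s.3.1.11.2 s.3.1.11.1) s.3.1.12 (R.mk s.3.1.13.2 s.3.1.13.1) s.3.1.14 (R.mk s.3.1.15.2 s.3.1.15.1) (R.mk s.3.1.16.2 s.3.1.16.1))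
  (@T16.mk R (R.mk s.3.2.1.2 s.3.2.1.1) s.3.2.2 s.3.2.3 s.3.2.4 (R.mk s.3.2.5.2 s.3.2.5.1) (R.mk s.3.2.6.2 s.3.2.6.1) (R.mk s.3.2.7.2 s.3.2.7.1) s.3.2.8 (R.mk s.3.2.9.2 s.3.2.9.1) (R.mk s.3.2.10.2 s.3.2.10.1) (R.mk s.3.2.11.2 s.3.2.11.1) s.3.2.12 s.3.2.13 (R.mk s.3.2.14.2 s.3.2.14.1) (R.mk s.3.2.15.2 s.3.2.15.1) (R.mk s.3.2.16.2 s.3.2.16.1))
  (@T16.mk R s.3.3.1 s.3.3.2 (R.mk s.3.3.3.2 s.3.3.3.1) s.3.3.4 s.3.3.5 (R.mk s.3.3.6.2 s.3.3.6.1) s.3.3.7 s.3.3.8 (R.mk s.3.3.9.2 s.3.3.9.1) s.3.3.10 (R.mk s.3.3.11.2 s.3.3.11.1) (R.mk s.3.3.12.2 s.3.3.12.1) s.3.3.13 s.3.3.14 (R.mk s.3.3.15.2 s.3.3.15.1) s.3.3.16)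
  (@T16.mk R (R.mk s.3.4.1.2 s.3.4.1.1) (R.mk s.3.4.2.2 s.3.4.2.1) (R.mk s.3.4.3.2 s.3.4.3.1) s.3.4.4 (R.mk s.3.4.5.2 s.3.4.5.1) s.3.4.6 s.3.4.7 s.3.4.8 (R.mk s.3.4.9.2 s.3.4.9.1) s.3.4.10 s.3.4.11 s.3.4.12 s.3.4.13 s.3.4.14 s.3.4.15 (R.mk s.3.4.16.2 s.3.4.16.1))
  (@T16.mk R s.3.5.1 (R.mk s.3.5.2.2 s.3.5.2.1) (R.mk s.3.5.3.2 s.3.5.3.1) (R.mk s.3.5.4.2 s.3.5.4.1) s.3.5.5 s.3.5.6 s.3.5.7 (R.mk s.3.5.8.2 s.3.5.8.1) s.3.5.9 s.3.5.10 s.3.5.11 (R.mk s.3.5.12.2 s.3.5.12.1) (R.mk s.3.5.13.2 s.3.5.13.1) s.3.5.14 s.3.5.15 s.3.5.16)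
  (@T16.mk R s.3.6.1 (R.mk s.3.6.2.2 s.3.6.2.1) s.3.6.3 s.3.6.4 s.3.6.5 s.3.6.6 (R.mk s.3.6.7.2 s.3.6.7.1) s.3.6.8 (R.mk s.3.6.9.2 s.3.6.9.1) (R.mk s.3.6.10.2 s.3.6.10.1) s.3.6.11 (R.mk s.3.6.12.2 s.3.6.12.1) s.3.6.13 (R.mk s.3.6.14.2 s.3.6.14.1) s.3.6.15 s.3.6.16)
  (@T16.mk R (R.mk s.3.7.1.2 s.3.7.1.1) (R.mk s.3.7.2.2 s.3.7.2.1) (R.mk s.3.7.3.2 s.3.7.3.1) s.3.7.4 (R.mk s.3.7.5.2 s.3.7.5.1) s.3.7.6 s.3.7.7 s.3.7.8 (R.mk s.3.7.9.2 s.3.7.9.1) s.3.7.10 s.3.7.11 s.3.7.12 s.3.7.13 s.3.7.14 s.3.7.15 (R.mk s.3.7.16.2 s.3.7.16.1))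
  (@T16.mk R s.3.8.1 s.3.8.2 (R.mk s.3.8.3.2 s.3.8.3.1) s.3.8.4 s.3.8.5 (R.mk s.3.8.6.2 s.3.8.6.1) s.3.8.7 s.3.8.8 (R.mk s.3.8.9.2 s.3.8.9.1) s.3.8.10 (R.mk s.3.8.11.2 s.3.8.11.1) (R.mk s.3.8.12.2 s.3.8.12.1) s.3.8.13 s.3.8.14 (R.mk s.3.8.15.2 s.3.8.15.1) s.3.8.16)
  (@T16.mk R (R.mk s.3.9.1.2 s.3.9.1.1) (R.mk s.3.9.2.2 s.3.9.2.1) (R.mk s.3.9.3.2 s.3.9.3.1) s.3.9.4 (R.mk s.3.9.5.2 s.3.9.5.1) s.3.9.6 s.3.9.7 s.3.9.8 s.3.9.9 (R.mk s.3.9.10.2 s.3.9.10.1) (R.mk s.3.9.11.2 s.3.9.11.1) (R.mk s.3.9.12.2 s.3.9.12.1) (R.mk s.3.9.13.2 s.3.9.13.1) (R.mk s.3.9.14.2 s.3.9.14.1) (R.mk s.3.9.15.2 s.3.9.15.1) s.3.9.16)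
  (@T16.mk R (R.mk s.3.10.1.2 s.3.10.1.1) (R.mk s.3.10.2.2 s.3.10.2.1) s.3.10.3 (R.mk s.3.10.4.2 s.3.10.4.1) (R.mk s.3.10.5.2 s.3.10.5.1) s.3.10.6 (R.mk s.3.10.7.2 s.3.10.7.1) (R.mk s.3.10.8.2 s.3.10.8.1) (R.mk s.3.10.9.2 s.3.10.9.1) s.3.10.10 (R.mk s.3.10.11.2 s.3.10.11.1) (R.mk s.3.10.12.2 s.3.10.12.1) s.3.10.13 s.3.10.14 (R.mk s.3.10.15.2 s.3.10.15.1) s.3.10.16)
  (@T16.mk R (R.mk s.3.11.1.2 s.3.11.1.1) s.3.11.2 s.3.11.3 s.3.11.4 (R.mk s.3.11.5.2 s.3.11.5.1) (R.mk s.3.11.6.2 s.3.11.6.1) (R.mk s.3.11.7.2 s.3.11.7.1) s.3.11.8 s.3.11.9 s.3.11.10 s.3.11.11 (R.mk s.3.11.12.2 s.3.11.12.1) (R.mk s.3.11.13.2 s.3.11.13.1) s.3.11.14 s.3.11.15 s.3.11.16)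
  (@T16.mk R s.3.12.1 (R.mk s.3.12.2.2 s.3.12.2.1) s.3.12.3 s.3.12.4 s.3.12.5 s.3.12.6 (R.mk s.3.12.7.2 s.3.12.7.1) s.3.12.8 s.3.12.9 s.3.12.10 (R.mk s.3.12.11.2 s.3.12.11.1) s.3.12.12 (R.mk s.3.12.13.2 s.3.12.13.1) s.3.12.14 (R.mk s.3.12.15.2 s.3.12.15.1) (R.mk s.3.12.16.2 s.3.12.16.1))
  (@T16.mk R s.3.13.1 s.3.13.2 (R.mk s.3.13.3.2 s.3.13.3.1) s.3.13.4 s.3.13.5 (R.mk s.3.13.6.2 s.3.13.6.1) s.3.13.7 s.3.13.8 s.3.13.9 (R.mk s.3.13.10.2 s.3.13.10.1) s.3.13.11 s.3.13.12 (R.mk s.3.13.13.2 s.3.13.13.1) (R.mk s.3.13.14.2 s.3.13.14.1) s.3.13.15 (R.mk s.3.13.16.2 s.3.13.16.1))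
  (@T16.mk R s.3.14.1 s.3.14.2 s.3.14.3 (R.mk s.3.14.4.2 s.3.14.4.1) s.3.14.5 (R.mk s.3.14.6.2 s.3.14.6.1) (R.mk s.3.14.7.2 s.3.14.7.1) (R.mk s.3.14.8.2 s.3.14.8.1) (R.mk s.3.14.9.2 s.3.14.9.1) s.3.14.10 s.3.14.11 s.3.14.12 s.3.14.13 s.3.14.14 s.3.14.15 (R.mk s.3.14.16.2 s.3.14.16.1))
  (@T16.mk R s.3.15.1 (R.mk s.3.15.2.2 s.3.15.2.1) s.3.15.3 s.3.15.4 s.3.15.5 s.3.15.6 (R.mk s.3.15.7.2 s.3.15.7.1) s.3.15.8 s.3.15.9 s.3.15.10 (R.mk s.3.15.11.2 s.3.15.11.1) s.3.15.12 (R.mk s.3.15.13.2 s.3.15.13.1) s.3.15.14 (R.mk s.3.15.15.2 s.3.15.15.1) (R.mk s.3.15.16.2 s.3.15.16.1))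
  (@T16.mk R (R.mk s.3.16.1.2 s.3.16.1.1) s.3.16.2 s.3.16.3 s.3.16.4 (R.mk s.3.16.5.2 s.3.16.5.1) (R.mk s.3.16.6.2 s.3.16.6.1) (R.mk s.3.16.7.2 s.3.16.7.1) s.3.16.8 s.3.16.9 s.3.16.10 s.3.16.11 (R.mk s.3.16.12.2 s.3.16.12.1) (R.mk s.3.16.13.2 s.3.16.13.1) s.3.16.14 s.3.16.15 s.3.16.16)
 )
 (@T16.mk (T16 R)
  (@T16.mk R (R.mk s.4.1.1.2 s.4.1.1.1) (R.mk s.4.1.2.2 s.4.1.2.1) (R.mk s.4.1.3.2 s.4.1.3.1) s.4.1.4 (R.mk s.4.1.5.2 s.4.1.5.1) s.4.1.6 s.4.1.7 s.4.1.8 (R.mk s.4.1.9.2 s.4.1.9.1) s.4.1.10 s.4.1.11 s.4.1.12 s.4.1.13 s.4.1.14 s.4.1.15 (R.mk s.4.1.16.2 s.4.1.16.1))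
  (@T16.mk R s.4.2.1 s.4.2.2 (R.mk s.4.2.3.2 s.4.2.3.1) s.4.2.4 s.4.2.5 (R.mk s.4.2.6.2 s.4.2.6.1) s.4.2.7 s.4.2.8 (R.mk s.4.2.9.2 s.4.2.9.1) s.4.2.10 (R.mk s.4.2.11.2 s.4.2.11.1) (R.mk s.4.2.12.2 s.4.2.12.1) s.4.2.13 s.4.2.14 (R.mk s.4.2.15.2 s.4.2.15.1) s.4.2.16)
  (@T16.mk R (R.mk s.4.3.1.2 s.4.3.1.1) s.4.3.2 s.4.3.3 s.4.3.4 (R.mk s.4.3.5.2 s.4.3.5.1) (R.mk s.4.3.6.2 s.4.3.6.1) (R.mk s.4.3.7.2 s.4.3.7.1) s.4.3.8 (R.mk s.4.3.9.2 s.4.3.9.1) (R.mk s.4.3.10.2 s.4.3.10.1) (R.mk s.4.3.11.2 s.4.3.11.1) s.4.3.12 s.4.3.13 (R.mk s.4.3.14.2 s.4.3.14.1) (R.mk s.4.3.15.2 s.4.3.15.1) (R.mk s.4.3.16.2 s.4.3.16.1))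
  (@T16.mk R (R.mk s.4.4.1.2 s.4.4.1.1) s.4.4.2 (R.mk s.4.4.3.2 s.4.4.3.1) (R.mk s.4.4.4.2 s.4.4.4.1) (R.mk s.4.4.5.2 s.4.4.5.1) (R.mk s.4.4.6.2 s.4.4.6.1) s.4.4.7 (R.mk s.4.4.8.2 s.4.4.8.1) s.4.4.9 s.4.4.10 (R.mk s.4.4.11.2 s.4.4.11.1) s.4.4.12 (R.mk s.4.4.13.2 s.4.4.13.1) s.4.4.14 (R.mk s.4.4.15.2 s.4.4.15.1) (R.mk s.4.4.16.2 s.4.4.16.1))
  (@T16.mk R s.4.5.1 s.4.5.2 (R.mk s.4.5.3.2 s.4.5.3.1) s.4.5.4 s.4.5.5 (R.mk s.4.5.6.2 s.4.5.6.1) s.4.5.7 s.4.5.8 (R.mk s.4.5.9.2 s.4.5.9.1) s.4.5.10 (R.mk s.4.5.11.2 s.4.5.11.1) (R.mk s.4.5.12.2 s.4.5.12.1) s.4.5.13 s.4.5.14 (R.mk s.4.5.15.2 s.4.5.15.1) s.4.5.16)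
  (@T16.mk R (R.mk s.4.6.1.2 s.4.6.1.1) (R.mk s.4.6.2.2 s.4.6.2.1) (R.mk s.4.6.3.2 s.4.6.3.1) s.4.6.4 (R.mk s.4.6.5.2 s.4.6.5.1) s.4.6.6 s.4.6.7 s.4.6.8 (R.mk s.4.6.9.2 s.4.6.9.1) s.4.6.10 s.4.6.11 s.4.6.12 s.4.6.13 s.4.6.14 s.4.6.15 (R.mk s.4.6.16.2 s.4.6.16.1))
  (@T16.mk R s.4.7.1 (R.mk s.4.7.2.2 s.4.7.2.1) s.4.7.3 s.4.7.4 s.4.7.5 s.4.7.6 (R.mk s.4.7.7.2 s.4.7.7.1) s.4.7.8 (R.mk s.4.7.9.2 s.4.7.9.1) (R.mk s.4.7.10.2 s.4.7.10.1) s.4.7.11 (R.mk s.4.7.12.2 s.4.7.12.1) s.4.7.13 (R.mk s.4.7.14.2 s.4.7.14.1) s.4.7.15 s.4.7.16)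
  (@T16.mk R s.4.8.1 (R.mk s.4.8.2.2 s.4.8.2.1) (R.mk s.4.8.3.2 s.4.8.3.1) (R.mk s.4.8.4.2 s.4.8.4.1) s.4.8.5 s.4.8.6 s.4.8.7 (R.mk s.4.8.8.2 s.4.8.8.1) s.4.8.9 s.4.8.10 s.4.8.11 (R.mk s.4.8.12.2 s.4.8.12.1) (R.mk s.4.8.13.2 s.4.8.13.1) s.4.8.14 s.4.8.15 s.4.8.16)
  (@T16.mk R s.4.9.1 (R.mk s.4.9.2.2 s.4.9.2.1) s.4.9.3 s.4.9.4 s.4.9.5 s.4.9.6 (R.mk s.4.9.7.2 s.4.9.7.1) s.4.9.8 s.4.9.9 s.4.9.10 (R.mk s.4.9.11.2 s.4.9.11.1) s.4.9.12 (R.mk s.4.9.13.2 s.4.9.13.1) s.4.9.14 (R.mk s.4.9.15.2 s.4.9.15.1) (R.mk s.4.9.16.2 s.4.9.16.1))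
  (@T16.mk R (R.mk s.4.10.1.2 s.4.10.1.1) s.4.10.2 s.4.10.3 s.4.10.4 (R.mk s.4.10.5.2 s.4.10.5.1) (R.mk s.4.10.6.2 s.4.10.6.1) (R.mk s.4.10.7.2 s.4.10.7.1) s.4.10.8 s.4.10.9 s.4.10.10 s.4.10.11 (R.mk s.4.10.12.2 s.4.10.12.1) (R.mk s.4.10.13.2 s.4.10.13.1) s.4.10.14 s.4.10.15 s.4.10.16)
  (@T16.mk R (R.mk s.4.11.1.2 s.4.11.1.1) (R.mk s.4.11.2.2 s.4.11.2.1) s.4.11.3 (R.mk s.4.11.4.2 s.4.11.4.1) (R.mk s.4.11.5.2 s.4.11.5.1) s.4.11.6 (R.mk s.4.11.7.2 s.4.11.7.1) (R.mk s.4.11.8.2 s.4.11.8.1) (R.mk s.4.11.9.2 s.4.11.9.1) s.4.11.10 (R.mk s.4.11.11.2 s.4.11.11.1) (R.mk s.4.11.12.2 s.4.11.12.1) s.4.11.13 s.4.11.14 (R.mk s.4.11.15.2 s.4.11.15.1) s.4.11.16)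
  (@T16.mk R (R.mk s.4.12.1.2 s.4.12.1.1) (R.mk s.4.12.2.2 s.4.12.2.1) (R.mk s.4.12.3.2 s.4.12.3.1) s.4.12.4 (R.mk s.4.12.5.2 s.4.12.5.1) s.4.12.6 s.4.12.7 s.4.12.8 s.4.12.9 (R.mk s.4.12.10.2 s.4.12.10.1) (R.mk s.4.12.11.2 s.4.12.11.1) (R.mk s.4.12.12.2 s.4.12.12.1) (R.mk s.4.12.13.2 s.4.12.13.1) (R.mk s.4.12.14.2 s.4.12.14.1) (R.mk s.4.12.15.2 s.4.12.15.1) s.4.12.16)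
  (@T16.mk R (R.mk s.4.13.1.2 s.4.13.1.1) s.4.13.2 s.4.13.3 s.4.13.4 (R.mk s.4.13.5.2 s.4.13.5.1) (R.mk s.4.13.6.2 s.4.13.6.1) (R.mk s.4.13.7.2 s.4.13.7.1) s.4.13.8 s.4.13.9 s.4.13.10 s.4.13.11 (R.mk s.4.13.12.2 s.4.13.12.1) (R.mk s.4.13.13.2 s.4.13.13.1) s.4.13.14 s.4.13.15 s.4.13.16)
  (@T16.mk R s.4.14.1 (R.mk s.4.14.2.2 s.4.14.2.1) s.4.14.3 s.4.14.4 s.4.14.5 s.4.14.6 (R.mk s.4.14.7.2 s.4.14.7.1) s.4.14.8 s.4.14.9 s.4.14.10 (R.mk s.4.14.11.2 s.4.14.11.1) s.4.14.12 (R.mk s.4.14.13.2 s.4.14.13.1) s.4.14.14 (R.mk s.4.14.15.2 s.4.14.15.1) (R.mk s.4.14.16.2 s.4.14.16.1))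
  (@T16.mk R s.4.15.1 s.4.15.2 s.4.15.3 (R.mk s.4.15.4.2 s.4.15.4.1) s.4.15.5 (R.mk s.4.15.6.2 s.4.15.6.1) (R.mk s.4.15.7.2 s.4.15.7.1) (R.mk s.4.15.8.2 s.4.15.8.1) (R.mk s.4.15.9.2 s.4.15.9.1) s.4.15.10 s.4.15.11 s.4.15.12 s.4.15.13 s.4.15.14 s.4.15.15 (R.mk s.4.15.16.2 s.4.15.16.1))
  (@T16.mk R s.4.16.1 s.4.16.2 (R.mk s.4.16.3.2 s.4.16.3.1) s.4.16.4 s.4.16.5 (R.mk s.4.16.6.2 s.4.16.6.1) s.4.16.7 s.4.16.8 s.4.16.9 (R.mk s.4.16.10.2 s.4.16.10.1) s.4.16.11 s.4.16.12 (R.mk s.4.16.13.2 s.4.16.13.1) (R.mk s.4.16.14.2 s.4.16.14.1) s.4.16.15 (R.mk s.4.16.16.2 s.4.16.16.1))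
 )
 (@T16.mk (T16 R)
  (@T16.mk R s.6.12.15 (R.mk s.6.12.16.2 s.6.12.16.1) s.6.12.13 s.6.12.14 s.6.12.11 s.6.12.12 (R.mk s.6.12.9.2 s.6.12.9.1) s.6.12.10 s.6.12.7 s.6.12.8 (R.mk s.6.12.5.2 s.6.12.5.1) s.6.12.6 (R.mk s.6.12.3.2 s.6.12.3.1) s.6.12.4 (R.mk s.6.12.1.2 s.6.12.1.1) (R.mk s.6.12.2.2 s.6.12.2.1))
  (@T16.mk R (R.mk s.6.11.15.2 s.6.11.15.1) s.6.11.16 s.6.11.13 s.6.11.14 (R.mk s.6.11.11.2 s.6.11.11.1) (R.mk s.6.11.12.2 s.6.11.12.1) (R.mk s.6.11.9.2 s.6.11.9.1) s.6.11.10 s.6.11.7 s.6.11.8 s.6.11.5 (R.mk s.6.11.6.2 s.6.11.6.1) (R.mk s.6.11.3.2 s.6.11.3.1) s.6.11.4 s.6.11.1 s.6.11.2)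
  (@T16.mk R (R.mk s.6.10.15.2 s.6.10.15.1) (R.mk s.6.10.16.2 s.6.10.16.1) s.6.10.13 (R.mk s.6.10.14.2 s.6.10.14.1) (R.mk s.6.10.11.2 s.6.10.11.1) s.6.10.12 (R.mk s.6.10.9.2 s.6.10.9.1) (R.mk s.6.10.10.2 s.6.10.10.1) (R.mk s.6.10.7.2 s.6.10.7.1) s.6.10.8 (R.mk s.6.10.5.2 s.6.10.5.1) (R.mk s.6.10.6.2 s.6.10.6.1) s.6.10.3 s.6.10.4 (R.mk s.6.10.1.2 s.6.10.1.1) s.6.10.2)
  (@T16.mk R s.6.9.15 s.6.9.16 s.6.9.13 (R.mk s.6.9.14.2 s.6.9.14.1) s.6.9.11 (R.mk s.6.9.12.2 s.6.9.12.1) (R.mk s.6.9.9.2 s.6.9.9.1) (R.mk s.6.9.10.2 s.6.9.10.1) (R.mk s.6.9.7.2 s.6.9.7.1) s.6.9.8 s.6.9.5 s.6.9.6 s.6.9.3 s.6.9.4 s.6.9.1 (R.mk s.6.9.2.2 s.6.9.2.1))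
  (@T16.mk R (R.mk s.6.16.15.2 s.6.16.15.1) s.6.16.16 s.6.16.13 s.6.16.14 (R.mk s.6.16.11.2 s.6.16.11.1) (R.mk s.6.16.12.2 s.6.16.12.1) (R.mk s.6.16.9.2 s.6.16.9.1) s.6.16.10 s.6.16.7 s.6.16.8 s.6.16.5 (R.mk s.6.16.6.2 s.6.16.6.1) (R.mk s.6.16.3.2 s.6.16.3.1) s.6.16.4 s.6.16.1 s.6.16.2)
  (@T16.mk R s.6.15.15 (R.mk s.6.15.16.2 s.6.15.16.1) s.6.15.13 s.6.15.14 s.6.15.11 s.6.15.12 (R.mk s.6.15.9.2 s.6.15.9.1) s.6.15.10 s.6.15.7 s.6.15.8 (R.mk s.6.15.5.2 s.6.15.5.1) s.6.15.6 (R.mk s.6.15.3.2 s.6.15.3.1) s.6.15.4 (R.mk s.6.15.1.2 s.6.15.1.1) (R.mk s.6.15.2.2 s.6.15.2.1))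
  (@T16.mk R (R.mk s.6.14.15.2 s.6.14.15.1) (R.mk s.6.14.16.2 s.6.14.16.1) (R.mk s.6.14.13.2 s.6.14.13.1) s.6.14.14 (R.mk s.6.14.11.2 s.6.14.11.1) s.6.14.12 s.6.14.9 s.6.14.10 s.6.14.7 (R.mk s.6.14.8.2 s.6.14.8.1) (R.mk s.6.14.5.2 s.6.14.5.1) (R.mk s.6.14.6.2 s.6.14.6.1) (R.mk s.6.14.3.2 s.6.14.3.1) (R.mk s.6.14.4.2 s.6.14.4.1) (R.mk s.6.14.1.2 s.6.14.1.1) s.6.14.2)
  (@T16.mk R (R.mk s.6.13.15.2 s.6.13.15.1) (R.mk s.6.13.16.2 s.6.13.16.1) s.6.13.13 (R.mk s.6.13.14.2 s.6.13.14.1) (R.mk s.6.13.11.2 s.6.13.11.1) s.6.13.12 (R.mk s.6.13.9.2 s.6.13.9.1) (R.mk s.6.13.10.2 s.6.13.10.1) (R.mk s.6.13.7.2 s.6.13.7.1) s.6.13.8 (R.mk s.6.13.5.2 s.6.13.5.1) (R.mk s.6.13.6.2 s.6.13.6.1) s.6.13.3 s.6.13.4 (R.mk s.6.13.1.2 s.6.13.1.1) s.6.13.2)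
  (@T16.mk R s.6.4.15 s.6.4.16 s.6.4.13 (R.mk s.6.4.14.2 s.6.4.14.1) s.6.4.11 (R.mk s.6.4.12.2 s.6.4.12.1) (R.mk s.6.4.9.2 s.6.4.9.1) (R.mk s.6.4.10.2 s.6.4.10.1) s.6.4.7 (R.mk s.6.4.8.2 s.6.4.8.1) (R.mk s.6.4.5.2 s.6.4.5.1) (R.mk s.6.4.6.2 s.6.4.6.1) (R.mk s.6.4.3.2 s.6.4.3.1) (R.mk s.6.4.4.2 s.6.4.4.1) (R.mk s.6.4.1.2 s.6.4.1.1) s.6.4.2)
  (@T16.mk R (R.mk s.6.3.15.2 s.6.3.15.1) (R.mk s.6.3.16.2 s.6.3.16.1) s.6.3.13 (R.mk s.6.3.14.2 s.6.3.14.1) (R.mk s.6.3.11.2 s.6.3.11.1) s.6.3.12 (R.mk s.6.3.9.2 s.6.3.9.1) (R.mk s.6.3.10.2 s.6.3.10.1) s.6.3.7 (R.mk s.6.3.8.2 s.6.3.8.1) s.6.3.5 s.6.3.6 (R.mk s.6.3.3.2 s.6.3.3.1) (R.mk s.6.3.4.2 s.6.3.4.1) s.6.3.1 (R.mk s.6.3.2.2 s.6.3.2.1))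
  (@T16.mk R (R.mk s.6.2.15.2 s.6.2.15.1) s.6.2.16 s.6.2.13 s.6.2.14 (R.mk s.6.2.11.2 s.6.2.11.1) (R.mk s.6.2.12.2 s.6.2.12.1) (R.mk s.6.2.9.2 s.6.2.9.1) s.6.2.10 (R.mk s.6.2.7.2 s.6.2.7.1) (R.mk s.6.2.8.2 s.6.2.8.1) (R.mk s.6.2.5.2 s.6.2.5.1) s.6.2.6 s.6.2.3 (R.mk s.6.2.4.2 s.6.2.4.1) (R.mk s.6.2.1.2 s.6.2.1.1) (R.mk s.6.2.2.2 s.6.2.2.1))
  (@T16.mk R (R.mk s.6.1.15.2 s.6.1.15.1) s.6.1.16 (R.mk s.6.1.13.2 s.6.1.13.1) (R.mk s.6.1.14.2 s.6.1.14.1) (R.mk s.6.1.11.2 s.6.1.11.1) (R.mk s.6.1.12.2 s.6.1.12.1) s.6.1.9 (R.mk s.6.1.10.2 s.6.1.10.1) s.6.1.7 s.6.1.8 (R.mk s.6.1.5.2 s.6.1.5.1) s.6.1.6 (R.mk s.6.1.3.2 s.6.1.3.1) s.6.1.4 (R.mk s.6.1.1.2 s.6.1.1.1) (R.mk s.6.1.2.2 s.6.1.2.1))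
  (@T16.mk R s.6.8.15 s.6.8.16 (R.mk s.6.8.13.2 s.6.8.13.1) s.6.8.14 s.6.8.11 (R.mk s.6.8.12.2 s.6.8.12.1) s.6.8.9 s.6.8.10 (R.mk s.6.8.7.2 s.6.8.7.1) s.6.8.8 (R.mk s.6.8.5.2 s.6.8.5.1) (R.mk s.6.8.6.2 s.6.8.6.1) s.6.8.3 s.6.8.4 (R.mk s.6.8.1.2 s.6.8.1.1) s.6.8.2)
  (@T16.mk R (R.mk s.6.7.15.2 s.6.7.15.1) (R.mk s.6.7.16.2 s.6.7.16.1) (R.mk s.6.7.13.2 s.6.7.13.1) s.6.7.14 (R.mk s.6.7.11.2 s.6.7.11.1) s.6.7.12 s.6.7.9 s.6.7.10 (R.mk s.6.7.7.2 s.6.7.7.1) s.6.7.8 s.6.7.5 s.6.7.6 s.6.7.3 s.6.7.4 s.6.7.1 (R.mk s.6.7.2.2 s.6.7.2.1))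
  (@T16.mk R s.6.6.15 (R.mk s.6.6.16.2 s.6.6.16.1) s.6.6.13 s.6.6.14 s.6.6.11 s.6.6.12 (R.mk s.6.6.9.2 s.6.6.9.1) s.6.6.10 (R.mk s.6.6.7.2 s.6.6.7.1) (R.mk s.6.6.8.2 s.6.6.8.1) s.6.6.5 (R.mk s.6.6.6.2 s.6.6.6.1) s.6.6.3 (R.mk s.6.6.4.2 s.6.6.4.1) s.6.6.1 s.6.6.2)
  (@T16.mk R (R.mk s.6.5.15.2 s.6.5.15.1) s.6.5.16 s.6.5.13 s.6.5.14 (R.mk s.6.5.11.2 s.6.5.11.1) (R.mk s.6.5.12.2 s.6.5.12.1) (R.mk s.6.5.9.2 s.6.5.9.1) s.6.5.10 (R.mk s.6.5.7.2 s.6.5.7.1) (R.mk s.6.5.8.2 s.6.5.8.1) (R.mk s.6.5.5.2 s.6.5.5.1) s.6.5.6 s.6.5.3 (R.mk s.6.5.4.2 s.6.5.4.1) (R.mk s.6.5.1.2 s.6.5.1.1) (R.mk s.6.5.2.2 s.6.5.2.1))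
 )
 (@T16.mk (T16 R)
  (@T16.mk R (R.mk s.5.12.15.2 s.5.12.15.1) (R.mk s.5.12.16.2 s.5.12.16.1) (R.mk s.5.12.13.2 s.5.12.13.1) s.5.12.14 (R.mk s.5.12.11.2 s.5.12.11.1) s.5.12.12 s.5.12.9 s.5.12.10 s.5.12.7 (R.mk s.5.12.8.2 s.5.12.8.1) (R.mk s.5.12.5.2 s.5.12.5.1) (R.mk s.5.12.6.2 s.5.12.6.1) (R.mk s.5.12.3.2 s.5.12.3.1) (R.mk s.5.12.4.2 s.5.12.4.1) (R.mk s.5.12.1.2 s.5.12.1.1) s.5.12.2)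
  (@T16.mk R (R.mk s.5.11.15.2 s.5.11.15.1) (R.mk s.5.11.16.2 s.5.11.16.1) s.5.11.13 (R.mk s.5.11.14.2 s.5.11.14.1) (R.mk s.5.11.11.2 s.5.11.11.1) s.5.11.12 (R.mk s.5.11.9.2 s.5.11.9.1) (R.mk s.5.11.10.2 s.5.11.10.1) (R.mk s.5.11.7.2 s.5.11.7.1) s.5.11.8 (R.mk s.5.11.5.2 s.5.11.5.1) (R.mk s.5.11.6.2 s.5.11.6.1) s.5.11.3 s.5.11.4 (R.mk s.5.11.1.2 s.5.11.1.1) s.5.11.2)
  (@T16.mk R s.5.10.15 (R.mk s.5.10.16.2 s.5.10.16.1) (R.mk s.5.10.13.2 s.5.10.13.1) (R.mk s.5.10.14.2 s.5.10.14.1) s.5.10.11 s.5.10.12 s.5.10.9 (R.mk s.5.10.10.2 s.5.10.10.1) (R.mk s.5.10.7.2 s.5.10.7.1) (R.mk s.5.10.8.2 s.5.10.8.1) (R.mk s.5.10.5.2 s.5.10.5.1) s.5.10.6 s.5.10.3 (R.mk s.5.10.4.2 s.5.10.4.1) (R.mk s.5.10.1.2 s.5.10.1.1) (R.mk s.5.10.2.2 s.5.10.2.1))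
  (@T16.mk R (R.mk s.5.9.15.2 s.5.9.15.1) s.5.9.16 (R.mk s.5.9.13.2 s.5.9.13.1) (R.mk s.5.9.14.2 s.5.9.14.1) (R.mk s.5.9.11.2 s.5.9.11.1) (R.mk s.5.9.12.2 s.5.9.12.1) s.5.9.9 (R.mk s.5.9.10.2 s.5.9.10.1) (R.mk s.5.9.7.2 s.5.9.7.1) (R.mk s.5.9.8.2 s.5.9.8.1) s.5.9.5 (R.mk s.5.9.6.2 s.5.9.6.1) s.5.9.3 (R.mk s.5.9.4.2 s.5.9.4.1) s.5.9.1 s.5.9.2)
  (@T16.mk R (R.mk s.5.16.15.2 s.5.16.15.1) (R.mk s.5.16.16.2 s.5.16.16.1) s.5.16.13 (R.mk s.5.16.14.2 s.5.16.14.1) (R.mk s.5.16.11.2 s.5.16.11.1) s.5.16.12 (R.mk s.5.16.9.2 s.5.16.9.1) (R.mk s.5.16.10.2 s.5.16.10.1) (R.mk s.5.16.7.2 s.5.16.7.1) s.5.16.8 (R.mk s.5.16.5.2 s.5.16.5.1) (R.mk s.5.16.6.2 s.5.16.6.1) s.5.16.3 s.5.16.4 (R.mk s.5.16.1.2 s.5.16.1.1) s.5.16.2)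
  (@T16.mk R s.5.15.15 s.5.15.16 s.5.15.13 (R.mk s.5.15.14.2 s.5.15.14.1) s.5.15.11 (R.mk s.5.15.12.2 s.5.15.12.1) (R.mk s.5.15.9.2 s.5.15.9.1) (R.mk s.5.15.10.2 s.5.15.10.1) (R.mk s.5.15.7.2 s.5.15.7.1) s.5.15.8 s.5.15.5 s.5.15.6 s.5.15.3 s.5.15.4 s.5.15.1 (R.mk s.5.15.2.2 s.5.15.2.1))
  (@T16.mk R s.5.14.15 (R.mk s.5.14.16.2 s.5.14.16.1) s.5.14.13 s.5.14.14 s.5.14.11 s.5.14.12 (R.mk s.5.14.9.2 s.5.14.9.1) s.5.14.10 s.5.14.7 s.5.14.8 (R.mk s.5.14.5.2 s.5.14.5.1) s.5.14.6 (R.mk s.5.14.3.2 s.5.14.3.1) s.5.14.4 (R.mk s.5.14.1.2 s.5.14.1.1) (R.mk s.5.14.2.2 s.5.14.2.1))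
  (@T16.mk R (R.mk s.5.13.15.2 s.5.13.15.1) s.5.13.16 s.5.13.13 s.5.13.14 (R.mk s.5.13.11.2 s.5.13.11.1) (R.mk s.5.13.12.2 s.5.13.12.1) (R.mk s.5.13.9.2 s.5.13.9.1) s.5.13.10 s.5.13.7 s.5.13.8 s.5.13.5 (R.mk s.5.13.6.2 s.5.13.6.1) (R.mk s.5.13.3.2 s.5.13.3.1) s.5.13.4 s.5.13.1 s.5.13.2)
  (@T16.mk R s.5.4.15 (R.mk s.5.4.16.2 s.5.4.16.1) s.5.4.13 s.5.4.14 s.5.4.11 s.5.4.12 (R.mk s.5.4.9.2 s.5.4.9.1) s.5.4.10 (R.mk s.5.4.7.2 s.5.4.7.1) (R.mk s.5.4.8.2 s.5.4.8.1) s.5.4.5 (R.mk s.5.4.6.2 s.5.4.6.1) s.5.4.3 (R.mk s.5.4.4.2 s.5.4.4.1) s.5.4.1 s.5.4.2)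
  (@T16.mk R (R.mk s.5.3.15.2 s.5.3.15.1) s.5.3.16 s.5.3.13 s.5.3.14 (R.mk s.5.3.11.2 s.5.3.11.1) (R.mk s.5.3.12.2 s.5.3.12.1) (R.mk s.5.3.9.2 s.5.3.9.1) s.5.3.10 (R.mk s.5.3.7.2 s.5.3.7.1) (R.mk s.5.3.8.2 s.5.3.8.1) (R.mk s.5.3.5.2 s.5.3.5.1) s.5.3.6 s.5.3.3 (R.mk s.5.3.4.2 s.5.3.4.1) (R.mk s.5.3.1.2 s.5.3.1.1) (R.mk s.5.3.2.2 s.5.3.2.1))
  (@T16.mk R s.5.2.15 s.5.2.16 (R.mk s.5.2.13.2 s.5.2.13.1) s.5.2.14 s.5.2.11 (R.mk s.5.2.12.2 s.5.2.12.1) s.5.2.9 s.5.2.10 (R.mk s.5.2.7.2 s.5.2.7.1) s.5.2.8 (R.mk s.5.2.5.2 s.5.2.5.1) (R.mk s.5.2.6.2 s.5.2.6.1) s.5.2.3 s.5.2.4 (R.mk s.5.2.1.2 s.5.2.1.1) s.5.2.2)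
  (@T16.mk R (R.mk s.5.1.15.2 s.5.1.15.1) (R.mk s.5.1.16.2 s.5.1.16.1) (R.mk s.5.1.13.2 s.5.1.13.1) s.5.1.14 (R.mk s.5.1.11.2 s.5.1.11.1) s.5.1.12 s.5.1.9 s.5.1.10 (R.mk s.5.1.7.2 s.5.1.7.1) s.5.1.8 s.5.1.5 s.5.1.6 s.5.1.3 s.5.1.4 s.5.1.1 (R.mk s.5.1.2.2 s.5.1.2.1))
  (@T16.mk R (R.mk s.5.8.15.2 s.5.8.15.1) s.5.8.16 s.5.8.13 s.5.8.14 (R.mk s.5.8.11.2 s.5.8.11.1) (R.mk s.5.8.12.2 s.5.8.12.1) (R.mk s.5.8.9.2 s.5.8.9.1) s.5.8.10 (R.mk s.5.8.7.2 s.5.8.7.1) (R.mk s.5.8.8.2 s.5.8.8.1) (R.mk s.5.8.5.2 s.5.8.5.1) s.5.8.6 s.5.8.3 (R.mk s.5.8.4.2 s.5.8.4.1) (R.mk s.5.8.1.2 s.5.8.1.1) (R.mk s.5.8.2.2 s.5.8.2.1))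
  (@T16.mk R (R.mk s.5.7.15.2 s.5.7.15.1) s.5.7.16 (R.mk s.5.7.13.2 s.5.7.13.1) (R.mk s.5.7.14.2 s.5.7.14.1) (R.mk s.5.7.11.2 s.5.7.11.1) (R.mk s.5.7.12.2 s.5.7.12.1) s.5.7.9 (R.mk s.5.7.10.2 s.5.7.10.1) s.5.7.7 s.5.7.8 (R.mk s.5.7.5.2 s.5.7.5.1) s.5.7.6 (R.mk s.5.7.3.2 s.5.7.3.1) s.5.7.4 (R.mk s.5.7.1.2 s.5.7.1.1) (R.mk s.5.7.2.2 s.5.7.2.1))
  (@T16.mk R (R.mk s.5.6.15.2 s.5.6.15.1) (R.mk s.5.6.16.2 s.5.6.16.1) (R.mk s.5.6.13.2 s.5.6.13.1) s.5.6.14 (R.mk s.5.6.11.2 s.5.6.11.1) s.5.6.12 s.5.6.9 s.5.6.10 (R.mk s.5.6.7.2 s.5.6.7.1) s.5.6.8 s.5.6.5 s.5.6.6 s.5.6.3 s.5.6.4 s.5.6.1 (R.mk s.5.6.2.2 s.5.6.2.1))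
  (@T16.mk R s.5.5.15 s.5.5.16 (R.mk s.5.5.13.2 s.5.5.13.1) s.5.5.14 s.5.5.11 (R.mk s.5.5.12.2 s.5.5.12.1) s.5.5.9 s.5.5.10 (R.mk s.5.5.7.2 s.5.5.7.1) s.5.5.8 (R.mk s.5.5.5.2 s.5.5.5.1) (R.mk s.5.5.6.2 s.5.5.6.1) s.5.5.3 s.5.5.4 (R.mk s.5.5.1.2 s.5.5.1.1) s.5.5.2)
 )
 (@T16.mk (T16 R)
  (@T16.mk R (R.mk s.8.12.15.2 s.8.12.15.1) (R.mk s.8.12.16.2 s.8.12.16.1) s.8.12.13 (R.mk s.8.12.14.2 s.8.12.14.1) s.8.12.11 (R.mk s.8.12.12.2 s.8.12.12.1) s.8.12.9 s.8.12.10 (R.mk s.8.12.7.2 s.8.12.7.1) s.8.12.8 (R.mk s.8.12.5.2 s.8.12.5.1) (R.mk s.8.12.6.2 s.8.12.6.1) (R.mk s.8.12.3.2 s.8.12.3.1) (R.mk s.8.12.4.2 s.8.12.4.1) s.8.12.1 (R.mk s.8.12.2.2 s.8.12.2.1))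
  (@T16.mk R s.8.11.15 s.8.11.16 s.8.11.13 (R.mk s.8.11.14.2 s.8.11.14.1) (R.mk s.8.11.11.2 s.8.11.11.1) s.8.11.12 s.8.11.9 s.8.11.10 (R.mk s.8.11.7.2 s.8.11.7.1) s.8.11.8 s.8.11.5 s.8.11.6 (R.mk s.8.11.3.2 s.8.11.3.1) (R.mk s.8.11.4.2 s.8.11.4.1) (R.mk s.8.11.1.2 s.8.11.1.1) s.8.11.2)
  (@T16.mk R s.8.10.15 (R.mk s.8.10.16.2 s.8.10.16.1) s.8.10.13 s.8.10.14 (R.mk s.8.10.11.2 s.8.10.11.1) (R.mk s.8.10.12.2 s.8.10.12.1) s.8.10.9 (R.mk s.8.10.10.2 s.8.10.10.1) s.8.10.7 s.8.10.8 (R.mk s.8.10.5.2 s.8.10.5.1) s.8.10.6 s.8.10.3 (R.mk s.8.10.4.2 s.8.10.4.1) s.8.10.1 s.8.10.2)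
  (@T16.mk R (R.mk s.8.9.15.2 s.8.9.15.1) s.8.9.16 s.8.9.13 s.8.9.14 s.8.9.11 s.8.9.12 s.8.9.9 (R.mk s.8.9.10.2 s.8.9.10.1) s.8.9.7 s.8.9.8 s.8.9.5 (R.mk s.8.9.6.2 s.8.9.6.1) s.8.9.3 (R.mk s.8.9.4.2 s.8.9.4.1) (R.mk s.8.9.1.2 s.8.9.1.1) (R.mk s.8.9.2.2 s.8.9.2.1))
  (@T16.mk R (R.mk s.8.16.15.2 s.8.16.15.1) (R.mk s.8.16.16.2 s.8.16.16.1) (R.mk s.8.16.13.2 s.8.16.13.1) s.8.16.14 s.8.16.11 (R.mk s.8.16.12.2 s.8.16.12.1) (R.mk s.8.16.9.2 s.8.16.9.1) (R.mk s.8.16.10.2 s.8.16.10.1) s.8.16.7 (R.mk s.8.16.8.2 s.8.16.8.1) (R.mk s.8.16.5.2 s.8.16.5.1) (R.mk s.8.16.6.2 s.8.16.6.1) s.8.16.3 s.8.16.4 s.8.16.1 (R.mk s.8.16.2.2 s.8.16.2.1))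
  (@T16.mk R s.8.15.15 s.8.15.16 (R.mk s.8.15.13.2 s.8.15.13.1) s.8.15.14 (R.mk s.8.15.11.2 s.8.15.11.1) s.8.15.12 (R.mk s.8.15.9.2 s.8.15.9.1) (R.mk s.8.15.10.2 s.8.15.10.1) s.8.15.7 (R.mk s.8.15.8.2 s.8.15.8.1) s.8.15.5 s.8.15.6 s.8.15.3 s.8.15.4 (R.mk s.8.15.1.2 s.8.15.1.1) s.8.15.2)
  (@T16.mk R (R.mk s.8.14.15.2 s.8.14.15.1) s.8.14.16 s.8.14.13 s.8.14.14 s.8.14.11 s.8.14.12 s.8.14.9 (R.mk s.8.14.10.2 s.8.14.10.1) s.8.14.7 s.8.14.8 s.8.14.5 (R.mk s.8.14.6.2 s.8.14.6.1) s.8.14.3 (R.mk s.8.14.4.2 s.8.14.4.1) (R.mk s.8.14.1.2 s.8.14.1.1) (R.mk s.8.14.2.2 s.8.14.2.1))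
  (@T16.mk R (R.mk s.8.13.15.2 s.8.13.15.1) s.8.13.16 (R.mk s.8.13.13.2 s.8.13.13.1) (R.mk s.8.13.14.2 s.8.13.14.1) s.8.13.11 s.8.13.12 (R.mk s.8.13.9.2 s.8.13.9.1) s.8.13.10 (R.mk s.8.13.7.2 s.8.13.7.1) (R.mk s.8.13.8.2 s.8.13.8.1) s.8.13.5 (R.mk s.8.13.6.2 s.8.13.6.1) (R.mk s.8.13.3.2 s.8.13.3.1) s.8.13.4 (R.mk s.8.13.1.2 s.8.13.1.1) (R.mk s.8.13.2.2 s.8.13.2.1))
  (@T16.mk R s.8.4.15 (R.mk s.8.4.16.2 s.8.4.16.1) (R.mk s.8.4.13.2 s.8.4.13.1) (R.mk s.8.4.14.2 s.8.4.14.1) (R.mk s.8.4.11.2 s.8.4.11.1) (R.mk s.8.4.12.2 s.8.4.12.1) (R.mk s.8.4.9.2 s.8.4.9.1) s.8.4.10 s.8.4.7 s.8.4.8 s.8.4.5 (R.mk s.8.4.6.2 s.8.4.6.1) s.8.4.3 (R.mk s.8.4.4.2 s.8.4.4.1) (R.mk s.8.4.1.2 s.8.4.1.1) (R.mk s.8.4.2.2 s.8.4.2.1))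
  (@T16.mk R (R.mk s.8.3.15.2 s.8.3.15.1) s.8.3.16 (R.mk s.8.3.13.2 s.8.3.13.1) (R.mk s.8.3.14.2 s.8.3.14.1) s.8.3.11 s.8.3.12 (R.mk s.8.3.9.2 s.8.3.9.1) s.8.3.10 s.8.3.7 s.8.3.8 (R.mk s.8.3.5.2 s.8.3.5.1) s.8.3.6 s.8.3.3 (R.mk s.8.3.4.2 s.8.3.4.1) s.8.3.1 s.8.3.2)
  (@T16.mk R s.8.2.15 s.8.2.16 s.8.2.13 (R.mk s.8.2.14.2 s.8.2.14.1) (R.mk s.8.2.11.2 s.8.2.11.1) s.8.2.12 s.8.2.9 s.8.2.10 s.8.2.7 (R.mk s.8.2.8.2 s.8.2.8.1) (R.mk s.8.2.5.2 s.8.2.5.1) (R.mk s.8.2.6.2 s.8.2.6.1) s.8.2.3 s.8.2.4 s.8.2.1 (R.mk s.8.2.2.2 s.8.2.2.1))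
  (@T16.mk R s.8.1.15 s.8.1.16 (R.mk s.8.1.13.2 s.8.1.13.1) s.8.1.14 (R.mk s.8.1.11.2 s.8.1.11.1) s.8.1.12 (R.mk s.8.1.9.2 s.8.1.9.1) (R.mk s.8.1.10.2 s.8.1.10.1) (R.mk s.8.1.7.2 s.8.1.7.1) s.8.1.8 (R.mk s.8.1.5.2 s.8.1.5.1) (R.mk s.8.1.6.2 s.8.1.6.1) (R.mk s.8.1.3.2 s.8.1.3.1) (R.mk s.8.1.4.2 s.8.1.4.1) s.8.1.1 (R.mk s.8.1.2.2 s.8.1.2.1))
  (@T16.mk R (R.mk s.8.8.15.2 s.8.8.15.1) s.8.8.16 (R.mk s.8.8.13.2 s.8.8.13.1) (R.mk s.8.8.14.2 s.8.8.14.1) s.8.8.11 s.8.8.12 (R.mk s.8.8.9.2 s.8.8.9.1) s.8.8.10 s.8.8.7 s.8.8.8 (R.mk s.8.8.5.2 s.8.8.5.1) s.8.8.6 s.8.8.3 (R.mk s.8.8.4.2 s.8.8.4.1) s.8.8.1 s.8.8.2)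
  (@T16.mk R s.8.7.15 (R.mk s.8.7.16.2 s.8.7.16.1) (R.mk s.8.7.13.2 s.8.7.13.1) (R.mk s.8.7.14.2 s.8.7.14.1) (R.mk s.8.7.11.2 s.8.7.11.1) (R.mk s.8.7.12.2 s.8.7.12.1) (R.mk s.8.7.9.2 s.8.7.9.1) s.8.7.10 s.8.7.7 s.8.7.8 s.8.7.5 (R.mk s.8.7.6.2 s.8.7.6.1) s.8.7.3 (R.mk s.8.7.4.2 s.8.7.4.1) (R.mk s.8.7.1.2 s.8.7.1.1) (R.mk s.8.7.2.2 s.8.7.2.1))
  (@T16.mk R s.8.6.15 s.8.6.16 (R.mk s.8.6.13.2 s.8.6.13.1) s.8.6.14 (R.mk s.8.6.11.2 s.8.6.11.1) s.8.6.12 (R.mk s.8.6.9.2 s.8.6.9.1) (R.mk s.8.6.10.2 s.8.6.10.1) (R.mk s.8.6.7.2 s.8.6.7.1) s.8.6.8 (R.mk s.8.6.5.2 s.8.6.5.1) (R.mk s.8.6.6.2 s.8.6.6.1) (R.mk s.8.6.3.2 s.8.6.3.1) (R.mk s.8.6.4.2 s.8.6.4.1) s.8.6.1 (R.mk s.8.6.2.2 s.8.6.2.1))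
  (@T16.mk R (R.mk s.8.5.15.2 s.8.5.15.1) (R.mk s.8.5.16.2 s.8.5.16.1) (R.mk s.8.5.13.2 s.8.5.13.1) s.8.5.14 s.8.5.11 (R.mk s.8.5.12.2 s.8.5.12.1) (R.mk s.8.5.9.2 s.8.5.9.1) (R.mk s.8.5.10.2 s.8.5.10.1) (R.mk s.8.5.7.2 s.8.5.7.1) s.8.5.8 s.8.5.5 s.8.5.6 (R.mk s.8.5.3.2 s.8.5.3.1) (R.mk s.8.5.4.2 s.8.5.4.1) (R.mk s.8.5.1.2 s.8.5.1.1) s.8.5.2)
 )
 (@T16.mk (T16 R)
  (@T16.mk R s.7.12.15 (R.mk s.7.12.16.2 s.7.12.16.1) (R.mk s.7.12.13.2 s.7.12.13.1) (R.mk s.7.12.14.2 s.7.12.14.1) (R.mk s.7.12.11.2 s.7.12.11.1) (R.mk s.7.12.12.2 s.7.12.12.1) (R.mk s.7.12.9.2 s.7.12.9.1) s.7.12.10 (R.mk s.7.12.7.2 s.7.12.7.1) (R.mk s.7.12.8.2 s.7.12.8.1) (R.mk s.7.12.5.2 s.7.12.5.1) s.7.12.6 (R.mk s.7.12.3.2 s.7.12.3.1) s.7.12.4 s.7.12.1 s.7.12.2)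
  (@T16.mk R s.7.11.15 (R.mk s.7.11.16.2 s.7.11.16.1) s.7.11.13 s.7.11.14 (R.mk s.7.11.11.2 s.7.11.11.1) (R.mk s.7.11.12.2 s.7.11.12.1) s.7.11.9 (R.mk s.7.11.10.2 s.7.11.10.1) s.7.11.7 s.7.11.8 (R.mk s.7.11.5.2 s.7.11.5.1) s.7.11.6 s.7.11.3 (R.mk s.7.11.4.2 s.7.11.4.1) s.7.11.1 s.7.11.2)
  (@T16.mk R s.7.10.15 s.7.10.16 s.7.10.13 (R.mk s.7.10.14.2 s.7.10.14.1) (R.mk s.7.10.11.2 s.7.10.11.1) s.7.10.12 s.7.10.9 s.7.10.10 (R.mk s.7.10.7.2 s.7.10.7.1) s.7.10.8 s.7.10.5 s.7.10.6 (R.mk s.7.10.3.2 s.7.10.3.1) (R.mk s.7.10.4.2 s.7.10.4.1) (R.mk s.7.10.1.2 s.7.10.1.1) s.7.10.2)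
  (@T16.mk R (R.mk s.7.9.15.2 s.7.9.15.1) (R.mk s.7.9.16.2 s.7.9.16.1) s.7.9.13 (R.mk s.7.9.14.2 s.7.9.14.1) s.7.9.11 (R.mk s.7.9.12.2 s.7.9.12.1) s.7.9.9 s.7.9.10 (R.mk s.7.9.7.2 s.7.9.7.1) s.7.9.8 (R.mk s.7.9.5.2 s.7.9.5.1) (R.mk s.7.9.6.2 s.7.9.6.1) (R.mk s.7.9.3.2 s.7.9.3.1) (R.mk s.7.9.4.2 s.7.9.4.1) s.7.9.1 (R.mk s.7.9.2.2 s.7.9.2.1))
  (@T16.mk R (R.mk s.7.16.15.2 s.7.16.15.1) s.7.16.16 (R.mk s.7.16.13.2 s.7.16.13.1) (R.mk s.7.16.14.2 s.7.16.14.1) s.7.16.11 s.7.16.12 (R.mk s.7.16.9.2 s.7.16.9.1) s.7.16.10 (R.mk s.7.16.7.2 s.7.16.7.1) (R.mk s.7.16.8.2 s.7.16.8.1) s.7.16.5 (R.mk s.7.16.6.2 s.7.16.6.1) (R.mk s.7.16.3.2 s.7.16.3.1) s.7.16.4 (R.mk s.7.16.1.2 s.7.16.1.1) (R.mk s.7.16.2.2 s.7.16.2.1))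
  (@T16.mk R s.7.15.15 (R.mk s.7.15.16.2 s.7.15.16.1) (R.mk s.7.15.13.2 s.7.15.13.1) (R.mk s.7.15.14.2 s.7.15.14.1) (R.mk s.7.15.11.2 s.7.15.11.1) (R.mk s.7.15.12.2 s.7.15.12.1) (R.mk s.7.15.9.2 s.7.15.9.1) s.7.15.10 (R.mk s.7.15.7.2 s.7.15.7.1) (R.mk s.7.15.8.2 s.7.15.8.1) (R.mk s.7.15.5.2 s.7.15.5.1) s.7.15.6 (R.mk s.7.15.3.2 s.7.15.3.1) s.7.15.4 s.7.15.1 s.7.15.2)
  (@T16.mk R (R.mk s.7.14.15.2 s.7.14.15.1) (R.mk s.7.14.16.2 s.7.14.16.1) s.7.14.13 (R.mk s.7.14.14.2 s.7.14.14.1) s.7.14.11 (R.mk s.7.14.12.2 s.7.14.12.1) s.7.14.9 s.7.14.10 (R.mk s.7.14.7.2 s.7.14.7.1) s.7.14.8 (R.mk s.7.14.5.2 s.7.14.5.1) (R.mk s.7.14.6.2 s.7.14.6.1) (R.mk s.7.14.3.2 s.7.14.3.1) (R.mk s.7.14.4.2 s.7.14.4.1) s.7.14.1 (R.mk s.7.14.2.2 s.7.14.2.1))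
  (@T16.mk R s.7.13.15 s.7.13.16 s.7.13.13 (R.mk s.7.13.14.2 s.7.13.14.1) (R.mk s.7.13.11.2 s.7.13.11.1) s.7.13.12 s.7.13.9 s.7.13.10 (R.mk s.7.13.7.2 s.7.13.7.1) s.7.13.8 s.7.13.5 s.7.13.6 (R.mk s.7.13.3.2 s.7.13.3.1) (R.mk s.7.13.4.2 s.7.13.4.1) (R.mk s.7.13.1.2 s.7.13.1.1) s.7.13.2)
  (@T16.mk R (R.mk s.7.4.15.2 s.7.4.15.1) (R.mk s.7.4.16.2 s.7.4.16.1) s.7.4.13 (R.mk s.7.4.14.2 s.7.4.14.1) s.7.4.11 (R.mk s.7.4.12.2 s.7.4.12.1) s.7.4.9 s.7.4.10 s.7.4.7 (R.mk s.7.4.8.2 s.7.4.8.1) s.7.4.5 s.7.4.6 s.7.4.3 s.7.4.4 (R.mk s.7.4.1.2 s.7.4.1.1) s.7.4.2)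
  (@T16.mk R s.7.3.15 s.7.3.16 s.7.3.13 (R.mk s.7.3.14.2 s.7.3.14.1) (R.mk s.7.3.11.2 s.7.3.11.1) s.7.3.12 s.7.3.9 s.7.3.10 s.7.3.7 (R.mk s.7.3.8.2 s.7.3.8.1) (R.mk s.7.3.5.2 s.7.3.5.1) (R.mk s.7.3.6.2 s.7.3.6.1) s.7.3.3 s.7.3.4 s.7.3.1 (R.mk s.7.3.2.2 s.7.3.2.1))
  (@T16.mk R (R.mk s.7.2.15.2 s.7.2.15.1) s.7.2.16 (R.mk s.7.2.13.2 s.7.2.13.1) (R.mk s.7.2.14.2 s.7.2.14.1) s.7.2.11 s.7.2.12 (R.mk s.7.2.9.2 s.7.2.9.1) s.7.2.10 s.7.2.7 s.7.2.8 (R.mk s.7.2.5.2 s.7.2.5.1) s.7.2.6 s.7.2.3 (R.mk s.7.2.4.2 s.7.2.4.1) s.7.2.1 s.7.2.2)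
  (@T16.mk R s.7.1.15 (R.mk s.7.1.16.2 s.7.1.16.1) (R.mk s.7.1.13.2 s.7.1.13.1) (R.mk s.7.1.14.2 s.7.1.14.1) (R.mk s.7.1.11.2 s.7.1.11.1) (R.mk s.7.1.12.2 s.7.1.12.1) (R.mk s.7.1.9.2 s.7.1.9.1) s.7.1.10 s.7.1.7 s.7.1.8 s.7.1.5 (R.mk s.7.1.6.2 s.7.1.6.1) s.7.1.3 (R.mk s.7.1.4.2 s.7.1.4.1) (R.mk s.7.1.1.2 s.7.1.1.1) (R.mk s.7.1.2.2 s.7.1.2.1))
  (@T16.mk R (R.mk s.7.8.15.2 s.7.8.15.1) (R.mk s.7.8.16.2 s.7.8.16.1) (R.mk s.7.8.13.2 s.7.8.13.1) s.7.8.14 s.7.8.11 (R.mk s.7.8.12.2 s.7.8.12.1) (R.mk s.7.8.9.2 s.7.8.9.1) (R.mk s.7.8.10.2 s.7.8.10.1) (R.mk s.7.8.7.2 s.7.8.7.1) s.7.8.8 s.7.8.5 s.7.8.6 (R.mk s.7.8.3.2 s.7.8.3.1) (R.mk s.7.8.4.2 s.7.8.4.1) (R.mk s.7.8.1.2 s.7.8.1.1) s.7.8.2)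
  (@T16.mk R (R.mk s.7.7.15.2 s.7.7.15.1) (R.mk s.7.7.16.2 s.7.7.16.1) s.7.7.13 (R.mk s.7.7.14.2 s.7.7.14.1) s.7.7.11 (R.mk s.7.7.12.2 s.7.7.12.1) s.7.7.9 s.7.7.10 s.7.7.7 (R.mk s.7.7.8.2 s.7.7.8.1) s.7.7.5 s.7.7.6 s.7.7.3 s.7.7.4 (R.mk s.7.7.1.2 s.7.7.1.1) s.7.7.2)
  (@T16.mk R (R.mk s.7.6.15.2 s.7.6.15.1) s.7.6.16 s.7.6.13 s.7.6.14 s.7.6.11 s.7.6.12 s.7.6.9 (R.mk s.7.6.10.2 s.7.6.10.1) (R.mk s.7.6.7.2 s.7.6.7.1) (R.mk s.7.6.8.2 s.7.6.8.1) (R.mk s.7.6.5.2 s.7.6.5.1) s.7.6.6 (R.mk s.7.6.3.2 s.7.6.3.1) s.7.6.4 s.7.6.1 s.7.6.2)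
  (@T16.mk R s.7.5.15 (R.mk s.7.5.16.2 s.7.5.16.1) s.7.5.13 s.7.5.14 (R.mk s.7.5.11.2 s.7.5.11.1) (R.mk s.7.5.12.2 s.7.5.12.1) s.7.5.9 (R.mk s.7.5.10.2 s.7.5.10.1) (R.mk s.7.5.7.2 s.7.5.7.1) (R.mk s.7.5.8.2 s.7.5.8.1) s.7.5.5 (R.mk s.7.5.6.2 s.7.5.6.1) (R.mk s.7.5.3.2 s.7.5.3.1) s.7.5.4 (R.mk s.7.5.1.2 s.7.5.1.1) (R.mk s.7.5.2.2 s.7.5.2.1))
 )
 (@T16.mk (T16 R)
  (@T16.mk R s.9.1.12 s.9.1.11 s.9.1.10 s.9.1.9 s.9.1.16 s.9.1.15 s.9.1.14 s.9.1.13 s.9.1.4 s.9.1.3 s.9.1.2 s.9.1.1 s.9.1.8 s.9.1.7 s.9.1.6 s.9.1.5)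
  (@T16.mk R (R.mk s.9.2.5.2 s.9.2.5.1) (R.mk s.9.2.6.2 s.9.2.6.1) (R.mk s.9.2.7.2 s.9.2.7.1) (R.mk s.9.2.8.2 s.9.2.8.1) (R.mk s.9.2.1.2 s.9.2.1.1) (R.mk s.9.2.2.2 s.9.2.2.1) (R.mk s.9.2.3.2 s.9.2.3.1) (R.mk s.9.2.4.2 s.9.2.4.1) (R.mk s.9.2.13.2 s.9.2.13.1) (R.mk s.9.2.14.2 s.9.2.14.1) (R.mk s.9.2.15.2 s.9.2.15.1) (R.mk s.9.2.16.2 s.9.2.16.1) (R.mk s.9.2.9.2 s.9.2.9.1) (R.mk s.9.2.10.2 s.9.2.10.1) (R.mk s.9.2.11.2 s.9.2.11.1) (R.mk s.9.2.12.2 s.9.2.12.1))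
  (@T16.mk R (R.mk s.9.3.14.2 s.9.3.14.1) (R.mk s.9.3.13.2 s.9.3.13.1) (R.mk s.9.3.16.2 s.9.3.16.1) (R.mk s.9.3.15.2 s.9.3.15.1) (R.mk s.9.3.10.2 s.9.3.10.1) (R.mk s.9.3.9.2 s.9.3.9.1) (R.mk s.9.3.12.2 s.9.3.12.1) (R.mk s.9.3.11.2 s.9.3.11.1) (R.mk s.9.3.6.2 s.9.3.6.1) (R.mk s.9.3.5.2 s.9.3.5.1) (R.mk s.9.3.8.2 s.9.3.8.1) (R.mk s.9.3.7.2 s.9.3.7.1) (R.mk s.9.3.2.2 s.9.3.2.1) (R.mk s.9.3.1.2 s.9.3.1.1) (R.mk s.9.3.4.2 s.9.3.4.1) (R.mk s.9.3.3.2 s.9.3.3.1))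
  (@T16.mk R s.9.4.7 s.9.4.8 s.9.4.5 s.9.4.6 s.9.4.3 s.9.4.4 s.9.4.1 s.9.4.2 s.9.4.15 s.9.4.16 s.9.4.13 s.9.4.14 s.9.4.11 s.9.4.12 s.9.4.9 s.9.4.10)
  (@T16.mk R (R.mk s.9.5.10.2 s.9.5.10.1) (R.mk s.9.5.9.2 s.9.5.9.1) (R.mk s.9.5.12.2 s.9.5.12.1) (R.mk s.9.5.11.2 s.9.5.11.1) (R.mk s.9.5.14.2 s.9.5.14.1) (R.mk s.9.5.13.2 s.9.5.13.1) (R.mk s.9.5.16.2 s.9.5.16.1) (R.mk s.9.5.15.2 s.9.5.15.1) (R.mk s.9.5.2.2 s.9.5.2.1) (R.mk s.9.5.1.2 s.9.5.1.1) (R.mk s.9.5.4.2 s.9.5.4.1) (R.mk s.9.5.3.2 s.9.5.3.1) (R.mk s.9.5.6.2 s.9.5.6.1) (R.mk s.9.5.5.2 s.9.5.5.1) (R.mk s.9.5.8.2 s.9.5.8.1) (R.mk s.9.5.7.2 s.9.5.7.1))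
  (@T16.mk R s.9.6.10 s.9.6.9 s.9.6.12 s.9.6.11 s.9.6.14 s.9.6.13 s.9.6.16 s.9.6.15 s.9.6.2 s.9.6.1 s.9.6.4 s.9.6.3 s.9.6.6 s.9.6.5 s.9.6.8 s.9.6.7)
  (@T16.mk R s.9.7.16 s.9.7.15 s.9.7.14 s.9.7.13 s.9.7.12 s.9.7.11 s.9.7.10 s.9.7.9 s.9.7.8 s.9.7.7 s.9.7.6 s.9.7.5 s.9.7.4 s.9.7.3 s.9.7.2 s.9.7.1)
  (@T16.mk R s.9.8.12 s.9.8.11 s.9.8.10 s.9.8.9 s.9.8.16 s.9.8.15 s.9.8.14 s.9.8.13 s.9.8.4 s.9.8.3 s.9.8.2 s.9.8.1 s.9.8.8 s.9.8.7 s.9.8.6 s.9.8.5)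
  (@T16.mk R (R.mk s.9.9.8.2 s.9.9.8.1) (R.mk s.9.9.7.2 s.9.9.7.1) (R.mk s.9.9.6.2 s.9.9.6.1) (R.mk s.9.9.5.2 s.9.9.5.1) (R.mk s.9.9.4.2 s.9.9.4.1) (R.mk s.9.9.3.2 s.9.9.3.1) (R.mk s.9.9.2.2 s.9.9.2.1) (R.mk s.9.9.1.2 s.9.9.1.1) (R.mk s.9.9.16.2 s.9.9.16.1) (R.mk s.9.9.15.2 s.9.9.15.1) (R.mk s.9.9.14.2 s.9.9.14.1) (R.mk s.9.9.13.2 s.9.9.13.1) (R.mk s.9.9.12.2 s.9.9.12.1) (R.mk s.9.9.11.2 s.9.9.11.1) (R.mk s.9.9.10.2 s.9.9.10.1) (R.mk s.9.9.9.2 s.9.9.9.1))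
  (@T16.mk R (R.mk s.9.10.16.2 s.9.10.16.1) (R.mk s.9.10.15.2 s.9.10.15.1) (R.mk s.9.10.14.2 s.9.10.14.1) (R.mk s.9.10.13.2 s.9.10.13.1) (R.mk s.9.10.12.2 s.9.10.12.1) (R.mk s.9.10.11.2 s.9.10.11.1) (R.mk s.9.10.10.2 s.9.10.10.1) (R.mk s.9.10.9.2 s.9.10.9.1) (R.mk s.9.10.8.2 s.9.10.8.1) (R.mk s.9.10.7.2 s.9.10.7.1) (R.mk s.9.10.6.2 s.9.10.6.1) (R.mk s.9.10.5.2 s.9.10.5.1) (R.mk s.9.10.4.2 s.9.10.4.1) (R.mk s.9.10.3.2 s.9.10.3.1) (R.mk s.9.10.2.2 s.9.10.2.1) (R.mk s.9.10.1.2 s.9.10.1.1))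
  (@T16.mk R s.9.11.13 s.9.11.14 s.9.11.15 s.9.11.16 s.9.11.9 s.9.11.10 s.9.11.11 s.9.11.12 s.9.11.5 s.9.11.6 s.9.11.7 s.9.11.8 s.9.11.1 s.9.11.2 s.9.11.3 s.9.11.4)
  (@T16.mk R (R.mk s.9.12.6.2 s.9.12.6.1) (R.mk s.9.12.5.2 s.9.12.5.1) (R.mk s.9.12.8.2 s.9.12.8.1) (R.mk s.9.12.7.2 s.9.12.7.1) (R.mk s.9.12.2.2 s.9.12.2.1) (R.mk s.9.12.1.2 s.9.12.1.1) (R.mk s.9.12.4.2 s.9.12.4.1) (R.mk s.9.12.3.2 s.9.12.3.1) (R.mk s.9.12.14.2 s.9.12.14.1) (R.mk s.9.12.13.2 s.9.12.13.1) (R.mk s.9.12.16.2 s.9.12.16.1) (R.mk s.9.12.15.2 s.9.12.15.1) (R.mk s.9.12.10.2 s.9.12.10.1) (R.mk s.9.12.9.2 s.9.12.9.1) (R.mk s.9.12.12.2 s.9.12.12.1) (R.mk s.9.12.11.2 s.9.12.11.1))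
  (@T16.mk R (R.mk s.9.13.16.2 s.9.13.16.1) (R.mk s.9.13.15.2 s.9.13.15.1) (R.mk s.9.13.14.2 s.9.13.14.1) (R.mk s.9.13.13.2 s.9.13.13.1) (R.mk s.9.13.12.2 s.9.13.12.1) (R.mk s.9.13.11.2 s.9.13.11.1) (R.mk s.9.13.10.2 s.9.13.10.1) (R.mk s.9.13.9.2 s.9.13.9.1) (R.mk s.9.13.8.2 s.9.13.8.1) (R.mk s.9.13.7.2 s.9.13.7.1) (R.mk s.9.13.6.2 s.9.13.6.1) (R.mk s.9.13.5.2 s.9.13.5.1) (R.mk s.9.13.4.2 s.9.13.4.1) (R.mk s.9.13.3.2 s.9.13.3.1) (R.mk s.9.13.2.2 s.9.13.2.1) (R.mk s.9.13.1.2 s.9.13.1.1))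
  (@T16.mk R s.9.14.6 s.9.14.5 s.9.14.8 s.9.14.7 s.9.14.2 s.9.14.1 s.9.14.4 s.9.14.3 s.9.14.14 s.9.14.13 s.9.14.16 s.9.14.15 s.9.14.10 s.9.14.9 s.9.14.12 s.9.14.11)
  (@T16.mk R s.9.15.1 s.9.15.2 s.9.15.3 s.9.15.4 s.9.15.5 s.9.15.6 s.9.15.7 s.9.15.8 s.9.15.9 s.9.15.10 s.9.15.11 s.9.15.12 s.9.15.13 s.9.15.14 s.9.15.15 s.9.15.16)
  (@T16.mk R s.9.16.3 s.9.16.4 s.9.16.1 s.9.16.2 s.9.16.7 s.9.16.8 s.9.16.5 s.9.16.6 s.9.16.11 s.9.16.12 s.9.16.9 s.9.16.10 s.9.16.15 s.9.16.16 s.9.16.13 s.9.16.14)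
 )
 (@T16.mk (T16 R)
  (@T16.mk R s.10.1.3 s.10.1.4 s.10.1.1 s.10.1.2 s.10.1.7 s.10.1.8 s.10.1.5 s.10.1.6 s.10.1.11 s.10.1.12 s.10.1.9 s.10.1.10 s.10.1.15 s.10.1.16 s.10.1.13 s.10.1.14)
  (@T16.mk R (R.mk s.10.2.16.2 s.10.2.16.1) (R.mk s.10.2.15.2 s.10.2.15.1) (R.mk s.10.2.14.2 s.10.2.14.1) (R.mk s.10.2.13.2 s.10.2.13.1) (R.mk s.10.2.12.2 s.10.2.12.1) (R.mk s.10.2.11.2 s.10.2.11.1) (R.mk s.10.2.10.2 s.10.2.10.1) (R.mk s.10.2.9.2 s.10.2.9.1) (R.mk s.10.2.8.2 s.10.2.8.1) (R.mk s.10.2.7.2 s.10.2.7.1) (R.mk s.10.2.6.2 s.10.2.6.1) (R.mk s.10.2.5.2 s.10.2.5.1) (R.mk s.10.2.4.2 s.10.2.4.1) (R.mk s.10.2.3.2 s.10.2.3.1) (R.mk s.10.2.2.2 s.10.2.2.1) (R.mk s.10.2.1.2 s.10.2.1.1))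
  (@T16.mk R (R.mk s.10.3.7.2 s.10.3.7.1) (R.mk s.10.3.8.2 s.10.3.8.1) (R.mk s.10.3.5.2 s.10.3.5.1) (R.mk s.10.3.6.2 s.10.3.6.1) (R.mk s.10.3.3.2 s.10.3.3.1) (R.mk s.10.3.4.2 s.10.3.4.1) (R.mk s.10.3.1.2 s.10.3.1.1) (R.mk s.10.3.2.2 s.10.3.2.1) (R.mk s.10.3.15.2 s.10.3.15.1) (R.mk s.10.3.16.2 s.10.3.16.1) (R.mk s.10.3.13.2 s.10.3.13.1) (R.mk s.10.3.14.2 s.10.3.14.1) (R.mk s.10.3.11.2 s.10.3.11.1) (R.mk s.10.3.12.2 s.10.3.12.1) (R.mk s.10.3.9.2 s.10.3.9.1) (R.mk s.10.3.10.2 s.10.3.10.1))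
  (@T16.mk R (R.mk s.10.4.11.2 s.10.4.11.1) (R.mk s.10.4.12.2 s.10.4.12.1) (R.mk s.10.4.9.2 s.10.4.9.1) (R.mk s.10.4.10.2 s.10.4.10.1) (R.mk s.10.4.15.2 s.10.4.15.1) (R.mk s.10.4.16.2 s.10.4.16.1) (R.mk s.10.4.13.2 s.10.4.13.1) (R.mk s.10.4.14.2 s.10.4.14.1) (R.mk s.10.4.3.2 s.10.4.3.1) (R.mk s.10.4.4.2 s.10.4.4.1) (R.mk s.10.4.1.2 s.10.4.1.1) (R.mk s.10.4.2.2 s.10.4.2.1) (R.mk s.10.4.7.2 s.10.4.7.1) (R.mk s.10.4.8.2 s.10.4.8.1) (R.mk s.10.4.5.2 s.10.4.5.1) (R.mk s.10.4.6.2 s.10.4.6.1))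
  (@T16.mk R s.10.5.12 s.10.5.11 s.10.5.10 s.10.5.9 s.10.5.16 s.10.5.15 s.10.5.14 s.10.5.13 s.10.5.4 s.10.5.3 s.10.5.2 s.10.5.1 s.10.5.8 s.10.5.7 s.10.5.6 s.10.5.5)
  (@T16.mk R s.10.6.12 s.10.6.11 s.10.6.10 s.10.6.9 s.10.6.16 s.10.6.15 s.10.6.14 s.10.6.13 s.10.6.4 s.10.6.3 s.10.6.2 s.10.6.1 s.10.6.8 s.10.6.7 s.10.6.6 s.10.6.5)
  (@T16.mk R (R.mk s.10.7.12.2 s.10.7.12.1) (R.mk s.10.7.11.2 s.10.7.11.1) (R.mk s.10.7.10.2 s.10.7.10.1) (R.mk s.10.7.9.2 s.10.7.9.1) (R.mk s.10.7.16.2 s.10.7.16.1) (R.mk s.10.7.15.2 s.10.7.15.1) (R.mk s.10.7.14.2 s.10.7.14.1) (R.mk s.10.7.13.2 s.10.7.13.1) (R.mk s.10.7.4.2 s.10.7.4.1) (R.mk s.10.7.3.2 s.10.7.3.1) (R.mk s.10.7.2.2 s.10.7.2.1) (R.mk s.10.7.1.2 s.10.7.1.1) (R.mk s.10.7.8.2 s.10.7.8.1) (R.mk s.10.7.7.2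 s.10.7.7.1) (R.mk s.10.7.6.2 s.10.7.6.1) (R.mk s.10.7.5.2 s.10.7.5.1))
  (@T16.mk R (R.mk s.10.8.9.2 s.10.8.9.1) (R.mk s.10.8.10.2 s.10.8.10.1) (R.mk s.10.8.11.2 s.10.8.11.1) (R.mk s.10.8.12.2 s.10.8.12.1) (R.mk s.10.8.13.2 s.10.8.13.1) (R.mk s.10.8.14.2 s.10.8.14.1) (R.mk s.10.8.15.2 s.10.8.15.1) (R.mk s.10.8.16.2 s.10.8.16.1) (R.mk s.10.8.1.2 s.10.8.1.1) (R.mk s.10.8.2.2 s.10.8.2.1) (R.mk s.10.8.3.2 s.10.8.3.1) (R.mk s.10.8.4.2 s.10.8.4.1) (R.mk s.10.8.5.2 s.10.8.5.1) (R.mk s.10.8.6.2 s.10.8.6.1) (R.mk s.10.8.7.2 s.10.8.7.1) (R.mk s.10.8.8.2 s.10.8.8.1))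
  (@T16.mk R s.10.9.1 s.10.9.2 s.10.9.3 s.10.9.4 s.10.9.5 s.10.9.6 s.10.9.7 s.10.9.8 s.10.9.9 s.10.9.10 s.10.9.11 s.10.9.12 s.10.9.13 s.10.9.14 s.10.9.15 s.10.9.16)
  (@T16.mk R (R.mk s.10.10.8.2 s.10.10.8.1) (R.mk s.10.10.7.2 s.10.10.7.1) (R.mk s.10.10.6.2 s.10.10.6.1) (R.mk s.10.10.5.2 s.10.10.5.1) (R.mk s.10.10.4.2 s.10.10.4.1) (R.mk s.10.10.3.2 s.10.10.3.1) (R.mk s.10.10.2.2 s.10.10.2.1) (R.mk s.10.10.1.2 s.10.10.1.1) (R.mk s.10.10.16.2 s.10.10.16.1) (R.mk s.10.10.15.2 s.10.10.15.1) (R.mk s.10.10.14.2 s.10.10.14.1) (R.mk s.10.10.13.2 s.10.10.13.1) (R.mk s.10.10.12.2 s.10.10.12.1) (R.mk s.10.10.11.2 s.10.10.11.1) (R.mk s.10.10.10.2 s.10.10.10.1) (R.mk s.10.10.9.2 s.10.10.9.1))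
  (@T16.mk R s.10.11.10 s.10.11.9 s.10.11.12 s.10.11.11 s.10.11.14 s.10.11.13 s.10.11.16 s.10.11.15 s.10.11.2 s.10.11.1 s.10.11.4 s.10.11.3 s.10.11.6 s.10.11.5 s.10.11.8 s.10.11.7)
  (@T16.mk R (R.mk s.10.12.8.2 s.10.12.8.1) (R.mk s.10.12.7.2 s.10.12.7.1) (R.mk s.10.12.6.2 s.10.12.6.1) (R.mk s.10.12.5.2 s.10.12.5.1) (R.mk s.10.12.4.2 s.10.12.4.1) (R.mk s.10.12.3.2 s.10.12.3.1) (R.mk s.10.12.2.2 s.10.12.2.1) (R.mk s.10.12.1.2 s.10.12.1.1) (R.mk s.10.12.16.2 s.10.12.16.1) (R.mk s.10.12.15.2 s.10.12.15.1) (R.mk s.10.12.14.2 s.10.12.14.1) (R.mk s.10.12.13.2 s.10.12.13.1) (R.mk s.10.12.12.2 s.10.12.12.1) (R.mk s.10.12.11.2 s.10.12.11.1) (R.mk s.10.12.10.2 s.10.12.10.1) (R.mk s.10.12.9.2 s.10.12.9.1))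
  (@T16.mk R s.10.13.15 s.10.13.16 s.10.13.13 s.10.13.14 s.10.13.11 s.10.13.12 s.10.13.9 s.10.13.10 s.10.13.7 s.10.13.8 s.10.13.5 s.10.13.6 s.10.13.3 s.10.13.4 s.10.13.1 s.10.13.2)
  (@T16.mk R (R.mk s.10.14.11.2 s.10.14.11.1) (R.mk s.10.14.12.2 s.10.14.12.1) (R.mk s.10.14.9.2 s.10.14.9.1) (R.mk s.10.14.10.2 s.10.14.10.1) (R.mk s.10.14.15.2 s.10.14.15.1) (R.mk s.10.14.16.2 s.10.14.16.1) (R.mk s.10.14.13.2 s.10.14.13.1) (R.mk s.10.14.14.2 s.10.14.14.1) (R.mk s.10.14.3.2 s.10.14.3.1) (R.mk s.10.14.4.2 s.10.14.4.1) (R.mk s.10.14.1.2 s.10.14.1.1) (R.mk s.10.14.2.2 s.10.14.2.1) (R.mk s.10.14.7.2 s.10.14.7.1) (R.mk s.10.14.8.2 s.10.14.8.1) (R.mk s.10.14.5.2 s.10.14.5.1) (R.mk s.10.14.6.2 s.10.14.6.1))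
  (@T16.mk R s.10.15.1 s.10.15.2 s.10.15.3 s.10.15.4 s.10.15.5 s.10.15.6 s.10.15.7 s.10.15.8 s.10.15.9 s.10.15.10 s.10.15.11 s.10.15.12 s.10.15.13 s.10.15.14 s.10.15.15 s.10.15.16)
  (@T16.mk R s.10.16.12 s.10.16.11 s.10.16.10 s.10.16.9 s.10.16.16 s.10.16.15 s.10.16.14 s.10.16.13 s.10.16.4 s.10.16.3 s.10.16.2 s.10.16.1 s.10.16.8 s.10.16.7 s.10.16.6 s.10.16.5)
 )
 (@T16.mk (T16 R)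
  (@T16.mk R (R.mk s.11.1.11.2 s.11.1.11.1) (R.mk s.11.1.12.2 s.11.1.12.1) (R.mk s.11.1.9.2 s.11.1.9.1) (R.mk s.11.1.10.2 s.11.1.10.1) (R.mk s.11.1.15.2 s.11.1.15.1) (R.mk s.11.1.16.2 s.11.1.16.1) (R.mk s.11.1.13.2 s.11.1.13.1) (R.mk s.11.1.14.2 s.11.1.14.1) (R.mk s.11.1.3.2 s.11.1.3.1) (R.mk s.11.1.4.2 s.11.1.4.1) (R.mk s.11.1.1.2 s.11.1.1.1) (R.mk s.11.1.2.2 s.11.1.2.1) (R.mk s.11.1.7.2 s.11.1.7.1) (R.mk s.11.1.8.2 s.11.1.8.1) (R.mk s.11.1.5.2 s.11.1.5.1) (R.mk s.11.1.6.2 s.11.1.6.1))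
  (@T16.mk R (R.mk s.11.2.10.2 s.11.2.10.1) (R.mk s.11.2.9.2 s.11.2.9.1) (R.mk s.11.2.12.2 s.11.2.12.1) (R.mk s.11.2.11.2 s.11.2.11.1) (R.mk s.11.2.14.2 s.11.2.14.1) (R.mk s.11.2.13.2 s.11.2.13.1) (R.mk s.11.2.16.2 s.11.2.16.1) (R.mk s.11.2.15.2 s.11.2.15.1) (R.mk s.11.2.2.2 s.11.2.2.1) (R.mk s.11.2.1.2 s.11.2.1.1) (R.mk s.11.2.4.2 s.11.2.4.1) (R.mk s.11.2.3.2 s.11.2.3.1) (R.mk s.11.2.6.2 s.11.2.6.1) (R.mk s.11.2.5.2 s.11.2.5.1) (R.mk s.11.2.8.2 s.11.2.8.1) (R.mk s.11.2.7.2 s.11.2.7.1))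
  (@T16.mk R s.11.3.16 s.11.3.15 s.11.3.14 s.11.3.13 s.11.3.12 s.11.3.11 s.11.3.10 s.11.3.9 s.11.3.8 s.11.3.7 s.11.3.6 s.11.3.5 s.11.3.4 s.11.3.3 s.11.3.2 s.11.3.1)
  (@T16.mk R (R.mk s.11.4.9.2 s.11.4.9.1) (R.mk s.11.4.10.2 s.11.4.10.1) (R.mk s.11.4.11.2 s.11.4.11.1) (R.mk s.11.4.12.2 s.11.4.12.1) (R.mk s.11.4.13.2 s.11.4.13.1) (R.mk s.11.4.14.2 s.11.4.14.1) (R.mk s.11.4.15.2 s.11.4.15.1) (R.mk s.11.4.16.2 s.11.4.16.1) (R.mk s.11.4.1.2 s.11.4.1.1) (R.mk s.11.4.2.2 s.11.4.2.1) (R.mk s.11.4.3.2 s.11.4.3.1) (R.mk s.11.4.4.2 s.11.4.4.1) (R.mk s.11.4.5.2 s.11.4.5.1) (R.mk s.11.4.6.2 s.11.4.6.1) (R.mk s.11.4.7.2 s.11.4.7.1) (R.mk s.11.4.8.2 s.11.4.8.1))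
  (@T16.mk R s.11.5.16 s.11.5.15 s.11.5.14 s.11.5.13 s.11.5.12 s.11.5.11 s.11.5.10 s.11.5.9 s.11.5.8 s.11.5.7 s.11.5.6 s.11.5.5 s.11.5.4 s.11.5.3 s.11.5.2 s.11.5.1)
  (@T16.mk R (R.mk s.11.6.11.2 s.11.6.11.1) (R.mk s.11.6.12.2 s.11.6.12.1) (R.mk s.11.6.9.2 s.11.6.9.1) (R.mk s.11.6.10.2 s.11.6.10.1) (R.mk s.11.6.15.2 s.11.6.15.1) (R.mk s.11.6.16.2 s.11.6.16.1) (R.mk s.11.6.13.2 s.11.6.13.1) (R.mk s.11.6.14.2 s.11.6.14.1) (R.mk s.11.6.3.2 s.11.6.3.1) (R.mk s.11.6.4.2 s.11.6.4.1) (R.mk s.11.6.1.2 s.11.6.1.1) (R.mk s.11.6.2.2 s.11.6.2.1) (R.mk s.11.6.7.2 s.11.6.7.1) (R.mk s.11.6.8.2 s.11.6.8.1) (R.mk s.11.6.5.2 s.11.6.5.1) (R.mk s.11.6.6.2 s.11.6.6.1))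
  (@T16.mk R s.11.7.6 s.11.7.5 s.11.7.8 s.11.7.7 s.11.7.2 s.11.7.1 s.11.7.4 s.11.7.3 s.11.7.14 s.11.7.13 s.11.7.16 s.11.7.15 s.11.7.10 s.11.7.9 s.11.7.12 s.11.7.11)
  (@T16.mk R s.11.8.1 s.11.8.2 s.11.8.3 s.11.8.4 s.11.8.5 s.11.8.6 s.11.8.7 s.11.8.8 s.11.8.9 s.11.8.10 s.11.8.11 s.11.8.12 s.11.8.13 s.11.8.14 s.11.8.15 s.11.8.16)
  (@T16.mk R (R.mk s.11.9.12.2 s.11.9.12.1) (R.mk s.11.9.11.2 s.11.9.11.1) (R.mk s.11.9.10.2 s.11.9.10.1) (R.mk s.11.9.9.2 s.11.9.9.1) (R.mk s.11.9.16.2 s.11.9.16.1) (R.mk s.11.9.15.2 s.11.9.15.1) (R.mk s.11.9.14.2 s.11.9.14.1) (R.mk s.11.9.13.2 s.11.9.13.1) (R.mk s.11.9.4.2 s.11.9.4.1) (R.mk s.11.9.3.2 s.11.9.3.1) (R.mk s.11.9.2.2 s.11.9.2.1) (R.mk s.11.9.1.2 s.11.9.1.1) (R.mk s.11.9.8.2 s.11.9.8.1) (R.mk s.11.9.7.2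 s.11.9.7.1) (R.mk s.11.9.6.2 s.11.9.6.1) (R.mk s.11.9.5.2 s.11.9.5.1))
  (@T16.mk R (R.mk s.11.10.12.2 s.11.10.12.1) (R.mk s.11.10.11.2 s.11.10.11.1) (R.mk s.11.10.10.2 s.11.10.10.1) (R.mk s.11.10.9.2 s.11.10.9.1) (R.mk s.11.10.16.2 s.11.10.16.1) (R.mk s.11.10.15.2 s.11.10.15.1) (R.mk s.11.10.14.2 s.11.10.14.1) (R.mk s.11.10.13.2 s.11.10.13.1) (R.mk s.11.10.4.2 s.11.10.4.1) (R.mk s.11.10.3.2 s.11.10.3.1) (R.mk s.11.10.2.2 s.11.10.2.1) (R.mk s.11.10.1.2 s.11.10.1.1) (R.mk s.11.10.8.2 s.11.10.8.1) (R.mk s.11.10.7.2 s.11.10.7.1) (R.mk s.11.10.6.2 s.11.10.6.1) (R.mk s.11.10.5.2 s.11.10.5.1))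
  (@T16.mk R (R.mk s.11.11.11.2 s.11.11.11.1) (R.mk s.11.11.12.2 s.11.11.12.1) (R.mk s.11.11.9.2 s.11.11.9.1) (R.mk s.11.11.10.2 s.11.11.10.1) (R.mk s.11.11.15.2 s.11.11.15.1) (R.mk s.11.11.16.2 s.11.11.16.1) (R.mk s.11.11.13.2 s.11.11.13.1) (R.mk s.11.11.14.2 s.11.11.14.1) (R.mk s.11.11.3.2 s.11.11.3.1) (R.mk s.11.11.4.2 s.11.11.4.1) (R.mk s.11.11.1.2 s.11.11.1.1) (R.mk s.11.11.2.2 s.11.11.2.1) (R.mk s.11.11.7.2 s.11.11.7.1) (R.mk s.11.11.8.2 s.11.11.8.1) (R.mk s.11.11.5.2 s.11.11.5.1) (R.mk s.11.11.6.2 s.11.11.6.1))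
  (@T16.mk R (R.mk s.11.12.8.2 s.11.12.8.1) (R.mk s.11.12.7.2 s.11.12.7.1) (R.mk s.11.12.6.2 s.11.12.6.1) (R.mk s.11.12.5.2 s.11.12.5.1) (R.mk s.11.12.4.2 s.11.12.4.1) (R.mk s.11.12.3.2 s.11.12.3.1) (R.mk s.11.12.2.2 s.11.12.2.1) (R.mk s.11.12.1.2 s.11.12.1.1) (R.mk s.11.12.16.2 s.11.12.16.1) (R.mk s.11.12.15.2 s.11.12.15.1) (R.mk s.11.12.14.2 s.11.12.14.1) (R.mk s.11.12.13.2 s.11.12.13.1) (R.mk s.11.12.12.2 s.11.12.12.1) (R.mk s.11.12.11.2 s.11.12.11.1) (R.mk s.11.12.10.2 s.11.12.10.1) (R.mk s.11.12.9.2 s.11.12.9.1))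
  (@T16.mk R (R.mk s.11.13.10.2 s.11.13.10.1) (R.mk s.11.13.9.2 s.11.13.9.1) (R.mk s.11.13.12.2 s.11.13.12.1) (R.mk s.11.13.11.2 s.11.13.11.1) (R.mk s.11.13.14.2 s.11.13.14.1) (R.mk s.11.13.13.2 s.11.13.13.1) (R.mk s.11.13.16.2 s.11.13.16.1) (R.mk s.11.13.15.2 s.11.13.15.1) (R.mk s.11.13.2.2 s.11.13.2.1) (R.mk s.11.13.1.2 s.11.13.1.1) (R.mk s.11.13.4.2 s.11.13.4.1) (R.mk s.11.13.3.2 s.11.13.3.1) (R.mk s.11.13.6.2 s.11.13.6.1) (R.mk s.11.13.5.2 s.11.13.5.1) (R.mk s.11.13.8.2 s.11.13.8.1) (R.mk s.11.13.7.2 s.11.13.7.1))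
  (@T16.mk R s.11.14.14 s.11.14.13 s.11.14.16 s.11.14.15 s.11.14.10 s.11.14.9 s.11.14.12 s.11.14.11 s.11.14.6 s.11.14.5 s.11.14.8 s.11.14.7 s.11.14.2 s.11.14.1 s.11.14.4 s.11.14.3)
  (@T16.mk R s.11.15.4 s.11.15.3 s.11.15.2 s.11.15.1 s.11.15.8 s.11.15.7 s.11.15.6 s.11.15.5 s.11.15.12 s.11.15.11 s.11.15.10 s.11.15.9 s.11.15.16 s.11.15.15 s.11.15.14 s.11.15.13)
  (@T16.mk R (R.mk s.11.16.6.2 s.11.16.6.1) (R.mk s.11.16.5.2 s.11.16.5.1) (R.mk s.11.16.8.2 s.11.16.8.1) (R.mk s.11.16.7.2 s.11.16.7.1) (R.mk s.11.16.2.2 s.11.16.2.1) (R.mk s.11.16.1.2 s.11.16.1.1) (R.mk s.11.16.4.2 s.11.16.4.1) (R.mk s.11.16.3.2 s.11.16.3.1) (R.mk s.11.16.14.2 s.11.16.14.1) (R.mk s.11.16.13.2 s.11.16.13.1) (R.mk s.11.16.16.2 s.11.16.16.1) (R.mk s.11.16.15.2 s.11.16.15.1)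 (R.mk s.11.16.10.2 s.11.16.10.1) (R.mk s.11.16.9.2 s.11.16.9.1) (R.mk s.11.16.12.2 s.11.16.12.1) (R.mk s.11.16.11.2 s.11.16.11.1))
 )
 (@T16.mk (T16 R)
  (@T16.mk R (R.mk s.12.1.10.2 s.12.1.10.1) (R.mk s.12.1.9.2 s.12.1.9.1) (R.mk s.12.1.12.2 s.12.1.12.1) (R.mk s.12.1.11.2 s.12.1.11.1) (R.mk s.12.1.14.2 s.12.1.14.1) (R.mk s.12.1.13.2 s.12.1.13.1) (R.mk s.12.1.16.2 s.12.1.16.1) (R.mk s.12.1.15.2 s.12.1.15.1) (R.mk s.12.1.2.2 s.12.1.2.1) (R.mk s.12.1.1.2 s.12.1.1.1) (R.mk s.12.1.4.2 s.12.1.4.1) (R.mk s.12.1.3.2 s.12.1.3.1) (R.mk s.12.1.6.2 s.12.1.6.1) (R.mk s.12.1.5.2 s.12.1.5.1) (R.mk s.12.1.8.2 s.12.1.8.1) (R.mk s.12.1.7.2 s.12.1.7.1))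
  (@T16.mk R (R.mk s.12.2.4.2 s.12.2.4.1) (R.mk s.12.2.3.2 s.12.2.3.1) (R.mk s.12.2.2.2 s.12.2.2.1) (R.mk s.12.2.1.2 s.12.2.1.1) (R.mk s.12.2.8.2 s.12.2.8.1) (R.mk s.12.2.7.2 s.12.2.7.1) (R.mk s.12.2.6.2 s.12.2.6.1) (R.mk s.12.2.5.2 s.12.2.5.1) (R.mk s.12.2.12.2 s.12.2.12.1) (R.mk s.12.2.11.2 s.12.2.11.1) (R.mk s.12.2.10.2 s.12.2.10.1) (R.mk s.12.2.9.2 s.12.2.9.1) (R.mk s.12.2.16.2 s.12.2.16.1) (R.mk s.12.2.15.2 s.12.2.15.1) (R.mk s.12.2.14.2 s.12.2.14.1) (R.mk s.12.2.13.2 s.12.2.13.1))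
  (@T16.mk R (R.mk s.12.3.11.2 s.12.3.11.1) (R.mk s.12.3.12.2 s.12.3.12.1) (R.mk s.12.3.9.2 s.12.3.9.1) (R.mk s.12.3.10.2 s.12.3.10.1) (R.mk s.12.3.15.2 s.12.3.15.1) (R.mk s.12.3.16.2 s.12.3.16.1) (R.mk s.12.3.13.2 s.12.3.13.1) (R.mk s.12.3.14.2 s.12.3.14.1) (R.mk s.12.3.3.2 s.12.3.3.1) (R.mk s.12.3.4.2 s.12.3.4.1) (R.mk s.12.3.1.2 s.12.3.1.1) (R.mk s.12.3.2.2 s.12.3.2.1) (R.mk s.12.3.7.2 s.12.3.7.1) (R.mk s.12.3.8.2 s.12.3.8.1) (R.mk s.12.3.5.2 s.12.3.5.1) (R.mk s.12.3.6.2 s.12.3.6.1))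
  (@T16.mk R (R.mk s.12.4.13.2 s.12.4.13.1) (R.mk s.12.4.14.2 s.12.4.14.1) (R.mk s.12.4.15.2 s.12.4.15.1) (R.mk s.12.4.16.2 s.12.4.16.1) (R.mk s.12.4.9.2 s.12.4.9.1) (R.mk s.12.4.10.2 s.12.4.10.1) (R.mk s.12.4.11.2 s.12.4.11.1) (R.mk s.12.4.12.2 s.12.4.12.1) (R.mk s.12.4.5.2 s.12.4.5.1) (R.mk s.12.4.6.2 s.12.4.6.1) (R.mk s.12.4.7.2 s.12.4.7.1) (R.mk s.12.4.8.2 s.12.4.8.1) (R.mk s.12.4.1.2 s.12.4.1.1) (R.mk s.12.4.2.2 s.12.4.2.1) (R.mk s.12.4.3.2 s.12.4.3.1) (R.mk s.12.4.4.2 s.12.4.4.1))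
  (@T16.mk R (R.mk s.12.5.5.2 s.12.5.5.1) (R.mk s.12.5.6.2 s.12.5.6.1) (R.mk s.12.5.7.2 s.12.5.7.1) (R.mk s.12.5.8.2 s.12.5.8.1) (R.mk s.12.5.1.2 s.12.5.1.1) (R.mk s.12.5.2.2 s.12.5.2.1) (R.mk s.12.5.3.2 s.12.5.3.1) (R.mk s.12.5.4.2 s.12.5.4.1) (R.mk s.12.5.13.2 s.12.5.13.1) (R.mk s.12.5.14.2 s.12.5.14.1) (R.mk s.12.5.15.2 s.12.5.15.1) (R.mk s.12.5.16.2 s.12.5.16.1) (R.mk s.12.5.9.2 s.12.5.9.1) (R.mk s.12.5.10.2 s.12.5.10.1) (R.mk s.12.5.11.2 s.12.5.11.1) (R.mk s.12.5.12.2 s.12.5.12.1))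
  (@T16.mk R s.12.6.4 s.12.6.3 s.12.6.2 s.12.6.1 s.12.6.8 s.12.6.7 s.12.6.6 s.12.6.5 s.12.6.12 s.12.6.11 s.12.6.10 s.12.6.9 s.12.6.16 s.12.6.15 s.12.6.14 s.12.6.13)
  (@T16.mk R (R.mk s.12.7.12.2 s.12.7.12.1) (R.mk s.12.7.11.2 s.12.7.11.1) (R.mk s.12.7.10.2 s.12.7.10.1) (R.mk s.12.7.9.2 s.12.7.9.1) (R.mk s.12.7.16.2 s.12.7.16.1) (R.mk s.12.7.15.2 s.12.7.15.1) (R.mk s.12.7.14.2 s.12.7.14.1) (R.mk s.12.7.13.2 s.12.7.13.1) (R.mk s.12.7.4.2 s.12.7.4.1) (R.mk s.12.7.3.2 s.12.7.3.1) (R.mk s.12.7.2.2 s.12.7.2.1) (R.mk s.12.7.1.2 s.12.7.1.1) (R.mk s.12.7.8.2 s.12.7.8.1) (R.mk s.12.7.7.2 s.12.7.7.1) (R.mk s.12.7.6.2 s.12.7.6.1) (R.mk s.12.7.5.2 s.12.7.5.1))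
  (@T16.mk R (R.mk s.12.8.2.2 s.12.8.2.1) (R.mk s.12.8.1.2 s.12.8.1.1) (R.mk s.12.8.4.2 s.12.8.4.1) (R.mk s.12.8.3.2 s.12.8.3.1) (R.mk s.12.8.6.2 s.12.8.6.1) (R.mk s.12.8.5.2 s.12.8.5.1) (R.mk s.12.8.8.2 s.12.8.8.1) (R.mk s.12.8.7.2 s.12.8.7.1) (R.mk s.12.8.10.2 s.12.8.10.1) (R.mk s.12.8.9.2 s.12.8.9.1) (R.mk s.12.8.12.2 s.12.8.12.1) (R.mk s.12.8.11.2 s.12.8.11.1) (R.mk s.12.8.14.2 s.12.8.14.1) (R.mk s.12.8.13.2 s.12.8.13.1) (R.mk s.12.8.16.2 s.12.8.16.1) (R.mk s.12.8.15.2 s.12.8.15.1))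
  (@T16.mk R (R.mk s.12.9.14.2 s.12.9.14.1) (R.mk s.12.9.13.2 s.12.9.13.1) (R.mk s.12.9.16.2 s.12.9.16.1) (R.mk s.12.9.15.2 s.12.9.15.1) (R.mk s.12.9.10.2 s.12.9.10.1) (R.mk s.12.9.9.2 s.12.9.9.1) (R.mk s.12.9.12.2 s.12.9.12.1) (R.mk s.12.9.11.2 s.12.9.11.1) (R.mk s.12.9.6.2 s.12.9.6.1) (R.mk s.12.9.5.2 s.12.9.5.1) (R.mk s.12.9.8.2 s.12.9.8.1) (R.mk s.12.9.7.2 s.12.9.7.1) (R.mk s.12.9.2.2 s.12.9.2.1) (R.mk s.12.9.1.2 s.12.9.1.1) (R.mk s.12.9.4.2 s.12.9.4.1) (R.mk s.12.9.3.2 s.12.9.3.1))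
  (@T16.mk R (R.mk s.12.10.16.2 s.12.10.16.1) (R.mk s.12.10.15.2 s.12.10.15.1) (R.mk s.12.10.14.2 s.12.10.14.1) (R.mk s.12.10.13.2 s.12.10.13.1) (R.mk s.12.10.12.2 s.12.10.12.1) (R.mk s.12.10.11.2 s.12.10.11.1) (R.mk s.12.10.10.2 s.12.10.10.1) (R.mk s.12.10.9.2 s.12.10.9.1) (R.mk s.12.10.8.2 s.12.10.8.1) (R.mk s.12.10.7.2 s.12.10.7.1) (R.mk s.12.10.6.2 s.12.10.6.1) (R.mk s.12.10.5.2 s.12.10.5.1) (R.mk s.12.10.4.2 s.12.10.4.1) (R.mk s.12.10.3.2 s.12.10.3.1) (R.mk s.12.10.2.2 s.12.10.2.1) (R.mk s.12.10.1.2 s.12.10.1.1))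
  (@T16.mk R s.12.11.11 s.12.11.12 s.12.11.9 s.12.11.10 s.12.11.15 s.12.11.16 s.12.11.13 s.12.11.14 s.12.11.3 s.12.11.4 s.12.11.1 s.12.11.2 s.12.11.7 s.12.11.8 s.12.11.5 s.12.11.6)
  (@T16.mk R (R.mk s.12.12.10.2 s.12.12.10.1) (R.mk s.12.12.9.2 s.12.12.9.1) (R.mk s.12.12.12.2 s.12.12.12.1) (R.mk s.12.12.11.2 s.12.12.11.1) (R.mk s.12.12.14.2 s.12.12.14.1) (R.mk s.12.12.13.2 s.12.12.13.1) (R.mk s.12.12.16.2 s.12.12.16.1) (R.mk s.12.12.15.2 s.12.12.15.1) (R.mk s.12.12.2.2 s.12.12.2.1) (R.mk s.12.12.1.2 s.12.12.1.1) (R.mk s.12.12.4.2 s.12.12.4.1) (R.mk s.12.12.3.2 s.12.12.3.1) (R.mk s.12.12.6.2 s.12.12.6.1) (R.mk s.12.12.5.2 s.12.12.5.1) (R.mk s.12.12.8.2 s.12.12.8.1) (R.mk s.12.12.7.2 s.12.12.7.1))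
  (@T16.mk R (R.mk s.12.13.8.2 s.12.13.8.1) (R.mk s.12.13.7.2 s.12.13.7.1) (R.mk s.12.13.6.2 s.12.13.6.1) (R.mk s.12.13.5.2 s.12.13.5.1) (R.mk s.12.13.4.2 s.12.13.4.1) (R.mk s.12.13.3.2 s.12.13.3.1) (R.mk s.12.13.2.2 s.12.13.2.1) (R.mk s.12.13.1.2 s.12.13.1.1) (R.mk s.12.13.16.2 s.12.13.16.1) (R.mk s.12.13.15.2 s.12.13.15.1) (R.mk s.12.13.14.2 s.12.13.14.1) (R.mk s.12.13.13.2 s.12.13.13.1) (R.mk s.12.13.12.2 s.12.13.12.1) (R.mk s.12.13.11.2 s.12.13.11.1) (R.mk s.12.13.10.2 s.12.13.10.1) (R.mk s.12.13.9.2 s.12.13.9.1))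
  (@T16.mk R s.12.14.12 s.12.14.11 s.12.14.10 s.12.14.9 s.12.14.16 s.12.14.15 s.12.14.14 s.12.14.13 s.12.14.4 s.12.14.3 s.12.14.2 s.12.14.1 s.12.14.8 s.12.14.7 s.12.14.6 s.12.14.5)
  (@T16.mk R s.12.15.1 s.12.15.2 s.12.15.3 s.12.15.4 s.12.15.5 s.12.15.6 s.12.15.7 s.12.15.8 s.12.15.9 s.12.15.10 s.12.15.11 s.12.15.12 s.12.15.13 s.12.15.14 s.12.15.15 s.12.15.16)
  (@T16.mk R (R.mk s.12.16.10.2 s.12.16.10.1) (R.mk s.12.16.9.2 s.12.16.9.1) (R.mk s.12.16.12.2 s.12.16.12.1) (R.mk s.12.16.11.2 s.12.16.11.1) (R.mk s.12.16.14.2 s.12.16.14.1) (R.mk s.12.16.13.2 s.12.16.13.1) (R.mk s.12.16.16.2 s.12.16.16.1) (R.mk s.12.16.15.2 s.12.16.15.1) (R.mk s.12.16.2.2 s.12.16.2.1) (R.mk s.12.16.1.2 s.12.16.1.1) (R.mk s.12.16.4.2 s.12.16.4.1) (R.mk s.12.16.3.2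 s.12.16.3.1) (R.mk s.12.16.6.2 s.12.16.6.1) (R.mk s.12.16.5.2 s.12.16.5.1) (R.mk s.12.16.8.2 s.12.16.8.1) (R.mk s.12.16.7.2 s.12.16.7.1))
 )
 (@T16.mk (T16 R)
  (@T16.mk R s.13.1.1 s.13.1.2 s.13.1.3 s.13.1.4 s.13.1.5 s.13.1.6 s.13.1.7 s.13.1.8 s.13.1.9 s.13.1.10 s.13.1.11 s.13.1.12 s.13.1.13 s.13.1.14 s.13.1.15 s.13.1.16)
  (@T16.mk R s.13.2.12 s.13.2.11 s.13.2.10 s.13.2.9 s.13.2.16 s.13.2.15 s.13.2.14 s.13.2.13 s.13.2.4 s.13.2.3 s.13.2.2 s.13.2.1 s.13.2.8 s.13.2.7 s.13.2.6 s.13.2.5)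
  (@T16.mk R s.13.3.16 s.13.3.15 s.13.3.14 s.13.3.13 s.13.3.12 s.13.3.11 s.13.3.10 s.13.3.9 s.13.3.8 s.13.3.7 s.13.3.6 s.13.3.5 s.13.3.4 s.13.3.3 s.13.3.2 s.13.3.1)
  (@T16.mk R s.13.4.7 s.13.4.8 s.13.4.5 s.13.4.6 s.13.4.3 s.13.4.4 s.13.4.1 s.13.4.2 s.13.4.15 s.13.4.16 s.13.4.13 s.13.4.14 s.13.4.11 s.13.4.12 s.13.4.9 s.13.4.10)
  (@T16.mk R s.13.5.1 s.13.5.2 s.13.5.3 s.13.5.4 s.13.5.5 s.13.5.6 s.13.5.7 s.13.5.8 s.13.5.9 s.13.5.10 s.13.5.11 s.13.5.12 s.13.5.13 s.13.5.14 s.13.5.15 s.13.5.16)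
  (@T16.mk R s.13.6.13 s.13.6.14 s.13.6.15 s.13.6.16 s.13.6.9 s.13.6.10 s.13.6.11 s.13.6.12 s.13.6.5 s.13.6.6 s.13.6.7 s.13.6.8 s.13.6.1 s.13.6.2 s.13.6.3 s.13.6.4)
  (@T16.mk R (R.mk s.13.7.12.2 s.13.7.12.1) (R.mk s.13.7.11.2 s.13.7.11.1) (R.mk s.13.7.10.2 s.13.7.10.1) (R.mk s.13.7.9.2 s.13.7.9.1) (R.mk s.13.7.16.2 s.13.7.16.1) (R.mk s.13.7.15.2 s.13.7.15.1) (R.mk s.13.7.14.2 s.13.7.14.1) (R.mk s.13.7.13.2 s.13.7.13.1) (R.mk s.13.7.4.2 s.13.7.4.1) (R.mk s.13.7.3.2 s.13.7.3.1) (R.mk s.13.7.2.2 s.13.7.2.1) (R.mk s.13.7.1.2 s.13.7.1.1) (R.mk s.13.7.8.2 s.13.7.8.1) (R.mk s.13.7.7.2 s.13.7.7.1) (R.mk s.13.7.6.2 s.13.7.6.1) (R.mk s.13.7.5.2 s.13.7.5.1))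
  (@T16.mk R s.13.8.12 s.13.8.11 s.13.8.10 s.13.8.9 s.13.8.16 s.13.8.15 s.13.8.14 s.13.8.13 s.13.8.4 s.13.8.3 s.13.8.2 s.13.8.1 s.13.8.8 s.13.8.7 s.13.8.6 s.13.8.5)
  (@T16.mk R s.13.9.11 s.13.9.12 s.13.9.9 s.13.9.10 s.13.9.15 s.13.9.16 s.13.9.13 s.13.9.14 s.13.9.3 s.13.9.4 s.13.9.1 s.13.9.2 s.13.9.7 s.13.9.8 s.13.9.5 s.13.9.6)
  (@T16.mk R (R.mk s.13.10.11.2 s.13.10.11.1) (R.mk s.13.10.12.2 s.13.10.12.1) (R.mk s.13.10.9.2 s.13.10.9.1) (R.mk s.13.10.10.2 s.13.10.10.1) (R.mk s.13.10.15.2 s.13.10.15.1) (R.mk s.13.10.16.2 s.13.10.16.1) (R.mk s.13.10.13.2 s.13.10.13.1) (R.mk s.13.10.14.2 s.13.10.14.1) (R.mk s.13.10.3.2 s.13.10.3.1) (R.mk s.13.10.4.2 s.13.10.4.1) (R.mk s.13.10.1.2 s.13.10.1.1) (R.mk s.13.10.2.2 s.13.10.2.1) (R.mk s.13.10.7.2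 s.13.10.7.1) (R.mk s.13.10.8.2 s.13.10.8.1) (R.mk s.13.10.5.2 s.13.10.5.1) (R.mk s.13.10.6.2 s.13.10.6.1))
  (@T16.mk R (R.mk s.13.11.16.2 s.13.11.16.1) (R.mk s.13.11.15.2 s.13.11.15.1) (R.mk s.13.11.14.2 s.13.11.14.1) (R.mk s.13.11.13.2 s.13.11.13.1) (R.mk s.13.11.12.2 s.13.11.12.1) (R.mk s.13.11.11.2 s.13.11.11.1) (R.mk s.13.11.10.2 s.13.11.10.1) (R.mk s.13.11.9.2 s.13.11.9.1) (R.mk s.13.11.8.2 s.13.11.8.1) (R.mk s.13.11.7.2 s.13.11.7.1) (R.mk s.13.11.6.2 s.13.11.6.1) (R.mk s.13.11.5.2 s.13.11.5.1) (R.mk s.13.11.4.2 s.13.11.4.1) (R.mk s.13.11.3.2 s.13.11.3.1) (R.mk s.13.11.2.2 s.13.11.2.1) (R.mk s.13.11.1.2 s.13.11.1.1))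
  (@T16.mk R s.13.12.8 s.13.12.7 s.13.12.6 s.13.12.5 s.13.12.4 s.13.12.3 s.13.12.2 s.13.12.1 s.13.12.16 s.13.12.15 s.13.12.14 s.13.12.13 s.13.12.12 s.13.12.11 s.13.12.10 s.13.12.9)
  (@T16.mk R (R.mk s.13.13.10.2 s.13.13.10.1) (R.mk s.13.13.9.2 s.13.13.9.1) (R.mk s.13.13.12.2 s.13.13.12.1) (R.mk s.13.13.11.2 s.13.13.11.1) (R.mk s.13.13.14.2 s.13.13.14.1) (R.mk s.13.13.13.2 s.13.13.13.1) (R.mk s.13.13.16.2 s.13.13.16.1) (R.mk s.13.13.15.2 s.13.13.15.1) (R.mk s.13.13.2.2 s.13.13.2.1) (R.mk s.13.13.1.2 s.13.13.1.1) (R.mk s.13.13.4.2 s.13.13.4.1) (R.mk s.13.13.3.2 s.13.13.3.1) (R.mk s.13.13.6.2 s.13.13.6.1) (R.mk s.13.13.5.2 s.13.13.5.1) (R.mk s.13.13.8.2 s.13.13.8.1) (R.mk s.13.13.7.2 s.13.13.7.1))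
  (@T16.mk R s.15.16.13 (R.mk s.15.16.14.2 s.15.16.14.1) s.15.16.15 s.15.16.16 s.15.16.9 s.15.16.10 (R.mk s.15.16.11.2 s.15.16.11.1) s.15.16.12 s.15.16.5 (R.mk s.15.16.6.2 s.15.16.6.1) s.15.16.7 s.15.16.8 s.15.16.1 s.15.16.2 (R.mk s.15.16.3.2 s.15.16.3.1) s.15.16.4)
  (@T16.mk R s.16.1.13 s.16.1.14 (R.mk s.16.1.15.2 s.16.1.15.1) s.16.1.16 (R.mk s.16.1.9.2 s.16.1.9.1) s.16.1.10 (R.mk s.16.1.11.2 s.16.1.11.1) (R.mk s.16.1.12.2 s.16.1.12.1) (R.mk s.16.1.5.2 s.16.1.5.1) (R.mk s.16.1.6.2 s.16.1.6.1) s.16.1.7 (R.mk s.16.1.8.2 s.16.1.8.1) s.16.1.1 (R.mk s.16.1.2.2 s.16.1.2.1) s.16.1.3 s.16.1.4)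
  (@T16.mk R (R.mk s.15.14.13.2 s.15.14.13.1) s.15.14.14 s.15.14.15 s.15.14.16 (R.mk s.15.14.9.2 s.15.14.9.1) (R.mk s.15.14.10.2 s.15.14.10.1) (R.mk s.15.14.11.2 s.15.14.11.1) s.15.14.12 (R.mk s.15.14.5.2 s.15.14.5.1) s.15.14.6 s.15.14.7 s.15.14.8 (R.mk s.15.14.1.2 s.15.14.1.1) (R.mk s.15.14.2.2 s.15.14.2.1) (R.mk s.15.14.3.2 s.15.14.3.1) s.15.14.4)
 )
 (@T16.mk (T16 R)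
  (@T16.mk R (R.mk s.15.15.13.2 s.15.15.13.1) (R.mk s.15.15.14.2 s.15.15.14.1) (R.mk s.15.15.15.2 s.15.15.15.1) s.15.15.16 s.15.15.9 (R.mk s.15.15.10.2 s.15.15.10.1) (R.mk s.15.15.11.2 s.15.15.11.1) (R.mk s.15.15.12.2 s.15.15.12.1) s.15.15.5 s.15.15.6 s.15.15.7 (R.mk s.15.15.8.2 s.15.15.8.1) (R.mk s.15.15.1.2 s.15.15.1.1) s.15.15.2 s.15.15.3 s.15.15.4)
  (@T16.mk R s.16.4.13 s.16.4.14 (R.mk s.16.4.15.2 s.16.4.15.1) s.16.4.16 s.16.4.9 (R.mk s.16.4.10.2 s.16.4.10.1) s.16.4.11 s.16.4.12 s.16.4.5 s.16.4.6 (R.mk s.16.4.7.2 s.16.4.7.1) s.16.4.8 s.16.4.1 (R.mk s.16.4.2.2 s.16.4.2.1) s.16.4.3 s.16.4.4)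
  (@T16.mk R s.16.5.13 (R.mk s.16.5.14.2 s.16.5.14.1) s.16.5.15 s.16.5.16 (R.mk s.16.5.9.2 s.16.5.9.1) (R.mk s.16.5.10.2 s.16.5.10.1) s.16.5.11 (R.mk s.16.5.12.2 s.16.5.12.1) (R.mk s.16.5.5.2 s.16.5.5.1) s.16.5.6 (R.mk s.16.5.7.2 s.16.5.7.1) (R.mk s.16.5.8.2 s.16.5.8.1) s.16.5.1 s.16.5.2 (R.mk s.16.5.3.2 s.16.5.3.1) s.16.5.4)
  (@T16.mk R s.16.2.13 s.16.2.14 s.16.2.15 (R.mk s.16.2.16.2 s.16.2.16.1) s.16.2.9 (R.mk s.16.2.10.2 s.16.2.10.1) (R.mk s.16.2.11.2 s.16.2.11.1) (R.mk s.16.2.12.2 s.16.2.12.1) s.16.2.5 s.16.2.6 s.16.2.7 (R.mk s.16.2.8.2 s.16.2.8.1) s.16.2.1 (R.mk s.16.2.2.2 s.16.2.2.1) (R.mk s.16.2.3.2 s.16.2.3.1) (R.mk s.16.2.4.2 s.16.2.4.1))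
  (@T16.mk R s.16.3.13 (R.mk s.16.3.14.2 s.16.3.14.1) (R.mk s.16.3.15.2 s.16.3.15.1) (R.mk s.16.3.16.2 s.16.3.16.1) (R.mk s.16.3.9.2 s.16.3.9.1) (R.mk s.16.3.10.2 s.16.3.10.1) (R.mk s.16.3.11.2 s.16.3.11.1) s.16.3.12 (R.mk s.16.3.5.2 s.16.3.5.1) s.16.3.6 s.16.3.7 s.16.3.8 s.16.3.1 s.16.3.2 s.16.3.3 (R.mk s.16.3.4.2 s.16.3.4.1))
  (@T16.mk R s.16.8.13 s.16.8.14 s.16.8.15 (R.mk s.16.8.16.2 s.16.8.16.1) s.16.8.9 (R.mk s.16.8.10.2 s.16.8.10.1) (R.mk s.16.8.11.2 s.16.8.11.1) (R.mk s.16.8.12.2 s.16.8.12.1) (R.mk s.16.8.5.2 s.16.8.5.1) (R.mk s.16.8.6.2 s.16.8.6.1) (R.mk s.16.8.7.2 s.16.8.7.1) s.16.8.8 (R.mk s.16.8.1.2 s.16.8.1.1) s.16.8.2 s.16.8.3 s.16.8.4)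
  (@T16.mk R (R.mk s.16.9.13.2 s.16.9.13.1) s.16.9.14 s.16.9.15 s.16.9.16 s.16.9.9 s.16.9.10 s.16.9.11 (R.mk s.16.9.12.2 s.16.9.12.1) (R.mk s.16.9.5.2 s.16.9.5.1) s.16.9.6 s.16.9.7 s.16.9.8 s.16.9.1 s.16.9.2 s.16.9.3 (R.mk s.16.9.4.2 s.16.9.4.1))
  (@T16.mk R (R.mk s.16.6.13.2 s.16.6.13.1) (R.mk s.16.6.14.2 s.16.6.14.1) s.16.6.15 (R.mk s.16.6.16.2 s.16.6.16.1) (R.mk s.16.6.9.2 s.16.6.9.1) s.16.6.10 (R.mk s.16.6.11.2 s.16.6.11.1) (R.mk s.16.6.12.2 s.16.6.12.1) s.16.6.5 s.16.6.6 (R.mk s.16.6.7.2 s.16.6.7.1) s.16.6.8 s.16.6.1 (R.mk s.16.6.2.2 s.16.6.2.1) s.16.6.3 s.16.6.4)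
  (@T16.mk R s.16.7.13 (R.mk s.16.7.14.2 s.16.7.14.1) s.16.7.15 s.16.7.16 (R.mk s.16.7.9.2 s.16.7.9.1) (R.mk s.16.7.10.2 s.16.7.10.1) s.16.7.11 (R.mk s.16.7.12.2 s.16.7.12.1) s.16.7.5 (R.mk s.16.7.6.2 s.16.7.6.1) s.16.7.7 s.16.7.8 (R.mk s.16.7.1.2 s.16.7.1.1) (R.mk s.16.7.2.2 s.16.7.2.1) s.16.7.3 (R.mk s.16.7.4.2 s.16.7.4.1))
  (@T16.mk R (R.mk s.16.12.13.2 s.16.12.13.1) s.16.12.14 s.16.12.15 s.16.12.16 (R.mk s.16.12.9.2 s.16.12.9.1) (R.mk s.16.12.10.2 s.16.12.10.1) (R.mk s.16.12.11.2 s.16.12.11.1) s.16.12.12 s.16.12.5 (R.mk s.16.12.6.2 s.16.12.6.1) (R.mk s.16.12.7.2 s.16.12.7.1) (R.mk s.16.12.8.2 s.16.12.8.1) s.16.12.1 s.16.12.2 s.16.12.3 (R.mk s.16.12.4.2 s.16.12.4.1))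
  (@T16.mk R s.16.13.13 s.16.13.14 s.16.13.15 (R.mk s.16.13.16.2 s.16.13.16.1) (R.mk s.16.13.9.2 s.16.13.9.1) s.16.13.10 s.16.13.11 s.16.13.12 s.16.13.5 s.16.13.6 s.16.13.7 (R.mk s.16.13.8.2 s.16.13.8.1) (R.mk s.16.13.1.2 s.16.13.1.1) s.16.13.2 s.16.13.3 s.16.13.4)
  (@T16.mk R (R.mk s.16.10.13.2 s.16.10.13.1) s.16.10.14 (R.mk s.16.10.15.2 s.16.10.15.1) (R.mk s.16.10.16.2 s.16.10.16.1) (R.mk s.16.10.9.2 s.16.10.9.1) (R.mk s.16.10.10.2 s.16.10.10.1) s.16.10.11 (R.mk s.16.10.12.2 s.16.10.12.1) s.16.10.5 (R.mk s.16.10.6.2 s.16.10.6.1) s.16.10.7 s.16.10.8 s.16.10.1 s.16.10.2 (R.mk s.16.10.3.2 s.16.10.3.1) s.16.10.4)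
  (@T16.mk R s.16.11.13 s.16.11.14 (R.mk s.16.11.15.2 s.16.11.15.1) s.16.11.16 (R.mk s.16.11.9.2 s.16.11.9.1) s.16.11.10 (R.mk s.16.11.11.2 s.16.11.11.1) (R.mk s.16.11.12.2 s.16.11.12.1) s.16.11.5 s.16.11.6 (R.mk s.16.11.7.2 s.16.11.7.1) s.16.11.8 (R.mk s.16.11.1.2 s.16.11.1.1) s.16.11.2 (R.mk s.16.11.3.2 s.16.11.3.1) (R.mk s.16.11.4.2 s.16.11.4.1))
  (@T16.mk R s.16.16.13 s.16.16.14 s.16.16.15 (R.mk s.16.16.16.2 s.16.16.16.1) s.16.16.9 (R.mk s.16.16.10.2 s.16.16.10.1) (R.mk s.16.16.11.2 s.16.16.11.1) (R.mk s.16.16.12.2 s.16.16.12.1) (R.mk s.16.16.5.2 s.16.16.5.1) (R.mk s.16.16.6.2 s.16.16.6.1) (R.mk s.16.16.7.2 s.16.16.7.1) s.16.16.8 (R.mk s.16.16.1.2 s.16.16.1.1) s.16.16.2 s.16.16.3 s.16.16.4)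
  (@T16.mk R (R.mk s.17.1.13.2 s.17.1.13.1) s.17.1.14 s.17.1.15 s.17.1.16 s.17.1.9 s.17.1.10 s.17.1.11 (R.mk s.17.1.12.2 s.17.1.12.1) (R.mk s.17.1.5.2 s.17.1.5.1) s.17.1.6 s.17.1.7 s.17.1.8 s.17.1.1 s.17.1.2 s.17.1.3 (R.mk s.17.1.4.2 s.17.1.4.1))
  (@T16.mk R (R.mk s.16.14.13.2 s.16.14.13.1) (R.mk s.16.14.14.2 s.16.14.14.1) s.16.14.15 (R.mk s.16.14.16.2 s.16.14.16.1) (R.mk s.16.14.9.2 s.16.14.9.1) s.16.14.10 (R.mk s.16.14.11.2 s.16.14.11.1) (R.mk s.16.14.12.2 s.16.14.12.1) s.16.14.5 s.16.14.6 (R.mk s.16.14.7.2 s.16.14.7.1) s.16.14.8 s.16.14.1 (R.mk s.16.14.2.2 s.16.14.2.1) s.16.14.3 s.16.14.4)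
 )
 (@T16.mk (T16 R)
  (@T16.mk R s.16.15.13 (R.mk s.16.15.14.2 s.16.15.14.1) s.16.15.15 s.16.15.16 (R.mk s.16.15.9.2 s.16.15.9.1) (R.mk s.16.15.10.2 s.16.15.10.1) s.16.15.11 (R.mk s.16.15.12.2 s.16.15.12.1) s.16.15.5 (R.mk s.16.15.6.2 s.16.15.6.1) s.16.15.7 s.16.15.8 (R.mk s.16.15.1.2 s.16.15.1.1) (R.mk s.16.15.2.2 s.16.15.2.1) s.16.15.3 (R.mk s.16.15.4.2 s.16.15.4.1))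
  (@T16.mk R (R.mk s.17.4.13.2 s.17.4.13.1) s.17.4.14 s.17.4.15 s.17.4.16 (R.mk s.17.4.9.2 s.17.4.9.1) (R.mk s.17.4.10.2 s.17.4.10.1) (R.mk s.17.4.11.2 s.17.4.11.1) s.17.4.12 s.17.4.5 (R.mk s.17.4.6.2 s.17.4.6.1) (R.mk s.17.4.7.2 s.17.4.7.1) (R.mk s.17.4.8.2 s.17.4.8.1) s.17.4.1 s.17.4.2 s.17.4.3 (R.mk s.17.4.4.2 s.17.4.4.1))
  (@T16.mk R s.17.5.13 s.17.5.14 s.17.5.15 (R.mk s.17.5.16.2 s.17.5.16.1) (R.mk s.17.5.9.2 s.17.5.9.1) s.17.5.10 s.17.5.11 s.17.5.12 s.17.5.5 s.17.5.6 s.17.5.7 (R.mk s.17.5.8.2 s.17.5.8.1) (R.mk s.17.5.1.2 s.17.5.1.1) s.17.5.2 s.17.5.3 s.17.5.4)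
  (@T16.mk R (R.mk s.17.2.13.2 s.17.2.13.1) s.17.2.14 (R.mk s.17.2.15.2 s.17.2.15.1) (R.mk s.17.2.16.2 s.17.2.16.1) (R.mk s.17.2.9.2 s.17.2.9.1) (R.mk s.17.2.10.2 s.17.2.10.1) s.17.2.11 (R.mk s.17.2.12.2 s.17.2.12.1) s.17.2.5 (R.mk s.17.2.6.2 s.17.2.6.1) s.17.2.7 s.17.2.8 s.17.2.1 s.17.2.2 (R.mk s.17.2.3.2 s.17.2.3.1) s.17.2.4)
  (@T16.mk R s.17.3.13 s.17.3.14 (R.mk s.17.3.15.2 s.17.3.15.1) s.17.3.16 (R.mk s.17.3.9.2 s.17.3.9.1) s.17.3.10 (R.mk s.17.3.11.2 s.17.3.11.1) (R.mk s.17.3.12.2 s.17.3.12.1) s.17.3.5 s.17.3.6 (R.mk s.17.3.7.2 s.17.3.7.1) s.17.3.8 (R.mk s.17.3.1.2 s.17.3.1.1) s.17.3.2 (R.mk s.17.3.3.2 s.17.3.3.1) (R.mk s.17.3.4.2 s.17.3.4.1))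
  (@T16.mk R s.17.8.13 (R.mk s.17.8.14.2 s.17.8.14.1) s.17.8.15 s.17.8.16 s.17.8.9 s.17.8.10 (R.mk s.17.8.11.2 s.17.8.11.1) s.17.8.12 s.17.8.5 (R.mk s.17.8.6.2 s.17.8.6.1) s.17.8.7 s.17.8.8 s.17.8.1 s.17.8.2 (R.mk s.17.8.3.2 s.17.8.3.1) s.17.8.4)
  (@T16.mk R s.17.9.13 s.17.9.14 (R.mk s.17.9.15.2 s.17.9.15.1) s.17.9.16 (R.mk s.17.9.9.2 s.17.9.9.1) s.17.9.10 (R.mk s.17.9.11.2 s.17.9.11.1) (R.mk s.17.9.12.2 s.17.9.12.1) (R.mk s.17.9.5.2 s.17.9.5.1) (R.mk s.17.9.6.2 s.17.9.6.1) s.17.9.7 (R.mk s.17.9.8.2 s.17.9.8.1) s.17.9.1 (R.mk s.17.9.2.2 s.17.9.2.1) s.17.9.3 s.17.9.4)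
  (@T16.mk R (R.mk s.17.6.13.2 s.17.6.13.1) s.17.6.14 s.17.6.15 s.17.6.16 (R.mk s.17.6.9.2 s.17.6.9.1) (R.mk s.17.6.10.2 s.17.6.10.1) (R.mk s.17.6.11.2 s.17.6.11.1) s.17.6.12 (R.mk s.17.6.5.2 s.17.6.5.1) s.17.6.6 s.17.6.7 s.17.6.8 (R.mk s.17.6.1.2 s.17.6.1.1) (R.mk s.17.6.2.2 s.17.6.2.1) (R.mk s.17.6.3.2 s.17.6.3.1) s.17.6.4)
  (@T16.mk R (R.mk s.17.7.13.2 s.17.7.13.1) (R.mk s.17.7.14.2 s.17.7.14.1) (R.mk s.17.7.15.2 s.17.7.15.1) s.17.7.16 s.17.7.9 (R.mk s.17.7.10.2 s.17.7.10.1) (R.mk s.17.7.11.2 s.17.7.11.1) (R.mk s.17.7.12.2 s.17.7.12.1) s.17.7.5 s.17.7.6 s.17.7.7 (R.mk s.17.7.8.2 s.17.7.8.1) (R.mk s.17.7.1.2 s.17.7.1.1) s.17.7.2 s.17.7.3 s.17.7.4)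
  (@T16.mk R s.17.12.13 s.17.12.14 (R.mk s.17.12.15.2 s.17.12.15.1) s.17.12.16 s.17.12.9 (R.mk s.17.12.10.2 s.17.12.10.1) s.17.12.11 s.17.12.12 s.17.12.5 s.17.12.6 (R.mk s.17.12.7.2 s.17.12.7.1) s.17.12.8 s.17.12.1 (R.mk s.17.12.2.2 s.17.12.2.1) s.17.12.3 s.17.12.4)
  (@T16.mk R s.17.13.13 (R.mk s.17.13.14.2 s.17.13.14.1) s.17.13.15 s.17.13.16 (R.mk s.17.13.9.2 s.17.13.9.1) (R.mk s.17.13.10.2 s.17.13.10.1) s.17.13.11 (R.mk s.17.13.12.2 s.17.13.12.1) (R.mk s.17.13.5.2 s.17.13.5.1) s.17.13.6 (R.mk s.17.13.7.2 s.17.13.7.1) (R.mk s.17.13.8.2 s.17.13.8.1) s.17.13.1 s.17.13.2 (R.mk s.17.13.3.2 s.17.13.3.1) s.17.13.4)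
  (@T16.mk R s.17.10.13 s.17.10.14 s.17.10.15 (R.mk s.17.10.16.2 s.17.10.16.1) s.17.10.9 (R.mk s.17.10.10.2 s.17.10.10.1) (R.mk s.17.10.11.2 s.17.10.11.1) (R.mk s.17.10.12.2 s.17.10.12.1) s.17.10.5 s.17.10.6 s.17.10.7 (R.mk s.17.10.8.2 s.17.10.8.1) s.17.10.1 (R.mk s.17.10.2.2 s.17.10.2.1) (R.mk s.17.10.3.2 s.17.10.3.1) (R.mk s.17.10.4.2 s.17.10.4.1))
  (@T16.mk R s.17.11.13 (R.mk s.17.11.14.2 s.17.11.14.1) (R.mk s.17.11.15.2 s.17.11.15.1) (R.mk s.17.11.16.2 s.17.11.16.1) (R.mk s.17.11.9.2 s.17.11.9.1) (R.mk s.17.11.10.2 s.17.11.10.1) (R.mk s.17.11.11.2 s.17.11.11.1) s.17.11.12 (R.mk s.17.11.5.2 s.17.11.5.1) s.17.11.6 s.17.11.7 s.17.11.8 s.17.11.1 s.17.11.2 s.17.11.3 (R.mk s.17.11.4.2 s.17.11.4.1))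
  (@T16.mk R (R.mk s.13.16.13.2 s.13.16.13.1) (R.mk s.13.16.14.2 s.13.16.14.1) (R.mk s.13.16.15.2 s.13.16.15.1) s.13.16.16 (R.mk s.13.16.9.2 s.13.16.9.1) s.13.16.10 s.13.16.11 s.13.16.12 (R.mk s.13.16.5.2 s.13.16.5.1) (R.mk s.13.16.6.2 s.13.16.6.1) (R.mk s.13.16.7.2 s.13.16.7.1) s.13.16.8 (R.mk s.13.16.1.2 s.13.16.1.1) s.13.16.2 s.13.16.3 s.13.16.4)
  (@T16.mk R (R.mk s.14.1.13.2 s.14.1.13.1) s.14.1.14 s.14.1.15 s.14.1.16 s.14.1.9 s.14.1.10 s.14.1.11 (R.mk s.14.1.12.2 s.14.1.12.1) s.14.1.5 (R.mk s.14.1.6.2 s.14.1.6.1) (R.mk s.14.1.7.2 s.14.1.7.1) (R.mk s.14.1.8.2 s.14.1.8.1) (R.mk s.14.1.1.2 s.14.1.1.1) (R.mk s.14.1.2.2 s.14.1.2.1) (R.mk s.14.1.3.2 s.14.1.3.1) s.14.1.4)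
  (@T16.mk R s.13.14.13 s.13.14.14 (R.mk s.13.14.15.2 s.13.14.15.1) s.13.14.16 s.13.14.9 (R.mk s.13.14.10.2 s.13.14.10.1) s.13.14.11 s.13.14.12 s.13.14.5 s.13.14.6 (R.mk s.13.14.7.2 s.13.14.7.1) s.13.14.8 s.13.14.1 (R.mk s.13.14.2.2 s.13.14.2.1) s.13.14.3 s.13.14.4)
 )
 (@T16.mk (T16 R)
  (@T16.mk R s.13.15.13 (R.mk s.13.15.14.2 s.13.15.14.1) s.13.15.15 s.13.15.16 (R.mk s.13.15.9.2 s.13.15.9.1) (R.mk s.13.15.10.2 s.13.15.10.1) s.13.15.11 (R.mk s.13.15.12.2 s.13.15.12.1) (R.mk s.13.15.5.2 s.13.15.5.1) s.13.15.6 (R.mk s.13.15.7.2 s.13.15.7.1) (R.mk s.13.15.8.2 s.13.15.8.1) s.13.15.1 s.13.15.2 (R.mk s.13.15.3.2 s.13.15.3.1) s.13.15.4)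
  (@T16.mk R s.14.4.13 (R.mk s.14.4.14.2 s.14.4.14.1) (R.mk s.14.4.15.2 s.14.4.15.1) (R.mk s.14.4.16.2 s.14.4.16.1) s.14.4.9 s.14.4.10 s.14.4.11 (R.mk s.14.4.12.2 s.14.4.12.1) s.14.4.5 (R.mk s.14.4.6.2 s.14.4.6.1) (R.mk s.14.4.7.2 s.14.4.7.1) (R.mk s.14.4.8.2 s.14.4.8.1) s.14.4.1 s.14.4.2 s.14.4.3 (R.mk s.14.4.4.2 s.14.4.4.1))
  (@T16.mk R s.14.5.13 s.14.5.14 s.14.5.15 (R.mk s.14.5.16.2 s.14.5.16.1) (R.mk s.14.5.9.2 s.14.5.9.1) s.14.5.10 s.14.5.11 s.14.5.12 (R.mk s.14.5.5.2 s.14.5.5.1) (R.mk s.14.5.6.2 s.14.5.6.1) (R.mk s.14.5.7.2 s.14.5.7.1) s.14.5.8 s.14.5.1 (R.mk s.14.5.2.2 s.14.5.2.1) (R.mk s.14.5.3.2 s.14.5.3.1) (R.mk s.14.5.4.2 s.14.5.4.1))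
  (@T16.mk R s.14.2.13 (R.mk s.14.2.14.2 s.14.2.14.1) s.14.2.15 s.14.2.16 s.14.2.9 s.14.2.10 (R.mk s.14.2.11.2 s.14.2.11.1) s.14.2.12 s.14.2.5 (R.mk s.14.2.6.2 s.14.2.6.1) s.14.2.7 s.14.2.8 s.14.2.1 s.14.2.2 (R.mk s.14.2.3.2 s.14.2.3.1) s.14.2.4)
  (@T16.mk R s.14.3.13 s.14.3.14 (R.mk s.14.3.15.2 s.14.3.15.1) s.14.3.16 (R.mk s.14.3.9.2 s.14.3.9.1) s.14.3.10 (R.mk s.14.3.11.2 s.14.3.11.1) (R.mk s.14.3.12.2 s.14.3.12.1) (R.mk s.14.3.5.2 s.14.3.5.1) (R.mk s.14.3.6.2 s.14.3.6.1) s.14.3.7 (R.mk s.14.3.8.2 s.14.3.8.1) s.14.3.1 (R.mk s.14.3.2.2 s.14.3.2.1) s.14.3.3 s.14.3.4)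
  (@T16.mk R s.14.8.13 (R.mk s.14.8.14.2 s.14.8.14.1) s.14.8.15 s.14.8.16 s.14.8.9 s.14.8.10 (R.mk s.14.8.11.2 s.14.8.11.1) s.14.8.12 (R.mk s.14.8.5.2 s.14.8.5.1) s.14.8.6 (R.mk s.14.8.7.2 s.14.8.7.1) (R.mk s.14.8.8.2 s.14.8.8.1) (R.mk s.14.8.1.2 s.14.8.1.1) (R.mk s.14.8.2.2 s.14.8.2.1) s.14.8.3 (R.mk s.14.8.4.2 s.14.8.4.1))
  (@T16.mk R (R.mk s.14.9.13.2 s.14.9.13.1) (R.mk s.14.9.14.2 s.14.9.14.1) s.14.9.15 (R.mk s.14.9.16.2 s.14.9.16.1) s.14.9.9 (R.mk s.14.9.10.2 s.14.9.10.1) s.14.9.11 s.14.9.12 (R.mk s.14.9.5.2 s.14.9.5.1) (R.mk s.14.9.6.2 s.14.9.6.1) s.14.9.7 (R.mk s.14.9.8.2 s.14.9.8.1) s.14.9.1 (R.mk s.14.9.2.2 s.14.9.2.1) s.14.9.3 s.14.9.4)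
  (@T16.mk R (R.mk s.14.6.13.2 s.14.6.13.1) s.14.6.14 s.14.6.15 s.14.6.16 (R.mk s.14.6.9.2 s.14.6.9.1) (R.mk s.14.6.10.2 s.14.6.10.1) (R.mk s.14.6.11.2 s.14.6.11.1) s.14.6.12 s.14.6.5 (R.mk s.14.6.6.2 s.14.6.6.1) (R.mk s.14.6.7.2 s.14.6.7.1) (R.mk s.14.6.8.2 s.14.6.8.1) s.14.6.1 s.14.6.2 s.14.6.3 (R.mk s.14.6.4.2 s.14.6.4.1))
  (@T16.mk R s.14.7.13 s.14.7.14 s.14.7.15 (R.mk s.14.7.16.2 s.14.7.16.1) (R.mk s.14.7.9.2 s.14.7.9.1) s.14.7.10 s.14.7.11 s.14.7.12 s.14.7.5 s.14.7.6 s.14.7.7 (R.mk s.14.7.8.2 s.14.7.8.1) (R.mk s.14.7.1.2 s.14.7.1.1) s.14.7.2 s.14.7.3 s.14.7.4)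
  (@T16.mk R s.14.12.13 s.14.12.14 (R.mk s.14.12.15.2 s.14.12.15.1) s.14.12.16 s.14.12.9 (R.mk s.14.12.10.2 s.14.12.10.1) s.14.12.11 s.14.12.12 (R.mk s.14.12.5.2 s.14.12.5.1) (R.mk s.14.12.6.2 s.14.12.6.1) s.14.12.7 (R.mk s.14.12.8.2 s.14.12.8.1) (R.mk s.14.12.1.2 s.14.12.1.1) s.14.12.2 (R.mk s.14.12.3.2 s.14.12.3.1) (R.mk s.14.12.4.2 s.14.12.4.1))
  (@T16.mk R (R.mk s.14.13.13.2 s.14.13.13.1) s.14.13.14 (R.mk s.14.13.15.2 s.14.13.15.1) (R.mk s.14.13.16.2 s.14.13.16.1) s.14.13.9 s.14.13.10 (R.mk s.14.13.11.2 s.14.13.11.1) s.14.13.12 (R.mk s.14.13.5.2 s.14.13.5.1) s.14.13.6 (R.mk s.14.13.7.2 s.14.13.7.1) (R.mk s.14.13.8.2 s.14.13.8.1) s.14.13.1 s.14.13.2 (R.mk s.14.13.3.2 s.14.13.3.1) s.14.13.4)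
  (@T16.mk R s.14.10.13 s.14.10.14 s.14.10.15 (R.mk s.14.10.16.2 s.14.10.16.1) s.14.10.9 (R.mk s.14.10.10.2 s.14.10.10.1) (R.mk s.14.10.11.2 s.14.10.11.1) (R.mk s.14.10.12.2 s.14.10.12.1) (R.mk s.14.10.5.2 s.14.10.5.1) (R.mk s.14.10.6.2 s.14.10.6.1) (R.mk s.14.10.7.2 s.14.10.7.1) s.14.10.8 (R.mk s.14.10.1.2 s.14.10.1.1) s.14.10.2 s.14.10.3 s.14.10.4)
  (@T16.mk R (R.mk s.14.11.13.2 s.14.11.13.1) s.14.11.14 s.14.11.15 s.14.11.16 s.14.11.9 s.14.11.10 s.14.11.11 (R.mk s.14.11.12.2 s.14.11.12.1) (R.mk s.14.11.5.2 s.14.11.5.1) s.14.11.6 s.14.11.7 s.14.11.8 s.14.11.1 s.14.11.2 s.14.11.3 (R.mk s.14.11.4.2 s.14.11.4.1))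
  (@T16.mk R s.14.16.13 (R.mk s.14.16.14.2 s.14.16.14.1) s.14.16.15 s.14.16.16 s.14.16.9 s.14.16.10 (R.mk s.14.16.11.2 s.14.16.11.1) s.14.16.12 (R.mk s.14.16.5.2 s.14.16.5.1) s.14.16.6 (R.mk s.14.16.7.2 s.14.16.7.1) (R.mk s.14.16.8.2 s.14.16.8.1) (R.mk s.14.16.1.2 s.14.16.1.1) (R.mk s.14.16.2.2 s.14.16.2.1) s.14.16.3 (R.mk s.14.16.4.2 s.14.16.4.1))
  (@T16.mk R (R.mk s.15.1.13.2 s.15.1.13.1) (R.mk s.15.1.14.2 s.15.1.14.1) s.15.1.15 (R.mk s.15.1.16.2 s.15.1.16.1) s.15.1.9 (R.mk s.15.1.10.2 s.15.1.10.1) s.15.1.11 s.15.1.12 (R.mk s.15.1.5.2 s.15.1.5.1) (R.mk s.15.1.6.2 s.15.1.6.1) s.15.1.7 (R.mk s.15.1.8.2 s.15.1.8.1) s.15.1.1 (R.mk s.15.1.2.2 s.15.1.2.1) s.15.1.3 s.15.1.4)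
  (@T16.mk R (R.mk s.14.14.13.2 s.14.14.13.1) s.14.14.14 s.14.14.15 s.14.14.16 (R.mk s.14.14.9.2 s.14.14.9.1) (R.mk s.14.14.10.2 s.14.14.10.1) (R.mk s.14.14.11.2 s.14.14.11.1) s.14.14.12 s.14.14.5 (R.mk s.14.14.6.2 s.14.14.6.1) (R.mk s.14.14.7.2 s.14.14.7.1) (R.mk s.14.14.8.2 s.14.14.8.1) s.14.14.1 s.14.14.2 s.14.14.3 (R.mk s.14.14.4.2 s.14.14.4.1))
 )
 (@T16.mk (T16 R)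
  (@T16.mk R s.14.15.13 s.14.15.14 s.14.15.15 (R.mk s.14.15.16.2 s.14.15.16.1) (R.mk s.14.15.9.2 s.14.15.9.1) s.14.15.10 s.14.15.11 s.14.15.12 s.14.15.5 s.14.15.6 s.14.15.7 (R.mk s.14.15.8.2 s.14.15.8.1) (R.mk s.14.15.1.2 s.14.15.1.1) s.14.15.2 s.14.15.3 s.14.15.4)
  (@T16.mk R s.15.4.13 s.15.4.14 (R.mk s.15.4.15.2 s.15.4.15.1) s.15.4.16 s.15.4.9 (R.mk s.15.4.10.2 s.15.4.10.1) s.15.4.11 s.15.4.12 (R.mk s.15.4.5.2 s.15.4.5.1) (R.mk s.15.4.6.2 s.15.4.6.1) s.15.4.7 (R.mk s.15.4.8.2 s.15.4.8.1) (R.mk s.15.4.1.2 s.15.4.1.1) s.15.4.2 (R.mk s.15.4.3.2 s.15.4.3.1) (R.mk s.15.4.4.2 s.15.4.4.1))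
  (@T16.mk R (R.mk s.15.5.13.2 s.15.5.13.1) s.15.5.14 (R.mk s.15.5.15.2 s.15.5.15.1) (R.mk s.15.5.16.2 s.15.5.16.1) s.15.5.9 s.15.5.10 (R.mk s.15.5.11.2 s.15.5.11.1) s.15.5.12 (R.mk s.15.5.5.2 s.15.5.5.1) s.15.5.6 (R.mk s.15.5.7.2 s.15.5.7.1) (R.mk s.15.5.8.2 s.15.5.8.1) s.15.5.1 s.15.5.2 (R.mk s.15.5.3.2 s.15.5.3.1) s.15.5.4)
  (@T16.mk R s.15.2.13 s.15.2.14 s.15.2.15 (R.mk s.15.2.16.2 s.15.2.16.1) s.15.2.9 (R.mk s.15.2.10.2 s.15.2.10.1) (R.mk s.15.2.11.2 s.15.2.11.1) (R.mk s.15.2.12.2 s.15.2.12.1) (R.mk s.15.2.5.2 s.15.2.5.1) (R.mk s.15.2.6.2 s.15.2.6.1) (R.mk s.15.2.7.2 s.15.2.7.1) s.15.2.8 (R.mk s.15.2.1.2 s.15.2.1.1) s.15.2.2 s.15.2.3 s.15.2.4)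
  (@T16.mk R (R.mk s.15.3.13.2 s.15.3.13.1) s.15.3.14 s.15.3.15 s.15.3.16 s.15.3.9 s.15.3.10 s.15.3.11 (R.mk s.15.3.12.2 s.15.3.12.1) (R.mk s.15.3.5.2 s.15.3.5.1) s.15.3.6 s.15.3.7 s.15.3.8 s.15.3.1 s.15.3.2 s.15.3.3 (R.mk s.15.3.4.2 s.15.3.4.1))
  (@T16.mk R (R.mk s.15.8.13.2 s.15.8.13.1) (R.mk s.15.8.14.2 s.15.8.14.1) (R.mk s.15.8.15.2 s.15.8.15.1) s.15.8.16 (R.mk s.15.8.9.2 s.15.8.9.1) s.15.8.10 s.15.8.11 s.15.8.12 (R.mk s.15.8.5.2 s.15.8.5.1) (R.mk s.15.8.6.2 s.15.8.6.1) (R.mk s.15.8.7.2 s.15.8.7.1) s.15.8.8 (R.mk s.15.8.1.2 s.15.8.1.1) s.15.8.2 s.15.8.3 s.15.8.4)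
  (@T16.mk R (R.mk s.15.9.13.2 s.15.9.13.1) s.15.9.14 s.15.9.15 s.15.9.16 s.15.9.9 s.15.9.10 s.15.9.11 (R.mk s.15.9.12.2 s.15.9.12.1) s.15.9.5 (R.mk s.15.9.6.2 s.15.9.6.1) (R.mk s.15.9.7.2 s.15.9.7.1) (R.mk s.15.9.8.2 s.15.9.8.1) (R.mk s.15.9.1.2 s.15.9.1.1) (R.mk s.15.9.2.2 s.15.9.2.1) (R.mk s.15.9.3.2 s.15.9.3.1) s.15.9.4)
  (@T16.mk R s.15.6.13 s.15.6.14 (R.mk s.15.6.15.2 s.15.6.15.1) s.15.6.16 s.15.6.9 (R.mk s.15.6.10.2 s.15.6.10.1) s.15.6.11 s.15.6.12 s.15.6.5 s.15.6.6 (R.mk s.15.6.7.2 s.15.6.7.1) s.15.6.8 s.15.6.1 (R.mk s.15.6.2.2 s.15.6.2.1) s.15.6.3 s.15.6.4)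
  (@T16.mk R s.15.7.13 (R.mk s.15.7.14.2 s.15.7.14.1) s.15.7.15 s.15.7.16 (R.mk s.15.7.9.2 s.15.7.9.1) (R.mk s.15.7.10.2 s.15.7.10.1) s.15.7.11 (R.mk s.15.7.12.2 s.15.7.12.1) (R.mk s.15.7.5.2 s.15.7.5.1) s.15.7.6 (R.mk s.15.7.7.2 s.15.7.7.1) (R.mk s.15.7.8.2 s.15.7.8.1) s.15.7.1 s.15.7.2 (R.mk s.15.7.3.2 s.15.7.3.1) s.15.7.4)
  (@T16.mk R s.15.12.13 (R.mk s.15.12.14.2 s.15.12.14.1) (R.mk s.15.12.15.2 s.15.12.15.1) (R.mk s.15.12.16.2 s.15.12.16.1) s.15.12.9 s.15.12.10 s.15.12.11 (R.mk s.15.12.12.2 s.15.12.12.1) s.15.12.5 (R.mk s.15.12.6.2 s.15.12.6.1) (R.mk s.15.12.7.2 s.15.12.7.1) (R.mk s.15.12.8.2 s.15.12.8.1) s.15.12.1 s.15.12.2 s.15.12.3 (R.mk s.15.12.4.2 s.15.12.4.1))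
  (@T16.mk R s.15.13.13 s.15.13.14 s.15.13.15 (R.mk s.15.13.16.2 s.15.13.16.1) (R.mk s.15.13.9.2 s.15.13.9.1) s.15.13.10 s.15.13.11 s.15.13.12 (R.mk s.15.13.5.2 s.15.13.5.1) (R.mk s.15.13.6.2 s.15.13.6.1) (R.mk s.15.13.7.2 s.15.13.7.1) s.15.13.8 s.15.13.1 (R.mk s.15.13.2.2 s.15.13.2.1) (R.mk s.15.13.3.2 s.15.13.3.1) (R.mk s.15.13.4.2 s.15.13.4.1))
  (@T16.mk R s.15.10.13 (R.mk s.15.10.14.2 s.15.10.14.1) s.15.10.15 s.15.10.16 s.15.10.9 s.15.10.10 (R.mk s.15.10.11.2 s.15.10.11.1) s.15.10.12 s.15.10.5 (R.mk s.15.10.6.2 s.15.10.6.1) s.15.10.7 s.15.10.8 s.15.10.1 s.15.10.2 (R.mk s.15.10.3.2 s.15.10.3.1) s.15.10.4)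
  (@T16.mk R s.15.11.13 s.15.11.14 (R.mk s.15.11.15.2 s.15.11.15.1) s.15.11.16 (R.mk s.15.11.9.2 s.15.11.9.1) s.15.11.10 (R.mk s.15.11.11.2 s.15.11.11.1) (R.mk s.15.11.12.2 s.15.11.12.1) (R.mk s.15.11.5.2 s.15.11.5.1) (R.mk s.15.11.6.2 s.15.11.6.1) s.15.11.7 (R.mk s.15.11.8.2 s.15.11.8.1) s.15.11.1 (R.mk s.15.11.2.2 s.15.11.2.1) s.15.11.3 s.15.11.4)
  (@T16.mk R s.17.14.1 s.17.14.2 (R.mk s.17.14.3.2 s.17.14.3.1) (R.mk s.17.14.4.2 s.17.14.4.1) s.17.14.5 (R.mk s.17.14.6.2 s.17.14.6.1) s.17.14.7 s.17.14.8 s.17.14.9 (R.mk s.17.14.10.2 s.17.14.10.1) s.17.14.11 (R.mk s.17.14.12.2 s.17.14.12.1) s.17.14.13 s.17.14.14 s.17.14.15 s.17.14.16)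
  (@T16.mk R s.17.15.1 s.17.15.2 (R.mk s.17.15.3.2 s.17.15.3.1) s.17.15.4 (R.mk s.17.15.5.2 s.17.15.5.1) s.17.15.6 (R.mk s.17.15.7.2 s.17.15.7.1) s.17.15.8 (R.mk s.17.16.15.2 s.17.16.15.1) (R.mk s.17.16.16.2 s.17.16.16.1) s.17.15.11 (R.mk s.18.1.2.2 s.18.1.2.1) s.17.15.13 s.17.15.14 s.17.15.15 (R.mk s.18.1.6.2 s.18.1.6.1))
  (@T16.mk R s.17.16.1 (R.mk s.18.1.8.2 s.18.1.8.1) s.17.16.3 s.17.16.4 s.17.16.5 s.17.16.6 s.17.16.7 s.17.16.8 (R.mk s.18.1.15.2 s.18.1.15.1) s.17.16.10 (R.mk s.18.2.1.2 s.18.2.1.1) s.17.16.12 (R.mk s.18.2.3.2 s.18.2.3.1) s.17.16.14 (R.mk s.17.15.9.2 s.17.15.9.1) (R.mk s.17.15.10.2 s.17.15.10.1))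
 )
 (@T16.mk (T16 R)
  (@T16.mk R s.18.1.1 (R.mk s.17.15.12.2 s.17.15.12.1) s.18.1.3 s.18.1.4 s.18.1.5 (R.mk s.17.15.16.2 s.17.15.16.1) s.18.1.7 (R.mk s.17.16.2.2 s.17.16.2.1) s.18.1.9 s.18.1.10 s.18.1.11 s.18.1.12 s.18.1.13 s.18.1.14 (R.mk s.17.16.9.2 s.17.16.9.1) s.18.1.16)
  (@T16.mk R (R.mk s.17.16.11.2 s.17.16.11.1) s.18.2.2 (R.mk s.17.16.13.2 s.17.16.13.1) s.18.2.4 s.18.2.5 s.18.2.6 s.18.2.7 s.18.2.8 s.18.2.9 s.18.2.10 s.18.2.11 s.18.2.12 s.18.2.13 s.18.2.14 s.18.2.15 s.18.2.16)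
  (@T16.mk R s.18.3.1 s.18.3.2 s.18.3.3 s.18.3.4 s.18.3.5 s.18.3.6 s.18.3.7 s.18.3.8 s.18.3.9 s.18.3.10 s.18.3.11 s.18.3.12 s.18.3.13 s.18.3.14 s.18.3.15 s.18.3.16)
  (@T16.mk R s.18.4.1 s.18.4.2 s.18.4.3 s.18.4.4 s.18.4.5 s.18.4.6 s.18.4.7 s.18.4.8 s.18.4.9 s.18.4.10 s.18.4.11 s.18.4.12 s.18.4.13 s.18.4.14 s.18.4.15 s.18.4.16)
  (@T16.mk R s.18.5.1 s.18.5.2 s.18.5.3 s.18.5.4 s.18.5.5 s.18.5.6 s.18.5.7 s.18.5.8 s.18.5.9 s.18.5.10 s.18.5.11 s.18.5.12 s.18.5.13 s.18.5.14 s.18.5.15 s.18.5.16)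
  (@T16.mk R s.18.6.1 s.18.6.2 s.18.6.3 s.18.6.4 s.18.6.5 s.18.6.6 s.18.6.7 s.18.6.8 s.18.6.9 s.18.6.10 s.18.6.11 s.18.6.12 s.18.6.13 s.18.6.14 s.18.6.15 s.18.6.16)
  (@T16.mk R s.18.7.1 s.18.7.2 s.18.7.3 s.18.7.4 s.18.7.5 s.18.7.6 s.18.7.7 s.18.7.8 s.18.7.9 s.18.7.10 s.18.7.11 s.18.7.12 s.18.7.13 s.18.7.14 s.18.7.15 s.18.7.16)
  (@T16.mk R s.18.8.1 s.18.8.2 s.18.8.3 s.18.8.4 s.18.8.5 s.18.8.6 s.18.8.7 s.18.8.8 s.18.8.9 s.18.8.10 s.18.8.11 s.18.8.12 s.18.8.13 s.18.8.14 s.18.8.15 s.18.8.16)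
  (@T16.mk R s.18.9.1 s.18.9.2 s.18.9.3 s.18.9.4 s.18.9.5 s.18.9.6 s.18.9.7 s.18.9.8 s.18.9.9 s.18.9.10 s.18.9.11 s.18.9.12 s.18.9.13 s.18.9.14 s.18.9.15 s.18.9.16)
  (@T16.mk R s.18.10.1 s.18.10.2 s.18.10.3 s.18.10.4 s.18.10.5 s.18.10.6 s.18.10.7 s.18.10.8 s.18.10.9 s.18.10.10 s.18.10.11 s.18.10.12 s.18.10.13 s.18.10.14 s.18.10.15 s.18.10.16)
  (@T16.mk R s.18.11.1 s.18.11.2 s.18.11.3 s.18.11.4 s.18.11.5 s.18.11.6 s.18.11.7 s.18.11.8 s.18.11.9 s.18.11.10 s.18.11.11 s.18.11.12 s.18.11.13 s.18.11.14 s.18.11.15 s.18.11.16)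
  (@T16.mk R s.18.12.1 s.18.12.2 s.18.12.3 s.18.12.4 s.18.12.5 s.18.12.6 s.18.12.7 s.18.12.8 s.18.12.9 s.18.12.10 s.18.12.11 s.18.12.12 s.18.12.13 s.18.12.14 s.18.12.15 s.18.12.16)
  (@T16.mk R s.18.13.1 s.18.13.2 s.18.13.3 s.18.13.4 s.18.13.5 s.18.13.6 s.18.13.7 s.18.13.8 s.18.13.9 s.18.13.10 s.18.13.11 s.18.13.12 s.18.13.13 s.18.13.14 s.18.13.15 s.18.13.16)
  (@T16.mk R s.18.14.1 s.18.14.2 s.18.14.3 s.18.14.4 s.18.14.5 s.18.14.6 s.18.14.7 s.18.14.8 s.18.14.9 s.18.14.10 s.18.14.11 s.18.14.12 s.18.14.13 s.18.14.14 s.18.14.15 s.18.14.16)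
  (@T16.mk R s.18.15.1 s.18.15.2 s.18.15.3 s.18.15.4 s.18.15.5 s.18.15.6 s.18.15.7 s.18.15.8 s.18.15.9 s.18.15.10 s.18.15.11 s.18.15.12 s.18.15.13 s.18.15.14 s.18.15.15 s.18.15.16)
  (@T16.mk R s.18.16.1 s.18.16.2 s.18.16.3 s.18.16.4 s.18.16.5 s.18.16.6 s.18.16.7 s.18.16.8 s.18.16.9 s.18.16.10 s.18.16.11 s.18.16.12 s.18.16.13 s.18.16.14 s.18.16.15 s.18.16.16)
 )
theorem cd25_eq (s : St) : cd25 s = gather tb25 s := by rfl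
noncomputable def tb26 : Tab :=
@T18.mk (T16 (T16 E))
 (@T16.mk (T16 E)
  (@T16.mk E (p j0 i0 i0) (p j0 i0 i1) (p j0 i0 i2) (p j0 i0 i3) (p j0 i0 i4) (p j0 i0 i5) (p j0 i0 i6) (p j0 i0 i7) (p j0 i0 i8) (p j0 i0 i9) (p j0 i0 i10) (p j0 i0 i11) (p j0 i0 i12) (p j0 i0 i13) (p j0 i0 i14) (p j0 i0 i15))
  (@T16.mk E (p j0 i1 i0) (p j0 i1 i1) (p j0 i1 i2) (p j0 i1 i3) (p j0 i1 i4) (p j0 i1 i5) (p j0 i1 i6) (p j0 i1 i7) (p j0 i1 i8) (p j0 i1 i9) (p j0 i1 i10) (p j0 i1 i11) (p j0 i1 i12) (p j0 i1 i13) (p j0 i1 i14) (p j0 i1 i15))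
  (@T16.mk E (p j0 i2 i0) (n j0 i2 i1) (p j0 i2 i2) (n j0 i2 i3) (n j0 i2 i4) (p j0 i2 i5) (n j0 i2 i6) (p j0 i2 i7) (n j0 i2 i8) (p j0 i2 i9) (n j0 i2 i10) (p j0 i2 i11) (p j0 i2 i12) (n j0 i2 i13) (p j0 i2 i14) (n j0 i2 i15))
  (@T16.mk E (n j0 i3 i0) (p j0 i3 i1) (n j0 i3 i2) (p j0 i3 i3) (p j0 i3 i4) (n j0 i3 i5) (p j0 i3 i6) (n j0 i3 i7) (p j0 i3 i8) (n j0 i3 i9) (p j0 i3 i10) (n j0 i3 i11) (n j0 i3 i12) (p j0 i3 i13) (n j0 i3 i14) (p j0 i3 i15))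
  (@T16.mk E (p j0 i4 i0) (p j0 i4 i1) (p j0 i4 i2) (p j0 i4 i3) (p j0 i4 i4) (p j0 i4 i5) (p j0 i4 i6) (p j0 i4 i7) (p j0 i4 i8) (p j0 i4 i9) (p j0 i4 i10) (p j0 i4 i11) (p j0 i4 i12) (p j0 i4 i13) (p j0 i4 i14) (p j0 i4 i15))
  (@T16.mk E (n j0 i5 i0) (n j0 i5 i1) (n j0 i5 i2) (n j0 i5 i3) (n j0 i5 i4) (n j0 i5 i5) (n j0 i5 i6) (n j0 i5 i7) (n j0 i5 i8) (n j0 i5 i9) (n j0 i5 i10) (n j0 i5 i11) (n j0 i5 i12) (n j0 i5 i13) (n j0 i5 i14) (n j0 i5 i15))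
  (@T16.mk E (n j0 i6 i0) (p j0 i6 i1) (n j0 i6 i2) (p j0 i6 i3) (p j0 i6 i4) (n j0 i6 i5) (p j0 i6 i6) (n j0 i6 i7) (p j0 i6 i8) (n j0 i6 i9) (p j0 i6 i10) (n j0 i6 i11) (n j0 i6 i12) (p j0 i6 i13) (n j0 i6 i14) (p j0 i6 i15))
  (@T16.mk E (n j0 i7 i0) (p j0 i7 i1) (n j0 i7 i2) (p j0 i7 i3) (p j0 i7 i4) (n j0 i7 i5) (p j0 i7 i6) (n j0 i7 i7) (p j0 i7 i8) (n j0 i7 i9) (p j0 i7 i10) (n j0 i7 i11) (n j0 i7 i12) (p j0 i7 i13) (n j0 i7 i14) (p j0 i7 i15))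
  (@T16.mk E (p j0 i8 i0) (p j0 i8 i1) (p j0 i8 i2) (p j0 i8 i3) (p j0 i8 i4) (p j0 i8 i5) (p j0 i8 i6) (p j0 i8 i7) (p j0 i8 i8) (p j0 i8 i9) (p j0 i8 i10) (p j0 i8 i11) (p j0 i8 i12) (p j0 i8 i13) (p j0 i8 i14) (p j0 i8 i15))
  (@T16.mk E (p j0 i9 i0) (p j0 i9 i1) (p j0 i9 i2) (p j0 i9 i3) (p j0 i9 i4) (p j0 i9 i5) (p j0 i9 i6) (p j0 i9 i7) (p j0 i9 i8) (p j0 i9 i9) (p j0 i9 i10) (p j0 i9 i11) (p j0 i9 i12) (p j0 i9 i13) (p j0 i9 i14) (p j0 i9 i15))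
  (@T16.mk E (p j0 i10 i0) (n j0 i10 i1) (p j0 i10 i2) (n j0 i10 i3) (n j0 i10 i4) (p j0 i10 i5) (n j0 i10 i6) (p j0 i10 i7) (n j0 i10 i8) (p j0 i10 i9) (n j0 i10 i10) (p j0 i10 i11) (p j0 i10 i12) (n j0 i10 i13) (p j0 i10 i14) (n j0 i10 i15))
  (@T16.mk E (n j0 i11 i0) (p j0 i11 i1) (n j0 i11 i2) (p j0 i11 i3) (p j0 i11 i4) (n j0 i11 i5) (p j0 i11 i6) (n j0 i11 i7) (p j0 i11 i8) (n j0 i11 i9) (p j0 i11 i10) (n j0 i11 i11) (n j0 i11 i12) (p j0 i11 i13) (n j0 i11 i14) (p j0 i11 i15))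
  (@T16.mk E (n j0 i12 i0) (n j0 i12 i1) (n j0 i12 i2) (n j0 i12 i3) (n j0 i12 i4) (n j0 i12 i5) (n j0 i12 i6) (n j0 i12 i7) (n j0 i12 i8) (n j0 i12 i9) (n j0 i12 i10) (n j0 i12 i11) (n j0 i12 i12) (n j0 i12 i13) (n j0 i12 i14) (n j0 i12 i15))
  (@T16.mk E (p j0 i13 i0) (p j0 i13 i1) (p j0 i13 i2) (p j0 i13 i3) (p j0 i13 i4) (p j0 i13 i5) (p j0 i13 i6) (p j0 i13 i7) (p j0 i13 i8) (p j0 i13 i9) (p j0 i13 i10) (p j0 i13 i11) (p j0 i13 i12) (p j0 i13 i13) (p j0 i13 i14) (p j0 i13 i15))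
  (@T16.mk E (p j0 i14 i0) (n j0 i14 i1) (p j0 i14 i2) (n j0 i14 i3) (n j0 i14 i4) (p j0 i14 i5) (n j0 i14 i6) (p j0 i14 i7) (n j0 i14 i8) (p j0 i14 i9) (n j0 i14 i10) (p j0 i14 i11) (p j0 i14 i12) (n j0 i14 i13) (p j0 i14 i14) (n j0 i14 i15))
  (@T16.mk E (p j0 i15 i0) (n j0 i15 i1) (p j0 i15 i2) (n j0 i15 i3) (n j0 i15 i4) (p j0 i15 i5) (n j0 i15 i6) (p j0 i15 i7) (n j0 i15 i8) (p j0 i15 i9) (n j0 i15 i10) (p j0 i15 i11) (p j0 i15 i12) (n j0 i15 i13) (p j0 i15 i14) (n j0 i15 i15))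
 )
 (@T16.mk (T16 E)
  (@T16.mk E (p j1 i0 i0) (p j1 i0 i1) (p j1 i0 i2) (p j1 i0 i3) (p j1 i0 i4) (p j1 i0 i5) (p j1 i0 i6) (p j1 i0 i7) (p j1 i0 i8) (p j1 i0 i9) (p j1 i0 i10) (p j1 i0 i11) (p j1 i0 i12) (p j1 i0 i13) (p j1 i0 i14) (p j1 i0 i15))
  (@T16.mk E (p j1 i1 i0) (p j1 i1 i1) (p j1 i1 i2) (p j1 i1 i3) (p j1 i1 i4) (p j1 i1 i5) (p j1 i1 i6) (p j1 i1 i7) (p j1 i1 i8) (p j1 i1 i9) (p j1 i1 i10) (p j1 i1 i11) (p j1 i1 i12) (p j1 i1 i13) (p j1 i1 i14) (p j1 i1 i15))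
  (@T16.mk E (p j1 i2 i0) (n j1 i2 i1) (p j1 i2 i2) (n j1 i2 i3) (n j1 i2 i4) (p j1 i2 i5) (n j1 i2 i6) (p j1 i2 i7) (n j1 i2 i8) (p j1 i2 i9) (n j1 i2 i10) (p j1 i2 i11) (p j1 i2 i12) (n j1 i2 i13) (p j1 i2 i14) (n j1 i2 i15))
  (@T16.mk E (n j1 i3 i0) (p j1 i3 i1) (n j1 i3 i2) (p j1 i3 i3) (p j1 i3 i4) (n j1 i3 i5) (p j1 i3 i6) (n j1 i3 i7) (p j1 i3 i8) (n j1 i3 i9) (p j1 i3 i10) (n j1 i3 i11) (n j1 i3 i12) (p j1 i3 i13) (n j1 i3 i14) (p j1 i3 i15))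
  (@T16.mk E (p j1 i4 i0) (p j1 i4 i1) (p j1 i4 i2) (p j1 i4 i3) (p j1 i4 i4) (p j1 i4 i5) (p j1 i4 i6) (p j1 i4 i7) (p j1 i4 i8) (p j1 i4 i9) (p j1 i4 i10) (p j1 i4 i11) (p j1 i4 i12) (p j1 i4 i13) (p j1 i4 i14) (p j1 i4 i15))
  (@T16.mk E (n j1 i5 i0) (n j1 i5 i1) (n j1 i5 i2) (n j1 i5 i3) (n j1 i5 i4) (n j1 i5 i5) (n j1 i5 i6) (n j1 i5 i7) (n j1 i5 i8) (n j1 i5 i9) (n j1 i5 i10) (n j1 i5 i11) (n j1 i5 i12) (n j1 i5 i13) (n j1 i5 i14) (n j1 i5 i15))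
  (@T16.mk E (n j1 i6 i0) (p j1 i6 i1) (n j1 i6 i2) (p j1 i6 i3) (p j1 i6 i4) (n j1 i6 i5) (p j1 i6 i6) (n j1 i6 i7) (p j1 i6 i8) (n j1 i6 i9) (p j1 i6 i10) (n j1 i6 i11) (n j1 i6 i12) (p j1 i6 i13) (n j1 i6 i14) (p j1 i6 i15))
  (@T16.mk E (n j1 i7 i0) (p j1 i7 i1) (n j1 i7 i2) (p j1 i7 i3) (p j1 i7 i4) (n j1 i7 i5) (p j1 i7 i6) (n j1 i7 i7) (p j1 i7 i8) (n j1 i7 i9) (p j1 i7 i10) (n j1 i7 i11) (n j1 i7 i12) (p j1 i7 i13) (n j1 i7 i14) (p j1 i7 i15))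
  (@T16.mk E (p j1 i8 i0) (p j1 i8 i1) (p j1 i8 i2) (p j1 i8 i3) (p j1 i8 i4) (p j1 i8 i5) (p j1 i8 i6) (p j1 i8 i7) (p j1 i8 i8) (p j1 i8 i9) (p j1 i8 i10) (p j1 i8 i11) (p j1 i8 i12) (p j1 i8 i13) (p j1 i8 i14) (p j1 i8 i15))
  (@T16.mk E (p j1 i9 i0) (p j1 i9 i1) (p j1 i9 i2) (p j1 i9 i3) (p j1 i9 i4) (p j1 i9 i5) (p j1 i9 i6) (p j1 i9 i7) (p j1 i9 i8) (p j1 i9 i9) (p j1 i9 i10) (p j1 i9 i11) (p j1 i9 i12) (p j1 i9 i13) (p j1 i9 i14) (p j1 i9 i15))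
  (@T16.mk E (p j1 i10 i0) (n j1 i10 i1) (p j1 i10 i2) (n j1 i10 i3) (n j1 i10 i4) (p j1 i10 i5) (n j1 i10 i6) (p j1 i10 i7) (n j1 i10 i8) (p j1 i10 i9) (n j1 i10 i10) (p j1 i10 i11) (p j1 i10 i12) (n j1 i10 i13) (p j1 i10 i14) (n j1 i10 i15))
  (@T16.mk E (n j1 i11 i0) (p j1 i11 i1) (n j1 i11 i2) (p j1 i11 i3) (p j1 i11 i4) (n j1 i11 i5) (p j1 i11 i6) (n j1 i11 i7) (p j1 i11 i8) (n j1 i11 i9) (p j1 i11 i10) (n j1 i11 i11) (n j1 i11 i12) (p j1 i11 i13) (n j1 i11 i14) (p j1 i11 i15))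
  (@T16.mk E (n j1 i12 i0) (n j1 i12 i1) (n j1 i12 i2) (n j1 i12 i3) (n j1 i12 i4) (n j1 i12 i5) (n j1 i12 i6) (n j1 i12 i7) (n j1 i12 i8) (n j1 i12 i9) (n j1 i12 i10) (n j1 i12 i11) (n j1 i12 i12) (n j1 i12 i13) (n j1 i12 i14) (n j1 i12 i15))
  (@T16.mk E (p j1 i13 i0) (p j1 i13 i1) (p j1 i13 i2) (p j1 i13 i3) (p j1 i13 i4) (p j1 i13 i5) (p j1 i13 i6) (p j1 i13 i7) (p j1 i13 i8) (p j1 i13 i9) (p j1 i13 i10) (p j1 i13 i11) (p j1 i13 i12) (p j1 i13 i13) (p j1 i13 i14) (p j1 i13 i15))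
  (@T16.mk E (p j1 i14 i0) (n j1 i14 i1) (p j1 i14 i2) (n j1 i14 i3) (n j1 i14 i4) (p j1 i14 i5) (n j1 i14 i6) (p j1 i14 i7) (n j1 i14 i8) (p j1 i14 i9) (n j1 i14 i10) (p j1 i14 i11) (p j1 i14 i12) (n j1 i14 i13) (p j1 i14 i14) (n j1 i14 i15))
  (@T16.mk E (p j1 i15 i0) (n j1 i15 i1) (p j1 i15 i2) (n j1 i15 i3) (n j1 i15 i4) (p j1 i15 i5) (n j1 i15 i6) (p j1 i15 i7) (n j1 i15 i8) (p j1 i15 i9) (n j1 i15 i10) (p j1 i15 i11) (p j1 i15 i12) (n j1 i15 i13) (p j1 i15 i14) (n j1 i15 i15))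
 )
 (@T16.mk (T16 E)
  (@T16.mk E (p j2 i0 i0) (p j2 i0 i1) (p j2 i0 i2) (p j2 i0 i3) (p j2 i0 i4) (p j2 i0 i5) (p j2 i0 i6) (p j2 i0 i7) (p j2 i0 i8) (p j2 i0 i9) (p j2 i0 i10) (p j2 i0 i11) (p j2 i0 i12) (p j2 i0 i13) (p j2 i0 i14) (p j2 i0 i15))
  (@T16.mk E (n j2 i1 i0) (n j2 i1 i1) (n j2 i1 i2) (n j2 i1 i3) (n j2 i1 i4) (n j2 i1 i5) (n j2 i1 i6) (n j2 i1 i7) (n j2 i1 i8) (n j2 i1 i9) (n j2 i1 i10) (n j2 i1 i11) (n j2 i1 i12) (n j2 i1 i13) (n j2 i1 i14) (n j2 i1 i15))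
  (@T16.mk E (n j2 i2 i0) (p j2 i2 i1) (n j2 i2 i2) (p j2 i2 i3) (p j2 i2 i4) (n j2 i2 i5) (p j2 i2 i6) (n j2 i2 i7) (p j2 i2 i8) (n j2 i2 i9) (p j2 i2 i10) (n j2 i2 i11) (n j2 i2 i12) (p j2 i2 i13) (n j2 i2 i14) (p j2 i2 i15))
  (@T16.mk E (n j2 i3 i0) (p j2 i3 i1) (n j2 i3 i2) (p j2 i3 i3) (p j2 i3 i4) (n j2 i3 i5) (p j2 i3 i6) (n j2 i3 i7) (p j2 i3 i8) (n j2 i3 i9) (p j2 i3 i10) (n j2 i3 i11) (n j2 i3 i12) (p j2 i3 i13) (n j2 i3 i14) (p j2 i3 i15))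
  (@T16.mk E (p j2 i4 i0) (p j2 i4 i1) (p j2 i4 i2) (p j2 i4 i3) (p j2 i4 i4) (p j2 i4 i5) (p j2 i4 i6) (p j2 i4 i7) (p j2 i4 i8) (p j2 i4 i9) (p j2 i4 i10) (p j2 i4 i11) (p j2 i4 i12) (p j2 i4 i13) (p j2 i4 i14) (p j2 i4 i15))
  (@T16.mk E (p j2 i5 i0) (p j2 i5 i1) (p j2 i5 i2) (p j2 i5 i3) (p j2 i5 i4) (p j2 i5 i5) (p j2 i5 i6) (p j2 i5 i7) (p j2 i5 i8) (p j2 i5 i9) (p j2 i5 i10) (p j2 i5 i11) (p j2 i5 i12) (p j2 i5 i13) (p j2 i5 i14) (p j2 i5 i15))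
  (@T16.mk E (p j2 i6 i0) (n j2 i6 i1) (p j2 i6 i2) (n j2 i6 i3) (n j2 i6 i4) (p j2 i6 i5) (n j2 i6 i6) (p j2 i6 i7) (n j2 i6 i8) (p j2 i6 i9) (n j2 i6 i10) (p j2 i6 i11) (p j2 i6 i12) (n j2 i6 i13) (p j2 i6 i14) (n j2 i6 i15))
  (@T16.mk E (n j2 i7 i0) (p j2 i7 i1) (n j2 i7 i2) (p j2 i7 i3) (p j2 i7 i4) (n j2 i7 i5) (p j2 i7 i6) (n j2 i7 i7) (p j2 i7 i8) (n j2 i7 i9) (p j2 i7 i10) (n j2 i7 i11) (n j2 i7 i12) (p j2 i7 i13) (n j2 i7 i14) (p j2 i7 i15))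
  (@T16.mk E (p j2 i8 i0) (p j2 i8 i1) (p j2 i8 i2) (p j2 i8 i3) (p j2 i8 i4) (p j2 i8 i5) (p j2 i8 i6) (p j2 i8 i7) (p j2 i8 i8) (p j2 i8 i9) (p j2 i8 i10) (p j2 i8 i11) (p j2 i8 i12) (p j2 i8 i13) (p j2 i8 i14) (p j2 i8 i15))
  (@T16.mk E (n j2 i9 i0) (n j2 i9 i1) (n j2 i9 i2) (n j2 i9 i3) (n j2 i9 i4) (n j2 i9 i5) (n j2 i9 i6) (n j2 i9 i7) (n j2 i9 i8) (n j2 i9 i9) (n j2 i9 i10) (n j2 i9 i11) (n j2 i9 i12) (n j2 i9 i13) (n j2 i9 i14) (n j2 i9 i15))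
  (@T16.mk E (n j2 i10 i0) (p j2 i10 i1) (n j2 i10 i2) (p j2 i10 i3) (p j2 i10 i4) (n j2 i10 i5) (p j2 i10 i6) (n j2 i10 i7) (p j2 i10 i8) (n j2 i10 i9) (p j2 i10 i10) (n j2 i10 i11) (n j2 i10 i12) (p j2 i10 i13) (n j2 i10 i14) (p j2 i10 i15))
  (@T16.mk E (n j2 i11 i0) (p j2 i11 i1) (n j2 i11 i2) (p j2 i11 i3) (p j2 i11 i4) (n j2 i11 i5) (p j2 i11 i6) (n j2 i11 i7) (p j2 i11 i8) (n j2 i11 i9) (p j2 i11 i10) (n j2 i11 i11) (n j2 i11 i12) (p j2 i11 i13) (n j2 i11 i14) (p j2 i11 i15))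
  (@T16.mk E (n j2 i12 i0) (n j2 i12 i1) (n j2 i12 i2) (n j2 i12 i3) (n j2 i12 i4) (n j2 i12 i5) (n j2 i12 i6) (n j2 i12 i7) (n j2 i12 i8) (n j2 i12 i9) (n j2 i12 i10) (n j2 i12 i11) (n j2 i12 i12) (n j2 i12 i13) (n j2 i12 i14) (n j2 i12 i15))
  (@T16.mk E (n j2 i13 i0) (n j2 i13 i1) (n j2 i13 i2) (n j2 i13 i3) (n j2 i13 i4) (n j2 i13 i5) (n j2 i13 i6) (n j2 i13 i7) (n j2 i13 i8) (n j2 i13 i9) (n j2 i13 i10) (n j2 i13 i11) (n j2 i13 i12) (n j2 i13 i13) (n j2 i13 i14) (n j2 i13 i15))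
  (@T16.mk E (n j2 i14 i0) (p j2 i14 i1) (n j2 i14 i2) (p j2 i14 i3) (p j2 i14 i4) (n j2 i14 i5) (p j2 i14 i6) (n j2 i14 i7) (p j2 i14 i8) (n j2 i14 i9) (p j2 i14 i10) (n j2 i14 i11) (n j2 i14 i12) (p j2 i14 i13) (n j2 i14 i14) (p j2 i14 i15))
  (@T16.mk E (p j2 i15 i0) (n j2 i15 i1) (p j2 i15 i2) (n j2 i15 i3) (n j2 i15 i4) (p j2 i15 i5) (n j2 i15 i6) (p j2 i15 i7) (n j2 i15 i8) (p j2 i15 i9) (n j2 i15 i10) (p j2 i15 i11) (p j2 i15 i12) (n j2 i15 i13) (p j2 i15 i14) (n j2 i15 i15))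
 )
 (@T16.mk (T16 E)
  (@T16.mk E (n j3 i0 i0) (n j3 i0 i1) (n j3 i0 i2) (n j3 i0 i3) (n j3 i0 i4) (n j3 i0 i5) (n j3 i0 i6) (n j3 i0 i7) (n j3 i0 i8) (n j3 i0 i9) (n j3 i0 i10) (n j3 i0 i11) (n j3 i0 i12) (n j3 i0 i13) (n j3 i0 i14) (n j3 i0 i15))
  (@T16.mk E (p j3 i1 i0) (p j3 i1 i1) (p j3 i1 i2) (p j3 i1 i3) (p j3 i1 i4) (p j3 i1 i5) (p j3 i1 i6) (p j3 i1 i7) (p j3 i1 i8) (p j3 i1 i9) (p j3 i1 i10) (p j3 i1 i11) (p j3 i1 i12) (p j3 i1 i13) (p j3 i1 i14) (p j3 i1 i15))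
  (@T16.mk E (p j3 i2 i0) (n j3 i2 i1) (p j3 i2 i2) (n j3 i2 i3) (n j3 i2 i4) (p j3 i2 i5) (n j3 i2 i6) (p j3 i2 i7) (n j3 i2 i8) (p j3 i2 i9) (n j3 i2 i10) (p j3 i2 i11) (p j3 i2 i12) (n j3 i2 i13) (p j3 i2 i14) (n j3 i2 i15))
  (@T16.mk E (p j3 i3 i0) (n j3 i3 i1) (p j3 i3 i2) (n j3 i3 i3) (n j3 i3 i4) (p j3 i3 i5) (n j3 i3 i6) (p j3 i3 i7) (n j3 i3 i8) (p j3 i3 i9) (n j3 i3 i10) (p j3 i3 i11) (p j3 i3 i12) (n j3 i3 i13) (p j3 i3 i14) (n j3 i3 i15))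
  (@T16.mk E (n j3 i4 i0) (n j3 i4 i1) (n j3 i4 i2) (n j3 i4 i3) (n j3 i4 i4) (n j3 i4 i5) (n j3 i4 i6) (n j3 i4 i7) (n j3 i4 i8) (n j3 i4 i9) (n j3 i4 i10) (n j3 i4 i11) (n j3 i4 i12) (n j3 i4 i13) (n j3 i4 i14) (n j3 i4 i15))
  (@T16.mk E (n j3 i5 i0) (n j3 i5 i1) (n j3 i5 i2) (n j3 i5 i3) (n j3 i5 i4) (n j3 i5 i5) (n j3 i5 i6) (n j3 i5 i7) (n j3 i5 i8) (n j3 i5 i9) (n j3 i5 i10) (n j3 i5 i11) (n j3 i5 i12) (n j3 i5 i13) (n j3 i5 i14) (n j3 i5 i15))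
  (@T16.mk E (n j3 i6 i0) (p j3 i6 i1) (n j3 i6 i2) (p j3 i6 i3) (p j3 i6 i4) (n j3 i6 i5) (p j3 i6 i6) (n j3 i6 i7) (p j3 i6 i8) (n j3 i6 i9) (p j3 i6 i10) (n j3 i6 i11) (n j3 i6 i12) (p j3 i6 i13) (n j3 i6 i14) (p j3 i6 i15))
  (@T16.mk E (p j3 i7 i0) (n j3 i7 i1) (p j3 i7 i2) (n j3 i7 i3) (n j3 i7 i4) (p j3 i7 i5) (n j3 i7 i6) (p j3 i7 i7) (n j3 i7 i8) (p j3 i7 i9) (n j3 i7 i10) (p j3 i7 i11) (p j3 i7 i12) (n j3 i7 i13) (p j3 i7 i14) (n j3 i7 i15))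
  (@T16.mk E (n j3 i8 i0) (n j3 i8 i1) (n j3 i8 i2) (n j3 i8 i3) (n j3 i8 i4) (n j3 i8 i5) (n j3 i8 i6) (n j3 i8 i7) (n j3 i8 i8) (n j3 i8 i9) (n j3 i8 i10) (n j3 i8 i11) (n j3 i8 i12) (n j3 i8 i13) (n j3 i8 i14) (n j3 i8 i15))
  (@T16.mk E (p j3 i9 i0) (p j3 i9 i1) (p j3 i9 i2) (p j3 i9 i3) (p j3 i9 i4) (p j3 i9 i5) (p j3 i9 i6) (p j3 i9 i7) (p j3 i9 i8) (p j3 i9 i9) (p j3 i9 i10) (p j3 i9 i11) (p j3 i9 i12) (p j3 i9 i13) (p j3 i9 i14) (p j3 i9 i15))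
  (@T16.mk E (p j3 i10 i0) (n j3 i10 i1) (p j3 i10 i2) (n j3 i10 i3) (n j3 i10 i4) (p j3 i10 i5) (n j3 i10 i6) (p j3 i10 i7) (n j3 i10 i8) (p j3 i10 i9) (n j3 i10 i10) (p j3 i10 i11) (p j3 i10 i12) (n j3 i10 i13) (p j3 i10 i14) (n j3 i10 i15))
  (@T16.mk E (p j3 i11 i0) (n j3 i11 i1) (p j3 i11 i2) (n j3 i11 i3) (n j3 i11 i4) (p j3 i11 i5) (n j3 i11 i6) (p j3 i11 i7) (n j3 i11 i8) (p j3 i11 i9) (n j3 i11 i10) (p j3 i11 i11) (p j3 i11 i12) (n j3 i11 i13) (p j3 i11 i14) (n j3 i11 i15))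
  (@T16.mk E (p j3 i12 i0) (p j3 i12 i1) (p j3 i12 i2) (p j3 i12 i3) (p j3 i12 i4) (p j3 i12 i5) (p j3 i12 i6) (p j3 i12 i7) (p j3 i12 i8) (p j3 i12 i9) (p j3 i12 i10) (p j3 i12 i11) (p j3 i12 i12) (p j3 i12 i13) (p j3 i12 i14) (p j3 i12 i15))
  (@T16.mk E (p j3 i13 i0) (p j3 i13 i1) (p j3 i13 i2) (p j3 i13 i3) (p j3 i13 i4) (p j3 i13 i5) (p j3 i13 i6) (p j3 i13 i7) (p j3 i13 i8) (p j3 i13 i9) (p j3 i13 i10) (p j3 i13 i11) (p j3 i13 i12) (p j3 i13 i13) (p j3 i13 i14) (p j3 i13 i15))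
  (@T16.mk E (p j3 i14 i0) (n j3 i14 i1) (p j3 i14 i2) (n j3 i14 i3) (n j3 i14 i4) (p j3 i14 i5) (n j3 i14 i6) (p j3 i14 i7) (n j3 i14 i8) (p j3 i14 i9) (n j3 i14 i10) (p j3 i14 i11) (p j3 i14 i12) (n j3 i14 i13) (p j3 i14 i14) (n j3 i14 i15))
  (@T16.mk E (n j3 i15 i0) (p j3 i15 i1) (n j3 i15 i2) (p j3 i15 i3) (p j3 i15 i4) (n j3 i15 i5) (p j3 i15 i6) (n j3 i15 i7) (p j3 i15 i8) (n j3 i15 i9) (p j3 i15 i10) (n j3 i15 i11) (n j3 i15 i12) (p j3 i15 i13) (n j3 i15 i14) (p j3 i15 i15))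
 )
 (@T16.mk (T16 E)
  (@T16.mk E (n j4 i0 i2) (p j4 i0 i3) (n j4 i0 i0) (p j4 i0 i1) (p j4 i0 i6) (n j4 i0 i7) (p j4 i0 i4) (n j4 i0 i5) (p j4 i0 i10) (n j4 i0 i11) (p j4 i0 i8) (n j4 i0 i9) (n j4 i0 i14) (p j4 i0 i15) (n j4 i0 i12) (p j4 i0 i13))
  (@T16.mk E (n j4 i1 i2) (p j4 i1 i3) (n j4 i1 i0) (p j4 i1 i1) (p j4 i1 i6) (n j4 i1 i7) (p j4 i1 i4) (n j4 i1 i5) (p j4 i1 i10) (n j4 i1 i11) (p j4 i1 i8) (n j4 i1 i9) (n j4 i1 i14) (p j4 i1 i15) (n j4 i1 i12) (p j4 i1 i13))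
  (@T16.mk E (n j4 i2 i2) (n j4 i2 i3) (n j4 i2 i0) (n j4 i2 i1) (n j4 i2 i6) (n j4 i2 i7) (n j4 i2 i4) (n j4 i2 i5) (n j4 i2 i10) (n j4 i2 i11) (n j4 i2 i8) (n j4 i2 i9) (n j4 i2 i14) (n j4 i2 i15) (n j4 i2 i12) (n j4 i2 i13))
  (@T16.mk E (p j4 i3 i2) (p j4 i3 i3) (p j4 i3 i0) (p j4 i3 i1) (p j4 i3 i6) (p j4 i3 i7) (p j4 i3 i4) (p j4 i3 i5) (p j4 i3 i10) (p j4 i3 i11) (p j4 i3 i8) (p j4 i3 i9) (p j4 i3 i14) (p j4 i3 i15) (p j4 i3 i12) (p j4 i3 i13))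
  (@T16.mk E (n j4 i4 i2) (p j4 i4 i3) (n j4 i4 i0) (p j4 i4 i1) (p j4 i4 i6) (n j4 i4 i7) (p j4 i4 i4) (n j4 i4 i5) (p j4 i4 i10) (n j4 i4 i11) (p j4 i4 i8) (n j4 i4 i9) (n j4 i4 i14) (p j4 i4 i15) (n j4 i4 i12) (p j4 i4 i13))
  (@T16.mk E (p j4 i5 i2) (n j4 i5 i3) (p j4 i5 i0) (n j4 i5 i1) (n j4 i5 i6) (p j4 i5 i7) (n j4 i5 i4) (p j4 i5 i5) (n j4 i5 i10) (p j4 i5 i11) (n j4 i5 i8) (p j4 i5 i9) (p j4 i5 i14) (n j4 i5 i15) (p j4 i5 i12) (n j4 i5 i13))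
  (@T16.mk E (p j4 i6 i2) (p j4 i6 i3) (p j4 i6 i0) (p j4 i6 i1) (p j4 i6 i6) (p j4 i6 i7) (p j4 i6 i4) (p j4 i6 i5) (p j4 i6 i10) (p j4 i6 i11) (p j4 i6 i8) (p j4 i6 i9) (p j4 i6 i14) (p j4 i6 i15) (p j4 i6 i12) (p j4 i6 i13))
  (@T16.mk E (p j4 i7 i2) (p j4 i7 i3) (p j4 i7 i0) (p j4 i7 i1) (p j4 i7 i6) (p j4 i7 i7) (p j4 i7 i4) (p j4 i7 i5) (p j4 i7 i10) (p j4 i7 i11) (p j4 i7 i8) (p j4 i7 i9) (p j4 i7 i14) (p j4 i7 i15) (p j4 i7 i12) (p j4 i7 i13))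
  (@T16.mk E (n j4 i8 i2) (p j4 i8 i3) (n j4 i8 i0) (p j4 i8 i1) (p j4 i8 i6) (n j4 i8 i7) (p j4 i8 i4) (n j4 i8 i5) (p j4 i8 i10) (n j4 i8 i11) (p j4 i8 i8) (n j4 i8 i9) (n j4 i8 i14) (p j4 i8 i15) (n j4 i8 i12) (p j4 i8 i13))
  (@T16.mk E (n j4 i9 i2) (p j4 i9 i3) (n j4 i9 i0) (p j4 i9 i1) (p j4 i9 i6) (n j4 i9 i7) (p j4 i9 i4) (n j4 i9 i5) (p j4 i9 i10) (n j4 i9 i11) (p j4 i9 i8) (n j4 i9 i9) (n j4 i9 i14) (p j4 i9 i15) (n j4 i9 i12) (p j4 i9 i13))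
  (@T16.mk E (n j4 i10 i2) (n j4 i10 i3) (n j4 i10 i0) (n j4 i10 i1) (n j4 i10 i6) (n j4 i10 i7) (n j4 i10 i4) (n j4 i10 i5) (n j4 i10 i10) (n j4 i10 i11) (n j4 i10 i8) (n j4 i10 i9) (n j4 i10 i14) (n j4 i10 i15) (n j4 i10 i12) (n j4 i10 i13))
  (@T16.mk E (p j4 i11 i2) (p j4 i11 i3) (p j4 i11 i0) (p j4 i11 i1) (p j4 i11 i6) (p j4 i11 i7) (p j4 i11 i4) (p j4 i11 i5) (p j4 i11 i10) (p j4 i11 i11) (p j4 i11 i8) (p j4 i11 i9) (p j4 i11 i14) (p j4 i11 i15) (p j4 i11 i12) (p j4 i11 i13))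
  (@T16.mk E (p j4 i12 i2) (n j4 i12 i3) (p j4 i12 i0) (n j4 i12 i1) (n j4 i12 i6) (p j4 i12 i7) (n j4 i12 i4) (p j4 i12 i5) (n j4 i12 i10) (p j4 i12 i11) (n j4 i12 i8) (p j4 i12 i9) (p j4 i12 i14) (n j4 i12 i15) (p j4 i12 i12) (n j4 i12 i13))
  (@T16.mk E (n j4 i13 i2) (p j4 i13 i3) (n j4 i13 i0) (p j4 i13 i1) (p j4 i13 i6) (n j4 i13 i7) (p j4 i13 i4) (n j4 i13 i5) (p j4 i13 i10) (n j4 i13 i11) (p j4 i13 i8) (n j4 i13 i9) (n j4 i13 i14) (p j4 i13 i15) (n j4 i13 i12) (p j4 i13 i13))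
  (@T16.mk E (n j4 i14 i2) (n j4 i14 i3) (n j4 i14 i0) (n j4 i14 i1) (n j4 i14 i6) (n j4 i14 i7) (n j4 i14 i4) (n j4 i14 i5) (n j4 i14 i10) (n j4 i14 i11) (n j4 i14 i8) (n j4 i14 i9) (n j4 i14 i14) (n j4 i14 i15) (n j4 i14 i12) (n j4 i14 i13))
  (@T16.mk E (n j4 i15 i2) (n j4 i15 i3) (n j4 i15 i0) (n j4 i15 i1) (n j4 i15 i6) (n j4 i15 i7) (n j4 i15 i4) (n j4 i15 i5) (n j4 i15 i10) (n j4 i15 i11) (n j4 i15 i8) (n j4 i15 i9) (n j4 i15 i14) (n j4 i15 i15) (n j4 i15 i12) (n j4 i15 i13))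
 )
 (@T16.mk (T16 E)
  (@T16.mk E (n j5 i0 i2) (p j5 i0 i3) (n j5 i0 i0) (p j5 i0 i1) (p j5 i0 i6) (n j5 i0 i7) (p j5 i0 i4) (n j5 i0 i5) (p j5 i0 i10) (n j5 i0 i11) (p j5 i0 i8) (n j5 i0 i9) (n j5 i0 i14) (p j5 i0 i15) (n j5 i0 i12) (p j5 i0 i13))
  (@T16.mk E (n j5 i1 i2) (p j5 i1 i3) (n j5 i1 i0) (p j5 i1 i1) (p j5 i1 i6) (n j5 i1 i7) (p j5 i1 i4) (n j5 i1 i5) (p j5 i1 i10) (n j5 i1 i11) (p j5 i1 i8) (n j5 i1 i9) (n j5 i1 i14) (p j5 i1 i15) (n j5 i1 i12) (p j5 i1 i13))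
  (@T16.mk E (n j5 i2 i2) (n j5 i2 i3) (n j5 i2 i0) (n j5 i2 i1) (n j5 i2 i6) (n j5 i2 i7) (n j5 i2 i4) (n j5 i2 i5) (n j5 i2 i10) (n j5 i2 i11) (n j5 i2 i8) (n j5 i2 i9) (n j5 i2 i14) (n j5 i2 i15) (n j5 i2 i12) (n j5 i2 i13))
  (@T16.mk E (p j5 i3 i2) (p j5 i3 i3) (p j5 i3 i0) (p j5 i3 i1) (p j5 i3 i6) (p j5 i3 i7) (p j5 i3 i4) (p j5 i3 i5) (p j5 i3 i10) (p j5 i3 i11) (p j5 i3 i8) (p j5 i3 i9) (p j5 i3 i14) (p j5 i3 i15) (p j5 i3 i12) (p j5 i3 i13))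
  (@T16.mk E (n j5 i4 i2) (p j5 i4 i3) (n j5 i4 i0) (p j5 i4 i1) (p j5 i4 i6) (n j5 i4 i7) (p j5 i4 i4) (n j5 i4 i5) (p j5 i4 i10) (n j5 i4 i11) (p j5 i4 i8) (n j5 i4 i9) (n j5 i4 i14) (p j5 i4 i15) (n j5 i4 i12) (p j5 i4 i13))
  (@T16.mk E (p j5 i5 i2) (n j5 i5 i3) (p j5 i5 i0) (n j5 i5 i1) (n j5 i5 i6) (p j5 i5 i7) (n j5 i5 i4) (p j5 i5 i5) (n j5 i5 i10) (p j5 i5 i11) (n j5 i5 i8) (p j5 i5 i9) (p j5 i5 i14) (n j5 i5 i15) (p j5 i5 i12) (n j5 i5 i13))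
  (@T16.mk E (p j5 i6 i2) (p j5 i6 i3) (p j5 i6 i0) (p j5 i6 i1) (p j5 i6 i6) (p j5 i6 i7) (p j5 i6 i4) (p j5 i6 i5) (p j5 i6 i10) (p j5 i6 i11) (p j5 i6 i8) (p j5 i6 i9) (p j5 i6 i14) (p j5 i6 i15) (p j5 i6 i12) (p j5 i6 i13))
  (@T16.mk E (p j5 i7 i2) (p j5 i7 i3) (p j5 i7 i0) (p j5 i7 i1) (p j5 i7 i6) (p j5 i7 i7) (p j5 i7 i4) (p j5 i7 i5) (p j5 i7 i10) (p j5 i7 i11) (p j5 i7 i8) (p j5 i7 i9) (p j5 i7 i14) (p j5 i7 i15) (p j5 i7 i12) (p j5 i7 i13))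
  (@T16.mk E (n j5 i8 i2) (p j5 i8 i3) (n j5 i8 i0) (p j5 i8 i1) (p j5 i8 i6) (n j5 i8 i7) (p j5 i8 i4) (n j5 i8 i5) (p j5 i8 i10) (n j5 i8 i11) (p j5 i8 i8) (n j5 i8 i9) (n j5 i8 i14) (p j5 i8 i15) (n j5 i8 i12) (p j5 i8 i13))
  (@T16.mk E (n j5 i9 i2) (p j5 i9 i3) (n j5 i9 i0) (p j5 i9 i1) (p j5 i9 i6) (n j5 i9 i7) (p j5 i9 i4) (n j5 i9 i5) (p j5 i9 i10) (n j5 i9 i11) (p j5 i9 i8) (n j5 i9 i9) (n j5 i9 i14) (p j5 i9 i15) (n j5 i9 i12) (p j5 i9 i13))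
  (@T16.mk E (n j5 i10 i2) (n j5 i10 i3) (n j5 i10 i0) (n j5 i10 i1) (n j5 i10 i6) (n j5 i10 i7) (n j5 i10 i4) (n j5 i10 i5) (n j5 i10 i10) (n j5 i10 i11) (n j5 i10 i8) (n j5 i10 i9) (n j5 i10 i14) (n j5 i10 i15) (n j5 i10 i12) (n j5 i10 i13))
  (@T16.mk E (p j5 i11 i2) (p j5 i11 i3) (p j5 i11 i0) (p j5 i11 i1) (p j5 i11 i6) (p j5 i11 i7) (p j5 i11 i4) (p j5 i11 i5) (p j5 i11 i10) (p j5 i11 i11) (p j5 i11 i8) (p j5 i11 i9) (p j5 i11 i14) (p j5 i11 i15) (p j5 i11 i12) (p j5 i11 i13))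
  (@T16.mk E (p j5 i12 i2) (n j5 i12 i3) (p j5 i12 i0) (n j5 i12 i1) (n j5 i12 i6) (p j5 i12 i7) (n j5 i12 i4) (p j5 i12 i5) (n j5 i12 i10) (p j5 i12 i11) (n j5 i12 i8) (p j5 i12 i9) (p j5 i12 i14) (n j5 i12 i15) (p j5 i12 i12) (n j5 i12 i13))
  (@T16.mk E (n j5 i13 i2) (p j5 i13 i3) (n j5 i13 i0) (p j5 i13 i1) (p j5 i13 i6) (n j5 i13 i7) (p j5 i13 i4) (n j5 i13 i5) (p j5 i13 i10) (n j5 i13 i11) (p j5 i13 i8) (n j5 i13 i9) (n j5 i13 i14) (p j5 i13 i15) (n j5 i13 i12) (p j5 i13 i13))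
  (@T16.mk E (n j5 i14 i2) (n j5 i14 i3) (n j5 i14 i0) (n j5 i14 i1) (n j5 i14 i6) (n j5 i14 i7) (n j5 i14 i4) (n j5 i14 i5) (n j5 i14 i10) (n j5 i14 i11) (n j5 i14 i8) (n j5 i14 i9) (n j5 i14 i14) (n j5 i14 i15) (n j5 i14 i12) (n j5 i14 i13))
  (@T16.mk E (n j5 i15 i2) (n j5 i15 i3) (n j5 i15 i0) (n j5 i15 i1) (n j5 i15 i6) (n j5 i15 i7) (n j5 i15 i4) (n j5 i15 i5) (n j5 i15 i10) (n j5 i15 i11) (n j5 i15 i8) (n j5 i15 i9) (n j5 i15 i14) (n j5 i15 i15) (n j5 i15 i12) (n j5 i15 i13))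
 )
 (@T16.mk (T16 E)
  (@T16.mk E (n j6 i0 i2) (p j6 i0 i3) (n j6 i0 i0) (p j6 i0 i1) (p j6 i0 i6) (n j6 i0 i7) (p j6 i0 i4) (n j6 i0 i5) (p j6 i0 i10) (n j6 i0 i11) (p j6 i0 i8) (n j6 i0 i9) (n j6 i0 i14) (p j6 i0 i15) (n j6 i0 i12) (p j6 i0 i13))
  (@T16.mk E (p j6 i1 i2) (n j6 i1 i3) (p j6 i1 i0) (n j6 i1 i1) (n j6 i1 i6) (p j6 i1 i7) (n j6 i1 i4) (p j6 i1 i5) (n j6 i1 i10) (p j6 i1 i11) (n j6 i1 i8) (p j6 i1 i9) (p j6 i1 i14) (n j6 i1 i15) (p j6 i1 i12) (n j6 i1 i13))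
  (@T16.mk E (p j6 i2 i2) (p j6 i2 i3) (p j6 i2 i0) (p j6 i2 i1) (p j6 i2 i6) (p j6 i2 i7) (p j6 i2 i4) (p j6 i2 i5) (p j6 i2 i10) (p j6 i2 i11) (p j6 i2 i8) (p j6 i2 i9) (p j6 i2 i14) (p j6 i2 i15) (p j6 i2 i12) (p j6 i2 i13))
  (@T16.mk E (p j6 i3 i2) (p j6 i3 i3) (p j6 i3 i0) (p j6 i3 i1) (p j6 i3 i6) (p j6 i3 i7) (p j6 i3 i4) (p j6 i3 i5) (p j6 i3 i10) (p j6 i3 i11) (p j6 i3 i8) (p j6 i3 i9) (p j6 i3 i14) (p j6 i3 i15) (p j6 i3 i12) (p j6 i3 i13))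
  (@T16.mk E (n j6 i4 i2) (p j6 i4 i3) (n j6 i4 i0) (p j6 i4 i1) (p j6 i4 i6) (n j6 i4 i7) (p j6 i4 i4) (n j6 i4 i5) (p j6 i4 i10) (n j6 i4 i11) (p j6 i4 i8) (n j6 i4 i9) (n j6 i4 i14) (p j6 i4 i15) (n j6 i4 i12) (p j6 i4 i13))
  (@T16.mk E (n j6 i5 i2) (p j6 i5 i3) (n j6 i5 i0) (p j6 i5 i1) (p j6 i5 i6) (n j6 i5 i7) (p j6 i5 i4) (n j6 i5 i5) (p j6 i5 i10) (n j6 i5 i11) (p j6 i5 i8) (n j6 i5 i9) (n j6 i5 i14) (p j6 i5 i15) (n j6 i5 i12) (p j6 i5 i13))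
  (@T16.mk E (n j6 i6 i2) (n j6 i6 i3) (n j6 i6 i0) (n j6 i6 i1) (n j6 i6 i6) (n j6 i6 i7) (n j6 i6 i4) (n j6 i6 i5) (n j6 i6 i10) (n j6 i6 i11) (n j6 i6 i8) (n j6 i6 i9) (n j6 i6 i14) (n j6 i6 i15) (n j6 i6 i12) (n j6 i6 i13))
  (@T16.mk E (p j6 i7 i2) (p j6 i7 i3) (p j6 i7 i0) (p j6 i7 i1) (p j6 i7 i6) (p j6 i7 i7) (p j6 i7 i4) (p j6 i7 i5) (p j6 i7 i10) (p j6 i7 i11) (p j6 i7 i8) (p j6 i7 i9) (p j6 i7 i14) (p j6 i7 i15) (p j6 i7 i12) (p j6 i7 i13))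
  (@T16.mk E (n j6 i8 i2) (p j6 i8 i3) (n j6 i8 i0) (p j6 i8 i1) (p j6 i8 i6) (n j6 i8 i7) (p j6 i8 i4) (n j6 i8 i5) (p j6 i8 i10) (n j6 i8 i11) (p j6 i8 i8) (n j6 i8 i9) (n j6 i8 i14) (p j6 i8 i15) (n j6 i8 i12) (p j6 i8 i13))
  (@T16.mk E (p j6 i9 i2) (n j6 i9 i3) (p j6 i9 i0) (n j6 i9 i1) (n j6 i9 i6) (p j6 i9 i7) (n j6 i9 i4) (p j6 i9 i5) (n j6 i9 i10) (p j6 i9 i11) (n j6 i9 i8) (p j6 i9 i9) (p j6 i9 i14) (n j6 i9 i15) (p j6 i9 i12) (n j6 i9 i13))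
  (@T16.mk E (p j6 i10 i2) (p j6 i10 i3) (p j6 i10 i0) (p j6 i10 i1) (p j6 i10 i6) (p j6 i10 i7) (p j6 i10 i4) (p j6 i10 i5) (p j6 i10 i10) (p j6 i10 i11) (p j6 i10 i8) (p j6 i10 i9) (p j6 i10 i14) (p j6 i10 i15) (p j6 i10 i12) (p j6 i10 i13))
  (@T16.mk E (p j6 i11 i2) (p j6 i11 i3) (p j6 i11 i0) (p j6 i11 i1) (p j6 i11 i6) (p j6 i11 i7) (p j6 i11 i4) (p j6 i11 i5) (p j6 i11 i10) (p j6 i11 i11) (p j6 i11 i8) (p j6 i11 i9) (p j6 i11 i14) (p j6 i11 i15) (p j6 i11 i12) (p j6 i11 i13))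
  (@T16.mk E (p j6 i12 i2) (n j6 i12 i3) (p j6 i12 i0) (n j6 i12 i1) (n j6 i12 i6) (p j6 i12 i7) (n j6 i12 i4) (p j6 i12 i5) (n j6 i12 i10) (p j6 i12 i11) (n j6 i12 i8) (p j6 i12 i9) (p j6 i12 i14) (n j6 i12 i15) (p j6 i12 i12) (n j6 i12 i13))
  (@T16.mk E (p j6 i13 i2) (n j6 i13 i3) (p j6 i13 i0) (n j6 i13 i1) (n j6 i13 i6) (p j6 i13 i7) (n j6 i13 i4) (p j6 i13 i5) (n j6 i13 i10) (p j6 i13 i11) (n j6 i13 i8) (p j6 i13 i9) (p j6 i13 i14) (n j6 i13 i15) (p j6 i13 i12) (n j6 i13 i13))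
  (@T16.mk E (p j6 i14 i2) (p j6 i14 i3) (p j6 i14 i0) (p j6 i14 i1) (p j6 i14 i6) (p j6 i14 i7) (p j6 i14 i4) (p j6 i14 i5) (p j6 i14 i10) (p j6 i14 i11) (p j6 i14 i8) (p j6 i14 i9) (p j6 i14 i14) (p j6 i14 i15) (p j6 i14 i12) (p j6 i14 i13))
  (@T16.mk E (n j6 i15 i2) (n j6 i15 i3) (n j6 i15 i0) (n j6 i15 i1) (n j6 i15 i6) (n j6 i15 i7) (n j6 i15 i4) (n j6 i15 i5) (n j6 i15 i10) (n j6 i15 i11) (n j6 i15 i8) (n j6 i15 i9) (n j6 i15 i14) (n j6 i15 i15) (n j6 i15 i12) (n j6 i15 i13))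
 )
 (@T16.mk (T16 E)
  (@T16.mk E (p j7 i0 i2) (n j7 i0 i3) (p j7 i0 i0) (n j7 i0 i1) (n j7 i0 i6) (p j7 i0 i7) (n j7 i0 i4) (p j7 i0 i5) (n j7 i0 i10) (p j7 i0 i11) (n j7 i0 i8) (p j7 i0 i9) (p j7 i0 i14) (n j7 i0 i15) (p j7 i0 i12) (n j7 i0 i13))
  (@T16.mk E (n j7 i1 i2) (p j7 i1 i3) (n j7 i1 i0) (p j7 i1 i1) (p j7 i1 i6) (n j7 i1 i7) (p j7 i1 i4) (n j7 i1 i5) (p j7 i1 i10) (n j7 i1 i11) (p j7 i1 i8) (n j7 i1 i9) (n j7 i1 i14) (p j7 i1 i15) (n j7 i1 i12) (p j7 i1 i13))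
  (@T16.mk E (n j7 i2 i2) (n j7 i2 i3) (n j7 i2 i0) (n j7 i2 i1) (n j7 i2 i6) (n j7 i2 i7) (n j7 i2 i4) (n j7 i2 i5) (n j7 i2 i10) (n j7 i2 i11) (n j7 i2 i8) (n j7 i2 i9) (n j7 i2 i14) (n j7 i2 i15) (n j7 i2 i12) (n j7 i2 i13))
  (@T16.mk E (n j7 i3 i2) (n j7 i3 i3) (n j7 i3 i0) (n j7 i3 i1) (n j7 i3 i6) (n j7 i3 i7) (n j7 i3 i4) (n j7 i3 i5) (n j7 i3 i10) (n j7 i3 i11) (n j7 i3 i8) (n j7 i3 i9) (n j7 i3 i14) (n j7 i3 i15) (n j7 i3 i12) (n j7 i3 i13))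
  (@T16.mk E (p j7 i4 i2) (n j7 i4 i3) (p j7 i4 i0) (n j7 i4 i1) (n j7 i4 i6) (p j7 i4 i7) (n j7 i4 i4) (p j7 i4 i5) (n j7 i4 i10) (p j7 i4 i11) (n j7 i4 i8) (p j7 i4 i9) (p j7 i4 i14) (n j7 i4 i15) (p j7 i4 i12) (n j7 i4 i13))
  (@T16.mk E (p j7 i5 i2) (n j7 i5 i3) (p j7 i5 i0) (n j7 i5 i1) (n j7 i5 i6) (p j7 i5 i7) (n j7 i5 i4) (p j7 i5 i5) (n j7 i5 i10) (p j7 i5 i11) (n j7 i5 i8) (p j7 i5 i9) (p j7 i5 i14) (n j7 i5 i15) (p j7 i5 i12) (n j7 i5 i13))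
  (@T16.mk E (p j7 i6 i2) (p j7 i6 i3) (p j7 i6 i0) (p j7 i6 i1) (p j7 i6 i6) (p j7 i6 i7) (p j7 i6 i4) (p j7 i6 i5) (p j7 i6 i10) (p j7 i6 i11) (p j7 i6 i8) (p j7 i6 i9) (p j7 i6 i14) (p j7 i6 i15) (p j7 i6 i12) (p j7 i6 i13))
  (@T16.mk E (n j7 i7 i2) (n j7 i7 i3) (n j7 i7 i0) (n j7 i7 i1) (n j7 i7 i6) (n j7 i7 i7) (n j7 i7 i4) (n j7 i7 i5) (n j7 i7 i10) (n j7 i7 i11) (n j7 i7 i8) (n j7 i7 i9) (n j7 i7 i14) (n j7 i7 i15) (n j7 i7 i12) (n j7 i7 i13))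
  (@T16.mk E (p j7 i8 i2) (n j7 i8 i3) (p j7 i8 i0) (n j7 i8 i1) (n j7 i8 i6) (p j7 i8 i7) (n j7 i8 i4) (p j7 i8 i5) (n j7 i8 i10) (p j7 i8 i11) (n j7 i8 i8) (p j7 i8 i9) (p j7 i8 i14) (n j7 i8 i15) (p j7 i8 i12) (n j7 i8 i13))
  (@T16.mk E (n j7 i9 i2) (p j7 i9 i3) (n j7 i9 i0) (p j7 i9 i1) (p j7 i9 i6) (n j7 i9 i7) (p j7 i9 i4) (n j7 i9 i5) (p j7 i9 i10) (n j7 i9 i11) (p j7 i9 i8) (n j7 i9 i9) (n j7 i9 i14) (p j7 i9 i15) (n j7 i9 i12) (p j7 i9 i13))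
  (@T16.mk E (n j7 i10 i2) (n j7 i10 i3) (n j7 i10 i0) (n j7 i10 i1) (n j7 i10 i6) (n j7 i10 i7) (n j7 i10 i4) (n j7 i10 i5) (n j7 i10 i10) (n j7 i10 i11) (n j7 i10 i8) (n j7 i10 i9) (n j7 i10 i14) (n j7 i10 i15) (n j7 i10 i12) (n j7 i10 i13))
  (@T16.mk E (n j7 i11 i2) (n j7 i11 i3) (n j7 i11 i0) (n j7 i11 i1) (n j7 i11 i6) (n j7 i11 i7) (n j7 i11 i4) (n j7 i11 i5) (n j7 i11 i10) (n j7 i11 i11) (n j7 i11 i8) (n j7 i11 i9) (n j7 i11 i14) (n j7 i11 i15) (n j7 i11 i12) (n j7 i11 i13))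
  (@T16.mk E (n j7 i12 i2) (p j7 i12 i3) (n j7 i12 i0) (p j7 i12 i1) (p j7 i12 i6) (n j7 i12 i7) (p j7 i12 i4) (n j7 i12 i5) (p j7 i12 i10) (n j7 i12 i11) (p j7 i12 i8) (n j7 i12 i9) (n j7 i12 i14) (p j7 i12 i15) (n j7 i12 i12) (p j7 i12 i13))
  (@T16.mk E (n j7 i13 i2) (p j7 i13 i3) (n j7 i13 i0) (p j7 i13 i1) (p j7 i13 i6) (n j7 i13 i7) (p j7 i13 i4) (n j7 i13 i5) (p j7 i13 i10) (n j7 i13 i11) (p j7 i13 i8) (n j7 i13 i9) (n j7 i13 i14) (p j7 i13 i15) (n j7 i13 i12) (p j7 i13 i13))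
  (@T16.mk E (n j7 i14 i2) (n j7 i14 i3) (n j7 i14 i0) (n j7 i14 i1) (n j7 i14 i6) (n j7 i14 i7) (n j7 i14 i4) (n j7 i14 i5) (n j7 i14 i10) (n j7 i14 i11) (n j7 i14 i8) (n j7 i14 i9) (n j7 i14 i14) (n j7 i14 i15) (n j7 i14 i12) (n j7 i14 i13))
  (@T16.mk E (p j7 i15 i2) (p j7 i15 i3) (p j7 i15 i0) (p j7 i15 i1) (p j7 i15 i6) (p j7 i15 i7) (p j7 i15 i4) (p j7 i15 i5) (p j7 i15 i10) (p j7 i15 i11) (p j7 i15 i8) (p j7 i15 i9) (p j7 i15 i14) (p j7 i15 i15) (p j7 i15 i12) (p j7 i15 i13))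
 )
 (@T16.mk (T16 E)
  (@T16.mk E (n j8 i0 i7) (n j8 i0 i6) (n j8 i0 i5) (n j8 i0 i4) (n j8 i0 i3) (n j8 i0 i2) (n j8 i0 i1) (n j8 i0 i0) (n j8 i0 i15) (n j8 i0 i14) (n j8 i0 i13) (n j8 i0 i12) (n j8 i0 i11) (n j8 i0 i10) (n j8 i0 i9) (n j8 i0 i8))
  (@T16.mk E (n j8 i1 i3) (n j8 i1 i2) (n j8 i1 i1) (n j8 i1 i0) (n j8 i1 i7) (n j8 i1 i6) (n j8 i1 i5) (n j8 i1 i4) (n j8 i1 i11) (n j8 i1 i10) (n j8 i1 i9) (n j8 i1 i8) (n j8 i1 i15) (n j8 i1 i14) (n j8 i1 i13) (n j8 i1 i12))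
  (@T16.mk E (p j8 i2 i1) (p j8 i2 i0) (p j8 i2 i3) (p j8 i2 i2) (p j8 i2 i5) (p j8 i2 i4) (p j8 i2 i7) (p j8 i2 i6) (p j8 i2 i9) (p j8 i2 i8) (p j8 i2 i11) (p j8 i2 i10) (p j8 i2 i13) (p j8 i2 i12) (p j8 i2 i15) (p j8 i2 i14))
  (@T16.mk E (n j8 i3 i5) (n j8 i3 i4) (n j8 i3 i7) (n j8 i3 i6) (n j8 i3 i1) (n j8 i3 i0) (n j8 i3 i3) (n j8 i3 i2) (n j8 i3 i13) (n j8 i3 i12) (n j8 i3 i15) (n j8 i3 i14) (n j8 i3 i9) (n j8 i3 i8) (n j8 i3 i11) (n j8 i3 i10))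
  (@T16.mk E (p j8 i4 i5) (p j8 i4 i4) (p j8 i4 i7) (p j8 i4 i6) (p j8 i4 i1) (p j8 i4 i0) (p j8 i4 i3) (p j8 i4 i2) (p j8 i4 i13) (p j8 i4 i12) (p j8 i4 i15) (p j8 i4 i14) (p j8 i4 i9) (p j8 i4 i8) (p j8 i4 i11) (p j8 i4 i10))
  (@T16.mk E (p j8 i5 i13) (p j8 i5 i12) (p j8 i5 i15) (p j8 i5 i14) (p j8 i5 i9) (p j8 i5 i8) (p j8 i5 i11) (p j8 i5 i10) (p j8 i5 i5) (p j8 i5 i4) (p j8 i5 i7) (p j8 i5 i6) (p j8 i5 i1) (p j8 i5 i0) (p j8 i5 i3) (p j8 i5 i2))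
  (@T16.mk E (n j8 i6 i10) (n j8 i6 i11) (n j8 i6 i8) (n j8 i6 i9) (n j8 i6 i14) (n j8 i6 i15) (n j8 i6 i12) (n j8 i6 i13) (n j8 i6 i2) (n j8 i6 i3) (n j8 i6 i0) (n j8 i6 i1) (n j8 i6 i6) (n j8 i6 i7) (n j8 i6 i4) (n j8 i6 i5))
  (@T16.mk E (n j8 i7 i7) (n j8 i7 i6) (n j8 i7 i5) (n j8 i7 i4) (n j8 i7 i3) (n j8 i7 i2) (n j8 i7 i1) (n j8 i7 i0) (n j8 i7 i15) (n j8 i7 i14) (n j8 i7 i13) (n j8 i7 i12) (n j8 i7 i11) (n j8 i7 i10) (n j8 i7 i9) (n j8 i7 i8))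
  (@T16.mk E (p j8 i8 i12) (p j8 i8 i13) (p j8 i8 i14) (p j8 i8 i15) (p j8 i8 i8) (p j8 i8 i9) (p j8 i8 i10) (p j8 i8 i11) (p j8 i8 i4) (p j8 i8 i5) (p j8 i8 i6) (p j8 i8 i7) (p j8 i8 i0) (p j8 i8 i1) (p j8 i8 i2) (p j8 i8 i3))
  (@T16.mk E (n j8 i9 i15) (n j8 i9 i14) (n j8 i9 i13) (n j8 i9 i12) (n j8 i9 i11) (n j8 i9 i10) (n j8 i9 i9) (n j8 i9 i8) (n j8 i9 i7) (n j8 i9 i6) (n j8 i9 i5) (n j8 i9 i4) (n j8 i9 i3) (n j8 i9 i2) (n j8 i9 i1) (n j8 i9 i0))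
  (@T16.mk E (n j8 i10 i15) (n j8 i10 i14) (n j8 i10 i13) (n j8 i10 i12) (n j8 i10 i11) (n j8 i10 i10) (n j8 i10 i9) (n j8 i10 i8) (n j8 i10 i7) (n j8 i10 i6) (n j8 i10 i5) (n j8 i10 i4) (n j8 i10 i3) (n j8 i10 i2) (n j8 i10 i1) (n j8 i10 i0))
  (@T16.mk E (n j8 i11 i11) (n j8 i11 i10) (n j8 i11 i9) (n j8 i11 i8) (n j8 i11 i15) (n j8 i11 i14) (n j8 i11 i13) (n j8 i11 i12) (n j8 i11 i3) (n j8 i11 i2) (n j8 i11 i1) (n j8 i11 i0) (n j8 i11 i7) (n j8 i11 i6) (n j8 i11 i5) (n j8 i11 i4))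
  (@T16.mk E (p j8 i12 i8) (p j8 i12 i9) (p j8 i12 i10) (p j8 i12 i11) (p j8 i12 i12) (p j8 i12 i13) (p j8 i12 i14) (p j8 i12 i15) (p j8 i12 i0) (p j8 i12 i1) (p j8 i12 i2) (p j8 i12 i3) (p j8 i12 i4) (p j8 i12 i5) (p j8 i12 i6) (p j8 i12 i7))
  (@T16.mk E (n j8 i13 i10) (n j8 i13 i11) (n j8 i13 i8) (n j8 i13 i9) (n j8 i13 i14) (n j8 i13 i15) (n j8 i13 i12) (n j8 i13 i13) (n j8 i13 i2) (n j8 i13 i3) (n j8 i13 i0) (n j8 i13 i1) (n j8 i13 i6) (n j8 i13 i7) (n j8 i13 i4) (n j8 i13 i5))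
  (@T16.mk E (n j8 i14 i11) (n j8 i14 i10) (n j8 i14 i9) (n j8 i14 i8) (n j8 i14 i15) (n j8 i14 i14) (n j8 i14 i13) (n j8 i14 i12) (n j8 i14 i3) (n j8 i14 i2) (n j8 i14 i1) (n j8 i14 i0) (n j8 i14 i7) (n j8 i14 i6) (n j8 i14 i5) (n j8 i14 i4))
  (@T16.mk E (n j8 i15 i13) (n j8 i15 i12) (n j8 i15 i15) (n j8 i15 i14) (n j8 i15 i9) (n j8 i15 i8) (n j8 i15 i11) (n j8 i15 i10) (n j8 i15 i5) (n j8 i15 i4) (n j8 i15 i7) (n j8 i15 i6) (n j8 i15 i1) (n j8 i15 i0) (n j8 i15 i3) (n j8 i15 i2))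
 )
 (@T16.mk (T16 E)
  (@T16.mk E (n j9 i0 i4) (n j9 i0 i5) (n j9 i0 i6) (n j9 i0 i7) (n j9 i0 i0) (n j9 i0 i1) (n j9 i0 i2) (n j9 i0 i3) (n j9 i0 i12) (n j9 i0 i13) (n j9 i0 i14) (n j9 i0 i15) (n j9 i0 i8) (n j9 i0 i9) (n j9 i0 i10) (n j9 i0 i11))
  (@T16.mk E (n j9 i1 i4) (n j9 i1 i5) (n j9 i1 i6) (n j9 i1 i7) (n j9 i1 i0) (n j9 i1 i1) (n j9 i1 i2) (n j9 i1 i3) (n j9 i1 i12) (n j9 i1 i13) (n j9 i1 i14) (n j9 i1 i15) (n j9 i1 i8) (n j9 i1 i9) (n j9 i1 i10) (n j9 i1 i11))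
  (@T16.mk E (p j9 i2 i14) (p j9 i2 i15) (p j9 i2 i12) (p j9 i2 i13) (p j9 i2 i10) (p j9 i2 i11) (p j9 i2 i8) (p j9 i2 i9) (p j9 i2 i6) (p j9 i2 i7) (p j9 i2 i4) (p j9 i2 i5) (p j9 i2 i2) (p j9 i2 i3) (p j9 i2 i0) (p j9 i2 i1))
  (@T16.mk E (p j9 i3 i3) (p j9 i3 i2) (p j9 i3 i1) (p j9 i3 i0) (p j9 i3 i7) (p j9 i3 i6) (p j9 i3 i5) (p j9 i3 i4) (p j9 i3 i11) (p j9 i3 i10) (p j9 i3 i9) (p j9 i3 i8) (p j9 i3 i15) (p j9 i3 i14) (p j9 i3 i13) (p j9 i3 i12))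
  (@T16.mk E (n j9 i4 i4) (n j9 i4 i5) (n j9 i4 i6) (n j9 i4 i7) (n j9 i4 i0) (n j9 i4 i1) (n j9 i4 i2) (n j9 i4 i3) (n j9 i4 i12) (n j9 i4 i13) (n j9 i4 i14) (n j9 i4 i15) (n j9 i4 i8) (n j9 i4 i9) (n j9 i4 i10) (n j9 i4 i11))
  (@T16.mk E (p j9 i5 i0) (p j9 i5 i1) (p j9 i5 i2) (p j9 i5 i3) (p j9 i5 i4) (p j9 i5 i5) (p j9 i5 i6) (p j9 i5 i7) (p j9 i5 i8) (p j9 i5 i9) (p j9 i5 i10) (p j9 i5 i11) (p j9 i5 i12) (p j9 i5 i13) (p j9 i5 i14) (p j9 i5 i15))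
  (@T16.mk E (p j9 i6 i7) (p j9 i6 i6) (p j9 i6 i5) (p j9 i6 i4) (p j9 i6 i3) (p j9 i6 i2) (p j9 i6 i1) (p j9 i6 i0) (p j9 i6 i15) (p j9 i6 i14) (p j9 i6 i13) (p j9 i6 i12) (p j9 i6 i11) (p j9 i6 i10) (p j9 i6 i9) (p j9 i6 i8))
  (@T16.mk E (n j9 i7 i14) (n j9 i7 i15) (n j9 i7 i12) (n j9 i7 i13) (n j9 i7 i10) (n j9 i7 i11) (n j9 i7 i8) (n j9 i7 i9) (n j9 i7 i6) (n j9 i7 i7) (n j9 i7 i4) (n j9 i7 i5) (n j9 i7 i2) (n j9 i7 i3) (n j9 i7 i0) (n j9 i7 i1))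
  (@T16.mk E (n j9 i8 i12) (n j9 i8 i13) (n j9 i8 i14) (n j9 i8 i15) (n j9 i8 i8) (n j9 i8 i9) (n j9 i8 i10) (n j9 i8 i11) (n j9 i8 i4) (n j9 i8 i5) (n j9 i8 i6) (n j9 i8 i7) (n j9 i8 i0) (n j9 i8 i1) (n j9 i8 i2) (n j9 i8 i3))
  (@T16.mk E (p j9 i9 i3) (p j9 i9 i2) (p j9 i9 i1) (p j9 i9 i0) (p j9 i9 i7) (p j9 i9 i6) (p j9 i9 i5) (p j9 i9 i4) (p j9 i9 i11) (p j9 i9 i10) (p j9 i9 i9) (p j9 i9 i8) (p j9 i9 i15) (p j9 i9 i14) (p j9 i9 i13) (p j9 i9 i12))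
  (@T16.mk E (p j9 i10 i11) (p j9 i10 i10) (p j9 i10 i9) (p j9 i10 i8) (p j9 i10 i15) (p j9 i10 i14) (p j9 i10 i13) (p j9 i10 i12) (p j9 i10 i3) (p j9 i10 i2) (p j9 i10 i1) (p j9 i10 i0) (p j9 i10 i7) (p j9 i10 i6) (p j9 i10 i5) (p j9 i10 i4))
  (@T16.mk E (p j9 i11 i0) (p j9 i11 i1) (p j9 i11 i2) (p j9 i11 i3) (p j9 i11 i4) (p j9 i11 i5) (p j9 i11 i6) (p j9 i11 i7) (p j9 i11 i8) (p j9 i11 i9) (p j9 i11 i10) (p j9 i11 i11) (p j9 i11 i12) (p j9 i11 i13) (p j9 i11 i14) (p j9 i11 i15))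
  (@T16.mk E (p j9 i12 i7) (p j9 i12 i6) (p j9 i12 i5) (p j9 i12 i4) (p j9 i12 i3) (p j9 i12 i2) (p j9 i12 i1) (p j9 i12 i0) (p j9 i12 i15) (p j9 i12 i14) (p j9 i12 i13) (p j9 i12 i12) (p j9 i12 i11) (p j9 i12 i10) (p j9 i12 i9) (p j9 i12 i8))
  (@T16.mk E (n j9 i13 i8) (n j9 i13 i9) (n j9 i13 i10) (n j9 i13 i11) (n j9 i13 i12) (n j9 i13 i13) (n j9 i13 i14) (n j9 i13 i15) (n j9 i13 i0) (n j9 i13 i1) (n j9 i13 i2) (n j9 i13 i3) (n j9 i13 i4) (n j9 i13 i5) (n j9 i13 i6) (n j9 i13 i7))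
  (@T16.mk E (n j9 i14 i5) (n j9 i14 i4) (n j9 i14 i7) (n j9 i14 i6) (n j9 i14 i1) (n j9 i14 i0) (n j9 i14 i3) (n j9 i14 i2) (n j9 i14 i13) (n j9 i14 i12) (n j9 i14 i15) (n j9 i14 i14) (n j9 i14 i9) (n j9 i14 i8) (n j9 i14 i11) (n j9 i14 i10))
  (@T16.mk E (n j9 i15 i15) (n j9 i15 i14) (n j9 i15 i13) (n j9 i15 i12) (n j9 i15 i11) (n j9 i15 i10) (n j9 i15 i9) (n j9 i15 i8) (n j9 i15 i7) (n j9 i15 i6) (n j9 i15 i5) (n j9 i15 i4) (n j9 i15 i3) (n j9 i15 i2) (n j9 i15 i1) (n j9 i15 i0))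
 )
 (@T16.mk (T16 E)
  (@T16.mk E (p j10 i0 i11) (p j10 i0 i10) (p j10 i0 i9) (p j10 i0 i8) (p j10 i0 i15) (p j10 i0 i14) (p j10 i0 i13) (p j10 i0 i12) (p j10 i0 i3) (p j10 i0 i2) (p j10 i0 i1) (p j10 i0 i0) (p j10 i0 i7) (p j10 i0 i6) (p j10 i0 i5) (p j10 i0 i4))
  (@T16.mk E (p j10 i1 i4) (p j10 i1 i5) (p j10 i1 i6) (p j10 i1 i7) (p j10 i1 i0) (p j10 i1 i1) (p j10 i1 i2) (p j10 i1 i3) (p j10 i1 i12) (p j10 i1 i13) (p j10 i1 i14) (p j10 i1 i15) (p j10 i1 i8) (p j10 i1 i9) (p j10 i1 i10) (p j10 i1 i11))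
  (@T16.mk E (p j10 i2 i12) (p j10 i2 i13) (p j10 i2 i14) (p j10 i2 i15) (p j10 i2 i8) (p j10 i2 i9) (p j10 i2 i10) (p j10 i2 i11) (p j10 i2 i4) (p j10 i2 i5) (p j10 i2 i6) (p j10 i2 i7) (p j10 i2 i0) (p j10 i2 i1) (p j10 i2 i2) (p j10 i2 i3))
  (@T16.mk E (n j10 i3 i7) (n j10 i3 i6) (n j10 i3 i5) (n j10 i3 i4) (n j10 i3 i3) (n j10 i3 i2) (n j10 i3 i1) (n j10 i3 i0) (n j10 i3 i15) (n j10 i3 i14) (n j10 i3 i13) (n j10 i3 i12) (n j10 i3 i11) (n j10 i3 i10) (n j10 i3 i9) (n j10 i3 i8))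
  (@T16.mk E (p j10 i4 i7) (p j10 i4 i6) (p j10 i4 i5) (p j10 i4 i4) (p j10 i4 i3) (p j10 i4 i2) (p j10 i4 i1) (p j10 i4 i0) (p j10 i4 i15) (p j10 i4 i14) (p j10 i4 i13) (p j10 i4 i12) (p j10 i4 i11) (p j10 i4 i10) (p j10 i4 i9) (p j10 i4 i8))
  (@T16.mk E (p j10 i5 i11) (p j10 i5 i10) (p j10 i5 i9) (p j10 i5 i8) (p j10 i5 i15) (p j10 i5 i14) (p j10 i5 i13) (p j10 i5 i12) (p j10 i5 i3) (p j10 i5 i2) (p j10 i5 i1) (p j10 i5 i0) (p j10 i5 i7) (p j10 i5 i6) (p j10 i5 i5) (p j10 i5 i4))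
  (@T16.mk E (p j10 i6 i1) (p j10 i6 i0) (p j10 i6 i3) (p j10 i6 i2) (p j10 i6 i5) (p j10 i6 i4) (p j10 i6 i7) (p j10 i6 i6) (p j10 i6 i9) (p j10 i6 i8) (p j10 i6 i11) (p j10 i6 i10) (p j10 i6 i13) (p j10 i6 i12) (p j10 i6 i15) (p j10 i6 i14))
  (@T16.mk E (p j10 i7 i13) (p j10 i7 i12) (p j10 i7 i15) (p j10 i7 i14) (p j10 i7 i9) (p j10 i7 i8) (p j10 i7 i11) (p j10 i7 i10) (p j10 i7 i5) (p j10 i7 i4) (p j10 i7 i7) (p j10 i7 i6) (p j10 i7 i1) (p j10 i7 i0) (p j10 i7 i3) (p j10 i7 i2))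
  (@T16.mk E (n j10 i8 i14) (n j10 i8 i15) (n j10 i8 i12) (n j10 i8 i13) (n j10 i8 i10) (n j10 i8 i11) (n j10 i8 i8) (n j10 i8 i9) (n j10 i8 i6) (n j10 i8 i7) (n j10 i8 i4) (n j10 i8 i5) (n j10 i8 i2) (n j10 i8 i3) (n j10 i8 i0) (n j10 i8 i1))
  (@T16.mk E (n j10 i9 i1) (n j10 i9 i0) (n j10 i9 i3) (n j10 i9 i2) (n j10 i9 i5) (n j10 i9 i4) (n j10 i9 i7) (n j10 i9 i6) (n j10 i9 i9) (n j10 i9 i8) (n j10 i9 i11) (n j10 i9 i10) (n j10 i9 i13) (n j10 i9 i12) (n j10 i9 i15) (n j10 i9 i14))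
  (@T16.mk E (p j10 i10 i12) (p j10 i10 i13) (p j10 i10 i14) (p j10 i10 i15) (p j10 i10 i8) (p j10 i10 i9) (p j10 i10 i10) (p j10 i10 i11) (p j10 i10 i4) (p j10 i10 i5) (p j10 i10 i6) (p j10 i10 i7) (p j10 i10 i0) (p j10 i10 i1) (p j10 i10 i2) (p j10 i10 i3))
  (@T16.mk E (n j10 i11 i7) (n j10 i11 i6) (n j10 i11 i5) (n j10 i11 i4) (n j10 i11 i3) (n j10 i11 i2) (n j10 i11 i1) (n j10 i11 i0) (n j10 i11 i15) (n j10 i11 i14) (n j10 i11 i13) (n j10 i11 i12) (n j10 i11 i11) (n j10 i11 i10) (n j10 i11 i9) (n j10 i11 i8))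
  (@T16.mk E (p j10 i12 i10) (p j10 i12 i11) (p j10 i12 i8) (p j10 i12 i9) (p j10 i12 i14) (p j10 i12 i15) (p j10 i12 i12) (p j10 i12 i13) (p j10 i12 i2) (p j10 i12 i3) (p j10 i12 i0) (p j10 i12 i1) (p j10 i12 i6) (p j10 i12 i7) (p j10 i12 i4) (p j10 i12 i5))
  (@T16.mk E (p j10 i13 i0) (p j10 i13 i1) (p j10 i13 i2) (p j10 i13 i3) (p j10 i13 i4) (p j10 i13 i5) (p j10 i13 i6) (p j10 i13 i7) (p j10 i13 i8) (p j10 i13 i9) (p j10 i13 i10) (p j10 i13 i11) (p j10 i13 i12) (p j10 i13 i13) (p j10 i13 i14) (p j10 i13 i15))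
  (@T16.mk E (p j10 i14 i12) (p j10 i14 i13) (p j10 i14 i14) (p j10 i14 i15) (p j10 i14 i8) (p j10 i14 i9) (p j10 i14 i10) (p j10 i14 i11) (p j10 i14 i4) (p j10 i14 i5) (p j10 i14 i6) (p j10 i14 i7) (p j10 i14 i0) (p j10 i14 i1) (p j10 i14 i2) (p j10 i14 i3))
  (@T16.mk E (p j10 i15 i0) (p j10 i15 i1) (p j10 i15 i2) (p j10 i15 i3) (p j10 i15 i4) (p j10 i15 i5) (p j10 i15 i6) (p j10 i15 i7) (p j10 i15 i8) (p j10 i15 i9) (p j10 i15 i10) (p j10 i15 i11) (p j10 i15 i12) (p j10 i15 i13) (p j10 i15 i14) (p j10 i15 i15))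
 )
 (@T16.mk (T16 E)
  (@T16.mk E (p j11 i0 i10) (p j11 i0 i11) (p j11 i0 i8) (p j11 i0 i9) (p j11 i0 i14) (p j11 i0 i15) (p j11 i0 i12) (p j11 i0 i13) (p j11 i0 i2) (p j11 i0 i3) (p j11 i0 i0) (p j11 i0 i1) (p j11 i0 i6) (p j11 i0 i7) (p j11 i0 i4) (p j11 i0 i5))
  (@T16.mk E (n j11 i1 i12) (n j11 i1 i13) (n j11 i1 i14) (n j11 i1 i15) (n j11 i1 i8) (n j11 i1 i9) (n j11 i1 i10) (n j11 i1 i11) (n j11 i1 i4) (n j11 i1 i5) (n j11 i1 i6) (n j11 i1 i7) (n j11 i1 i0) (n j11 i1 i1) (n j11 i1 i2) (n j11 i1 i3))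
  (@T16.mk E (p j11 i2 i12) (p j11 i2 i13) (p j11 i2 i14) (p j11 i2 i15) (p j11 i2 i8) (p j11 i2 i9) (p j11 i2 i10) (p j11 i2 i11) (p j11 i2 i4) (p j11 i2 i5) (p j11 i2 i6) (p j11 i2 i7) (p j11 i2 i0) (p j11 i2 i1) (p j11 i2 i2) (p j11 i2 i3))
  (@T16.mk E (p j11 i3 i9) (p j11 i3 i8) (p j11 i3 i11) (p j11 i3 i10) (p j11 i3 i13) (p j11 i3 i12) (p j11 i3 i15) (p j11 i3 i14) (p j11 i3 i1) (p j11 i3 i0) (p j11 i3 i3) (p j11 i3 i2) (p j11 i3 i5) (p j11 i3 i4) (p j11 i3 i7) (p j11 i3 i6))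
  (@T16.mk E (n j11 i4 i8) (n j11 i4 i9) (n j11 i4 i10) (n j11 i4 i11) (n j11 i4 i12) (n j11 i4 i13) (n j11 i4 i14) (n j11 i4 i15) (n j11 i4 i0) (n j11 i4 i1) (n j11 i4 i2) (n j11 i4 i3) (n j11 i4 i4) (n j11 i4 i5) (n j11 i4 i6) (n j11 i4 i7))
  (@T16.mk E (p j11 i5 i12) (p j11 i5 i13) (p j11 i5 i14) (p j11 i5 i15) (p j11 i5 i8) (p j11 i5 i9) (p j11 i5 i10) (p j11 i5 i11) (p j11 i5 i4) (p j11 i5 i5) (p j11 i5 i6) (p j11 i5 i7) (p j11 i5 i0) (p j11 i5 i1) (p j11 i5 i2) (p j11 i5 i3))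
  (@T16.mk E (p j11 i6 i12) (p j11 i6 i13) (p j11 i6 i14) (p j11 i6 i15) (p j11 i6 i8) (p j11 i6 i9) (p j11 i6 i10) (p j11 i6 i11) (p j11 i6 i4) (p j11 i6 i5) (p j11 i6 i6) (p j11 i6 i7) (p j11 i6 i0) (p j11 i6 i1) (p j11 i6 i2) (p j11 i6 i3))
  (@T16.mk E (p j11 i7 i12) (p j11 i7 i13) (p j11 i7 i14) (p j11 i7 i15) (p j11 i7 i8) (p j11 i7 i9) (p j11 i7 i10) (p j11 i7 i11) (p j11 i7 i4) (p j11 i7 i5) (p j11 i7 i6) (p j11 i7 i7) (p j11 i7 i0) (p j11 i7 i1) (p j11 i7 i2) (p j11 i7 i3))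
  (@T16.mk E (n j11 i8 i5) (n j11 i8 i4) (n j11 i8 i7) (n j11 i8 i6) (n j11 i8 i1) (n j11 i8 i0) (n j11 i8 i3) (n j11 i8 i2) (n j11 i8 i13) (n j11 i8 i12) (n j11 i8 i15) (n j11 i8 i14) (n j11 i8 i9) (n j11 i8 i8) (n j11 i8 i11) (n j11 i8 i10))
  (@T16.mk E (p j11 i9 i13) (p j11 i9 i12) (p j11 i9 i15) (p j11 i9 i14) (p j11 i9 i9) (p j11 i9 i8) (p j11 i9 i11) (p j11 i9 i10) (p j11 i9 i5) (p j11 i9 i4) (p j11 i9 i7) (p j11 i9 i6) (p j11 i9 i1) (p j11 i9 i0) (p j11 i9 i3) (p j11 i9 i2))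
  (@T16.mk E (p j11 i10 i4) (p j11 i10 i5) (p j11 i10 i6) (p j11 i10 i7) (p j11 i10 i0) (p j11 i10 i1) (p j11 i10 i2) (p j11 i10 i3) (p j11 i10 i12) (p j11 i10 i13) (p j11 i10 i14) (p j11 i10 i15) (p j11 i10 i8) (p j11 i10 i9) (p j11 i10 i10) (p j11 i10 i11))
  (@T16.mk E (p j11 i11 i7) (p j11 i11 i6) (p j11 i11 i5) (p j11 i11 i4) (p j11 i11 i3) (p j11 i11 i2) (p j11 i11 i1) (p j11 i11 i0) (p j11 i11 i15) (p j11 i11 i14) (p j11 i11 i13) (p j11 i11 i12) (p j11 i11 i11) (p j11 i11 i10) (p j11 i11 i9) (p j11 i11 i8))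
  (@T16.mk E (n j11 i12 i6) (n j11 i12 i7) (n j11 i12 i4) (n j11 i12 i5) (n j11 i12 i2) (n j11 i12 i3) (n j11 i12 i0) (n j11 i12 i1) (n j11 i12 i14) (n j11 i12 i15) (n j11 i12 i12) (n j11 i12 i13) (n j11 i12 i10) (n j11 i12 i11) (n j11 i12 i8) (n j11 i12 i9))
  (@T16.mk E (p j11 i13 i6) (p j11 i13 i7) (p j11 i13 i4) (p j11 i13 i5) (p j11 i13 i2) (p j11 i13 i3) (p j11 i13 i0) (p j11 i13 i1) (p j11 i13 i14) (p j11 i13 i15) (p j11 i13 i12) (p j11 i13 i13) (p j11 i13 i10) (p j11 i13 i11) (p j11 i13 i8) (p j11 i13 i9))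
  (@T16.mk E (p j11 i14 i14) (p j11 i14 i15) (p j11 i14 i12) (p j11 i14 i13) (p j11 i14 i10) (p j11 i14 i11) (p j11 i14 i8) (p j11 i14 i9) (p j11 i14 i6) (p j11 i14 i7) (p j11 i14 i4) (p j11 i14 i5) (p j11 i14 i2) (p j11 i14 i3) (p j11 i14 i0) (p j11 i14 i1))
  (@T16.mk E (p j11 i15 i12) (p j11 i15 i13) (p j11 i15 i14) (p j11 i15 i15) (p j11 i15 i8) (p j11 i15 i9) (p j11 i15 i10) (p j11 i15 i11) (p j11 i15 i4) (p j11 i15 i5) (p j11 i15 i6) (p j11 i15 i7) (p j11 i15 i0) (p j11 i15 i1) (p j11 i15 i2) (p j11 i15 i3))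
 )
 (@T16.mk (T16 E)
  (@T16.mk E (n j12 i0 i10) (n j12 i0 i11) (n j12 i0 i8) (n j12 i0 i9) (n j12 i0 i14) (n j12 i0 i15) (n j12 i0 i12) (n j12 i0 i13) (n j12 i0 i2) (n j12 i0 i3) (n j12 i0 i0) (n j12 i0 i1) (n j12 i0 i6) (n j12 i0 i7) (n j12 i0 i4) (n j12 i0 i5))
  (@T16.mk E (p j12 i1 i6) (p j12 i1 i7) (p j12 i1 i4) (p j12 i1 i5) (p j12 i1 i2) (p j12 i1 i3) (p j12 i1 i0) (p j12 i1 i1) (p j12 i1 i14) (p j12 i1 i15) (p j12 i1 i12) (p j12 i1 i13) (p j12 i1 i10) (p j12 i1 i11) (p j12 i1 i8) (p j12 i1 i9))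
  (@T16.mk E (n j12 i2 i13) (n j12 i2 i12) (n j12 i2 i15) (n j12 i2 i14) (n j12 i2 i9) (n j12 i2 i8) (n j12 i2 i11) (n j12 i2 i10) (n j12 i2 i5) (n j12 i2 i4) (n j12 i2 i7) (n j12 i2 i6) (n j12 i2 i1) (n j12 i2 i0) (n j12 i2 i3) (n j12 i2 i2))
  (@T16.mk E (p j12 i3 i2) (p j12 i3 i3) (p j12 i3 i0) (p j12 i3 i1) (p j12 i3 i6) (p j12 i3 i7) (p j12 i3 i4) (p j12 i3 i5) (p j12 i3 i10) (p j12 i3 i11) (p j12 i3 i8) (p j12 i3 i9) (p j12 i3 i14) (p j12 i3 i15) (p j12 i3 i12) (p j12 i3 i13))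
  (@T16.mk E (n j12 i4 i8) (n j12 i4 i9) (n j12 i4 i10) (n j12 i4 i11) (n j12 i4 i12) (n j12 i4 i13) (n j12 i4 i14) (n j12 i4 i15) (n j12 i4 i0) (n j12 i4 i1) (n j12 i4 i2) (n j12 i4 i3) (n j12 i4 i4) (n j12 i4 i5) (n j12 i4 i6) (n j12 i4 i7))
  (@T16.mk E (n j12 i5 i8) (n j12 i5 i9) (n j12 i5 i10) (n j12 i5 i11) (n j12 i5 i12) (n j12 i5 i13) (n j12 i5 i14) (n j12 i5 i15) (n j12 i5 i0) (n j12 i5 i1) (n j12 i5 i2) (n j12 i5 i3) (n j12 i5 i4) (n j12 i5 i5) (n j12 i5 i6) (n j12 i5 i7))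
  (@T16.mk E (p j12 i6 i0) (p j12 i6 i1) (p j12 i6 i2) (p j12 i6 i3) (p j12 i6 i4) (p j12 i6 i5) (p j12 i6 i6) (p j12 i6 i7) (p j12 i6 i8) (p j12 i6 i9) (p j12 i6 i10) (p j12 i6 i11) (p j12 i6 i12) (p j12 i6 i13) (p j12 i6 i14) (p j12 i6 i15))
  (@T16.mk E (p j12 i7 i0) (p j12 i7 i1) (p j12 i7 i2) (p j12 i7 i3) (p j12 i7 i4) (p j12 i7 i5) (p j12 i7 i6) (p j12 i7 i7) (p j12 i7 i8) (p j12 i7 i9) (p j12 i7 i10) (p j12 i7 i11) (p j12 i7 i12) (p j12 i7 i13) (p j12 i7 i14) (p j12 i7 i15))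
  (@T16.mk E (n j12 i8 i8) (n j12 i8 i9) (n j12 i8 i10) (n j12 i8 i11) (n j12 i8 i12) (n j12 i8 i13) (n j12 i8 i14) (n j12 i8 i15) (n j12 i8 i0) (n j12 i8 i1) (n j12 i8 i2) (n j12 i8 i3) (n j12 i8 i4) (n j12 i8 i5) (n j12 i8 i6) (n j12 i8 i7))
  (@T16.mk E (p j12 i9 i8) (p j12 i9 i9) (p j12 i9 i10) (p j12 i9 i11) (p j12 i9 i12) (p j12 i9 i13) (p j12 i9 i14) (p j12 i9 i15) (p j12 i9 i0) (p j12 i9 i1) (p j12 i9 i2) (p j12 i9 i3) (p j12 i9 i4) (p j12 i9 i5) (p j12 i9 i6) (p j12 i9 i7))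
  (@T16.mk E (p j12 i10 i12) (p j12 i10 i13) (p j12 i10 i14) (p j12 i10 i15) (p j12 i10 i8) (p j12 i10 i9) (p j12 i10 i10) (p j12 i10 i11) (p j12 i10 i4) (p j12 i10 i5) (p j12 i10 i6) (p j12 i10 i7) (p j12 i10 i0) (p j12 i10 i1) (p j12 i10 i2) (p j12 i10 i3))
  (@T16.mk E (p j12 i11 i12) (p j12 i11 i13) (p j12 i11 i14) (p j12 i11 i15) (p j12 i11 i8) (p j12 i11 i9) (p j12 i11 i10) (p j12 i11 i11) (p j12 i11 i4) (p j12 i11 i5) (p j12 i11 i6) (p j12 i11 i7) (p j12 i11 i0) (p j12 i11 i1) (p j12 i11 i2) (p j12 i11 i3))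
  (@T16.mk E (p j12 i12 i0) (p j12 i12 i1) (p j12 i12 i2) (p j12 i12 i3) (p j12 i12 i4) (p j12 i12 i5) (p j12 i12 i6) (p j12 i12 i7) (p j12 i12 i8) (p j12 i12 i9) (p j12 i12 i10) (p j12 i12 i11) (p j12 i12 i12) (p j12 i12 i13) (p j12 i12 i14) (p j12 i12 i15))
  (@T16.mk E (p j12 i14 i0) (n j12 i14 i1) (p j12 i14 i2) (p j12 i14 i3) (p j12 i14 i4) (p j12 i14 i5) (p j12 i14 i6) (n j12 i14 i7) (p j12 i14 i8) (p j12 i14 i9) (n j12 i14 i10) (p j12 i14 i11) (p j12 i14 i12) (n j12 i14 i13) (n j12 i14 i14) (n j12 i14 i15))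
  (@T16.mk E (p j12 i13 i0) (n j12 i13 i1) (p j12 i13 i2) (p j12 i13 i3) (p j12 i13 i4) (p j12 i13 i5) (p j12 i13 i6) (n j12 i13 i7) (p j12 i13 i8) (p j12 i13 i9) (n j12 i13 i10) (p j12 i13 i11) (p j12 i13 i12) (n j12 i13 i13) (n j12 i13 i14) (n j12 i13 i15))
  (@T16.mk E (p j13 i0 i0) (n j13 i0 i1) (p j13 i0 i2) (p j13 i0 i3) (p j13 i0 i4) (p j13 i0 i5) (p j13 i0 i6) (n j13 i0 i7) (n j13 i0 i8) (n j13 i0 i9) (p j13 i0 i10) (n j13 i0 i11) (n j13 i0 i12) (p j13 i0 i13) (p j13 i0 i14) (p j13 i0 i15))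
 )
 (@T16.mk (T16 E)
  (@T16.mk E (p j12 i15 i0) (n j12 i15 i1) (p j12 i15 i2) (p j12 i15 i3) (p j12 i15 i4) (p j12 i15 i5) (p j12 i15 i6) (n j12 i15 i7) (n j12 i15 i8) (n j12 i15 i9) (p j12 i15 i10) (n j12 i15 i11) (n j12 i15 i12) (p j12 i15 i13) (p j12 i15 i14) (p j12 i15 i15))
  (@T16.mk E (p j13 i2 i0) (n j13 i2 i1) (p j13 i2 i2) (p j13 i2 i3) (p j13 i2 i4) (p j13 i2 i5) (p j13 i2 i6) (n j13 i2 i7) (p j13 i2 i8) (p j13 i2 i9) (n j13 i2 i10) (p j13 i2 i11) (p j13 i2 i12) (n j13 i2 i13) (n j13 i2 i14) (n j13 i2 i15))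
  (@T16.mk E (p j13 i1 i0) (n j13 i1 i1) (p j13 i1 i2) (p j13 i1 i3) (p j13 i1 i4) (p j13 i1 i5) (p j13 i1 i6) (n j13 i1 i7) (p j13 i1 i8) (p j13 i1 i9) (n j13 i1 i10) (p j13 i1 i11) (p j13 i1 i12) (n j13 i1 i13) (n j13 i1 i14) (n j13 i1 i15))
  (@T16.mk E (p j13 i4 i0) (n j13 i4 i1) (p j13 i4 i2) (p j13 i4 i3) (p j13 i4 i4) (p j13 i4 i5) (p j13 i4 i6) (n j13 i4 i7) (n j13 i4 i8) (n j13 i4 i9) (p j13 i4 i10) (n j13 i4 i11) (n j13 i4 i12) (p j13 i4 i13) (p j13 i4 i14) (p j13 i4 i15))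
  (@T16.mk E (p j13 i3 i0) (n j13 i3 i1) (p j13 i3 i2) (p j13 i3 i3) (p j13 i3 i4) (p j13 i3 i5) (p j13 i3 i6) (n j13 i3 i7) (n j13 i3 i8) (n j13 i3 i9) (p j13 i3 i10) (n j13 i3 i11) (n j13 i3 i12) (p j13 i3 i13) (p j13 i3 i14) (p j13 i3 i15))
  (@T16.mk E (p j13 i6 i0) (n j13 i6 i1) (n j13 i6 i2) (n j13 i6 i3) (n j13 i6 i4) (n j13 i6 i5) (p j13 i6 i6) (n j13 i6 i7) (p j13 i6 i8) (p j13 i6 i9) (p j13 i6 i10) (n j13 i6 i11) (n j13 i6 i12) (p j13 i6 i13) (n j13 i6 i14) (n j13 i6 i15))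
  (@T16.mk E (p j13 i5 i0) (n j13 i5 i1) (n j13 i5 i2) (n j13 i5 i3) (n j13 i5 i4) (n j13 i5 i5) (p j13 i5 i6) (n j13 i5 i7) (p j13 i5 i8) (p j13 i5 i9) (p j13 i5 i10) (n j13 i5 i11) (n j13 i5 i12) (p j13 i5 i13) (n j13 i5 i14) (n j13 i5 i15))
  (@T16.mk E (p j13 i8 i0) (n j13 i8 i1) (n j13 i8 i2) (n j13 i8 i3) (n j13 i8 i4) (n j13 i8 i5) (p j13 i8 i6) (n j13 i8 i7) (n j13 i8 i8) (n j13 i8 i9) (n j13 i8 i10) (p j13 i8 i11) (p j13 i8 i12) (n j13 i8 i13) (p j13 i8 i14) (p j13 i8 i15))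
  (@T16.mk E (p j13 i7 i0) (n j13 i7 i1) (n j13 i7 i2) (n j13 i7 i3) (n j13 i7 i4) (n j13 i7 i5) (p j13 i7 i6) (n j13 i7 i7) (n j13 i7 i8) (n j13 i7 i9) (n j13 i7 i10) (p j13 i7 i11) (p j13 i7 i12) (n j13 i7 i13) (p j13 i7 i14) (p j13 i7 i15))
  (@T16.mk E (p j13 i10 i0) (n j13 i10 i1) (n j13 i10 i2) (n j13 i10 i3) (n j13 i10 i4) (n j13 i10 i5) (p j13 i10 i6) (n j13 i10 i7) (p j13 i10 i8) (p j13 i10 i9) (p j13 i10 i10) (n j13 i10 i11) (n j13 i10 i12) (p j13 i10 i13) (n j13 i10 i14) (n j13 i10 i15))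
  (@T16.mk E (p j13 i9 i0) (n j13 i9 i1) (n j13 i9 i2) (n j13 i9 i3) (n j13 i9 i4) (n j13 i9 i5) (p j13 i9 i6) (n j13 i9 i7) (p j13 i9 i8) (p j13 i9 i9) (p j13 i9 i10) (n j13 i9 i11) (n j13 i9 i12) (p j13 i9 i13) (n j13 i9 i14) (n j13 i9 i15))
  (@T16.mk E (p j13 i12 i0) (n j13 i12 i1) (n j13 i12 i2) (n j13 i12 i3) (n j13 i12 i4) (n j13 i12 i5) (p j13 i12 i6) (n j13 i12 i7) (n j13 i12 i8) (n j13 i12 i9) (n j13 i12 i10) (p j13 i12 i11) (p j13 i12 i12) (n j13 i12 i13) (p j13 i12 i14) (p j13 i12 i15))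
  (@T16.mk E (p j13 i11 i0) (n j13 i11 i1) (n j13 i11 i2) (n j13 i11 i3) (n j13 i11 i4) (n j13 i11 i5) (p j13 i11 i6) (n j13 i11 i7) (n j13 i11 i8) (n j13 i11 i9) (n j13 i11 i10) (p j13 i11 i11) (p j13 i11 i12) (n j13 i11 i13) (p j13 i11 i14) (p j13 i11 i15))
  (@T16.mk E (p j13 i14 i0) (p j13 i14 i1) (n j13 i14 i2) (p j13 i14 i3) (p j13 i14 i4) (n j13 i14 i5) (n j13 i14 i6) (n j13 i14 i7) (p j13 i14 i8) (n j13 i14 i9) (p j13 i14 i10) (p j13 i14 i11) (p j13 i14 i12) (p j13 i14 i13) (p j13 i14 i14) (n j13 i14 i15))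
  (@T16.mk E (p j13 i13 i0) (p j13 i13 i1) (n j13 i13 i2) (p j13 i13 i3) (p j13 i13 i4) (n j13 i13 i5) (n j13 i13 i6) (n j13 i13 i7) (p j13 i13 i8) (n j13 i13 i9) (p j13 i13 i10) (p j13 i13 i11) (p j13 i13 i12) (p j13 i13 i13) (p j13 i13 i14) (n j13 i13 i15))
  (@T16.mk E (p j14 i0 i0) (p j14 i0 i1) (n j14 i0 i2) (p j14 i0 i3) (p j14 i0 i4) (n j14 i0 i5) (n j14 i0 i6) (n j14 i0 i7) (n j14 i0 i8) (p j14 i0 i9) (n j14 i0 i10) (n j14 i0 i11) (n j14 i0 i12) (n j14 i0 i13) (n j14 i0 i14) (p j14 i0 i15))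
 )
 (@T16.mk (T16 E)
  (@T16.mk E (p j13 i15 i0) (p j13 i15 i1) (n j13 i15 i2) (p j13 i15 i3) (p j13 i15 i4) (n j13 i15 i5) (n j13 i15 i6) (n j13 i15 i7) (n j13 i15 i8) (p j13 i15 i9) (n j13 i15 i10) (n j13 i15 i11) (n j13 i15 i12) (n j13 i15 i13) (n j13 i15 i14) (p j13 i15 i15))
  (@T16.mk E (n j14 i2 i0) (n j14 i2 i1) (p j14 i2 i2) (n j14 i2 i3) (n j14 i2 i4) (p j14 i2 i5) (p j14 i2 i6) (p j14 i2 i7) (n j14 i2 i8) (p j14 i2 i9) (n j14 i2 i10) (n j14 i2 i11) (n j14 i2 i12) (n j14 i2 i13) (n j14 i2 i14) (p j14 i2 i15))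
  (@T16.mk E (n j14 i1 i0) (n j14 i1 i1) (p j14 i1 i2) (n j14 i1 i3) (n j14 i1 i4) (p j14 i1 i5) (p j14 i1 i6) (p j14 i1 i7) (n j14 i1 i8) (p j14 i1 i9) (n j14 i1 i10) (n j14 i1 i11) (n j14 i1 i12) (n j14 i1 i13) (n j14 i1 i14) (p j14 i1 i15))
  (@T16.mk E (n j14 i4 i0) (n j14 i4 i1) (p j14 i4 i2) (n j14 i4 i3) (n j14 i4 i4) (p j14 i4 i5) (p j14 i4 i6) (p j14 i4 i7) (p j14 i4 i8) (n j14 i4 i9) (p j14 i4 i10) (p j14 i4 i11) (p j14 i4 i12) (p j14 i4 i13) (p j14 i4 i14) (n j14 i4 i15))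
  (@T16.mk E (n j14 i3 i0) (n j14 i3 i1) (p j14 i3 i2) (n j14 i3 i3) (n j14 i3 i4) (p j14 i3 i5) (p j14 i3 i6) (p j14 i3 i7) (p j14 i3 i8) (n j14 i3 i9) (p j14 i3 i10) (p j14 i3 i11) (p j14 i3 i12) (p j14 i3 i13) (p j14 i3 i14) (n j14 i3 i15))
  (@T16.mk E (p j14 i6 i0) (p j14 i6 i1) (p j14 i6 i2) (n j14 i6 i3) (n j14 i6 i4) (p j14 i6 i5) (n j14 i6 i6) (n j14 i6 i7) (p j14 i6 i8) (n j14 i6 i9) (n j14 i6 i10) (n j14 i6 i11) (n j14 i6 i12) (n j14 i6 i13) (p j14 i6 i14) (n j14 i6 i15))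
  (@T16.mk E (p j14 i5 i0) (p j14 i5 i1) (p j14 i5 i2) (n j14 i5 i3) (n j14 i5 i4) (p j14 i5 i5) (n j14 i5 i6) (n j14 i5 i7) (p j14 i5 i8) (n j14 i5 i9) (n j14 i5 i10) (n j14 i5 i11) (n j14 i5 i12) (n j14 i5 i13) (p j14 i5 i14) (n j14 i5 i15))
  (@T16.mk E (p j14 i8 i0) (p j14 i8 i1) (p j14 i8 i2) (n j14 i8 i3) (n j14 i8 i4) (p j14 i8 i5) (n j14 i8 i6) (n j14 i8 i7) (n j14 i8 i8) (p j14 i8 i9) (p j14 i8 i10) (p j14 i8 i11) (p j14 i8 i12) (p j14 i8 i13) (n j14 i8 i14) (p j14 i8 i15))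
  (@T16.mk E (p j14 i7 i0) (p j14 i7 i1) (p j14 i7 i2) (n j14 i7 i3) (n j14 i7 i4) (p j14 i7 i5) (n j14 i7 i6) (n j14 i7 i7) (n j14 i7 i8) (p j14 i7 i9) (p j14 i7 i10) (p j14 i7 i11) (p j14 i7 i12) (p j14 i7 i13) (n j14 i7 i14) (p j14 i7 i15))
  (@T16.mk E (n j14 i10 i0) (n j14 i10 i1) (n j14 i10 i2) (p j14 i10 i3) (p j14 i10 i4) (n j14 i10 i5) (p j14 i10 i6) (p j14 i10 i7) (n j14 i10 i8) (p j14 i10 i9) (p j14 i10 i10) (p j14 i10 i11) (p j14 i10 i12) (p j14 i10 i13) (n j14 i10 i14) (p j14 i10 i15))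
  (@T16.mk E (n j14 i9 i0) (n j14 i9 i1) (n j14 i9 i2) (p j14 i9 i3) (p j14 i9 i4) (n j14 i9 i5) (p j14 i9 i6) (p j14 i9 i7) (n j14 i9 i8) (p j14 i9 i9) (p j14 i9 i10) (p j14 i9 i11) (p j14 i9 i12) (p j14 i9 i13) (n j14 i9 i14) (p j14 i9 i15))
  (@T16.mk E (n j14 i12 i0) (n j14 i12 i1) (n j14 i12 i2) (p j14 i12 i3) (p j14 i12 i4) (n j14 i12 i5) (p j14 i12 i6) (p j14 i12 i7) (p j14 i12 i8) (n j14 i12 i9) (n j14 i12 i10) (n j14 i12 i11) (n j14 i12 i12) (n j14 i12 i13) (p j14 i12 i14) (n j14 i12 i15))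
  (@T16.mk E (n j14 i11 i0) (n j14 i11 i1) (n j14 i11 i2) (p j14 i11 i3) (p j14 i11 i4) (n j14 i11 i5) (p j14 i11 i6) (p j14 i11 i7) (p j14 i11 i8) (n j14 i11 i9) (n j14 i11 i10) (n j14 i11 i11) (n j14 i11 i12) (n j14 i11 i13) (p j14 i11 i14) (n j14 i11 i15))
  (@T16.mk E (p j14 i14 i0) (p j14 i14 i1) (p j14 i14 i2) (n j14 i14 i3) (n j14 i14 i4) (p j14 i14 i5) (n j14 i14 i6) (n j14 i14 i7) (p j14 i14 i8) (n j14 i14 i9) (n j14 i14 i10) (n j14 i14 i11) (n j14 i14 i12) (n j14 i14 i13) (p j14 i14 i14) (n j14 i14 i15))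
  (@T16.mk E (p j14 i13 i0) (p j14 i13 i1) (p j14 i13 i2) (n j14 i13 i3) (n j14 i13 i4) (p j14 i13 i5) (n j14 i13 i6) (n j14 i13 i7) (p j14 i13 i8) (n j14 i13 i9) (n j14 i13 i10) (n j14 i13 i11) (n j14 i13 i12) (n j14 i13 i13) (p j14 i13 i14) (n j14 i13 i15))
  (@T16.mk E (n j15 i0 i0) (n j15 i0 i1) (n j15 i0 i2) (p j15 i0 i3) (p j15 i0 i4) (n j15 i0 i5) (p j15 i0 i6) (p j15 i0 i7) (p j15 i0 i8) (n j15 i0 i9) (n j15 i0 i10) (n j15 i0 i11) (n j15 i0 i12) (n j15 i0 i13) (p j15 i0 i14) (n j15 i0 i15))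
 )
 (@T16.mk (T16 E)
  (@T16.mk E (n j14 i15 i0) (n j14 i15 i1) (n j14 i15 i2) (p j14 i15 i3) (p j14 i15 i4) (n j14 i15 i5) (p j14 i15 i6) (p j14 i15 i7) (p j14 i15 i8) (n j14 i15 i9) (n j14 i15 i10) (n j14 i15 i11) (n j14 i15 i12) (n j14 i15 i13) (p j14 i15 i14) (n j14 i15 i15))
  (@T16.mk E (p j15 i2 i0) (p j15 i2 i1) (p j15 i2 i2) (n j15 i2 i3) (n j15 i2 i4) (p j15 i2 i5) (n j15 i2 i6) (n j15 i2 i7) (p j15 i2 i8) (n j15 i2 i9) (n j15 i2 i10) (n j15 i2 i11) (n j15 i2 i12) (n j15 i2 i13) (p j15 i2 i14) (n j15 i2 i15))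
  (@T16.mk E (p j15 i1 i0) (p j15 i1 i1) (p j15 i1 i2) (n j15 i1 i3) (n j15 i1 i4) (p j15 i1 i5) (n j15 i1 i6) (n j15 i1 i7) (p j15 i1 i8) (n j15 i1 i9) (n j15 i1 i10) (n j15 i1 i11) (n j15 i1 i12) (n j15 i1 i13) (p j15 i1 i14) (n j15 i1 i15))
  (@T16.mk E (n j15 i4 i0) (n j15 i4 i1) (n j15 i4 i2) (p j15 i4 i3) (p j15 i4 i4) (n j15 i4 i5) (p j15 i4 i6) (p j15 i4 i7) (p j15 i4 i8) (n j15 i4 i9) (n j15 i4 i10) (n j15 i4 i11) (n j15 i4 i12) (n j15 i4 i13) (p j15 i4 i14) (n j15 i4 i15))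
  (@T16.mk E (n j15 i3 i0) (n j15 i3 i1) (n j15 i3 i2) (p j15 i3 i3) (p j15 i3 i4) (n j15 i3 i5) (p j15 i3 i6) (p j15 i3 i7) (p j15 i3 i8) (n j15 i3 i9) (n j15 i3 i10) (n j15 i3 i11) (n j15 i3 i12) (n j15 i3 i13) (p j15 i3 i14) (n j15 i3 i15))
  (@T16.mk E (p j15 i6 i0) (p j15 i6 i1) (n j15 i6 i2) (p j15 i6 i3) (p j15 i6 i4) (n j15 i6 i5) (n j15 i6 i6) (n j15 i6 i7) (p j15 i6 i8) (n j15 i6 i9) (p j15 i6 i10) (p j15 i6 i11) (p j15 i6 i12) (p j15 i6 i13) (p j15 i6 i14) (n j15 i6 i15))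
  (@T16.mk E (p j15 i5 i0) (p j15 i5 i1) (n j15 i5 i2) (p j15 i5 i3) (p j15 i5 i4) (n j15 i5 i5) (n j15 i5 i6) (n j15 i5 i7) (p j15 i5 i8) (n j15 i5 i9) (p j15 i5 i10) (p j15 i5 i11) (p j15 i5 i12) (p j15 i5 i13) (p j15 i5 i14) (n j15 i5 i15))
  (@T16.mk E (n j15 i8 i0) (n j15 i8 i1) (p j15 i8 i2) (n j15 i8 i3) (n j15 i8 i4) (p j15 i8 i5) (p j15 i8 i6) (p j15 i8 i7) (p j15 i8 i8) (n j15 i8 i9) (p j15 i8 i10) (p j15 i8 i11) (p j15 i8 i12) (p j15 i8 i13) (p j15 i8 i14) (n j15 i8 i15))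
  (@T16.mk E (n j15 i7 i0) (n j15 i7 i1) (p j15 i7 i2) (n j15 i7 i3) (n j15 i7 i4) (p j15 i7 i5) (p j15 i7 i6) (p j15 i7 i7) (p j15 i7 i8) (n j15 i7 i9) (p j15 i7 i10) (p j15 i7 i11) (p j15 i7 i12) (p j15 i7 i13) (p j15 i7 i14) (n j15 i7 i15))
  (@T16.mk E (p j15 i10 i0) (p j15 i10 i1) (n j15 i10 i2) (p j15 i10 i3) (p j15 i10 i4) (n j15 i10 i5) (n j15 i10 i6) (n j15 i10 i7) (p j15 i10 i8) (n j15 i10 i9) (p j15 i10 i10) (p j15 i10 i11) (p j15 i10 i12) (p j15 i10 i13) (p j15 i10 i14) (n j15 i10 i15))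
  (@T16.mk E (p j15 i9 i0) (p j15 i9 i1) (n j15 i9 i2) (p j15 i9 i3) (p j15 i9 i4) (n j15 i9 i5) (n j15 i9 i6) (n j15 i9 i7) (p j15 i9 i8) (n j15 i9 i9) (p j15 i9 i10) (p j15 i9 i11) (p j15 i9 i12) (p j15 i9 i13) (p j15 i9 i14) (n j15 i9 i15))
  (@T16.mk E (n j15 i12 i0) (n j15 i12 i1) (p j15 i12 i2) (n j15 i12 i3) (n j15 i12 i4) (p j15 i12 i5) (p j15 i12 i6) (p j15 i12 i7) (p j15 i12 i8) (n j15 i12 i9) (p j15 i12 i10) (p j15 i12 i11) (p j15 i12 i12) (p j15 i12 i13) (p j15 i12 i14) (n j15 i12 i15))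
  (@T16.mk E (n j15 i11 i0) (n j15 i11 i1) (p j15 i11 i2) (n j15 i11 i3) (n j15 i11 i4) (p j15 i11 i5) (p j15 i11 i6) (p j15 i11 i7) (p j15 i11 i8) (n j15 i11 i9) (p j15 i11 i10) (p j15 i11 i11) (p j15 i11 i12) (p j15 i11 i13) (p j15 i11 i14) (n j15 i11 i15))
  (@T16.mk E (n j15 i14 i0) (p j15 i14 i1) (p j15 i14 i2) (p j15 i14 i3) (p j15 i14 i4) (p j15 i14 i5) (n j15 i14 i6) (p j15 i14 i7) (n j15 i14 i8) (n j15 i14 i9) (n j15 i14 i10) (p j15 i14 i11) (p j15 i14 i12) (n j15 i14 i13) (p j15 i14 i14) (p j15 i14 i15))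
  (@T16.mk E (n j15 i13 i0) (p j15 i13 i1) (p j15 i13 i2) (p j15 i13 i3) (p j15 i13 i4) (p j15 i13 i5) (n j15 i13 i6) (p j15 i13 i7) (n j15 i13 i8) (n j15 i13 i9) (n j15 i13 i10) (p j15 i13 i11) (p j15 i13 i12) (n j15 i13 i13) (p j15 i13 i14) (p j15 i13 i15))
  (@T16.mk E (p j16 i0 i0) (n j16 i0 i1) (n j16 i0 i2) (n j16 i0 i3) (n j16 i0 i4) (n j16 i0 i5) (p j16 i0 i6) (n j16 i0 i7) (n j16 i0 i8) (n j16 i0 i9) (n j16 i0 i10) (p j16 i0 i11) (p j16 i0 i12) (n j16 i0 i13) (p j16 i0 i14) (p j16 i0 i15))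
 )
 (@T16.mk (T16 E)
  (@T16.mk E (p j15 i15 i0) (n j15 i15 i1) (n j15 i15 i2) (n j15 i15 i3) (n j15 i15 i4) (n j15 i15 i5) (p j15 i15 i6) (n j15 i15 i7) (n j15 i15 i8) (n j15 i15 i9) (n j15 i15 i10) (p j15 i15 i11) (p j15 i15 i12) (n j15 i15 i13) (p j15 i15 i14) (p j15 i15 i15))
  (@T16.mk E (p j16 i2 i0) (n j16 i2 i1) (n j16 i2 i2) (n j16 i2 i3) (n j16 i2 i4) (n j16 i2 i5) (p j16 i2 i6) (n j16 i2 i7) (p j16 i2 i8) (p j16 i2 i9) (p j16 i2 i10) (n j16 i2 i11) (n j16 i2 i12) (p j16 i2 i13) (n j16 i2 i14) (n j16 i2 i15))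
  (@T16.mk E (p j16 i1 i0) (n j16 i1 i1) (n j16 i1 i2) (n j16 i1 i3) (n j16 i1 i4) (n j16 i1 i5) (p j16 i1 i6) (n j16 i1 i7) (p j16 i1 i8) (p j16 i1 i9) (p j16 i1 i10) (n j16 i1 i11) (n j16 i1 i12) (p j16 i1 i13) (n j16 i1 i14) (n j16 i1 i15))
  (@T16.mk E (n j16 i4 i0) (p j16 i4 i1) (p j16 i4 i2) (p j16 i4 i3) (p j16 i4 i4) (p j16 i4 i5) (n j16 i4 i6) (p j16 i4 i7) (p j16 i4 i8) (p j16 i4 i9) (p j16 i4 i10) (n j16 i4 i11) (n j16 i4 i12) (p j16 i4 i13) (n j16 i4 i14) (n j16 i4 i15))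
  (@T16.mk E (n j16 i3 i0) (p j16 i3 i1) (p j16 i3 i2) (p j16 i3 i3) (p j16 i3 i4) (p j16 i3 i5) (n j16 i3 i6) (p j16 i3 i7) (p j16 i3 i8) (p j16 i3 i9) (p j16 i3 i10) (n j16 i3 i11) (n j16 i3 i12) (p j16 i3 i13) (n j16 i3 i14) (n j16 i3 i15))
  (@T16.mk E (n j16 i6 i0) (p j16 i6 i1) (n j16 i6 i2) (n j16 i6 i3) (n j16 i6 i4) (n j16 i6 i5) (n j16 i6 i6) (p j16 i6 i7) (n j16 i6 i8) (n j16 i6 i9) (p j16 i6 i10) (n j16 i6 i11) (n j16 i6 i12) (p j16 i6 i13) (p j16 i6 i14) (p j16 i6 i15))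
  (@T16.mk E (n j16 i5 i0) (p j16 i5 i1) (n j16 i5 i2) (n j16 i5 i3) (n j16 i5 i4) (n j16 i5 i5) (n j16 i5 i6) (p j16 i5 i7) (n j16 i5 i8) (n j16 i5 i9) (p j16 i5 i10) (n j16 i5 i11) (n j16 i5 i12) (p j16 i5 i13) (p j16 i5 i14) (p j16 i5 i15))
  (@T16.mk E (p j16 i8 i0) (n j16 i8 i1) (p j16 i8 i2) (p j16 i8 i3) (p j16 i8 i4) (p j16 i8 i5) (p j16 i8 i6) (n j16 i8 i7) (n j16 i8 i8) (n j16 i8 i9) (p j16 i8 i10) (n j16 i8 i11) (n j16 i8 i12) (p j16 i8 i13) (p j16 i8 i14) (p j16 i8 i15))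
  (@T16.mk E (p j16 i7 i0) (n j16 i7 i1) (p j16 i7 i2) (p j16 i7 i3) (p j16 i7 i4) (p j16 i7 i5) (p j16 i7 i6) (n j16 i7 i7) (n j16 i7 i8) (n j16 i7 i9) (p j16 i7 i10) (n j16 i7 i11) (n j16 i7 i12) (p j16 i7 i13) (p j16 i7 i14) (p j16 i7 i15))
  (@T16.mk E (p j16 i10 i0) (n j16 i10 i1) (p j16 i10 i2) (p j16 i10 i3) (p j16 i10 i4) (p j16 i10 i5) (p j16 i10 i6) (n j16 i10 i7) (p j16 i10 i8) (p j16 i10 i9) (n j16 i10 i10) (p j16 i10 i11) (p j16 i10 i12) (n j16 i10 i13) (n j16 i10 i14) (n j16 i10 i15))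
  (@T16.mk E (p j16 i9 i0) (n j16 i9 i1) (p j16 i9 i2) (p j16 i9 i3) (p j16 i9 i4) (p j16 i9 i5) (p j16 i9 i6) (n j16 i9 i7) (p j16 i9 i8) (p j16 i9 i9) (n j16 i9 i10) (p j16 i9 i11) (p j16 i9 i12) (n j16 i9 i13) (n j16 i9 i14) (n j16 i9 i15))
  (@T16.mk E (n j16 i12 i0) (p j16 i12 i1) (n j16 i12 i2) (n j16 i12 i3) (n j16 i12 i4) (n j16 i12 i5) (n j16 i12 i6) (p j16 i12 i7) (p j16 i12 i8) (p j16 i12 i9) (n j16 i12 i10) (p j16 i12 i11) (p j16 i12 i12) (n j16 i12 i13) (n j16 i12 i14) (n j16 i12 i15))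
  (@T16.mk E (n j16 i11 i0) (p j16 i11 i1) (n j16 i11 i2) (n j16 i11 i3) (n j16 i11 i4) (n j16 i11 i5) (n j16 i11 i6) (p j16 i11 i7) (p j16 i11 i8) (p j16 i11 i9) (n j16 i11 i10) (p j16 i11 i11) (p j16 i11 i12) (n j16 i11 i13) (n j16 i11 i14) (n j16 i11 i15))
  (@T16.mk E (p j16 i13 i0) (p j16 i13 i1) (p j16 i13 i2) (p j16 i13 i3) (n j16 i13 i4) (p j16 i13 i5) (p j16 i13 i6) (p j16 i13 i7) (p j16 i13 i8) (p j16 i13 i9) (p j16 i13 i10) (p j16 i13 i11) (n j16 i13 i12) (n j16 i13 i13) (p j16 i13 i14) (p j16 i13 i15))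
  (@T16.mk E (n j16 i14 i0) (n j16 i14 i1) (p j16 i14 i2) (n j16 i14 i3) (n j16 i14 i4) (p j16 i14 i5) (n j16 i14 i6) (p j16 i14 i7) (p j16 i14 i8) (p j16 i14 i9) (n j17 i0 i0) (p j16 i14 i11) (p j16 i14 i12) (p j16 i14 i13) (p j16 i14 i14) (p j16 i14 i15))
  (@T16.mk E (p j16 i15 i0) (p j16 i15 i1) (n j17 i0 i8) (n j17 i0 i9) (p j16 i15 i4) (p j16 i15 i5) (n j17 i0 i12) (n j17 i0 i13) (p j16 i15 i8) (n j17 i0 i15) (n j17 i1 i0) (p j16 i15 i11) (n j17 i1 i2) (p j16 i15 i13) (p j16 i15 i14) (p j16 i15 i15))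
 )
 (@T16.mk (T16 E)
  (@T16.mk E (n j16 i14 i10) (p j17 i0 i1) (p j17 i0 i2) (p j17 i0 i3) (p j17 i0 i4) (p j17 i0 i5) (p j17 i0 i6) (p j17 i0 i7) (n j16 i15 i2) (n j16 i15 i3) (p j17 i0 i10) (p j17 i0 i11) (n j16 i15 i6) (n j16 i15 i7) (p j17 i0 i14) (n j16 i15 i9))
  (@T16.mk E (n j16 i15 i10) (p j17 i1 i1) (n j16 i15 i12) (p j17 i1 i3) (p j17 i1 i4) (p j17 i1 i5) (p j17 i1 i6) (p j17 i1 i7) (p j17 i1 i8) (p j17 i1 i9) (p j17 i1 i10) (p j17 i1 i11) (p j17 i1 i12) (p j17 i1 i13) (p j17 i1 i14) (p j17 i1 i15))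
  (@T16.mk E (p j17 i2 i0) (p j17 i2 i1) (p j17 i2 i2) (p j17 i2 i3) (p j17 i2 i4) (p j17 i2 i5) (p j17 i2 i6) (p j17 i2 i7) (p j17 i2 i8) (p j17 i2 i9) (p j17 i2 i10) (p j17 i2 i11) (p j17 i2 i12) (p j17 i2 i13) (p j17 i2 i14) (p j17 i2 i15))
  (@T16.mk E (p j17 i3 i0) (p j17 i3 i1) (p j17 i3 i2) (p j17 i3 i3) (p j17 i3 i4) (p j17 i3 i5) (p j17 i3 i6) (p j17 i3 i7) (p j17 i3 i8) (p j17 i3 i9) (p j17 i3 i10) (p j17 i3 i11) (p j17 i3 i12) (p j17 i3 i13) (p j17 i3 i14) (p j17 i3 i15))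
  (@T16.mk E (p j17 i4 i0) (p j17 i4 i1) (p j17 i4 i2) (p j17 i4 i3) (p j17 i4 i4) (p j17 i4 i5) (p j17 i4 i6) (p j17 i4 i7) (p j17 i4 i8) (p j17 i4 i9) (p j17 i4 i10) (p j17 i4 i11) (p j17 i4 i12) (p j17 i4 i13) (p j17 i4 i14) (p j17 i4 i15))
  (@T16.mk E (p j17 i5 i0) (p j17 i5 i1) (p j17 i5 i2) (p j17 i5 i3) (p j17 i5 i4) (p j17 i5 i5) (p j17 i5 i6) (p j17 i5 i7) (p j17 i5 i8) (p j17 i5 i9) (p j17 i5 i10) (p j17 i5 i11) (p j17 i5 i12) (p j17 i5 i13) (p j17 i5 i14) (p j17 i5 i15))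
  (@T16.mk E (p j17 i6 i0) (p j17 i6 i1) (p j17 i6 i2) (p j17 i6 i3) (p j17 i6 i4) (p j17 i6 i5) (p j17 i6 i6) (p j17 i6 i7) (p j17 i6 i8) (p j17 i6 i9) (p j17 i6 i10) (p j17 i6 i11) (p j17 i6 i12) (p j17 i6 i13) (p j17 i6 i14) (p j17 i6 i15))
  (@T16.mk E (p j17 i7 i0) (p j17 i7 i1) (p j17 i7 i2) (p j17 i7 i3) (p j17 i7 i4) (p j17 i7 i5) (p j17 i7 i6) (p j17 i7 i7) (p j17 i7 i8) (p j17 i7 i9) (p j17 i7 i10) (p j17 i7 i11) (p j17 i7 i12) (p j17 i7 i13) (p j17 i7 i14) (p j17 i7 i15))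
  (@T16.mk E (p j17 i8 i0) (p j17 i8 i1) (p j17 i8 i2) (p j17 i8 i3) (p j17 i8 i4) (p j17 i8 i5) (p j17 i8 i6) (p j17 i8 i7) (p j17 i8 i8) (p j17 i8 i9) (p j17 i8 i10) (p j17 i8 i11) (p j17 i8 i12) (p j17 i8 i13) (p j17 i8 i14) (p j17 i8 i15))
  (@T16.mk E (p j17 i9 i0) (p j17 i9 i1) (p j17 i9 i2) (p j17 i9 i3) (p j17 i9 i4) (p j17 i9 i5) (p j17 i9 i6) (p j17 i9 i7) (p j17 i9 i8) (p j17 i9 i9) (p j17 i9 i10) (p j17 i9 i11) (p j17 i9 i12) (p j17 i9 i13) (p j17 i9 i14) (p j17 i9 i15))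
  (@T16.mk E (p j17 i10 i0) (p j17 i10 i1) (p j17 i10 i2) (p j17 i10 i3) (p j17 i10 i4) (p j17 i10 i5) (p j17 i10 i6) (p j17 i10 i7) (p j17 i10 i8) (p j17 i10 i9) (p j17 i10 i10) (p j17 i10 i11) (p j17 i10 i12) (p j17 i10 i13) (p j17 i10 i14) (p j17 i10 i15))
  (@T16.mk E (p j17 i11 i0) (p j17 i11 i1) (p j17 i11 i2) (p j17 i11 i3) (p j17 i11 i4) (p j17 i11 i5) (p j17 i11 i6) (p j17 i11 i7) (p j17 i11 i8) (p j17 i11 i9) (p j17 i11 i10) (p j17 i11 i11) (p j17 i11 i12) (p j17 i11 i13) (p j17 i11 i14) (p j17 i11 i15))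
  (@T16.mk E (p j17 i12 i0) (p j17 i12 i1) (p j17 i12 i2) (p j17 i12 i3) (p j17 i12 i4) (p j17 i12 i5) (p j17 i12 i6) (p j17 i12 i7) (p j17 i12 i8) (p j17 i12 i9) (p j17 i12 i10) (p j17 i12 i11) (p j17 i12 i12) (p j17 i12 i13) (p j17 i12 i14) (p j17 i12 i15))
  (@T16.mk E (p j17 i13 i0) (p j17 i13 i1) (p j17 i13 i2) (p j17 i13 i3) (p j17 i13 i4) (p j17 i13 i5) (p j17 i13 i6) (p j17 i13 i7) (p j17 i13 i8) (p j17 i13 i9) (p j17 i13 i10) (p j17 i13 i11) (p j17 i13 i12) (p j17 i13 i13) (p j17 i13 i14) (p j17 i13 i15))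
  (@T16.mk E (p j17 i14 i0) (p j17 i14 i1) (p j17 i14 i2) (p j17 i14 i3) (p j17 i14 i4) (p j17 i14 i5) (p j17 i14 i6) (p j17 i14 i7) (p j17 i14 i8) (p j17 i14 i9) (p j17 i14 i10) (p j17 i14 i11) (p j17 i14 i12) (p j17 i14 i13) (p j17 i14 i14) (p j17 i14 i15))
  (@T16.mk E (p j17 i15 i0) (p j17 i15 i1) (p j17 i15 i2) (p j17 i15 i3) (p j17 i15 i4) (p j17 i15 i5) (p j17 i15 i6) (p j17 i15 i7) (p j17 i15 i8) (p j17 i15 i9) (p j17 i15 i10) (p j17 i15 i11) (p j17 i15 i12) (p j17 i15 i13) (p j17 i15 i14) (p j17 i15 i15))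
 )
theorem tb26_ok : okTab tb26 = true := by decide +kernel
noncomputable def cd26 (s : St) : St :=
@T18.mk (T16 (T16 R))
 (@T16.mk (T16 R)
  (@T16.mk R s.1.1.1 s.1.1.2 s.1.1.3 s.1.1.4 s.1.1.5 s.1.1.6 s.1.1.7 s.1.1.8 s.1.1.9 s.1.1.10 s.1.1.11 s.1.1.12 s.1.1.13 s.1.1.14 s.1.1.15 s.1.1.16)
  (@T16.mk R s.1.2.1 s.1.2.2 s.1.2.3 s.1.2.4 s.1.2.5 s.1.2.6 s.1.2.7 s.1.2.8 s.1.2.9 s.1.2.10 s.1.2.11 s.1.2.12 s.1.2.13 s.1.2.14 s.1.2.15 s.1.2.16)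
  (@T16.mk R s.1.3.1 (R.mk s.1.3.2.2 s.1.3.2.1) s.1.3.3 (R.mk s.1.3.4.2 s.1.3.4.1) (R.mk s.1.3.5.2 s.1.3.5.1) s.1.3.6 (R.mk s.1.3.7.2 s.1.3.7.1) s.1.3.8 (R.mk s.1.3.9.2 s.1.3.9.1) s.1.3.10 (R.mk s.1.3.11.2 s.1.3.11.1) s.1.3.12 s.1.3.13 (R.mk s.1.3.14.2 s.1.3.14.1) s.1.3.15 (R.mk s.1.3.16.2 s.1.3.16.1))
  (@T16.mk R (R.mk s.1.4.1.2 s.1.4.1.1) s.1.4.2 (R.mk s.1.4.3.2 s.1.4.3.1) s.1.4.4 s.1.4.5 (R.mk s.1.4.6.2 s.1.4.6.1) s.1.4.7 (R.mk s.1.4.8.2 s.1.4.8.1) s.1.4.9 (R.mk s.1.4.10.2 s.1.4.10.1) s.1.4.11 (R.mk s.1.4.12.2 s.1.4.12.1) (R.mk s.1.4.13.2 s.1.4.13.1) s.1.4.14 (R.mk s.1.4.15.2 s.1.4.15.1) s.1.4.16)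
  (@T16.mk R s.1.5.1 s.1.5.2 s.1.5.3 s.1.5.4 s.1.5.5 s.1.5.6 s.1.5.7 s.1.5.8 s.1.5.9 s.1.5.10 s.1.5.11 s.1.5.12 s.1.5.13 s.1.5.14 s.1.5.15 s.1.5.16)
  (@T16.mk R (R.mk s.1.6.1.2 s.1.6.1.1) (R.mk s.1.6.2.2 s.1.6.2.1) (R.mk s.1.6.3.2 s.1.6.3.1) (R.mk s.1.6.4.2 s.1.6.4.1) (R.mk s.1.6.5.2 s.1.6.5.1) (R.mk s.1.6.6.2 s.1.6.6.1) (R.mk s.1.6.7.2 s.1.6.7.1) (R.mk s.1.6.8.2 s.1.6.8.1) (R.mk s.1.6.9.2 s.1.6.9.1) (R.mk s.1.6.10.2 s.1.6.10.1) (R.mk s.1.6.11.2 s.1.6.11.1) (R.mk s.1.6.12.2 s.1.6.12.1) (R.mk s.1.6.13.2 s.1.6.13.1) (R.mk s.1.6.14.2 s.1.6.14.1) (R.mk s.1.6.15.2 s.1.6.15.1) (R.mk s.1.6.16.2 s.1.6.16.1))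
  (@T16.mk R (R.mk s.1.7.1.2 s.1.7.1.1) s.1.7.2 (R.mk s.1.7.3.2 s.1.7.3.1) s.1.7.4 s.1.7.5 (R.mk s.1.7.6.2 s.1.7.6.1) s.1.7.7 (R.mk s.1.7.8.2 s.1.7.8.1) s.1.7.9 (R.mk s.1.7.10.2 s.1.7.10.1) s.1.7.11 (R.mk s.1.7.12.2 s.1.7.12.1) (R.mk s.1.7.13.2 s.1.7.13.1) s.1.7.14 (R.mk s.1.7.15.2 s.1.7.15.1) s.1.7.16)
  (@T16.mk R (R.mk s.1.8.1.2 s.1.8.1.1) s.1.8.2 (R.mk s.1.8.3.2 s.1.8.3.1) s.1.8.4 s.1.8.5 (R.mk s.1.8.6.2 s.1.8.6.1) s.1.8.7 (R.mk s.1.8.8.2 s.1.8.8.1) s.1.8.9 (R.mk s.1.8.10.2 s.1.8.10.1) s.1.8.11 (R.mk s.1.8.12.2 s.1.8.12.1) (R.mk s.1.8.13.2 s.1.8.13.1) s.1.8.14 (R.mk s.1.8.15.2 s.1.8.15.1) s.1.8.16)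
  (@T16.mk R s.1.9.1 s.1.9.2 s.1.9.3 s.1.9.4 s.1.9.5 s.1.9.6 s.1.9.7 s.1.9.8 s.1.9.9 s.1.9.10 s.1.9.11 s.1.9.12 s.1.9.13 s.1.9.14 s.1.9.15 s.1.9.16)
  (@T16.mk R s.1.10.1 s.1.10.2 s.1.10.3 s.1.10.4 s.1.10.5 s.1.10.6 s.1.10.7 s.1.10.8 s.1.10.9 s.1.10.10 s.1.10.11 s.1.10.12 s.1.10.13 s.1.10.14 s.1.10.15 s.1.10.16)
  (@T16.mk R s.1.11.1 (R.mk s.1.11.2.2 s.1.11.2.1) s.1.11.3 (R.mk s.1.11.4.2 s.1.11.4.1) (R.mk s.1.11.5.2 s.1.11.5.1) s.1.11.6 (R.mk s.1.11.7.2 s.1.11.7.1) s.1.11.8 (R.mk s.1.11.9.2 s.1.11.9.1) s.1.11.10 (R.mk s.1.11.11.2 s.1.11.11.1) s.1.11.12 s.1.11.13 (R.mk s.1.11.14.2 s.1.11.14.1) s.1.11.15 (R.mk s.1.11.16.2 s.1.11.16.1))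
  (@T16.mk R (R.mk s.1.12.1.2 s.1.12.1.1) s.1.12.2 (R.mk s.1.12.3.2 s.1.12.3.1) s.1.12.4 s.1.12.5 (R.mk s.1.12.6.2 s.1.12.6.1) s.1.12.7 (R.mk s.1.12.8.2 s.1.12.8.1) s.1.12.9 (R.mk s.1.12.10.2 s.1.12.10.1) s.1.12.11 (R.mk s.1.12.12.2 s.1.12.12.1) (R.mk s.1.12.13.2 s.1.12.13.1) s.1.12.14 (R.mk s.1.12.15.2 s.1.12.15.1) s.1.12.16)
  (@T16.mk R (R.mk s.1.13.1.2 s.1.13.1.1) (R.mk s.1.13.2.2 s.1.13.2.1) (R.mk s.1.13.3.2 s.1.13.3.1) (R.mk s.1.13.4.2 s.1.13.4.1) (R.mk s.1.13.5.2 s.1.13.5.1) (R.mk s.1.13.6.2 s.1.13.6.1) (R.mk s.1.13.7.2 s.1.13.7.1) (R.mk s.1.13.8.2 s.1.13.8.1) (R.mk s.1.13.9.2 s.1.13.9.1) (R.mk s.1.13.10.2 s.1.13.10.1) (R.mk s.1.13.11.2 s.1.13.11.1) (R.mk s.1.13.12.2 s.1.13.12.1) (R.mk s.1.13.13.2 s.1.13.13.1) (R.mk s.1.13.14.2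 s.1.13.14.1) (R.mk s.1.13.15.2 s.1.13.15.1) (R.mk s.1.13.16.2 s.1.13.16.1))
  (@T16.mk R s.1.14.1 s.1.14.2 s.1.14.3 s.1.14.4 s.1.14.5 s.1.14.6 s.1.14.7 s.1.14.8 s.1.14.9 s.1.14.10 s.1.14.11 s.1.14.12 s.1.14.13 s.1.14.14 s.1.14.15 s.1.14.16)
  (@T16.mk R s.1.15.1 (R.mk s.1.15.2.2 s.1.15.2.1) s.1.15.3 (R.mk s.1.15.4.2 s.1.15.4.1) (R.mk s.1.15.5.2 s.1.15.5.1) s.1.15.6 (R.mk s.1.15.7.2 s.1.15.7.1) s.1.15.8 (R.mk s.1.15.9.2 s.1.15.9.1) s.1.15.10 (R.mk s.1.15.11.2 s.1.15.11.1) s.1.15.12 s.1.15.13 (R.mk s.1.15.14.2 s.1.15.14.1) s.1.15.15 (R.mk s.1.15.16.2 s.1.15.16.1))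
  (@T16.mk R s.1.16.1 (R.mk s.1.16.2.2 s.1.16.2.1) s.1.16.3 (R.mk s.1.16.4.2 s.1.16.4.1) (R.mk s.1.16.5.2 s.1.16.5.1) s.1.16.6 (R.mk s.1.16.7.2 s.1.16.7.1) s.1.16.8 (R.mk s.1.16.9.2 s.1.16.9.1) s.1.16.10 (R.mk s.1.16.11.2 s.1.16.11.1) s.1.16.12 s.1.16.13 (R.mk s.1.16.14.2 s.1.16.14.1) s.1.16.15 (R.mk s.1.16.16.2 s.1.16.16.1))
 )
 (@T16.mk (T16 R)
  (@T16.mk R s.2.1.1 s.2.1.2 s.2.1.3 s.2.1.4 s.2.1.5 s.2.1.6 s.2.1.7 s.2.1.8 s.2.1.9 s.2.1.10 s.2.1.11 s.2.1.12 s.2.1.13 s.2.1.14 s.2.1.15 s.2.1.16)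
  (@T16.mk R s.2.2.1 s.2.2.2 s.2.2.3 s.2.2.4 s.2.2.5 s.2.2.6 s.2.2.7 s.2.2.8 s.2.2.9 s.2.2.10 s.2.2.11 s.2.2.12 s.2.2.13 s.2.2.14 s.2.2.15 s.2.2.16)
  (@T16.mk R s.2.3.1 (R.mk s.2.3.2.2 s.2.3.2.1) s.2.3.3 (R.mk s.2.3.4.2 s.2.3.4.1) (R.mk s.2.3.5.2 s.2.3.5.1) s.2.3.6 (R.mk s.2.3.7.2 s.2.3.7.1) s.2.3.8 (R.mk s.2.3.9.2 s.2.3.9.1) s.2.3.10 (R.mk s.2.3.11.2 s.2.3.11.1) s.2.3.12 s.2.3.13 (R.mk s.2.3.14.2 s.2.3.14.1) s.2.3.15 (R.mk s.2.3.16.2 s.2.3.16.1))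
  (@T16.mk R (R.mk s.2.4.1.2 s.2.4.1.1) s.2.4.2 (R.mk s.2.4.3.2 s.2.4.3.1) s.2.4.4 s.2.4.5 (R.mk s.2.4.6.2 s.2.4.6.1) s.2.4.7 (R.mk s.2.4.8.2 s.2.4.8.1) s.2.4.9 (R.mk s.2.4.10.2 s.2.4.10.1) s.2.4.11 (R.mk s.2.4.12.2 s.2.4.12.1) (R.mk s.2.4.13.2 s.2.4.13.1) s.2.4.14 (R.mk s.2.4.15.2 s.2.4.15.1) s.2.4.16)
  (@T16.mk R s.2.5.1 s.2.5.2 s.2.5.3 s.2.5.4 s.2.5.5 s.2.5.6 s.2.5.7 s.2.5.8 s.2.5.9 s.2.5.10 s.2.5.11 s.2.5.12 s.2.5.13 s.2.5.14 s.2.5.15 s.2.5.16)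
  (@T16.mk R (R.mk s.2.6.1.2 s.2.6.1.1) (R.mk s.2.6.2.2 s.2.6.2.1) (R.mk s.2.6.3.2 s.2.6.3.1) (R.mk s.2.6.4.2 s.2.6.4.1) (R.mk s.2.6.5.2 s.2.6.5.1) (R.mk s.2.6.6.2 s.2.6.6.1) (R.mk s.2.6.7.2 s.2.6.7.1) (R.mk s.2.6.8.2 s.2.6.8.1) (R.mk s.2.6.9.2 s.2.6.9.1) (R.mk s.2.6.10.2 s.2.6.10.1) (R.mk s.2.6.11.2 s.2.6.11.1) (R.mk s.2.6.12.2 s.2.6.12.1) (R.mk s.2.6.13.2 s.2.6.13.1) (R.mk s.2.6.14.2 s.2.6.14.1) (R.mk s.2.6.15.2 s.2.6.15.1) (R.mk s.2.6.16.2 s.2.6.16.1))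
  (@T16.mk R (R.mk s.2.7.1.2 s.2.7.1.1) s.2.7.2 (R.mk s.2.7.3.2 s.2.7.3.1) s.2.7.4 s.2.7.5 (R.mk s.2.7.6.2 s.2.7.6.1) s.2.7.7 (R.mk s.2.7.8.2 s.2.7.8.1) s.2.7.9 (R.mk s.2.7.10.2 s.2.7.10.1) s.2.7.11 (R.mk s.2.7.12.2 s.2.7.12.1) (R.mk s.2.7.13.2 s.2.7.13.1) s.2.7.14 (R.mk s.2.7.15.2 s.2.7.15.1) s.2.7.16)
  (@T16.mk R (R.mk s.2.8.1.2 s.2.8.1.1) s.2.8.2 (R.mk s.2.8.3.2 s.2.8.3.1) s.2.8.4 s.2.8.5 (R.mk s.2.8.6.2 s.2.8.6.1) s.2.8.7 (R.mk s.2.8.8.2 s.2.8.8.1) s.2.8.9 (R.mk s.2.8.10.2 s.2.8.10.1) s.2.8.11 (R.mk s.2.8.12.2 s.2.8.12.1) (R.mk s.2.8.13.2 s.2.8.13.1) s.2.8.14 (R.mk s.2.8.15.2 s.2.8.15.1) s.2.8.16)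
  (@T16.mk R s.2.9.1 s.2.9.2 s.2.9.3 s.2.9.4 s.2.9.5 s.2.9.6 s.2.9.7 s.2.9.8 s.2.9.9 s.2.9.10 s.2.9.11 s.2.9.12 s.2.9.13 s.2.9.14 s.2.9.15 s.2.9.16)
  (@T16.mk R s.2.10.1 s.2.10.2 s.2.10.3 s.2.10.4 s.2.10.5 s.2.10.6 s.2.10.7 s.2.10.8 s.2.10.9 s.2.10.10 s.2.10.11 s.2.10.12 s.2.10.13 s.2.10.14 s.2.10.15 s.2.10.16)
  (@T16.mk R s.2.11.1 (R.mk s.2.11.2.2 s.2.11.2.1) s.2.11.3 (R.mk s.2.11.4.2 s.2.11.4.1) (R.mk s.2.11.5.2 s.2.11.5.1) s.2.11.6 (R.mk s.2.11.7.2 s.2.11.7.1) s.2.11.8 (R.mk s.2.11.9.2 s.2.11.9.1) s.2.11.10 (R.mk s.2.11.11.2 s.2.11.11.1) s.2.11.12 s.2.11.13 (R.mk s.2.11.14.2 s.2.11.14.1) s.2.11.15 (R.mk s.2.11.16.2 s.2.11.16.1))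
  (@T16.mk R (R.mk s.2.12.1.2 s.2.12.1.1) s.2.12.2 (R.mk s.2.12.3.2 s.2.12.3.1) s.2.12.4 s.2.12.5 (R.mk s.2.12.6.2 s.2.12.6.1) s.2.12.7 (R.mk s.2.12.8.2 s.2.12.8.1) s.2.12.9 (R.mk s.2.12.10.2 s.2.12.10.1) s.2.12.11 (R.mk s.2.12.12.2 s.2.12.12.1) (R.mk s.2.12.13.2 s.2.12.13.1) s.2.12.14 (R.mk s.2.12.15.2 s.2.12.15.1) s.2.12.16)
  (@T16.mk R (R.mk s.2.13.1.2 s.2.13.1.1) (R.mk s.2.13.2.2 s.2.13.2.1) (R.mk s.2.13.3.2 s.2.13.3.1) (R.mk s.2.13.4.2 s.2.13.4.1) (R.mk s.2.13.5.2 s.2.13.5.1) (R.mk s.2.13.6.2 s.2.13.6.1) (R.mk s.2.13.7.2 s.2.13.7.1) (R.mk s.2.13.8.2 s.2.13.8.1) (R.mk s.2.13.9.2 s.2.13.9.1) (R.mk s.2.13.10.2 s.2.13.10.1) (R.mk s.2.13.11.2 s.2.13.11.1) (R.mk s.2.13.12.2 s.2.13.12.1) (R.mk s.2.13.13.2 s.2.13.13.1) (R.mk s.2.13.14.2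 s.2.13.14.1) (R.mk s.2.13.15.2 s.2.13.15.1) (R.mk s.2.13.16.2 s.2.13.16.1))
  (@T16.mk R s.2.14.1 s.2.14.2 s.2.14.3 s.2.14.4 s.2.14.5 s.2.14.6 s.2.14.7 s.2.14.8 s.2.14.9 s.2.14.10 s.2.14.11 s.2.14.12 s.2.14.13 s.2.14.14 s.2.14.15 s.2.14.16)
  (@T16.mk R s.2.15.1 (R.mk s.2.15.2.2 s.2.15.2.1) s.2.15.3 (R.mk s.2.15.4.2 s.2.15.4.1) (R.mk s.2.15.5.2 s.2.15.5.1) s.2.15.6 (R.mk s.2.15.7.2 s.2.15.7.1) s.2.15.8 (R.mk s.2.15.9.2 s.2.15.9.1) s.2.15.10 (R.mk s.2.15.11.2 s.2.15.11.1) s.2.15.12 s.2.15.13 (R.mk s.2.15.14.2 s.2.15.14.1) s.2.15.15 (R.mk s.2.15.16.2 s.2.15.16.1))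
  (@T16.mk R s.2.16.1 (R.mk s.2.16.2.2 s.2.16.2.1) s.2.16.3 (R.mk s.2.16.4.2 s.2.16.4.1) (R.mk s.2.16.5.2 s.2.16.5.1) s.2.16.6 (R.mk s.2.16.7.2 s.2.16.7.1) s.2.16.8 (R.mk s.2.16.9.2 s.2.16.9.1) s.2.16.10 (R.mk s.2.16.11.2 s.2.16.11.1) s.2.16.12 s.2.16.13 (R.mk s.2.16.14.2 s.2.16.14.1) s.2.16.15 (R.mk s.2.16.16.2 s.2.16.16.1))
 )
 (@T16.mk (T16 R)
  (@T16.mk R s.3.1.1 s.3.1.2 s.3.1.3 s.3.1.4 s.3.1.5 s.3.1.6 s.3.1.7 s.3.1.8 s.3.1.9 s.3.1.10 s.3.1.11 s.3.1.12 s.3.1.13 s.3.1.14 s.3.1.15 s.3.1.16)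
  (@T16.mk R (R.mk s.3.2.1.2 s.3.2.1.1) (R.mk s.3.2.2.2 s.3.2.2.1) (R.mk s.3.2.3.2 s.3.2.3.1) (R.mk s.3.2.4.2 s.3.2.4.1) (R.mk s.3.2.5.2 s.3.2.5.1) (R.mk s.3.2.6.2 s.3.2.6.1) (R.mk s.3.2.7.2 s.3.2.7.1) (R.mk s.3.2.8.2 s.3.2.8.1) (R.mk s.3.2.9.2 s.3.2.9.1) (R.mk s.3.2.10.2 s.3.2.10.1) (R.mk s.3.2.11.2 s.3.2.11.1) (R.mk s.3.2.12.2 s.3.2.12.1) (R.mk s.3.2.13.2 s.3.2.13.1) (R.mk s.3.2.14.2 s.3.2.14.1) (R.mk s.3.2.15.2 s.3.2.15.1) (R.mk s.3.2.16.2 s.3.2.16.1))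
  (@T16.mk R (R.mk s.3.3.1.2 s.3.3.1.1) s.3.3.2 (R.mk s.3.3.3.2 s.3.3.3.1) s.3.3.4 s.3.3.5 (R.mk s.3.3.6.2 s.3.3.6.1) s.3.3.7 (R.mk s.3.3.8.2 s.3.3.8.1) s.3.3.9 (R.mk s.3.3.10.2 s.3.3.10.1) s.3.3.11 (R.mk s.3.3.12.2 s.3.3.12.1) (R.mk s.3.3.13.2 s.3.3.13.1) s.3.3.14 (R.mk s.3.3.15.2 s.3.3.15.1) s.3.3.16)
  (@T16.mk R (R.mk s.3.4.1.2 s.3.4.1.1) s.3.4.2 (R.mk s.3.4.3.2 s.3.4.3.1) s.3.4.4 s.3.4.5 (R.mk s.3.4.6.2 s.3.4.6.1) s.3.4.7 (R.mk s.3.4.8.2 s.3.4.8.1) s.3.4.9 (R.mk s.3.4.10.2 s.3.4.10.1) s.3.4.11 (R.mk s.3.4.12.2 s.3.4.12.1) (R.mk s.3.4.13.2 s.3.4.13.1) s.3.4.14 (R.mk s.3.4.15.2 s.3.4.15.1) s.3.4.16)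
  (@T16.mk R s.3.5.1 s.3.5.2 s.3.5.3 s.3.5.4 s.3.5.5 s.3.5.6 s.3.5.7 s.3.5.8 s.3.5.9 s.3.5.10 s.3.5.11 s.3.5.12 s.3.5.13 s.3.5.14 s.3.5.15 s.3.5.16)
  (@T16.mk R s.3.6.1 s.3.6.2 s.3.6.3 s.3.6.4 s.3.6.5 s.3.6.6 s.3.6.7 s.3.6.8 s.3.6.9 s.3.6.10 s.3.6.11 s.3.6.12 s.3.6.13 s.3.6.14 s.3.6.15 s.3.6.16)
  (@T16.mk R s.3.7.1 (R.mk s.3.7.2.2 s.3.7.2.1) s.3.7.3 (R.mk s.3.7.4.2 s.3.7.4.1) (R.mk s.3.7.5.2 s.3.7.5.1) s.3.7.6 (R.mk s.3.7.7.2 s.3.7.7.1) s.3.7.8 (R.mk s.3.7.9.2 s.3.7.9.1) s.3.7.10 (R.mk s.3.7.11.2 s.3.7.11.1) s.3.7.12 s.3.7.13 (R.mk s.3.7.14.2 s.3.7.14.1) s.3.7.15 (R.mk s.3.7.16.2 s.3.7.16.1))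
  (@T16.mk R (R.mk s.3.8.1.2 s.3.8.1.1) s.3.8.2 (R.mk s.3.8.3.2 s.3.8.3.1) s.3.8.4 s.3.8.5 (R.mk s.3.8.6.2 s.3.8.6.1) s.3.8.7 (R.mk s.3.8.8.2 s.3.8.8.1) s.3.8.9 (R.mk s.3.8.10.2 s.3.8.10.1) s.3.8.11 (R.mk s.3.8.12.2 s.3.8.12.1) (R.mk s.3.8.13.2 s.3.8.13.1) s.3.8.14 (R.mk s.3.8.15.2 s.3.8.15.1) s.3.8.16)
  (@T16.mk R s.3.9.1 s.3.9.2 s.3.9.3 s.3.9.4 s.3.9.5 s.3.9.6 s.3.9.7 s.3.9.8 s.3.9.9 s.3.9.10 s.3.9.11 s.3.9.12 s.3.9.13 s.3.9.14 s.3.9.15 s.3.9.16)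
  (@T16.mk R (R.mk s.3.10.1.2 s.3.10.1.1) (R.mk s.3.10.2.2 s.3.10.2.1) (R.mk s.3.10.3.2 s.3.10.3.1) (R.mk s.3.10.4.2 s.3.10.4.1) (R.mk s.3.10.5.2 s.3.10.5.1) (R.mk s.3.10.6.2 s.3.10.6.1) (R.mk s.3.10.7.2 s.3.10.7.1) (R.mk s.3.10.8.2 s.3.10.8.1) (R.mk s.3.10.9.2 s.3.10.9.1) (R.mk s.3.10.10.2 s.3.10.10.1) (R.mk s.3.10.11.2 s.3.10.11.1) (R.mk s.3.10.12.2 s.3.10.12.1) (R.mk s.3.10.13.2 s.3.10.13.1) (R.mk s.3.10.14.2 s.3.10.14.1) (R.mk s.3.10.15.2 s.3.10.15.1) (R.mk s.3.10.16.2 s.3.10.16.1))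
  (@T16.mk R (R.mk s.3.11.1.2 s.3.11.1.1) s.3.11.2 (R.mk s.3.11.3.2 s.3.11.3.1) s.3.11.4 s.3.11.5 (R.mk s.3.11.6.2 s.3.11.6.1) s.3.11.7 (R.mk s.3.11.8.2 s.3.11.8.1) s.3.11.9 (R.mk s.3.11.10.2 s.3.11.10.1) s.3.11.11 (R.mk s.3.11.12.2 s.3.11.12.1) (R.mk s.3.11.13.2 s.3.11.13.1) s.3.11.14 (R.mk s.3.11.15.2 s.3.11.15.1) s.3.11.16)
  (@T16.mk R (R.mk s.3.12.1.2 s.3.12.1.1) s.3.12.2 (R.mk s.3.12.3.2 s.3.12.3.1) s.3.12.4 s.3.12.5 (R.mk s.3.12.6.2 s.3.12.6.1) s.3.12.7 (R.mk s.3.12.8.2 s.3.12.8.1) s.3.12.9 (R.mk s.3.12.10.2 s.3.12.10.1) s.3.12.11 (R.mk s.3.12.12.2 s.3.12.12.1) (R.mk s.3.12.13.2 s.3.12.13.1) s.3.12.14 (R.mk s.3.12.15.2 s.3.12.15.1) s.3.12.16)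
  (@T16.mk R (R.mk s.3.13.1.2 s.3.13.1.1) (R.mk s.3.13.2.2 s.3.13.2.1) (R.mk s.3.13.3.2 s.3.13.3.1) (R.mk s.3.13.4.2 s.3.13.4.1) (R.mk s.3.13.5.2 s.3.13.5.1) (R.mk s.3.13.6.2 s.3.13.6.1) (R.mk s.3.13.7.2 s.3.13.7.1) (R.mk s.3.13.8.2 s.3.13.8.1) (R.mk s.3.13.9.2 s.3.13.9.1) (R.mk s.3.13.10.2 s.3.13.10.1) (R.mk s.3.13.11.2 s.3.13.11.1) (R.mk s.3.13.12.2 s.3.13.12.1) (R.mk s.3.13.13.2 s.3.13.13.1) (R.mk s.3.13.14.2 s.3.13.14.1) (R.mk s.3.13.15.2 s.3.13.15.1) (R.mk s.3.13.16.2 s.3.13.16.1))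
  (@T16.mk R (R.mk s.3.14.1.2 s.3.14.1.1) (R.mk s.3.14.2.2 s.3.14.2.1) (R.mk s.3.14.3.2 s.3.14.3.1) (R.mk s.3.14.4.2 s.3.14.4.1) (R.mk s.3.14.5.2 s.3.14.5.1) (R.mk s.3.14.6.2 s.3.14.6.1) (R.mk s.3.14.7.2 s.3.14.7.1) (R.mk s.3.14.8.2 s.3.14.8.1) (R.mk s.3.14.9.2 s.3.14.9.1) (R.mk s.3.14.10.2 s.3.14.10.1) (R.mk s.3.14.11.2 s.3.14.11.1) (R.mk s.3.14.12.2 s.3.14.12.1) (R.mk s.3.14.13.2 s.3.14.13.1) (R.mk s.3.14.14.2 s.3.14.14.1) (R.mk s.3.14.15.2 s.3.14.15.1) (R.mk s.3.14.16.2 s.3.14.16.1))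
  (@T16.mk R (R.mk s.3.15.1.2 s.3.15.1.1) s.3.15.2 (R.mk s.3.15.3.2 s.3.15.3.1) s.3.15.4 s.3.15.5 (R.mk s.3.15.6.2 s.3.15.6.1) s.3.15.7 (R.mk s.3.15.8.2 s.3.15.8.1) s.3.15.9 (R.mk s.3.15.10.2 s.3.15.10.1) s.3.15.11 (R.mk s.3.15.12.2 s.3.15.12.1) (R.mk s.3.15.13.2 s.3.15.13.1) s.3.15.14 (R.mk s.3.15.15.2 s.3.15.15.1) s.3.15.16)
  (@T16.mk R s.3.16.1 (R.mk s.3.16.2.2 s.3.16.2.1) s.3.16.3 (R.mk s.3.16.4.2 s.3.16.4.1) (R.mk s.3.16.5.2 s.3.16.5.1) s.3.16.6 (R.mk s.3.16.7.2 s.3.16.7.1) s.3.16.8 (R.mk s.3.16.9.2 s.3.16.9.1) s.3.16.10 (R.mk s.3.16.11.2 s.3.16.11.1) s.3.16.12 s.3.16.13 (R.mk s.3.16.14.2 s.3.16.14.1) s.3.16.15 (R.mk s.3.16.16.2 s.3.16.16.1))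
 )
 (@T16.mk (T16 R)
  (@T16.mk R (R.mk s.4.1.1.2 s.4.1.1.1) (R.mk s.4.1.2.2 s.4.1.2.1) (R.mk s.4.1.3.2 s.4.1.3.1) (R.mk s.4.1.4.2 s.4.1.4.1) (R.mk s.4.1.5.2 s.4.1.5.1) (R.mk s.4.1.6.2 s.4.1.6.1) (R.mk s.4.1.7.2 s.4.1.7.1) (R.mk s.4.1.8.2 s.4.1.8.1) (R.mk s.4.1.9.2 s.4.1.9.1) (R.mk s.4.1.10.2 s.4.1.10.1) (R.mk s.4.1.11.2 s.4.1.11.1) (R.mk s.4.1.12.2 s.4.1.12.1) (R.mk s.4.1.13.2 s.4.1.13.1) (R.mk s.4.1.14.2 s.4.1.14.1) (R.mk s.4.1.15.2 s.4.1.15.1) (R.mk s.4.1.16.2 s.4.1.16.1))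
  (@T16.mk R s.4.2.1 s.4.2.2 s.4.2.3 s.4.2.4 s.4.2.5 s.4.2.6 s.4.2.7 s.4.2.8 s.4.2.9 s.4.2.10 s.4.2.11 s.4.2.12 s.4.2.13 s.4.2.14 s.4.2.15 s.4.2.16)
  (@T16.mk R s.4.3.1 (R.mk s.4.3.2.2 s.4.3.2.1) s.4.3.3 (R.mk s.4.3.4.2 s.4.3.4.1) (R.mk s.4.3.5.2 s.4.3.5.1) s.4.3.6 (R.mk s.4.3.7.2 s.4.3.7.1) s.4.3.8 (R.mk s.4.3.9.2 s.4.3.9.1) s.4.3.10 (R.mk s.4.3.11.2 s.4.3.11.1) s.4.3.12 s.4.3.13 (R.mk s.4.3.14.2 s.4.3.14.1) s.4.3.15 (R.mk s.4.3.16.2 s.4.3.16.1))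
  (@T16.mk R s.4.4.1 (R.mk s.4.4.2.2 s.4.4.2.1) s.4.4.3 (R.mk s.4.4.4.2 s.4.4.4.1) (R.mk s.4.4.5.2 s.4.4.5.1) s.4.4.6 (R.mk s.4.4.7.2 s.4.4.7.1) s.4.4.8 (R.mk s.4.4.9.2 s.4.4.9.1) s.4.4.10 (R.mk s.4.4.11.2 s.4.4.11.1) s.4.4.12 s.4.4.13 (R.mk s.4.4.14.2 s.4.4.14.1) s.4.4.15 (R.mk s.4.4.16.2 s.4.4.16.1))
  (@T16.mk R (R.mk s.4.5.1.2 s.4.5.1.1) (R.mk s.4.5.2.2 s.4.5.2.1) (R.mk s.4.5.3.2 s.4.5.3.1) (R.mk s.4.5.4.2 s.4.5.4.1) (R.mk s.4.5.5.2 s.4.5.5.1) (R.mk s.4.5.6.2 s.4.5.6.1) (R.mk s.4.5.7.2 s.4.5.7.1) (R.mk s.4.5.8.2 s.4.5.8.1) (R.mk s.4.5.9.2 s.4.5.9.1) (R.mk s.4.5.10.2 s.4.5.10.1) (R.mk s.4.5.11.2 s.4.5.11.1) (R.mk s.4.5.12.2 s.4.5.12.1) (R.mk s.4.5.13.2 s.4.5.13.1) (R.mk s.4.5.14.2 s.4.5.14.1) (R.mk s.4.5.15.2 s.4.5.15.1) (R.mk s.4.5.16.2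 s.4.5.16.1))
  (@T16.mk R (R.mk s.4.6.1.2 s.4.6.1.1) (R.mk s.4.6.2.2 s.4.6.2.1) (R.mk s.4.6.3.2 s.4.6.3.1) (R.mk s.4.6.4.2 s.4.6.4.1) (R.mk s.4.6.5.2 s.4.6.5.1) (R.mk s.4.6.6.2 s.4.6.6.1) (R.mk s.4.6.7.2 s.4.6.7.1) (R.mk s.4.6.8.2 s.4.6.8.1) (R.mk s.4.6.9.2 s.4.6.9.1) (R.mk s.4.6.10.2 s.4.6.10.1) (R.mk s.4.6.11.2 s.4.6.11.1) (R.mk s.4.6.12.2 s.4.6.12.1) (R.mk s.4.6.13.2 s.4.6.13.1) (R.mk s.4.6.14.2 s.4.6.14.1) (R.mk s.4.6.15.2 s.4.6.15.1) (R.mk s.4.6.16.2 s.4.6.16.1))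
  (@T16.mk R (R.mk s.4.7.1.2 s.4.7.1.1) s.4.7.2 (R.mk s.4.7.3.2 s.4.7.3.1) s.4.7.4 s.4.7.5 (R.mk s.4.7.6.2 s.4.7.6.1) s.4.7.7 (R.mk s.4.7.8.2 s.4.7.8.1) s.4.7.9 (R.mk s.4.7.10.2 s.4.7.10.1) s.4.7.11 (R.mk s.4.7.12.2 s.4.7.12.1) (R.mk s.4.7.13.2 s.4.7.13.1) s.4.7.14 (R.mk s.4.7.15.2 s.4.7.15.1) s.4.7.16)
  (@T16.mk R s.4.8.1 (R.mk s.4.8.2.2 s.4.8.2.1) s.4.8.3 (R.mk s.4.8.4.2 s.4.8.4.1) (R.mk s.4.8.5.2 s.4.8.5.1) s.4.8.6 (R.mk s.4.8.7.2 s.4.8.7.1) s.4.8.8 (R.mk s.4.8.9.2 s.4.8.9.1) s.4.8.10 (R.mk s.4.8.11.2 s.4.8.11.1) s.4.8.12 s.4.8.13 (R.mk s.4.8.14.2 s.4.8.14.1) s.4.8.15 (R.mk s.4.8.16.2 s.4.8.16.1))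
  (@T16.mk R (R.mk s.4.9.1.2 s.4.9.1.1) (R.mk s.4.9.2.2 s.4.9.2.1) (R.mk s.4.9.3.2 s.4.9.3.1) (R.mk s.4.9.4.2 s.4.9.4.1) (R.mk s.4.9.5.2 s.4.9.5.1) (R.mk s.4.9.6.2 s.4.9.6.1) (R.mk s.4.9.7.2 s.4.9.7.1) (R.mk s.4.9.8.2 s.4.9.8.1) (R.mk s.4.9.9.2 s.4.9.9.1) (R.mk s.4.9.10.2 s.4.9.10.1) (R.mk s.4.9.11.2 s.4.9.11.1) (R.mk s.4.9.12.2 s.4.9.12.1) (R.mk s.4.9.13.2 s.4.9.13.1) (R.mk s.4.9.14.2 s.4.9.14.1) (R.mk s.4.9.15.2 s.4.9.15.1) (R.mk s.4.9.16.2 s.4.9.16.1))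
  (@T16.mk R s.4.10.1 s.4.10.2 s.4.10.3 s.4.10.4 s.4.10.5 s.4.10.6 s.4.10.7 s.4.10.8 s.4.10.9 s.4.10.10 s.4.10.11 s.4.10.12 s.4.10.13 s.4.10.14 s.4.10.15 s.4.10.16)
  (@T16.mk R s.4.11.1 (R.mk s.4.11.2.2 s.4.11.2.1) s.4.11.3 (R.mk s.4.11.4.2 s.4.11.4.1) (R.mk s.4.11.5.2 s.4.11.5.1) s.4.11.6 (R.mk s.4.11.7.2 s.4.11.7.1) s.4.11.8 (R.mk s.4.11.9.2 s.4.11.9.1) s.4.11.10 (R.mk s.4.11.11.2 s.4.11.11.1) s.4.11.12 s.4.11.13 (R.mk s.4.11.14.2 s.4.11.14.1) s.4.11.15 (R.mk s.4.11.16.2 s.4.11.16.1))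
  (@T16.mk R s.4.12.1 (R.mk s.4.12.2.2 s.4.12.2.1) s.4.12.3 (R.mk s.4.12.4.2 s.4.12.4.1) (R.mk s.4.12.5.2 s.4.12.5.1) s.4.12.6 (R.mk s.4.12.7.2 s.4.12.7.1) s.4.12.8 (R.mk s.4.12.9.2 s.4.12.9.1) s.4.12.10 (R.mk s.4.12.11.2 s.4.12.11.1) s.4.12.12 s.4.12.13 (R.mk s.4.12.14.2 s.4.12.14.1) s.4.12.15 (R.mk s.4.12.16.2 s.4.12.16.1))
  (@T16.mk R s.4.13.1 s.4.13.2 s.4.13.3 s.4.13.4 s.4.13.5 s.4.13.6 s.4.13.7 s.4.13.8 s.4.13.9 s.4.13.10 s.4.13.11 s.4.13.12 s.4.13.13 s.4.13.14 s.4.13.15 s.4.13.16)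
  (@T16.mk R s.4.14.1 s.4.14.2 s.4.14.3 s.4.14.4 s.4.14.5 s.4.14.6 s.4.14.7 s.4.14.8 s.4.14.9 s.4.14.10 s.4.14.11 s.4.14.12 s.4.14.13 s.4.14.14 s.4.14.15 s.4.14.16)
  (@T16.mk R s.4.15.1 (R.mk s.4.15.2.2 s.4.15.2.1) s.4.15.3 (R.mk s.4.15.4.2 s.4.15.4.1) (R.mk s.4.15.5.2 s.4.15.5.1) s.4.15.6 (R.mk s.4.15.7.2 s.4.15.7.1) s.4.15.8 (R.mk s.4.15.9.2 s.4.15.9.1) s.4.15.10 (R.mk s.4.15.11.2 s.4.15.11.1) s.4.15.12 s.4.15.13 (R.mk s.4.15.14.2 s.4.15.14.1) s.4.15.15 (R.mk s.4.15.16.2 s.4.15.16.1))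
  (@T16.mk R (R.mk s.4.16.1.2 s.4.16.1.1) s.4.16.2 (R.mk s.4.16.3.2 s.4.16.3.1) s.4.16.4 s.4.16.5 (R.mk s.4.16.6.2 s.4.16.6.1) s.4.16.7 (R.mk s.4.16.8.2 s.4.16.8.1) s.4.16.9 (R.mk s.4.16.10.2 s.4.16.10.1) s.4.16.11 (R.mk s.4.16.12.2 s.4.16.12.1) (R.mk s.4.16.13.2 s.4.16.13.1) s.4.16.14 (R.mk s.4.16.15.2 s.4.16.15.1) s.4.16.16)
 )
 (@T16.mk (T16 R)
  (@T16.mk R (R.mk s.5.1.3.2 s.5.1.3.1) s.5.1.4 (R.mk s.5.1.1.2 s.5.1.1.1) s.5.1.2 s.5.1.7 (R.mk s.5.1.8.2 s.5.1.8.1) s.5.1.5 (R.mk s.5.1.6.2 s.5.1.6.1) s.5.1.11 (R.mk s.5.1.12.2 s.5.1.12.1) s.5.1.9 (R.mk s.5.1.10.2 s.5.1.10.1) (R.mk s.5.1.15.2 s.5.1.15.1) s.5.1.16 (R.mk s.5.1.13.2 s.5.1.13.1) s.5.1.14)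
  (@T16.mk R (R.mk s.5.2.3.2 s.5.2.3.1) s.5.2.4 (R.mk s.5.2.1.2 s.5.2.1.1) s.5.2.2 s.5.2.7 (R.mk s.5.2.8.2 s.5.2.8.1) s.5.2.5 (R.mk s.5.2.6.2 s.5.2.6.1) s.5.2.11 (R.mk s.5.2.12.2 s.5.2.12.1) s.5.2.9 (R.mk s.5.2.10.2 s.5.2.10.1) (R.mk s.5.2.15.2 s.5.2.15.1) s.5.2.16 (R.mk s.5.2.13.2 s.5.2.13.1) s.5.2.14)
  (@T16.mk R (R.mk s.5.3.3.2 s.5.3.3.1) (R.mk s.5.3.4.2 s.5.3.4.1) (R.mk s.5.3.1.2 s.5.3.1.1) (R.mk s.5.3.2.2 s.5.3.2.1) (R.mk s.5.3.7.2 s.5.3.7.1) (R.mk s.5.3.8.2 s.5.3.8.1) (R.mk s.5.3.5.2 s.5.3.5.1) (R.mk s.5.3.6.2 s.5.3.6.1) (R.mk s.5.3.11.2 s.5.3.11.1) (R.mk s.5.3.12.2 s.5.3.12.1) (R.mk s.5.3.9.2 s.5.3.9.1) (R.mk s.5.3.10.2 s.5.3.10.1) (R.mk s.5.3.15.2 s.5.3.15.1) (R.mk s.5.3.16.2 s.5.3.16.1) (R.mk s.5.3.13.2 s.5.3.13.1) (R.mk s.5.3.14.2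 s.5.3.14.1))
  (@T16.mk R s.5.4.3 s.5.4.4 s.5.4.1 s.5.4.2 s.5.4.7 s.5.4.8 s.5.4.5 s.5.4.6 s.5.4.11 s.5.4.12 s.5.4.9 s.5.4.10 s.5.4.15 s.5.4.16 s.5.4.13 s.5.4.14)
  (@T16.mk R (R.mk s.5.5.3.2 s.5.5.3.1) s.5.5.4 (R.mk s.5.5.1.2 s.5.5.1.1) s.5.5.2 s.5.5.7 (R.mk s.5.5.8.2 s.5.5.8.1) s.5.5.5 (R.mk s.5.5.6.2 s.5.5.6.1) s.5.5.11 (R.mk s.5.5.12.2 s.5.5.12.1) s.5.5.9 (R.mk s.5.5.10.2 s.5.5.10.1) (R.mk s.5.5.15.2 s.5.5.15.1) s.5.5.16 (R.mk s.5.5.13.2 s.5.5.13.1) s.5.5.14)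
  (@T16.mk R s.5.6.3 (R.mk s.5.6.4.2 s.5.6.4.1) s.5.6.1 (R.mk s.5.6.2.2 s.5.6.2.1) (R.mk s.5.6.7.2 s.5.6.7.1) s.5.6.8 (R.mk s.5.6.5.2 s.5.6.5.1) s.5.6.6 (R.mk s.5.6.11.2 s.5.6.11.1) s.5.6.12 (R.mk s.5.6.9.2 s.5.6.9.1) s.5.6.10 s.5.6.15 (R.mk s.5.6.16.2 s.5.6.16.1) s.5.6.13 (R.mk s.5.6.14.2 s.5.6.14.1))
  (@T16.mk R s.5.7.3 s.5.7.4 s.5.7.1 s.5.7.2 s.5.7.7 s.5.7.8 s.5.7.5 s.5.7.6 s.5.7.11 s.5.7.12 s.5.7.9 s.5.7.10 s.5.7.15 s.5.7.16 s.5.7.13 s.5.7.14)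
  (@T16.mk R s.5.8.3 s.5.8.4 s.5.8.1 s.5.8.2 s.5.8.7 s.5.8.8 s.5.8.5 s.5.8.6 s.5.8.11 s.5.8.12 s.5.8.9 s.5.8.10 s.5.8.15 s.5.8.16 s.5.8.13 s.5.8.14)
  (@T16.mk R (R.mk s.5.9.3.2 s.5.9.3.1) s.5.9.4 (R.mk s.5.9.1.2 s.5.9.1.1) s.5.9.2 s.5.9.7 (R.mk s.5.9.8.2 s.5.9.8.1) s.5.9.5 (R.mk s.5.9.6.2 s.5.9.6.1) s.5.9.11 (R.mk s.5.9.12.2 s.5.9.12.1) s.5.9.9 (R.mk s.5.9.10.2 s.5.9.10.1) (R.mk s.5.9.15.2 s.5.9.15.1) s.5.9.16 (R.mk s.5.9.13.2 s.5.9.13.1) s.5.9.14)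
  (@T16.mk R (R.mk s.5.10.3.2 s.5.10.3.1) s.5.10.4 (R.mk s.5.10.1.2 s.5.10.1.1) s.5.10.2 s.5.10.7 (R.mk s.5.10.8.2 s.5.10.8.1) s.5.10.5 (R.mk s.5.10.6.2 s.5.10.6.1) s.5.10.11 (R.mk s.5.10.12.2 s.5.10.12.1) s.5.10.9 (R.mk s.5.10.10.2 s.5.10.10.1) (R.mk s.5.10.15.2 s.5.10.15.1) s.5.10.16 (R.mk s.5.10.13.2 s.5.10.13.1) s.5.10.14)
  (@T16.mk R (R.mk s.5.11.3.2 s.5.11.3.1) (R.mk s.5.11.4.2 s.5.11.4.1) (R.mk s.5.11.1.2 s.5.11.1.1) (R.mk s.5.11.2.2 s.5.11.2.1) (R.mk s.5.11.7.2 s.5.11.7.1) (R.mk s.5.11.8.2 s.5.11.8.1) (R.mk s.5.11.5.2 s.5.11.5.1) (R.mk s.5.11.6.2 s.5.11.6.1) (R.mk s.5.11.11.2 s.5.11.11.1) (R.mk s.5.11.12.2 s.5.11.12.1) (R.mk s.5.11.9.2 s.5.11.9.1) (R.mk s.5.11.10.2 s.5.11.10.1) (R.mk s.5.11.15.2 s.5.11.15.1) (R.mk s.5.11.16.2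 s.5.11.16.1) (R.mk s.5.11.13.2 s.5.11.13.1) (R.mk s.5.11.14.2 s.5.11.14.1))
  (@T16.mk R s.5.12.3 s.5.12.4 s.5.12.1 s.5.12.2 s.5.12.7 s.5.12.8 s.5.12.5 s.5.12.6 s.5.12.11 s.5.12.12 s.5.12.9 s.5.12.10 s.5.12.15 s.5.12.16 s.5.12.13 s.5.12.14)
  (@T16.mk R s.5.13.3 (R.mk s.5.13.4.2 s.5.13.4.1) s.5.13.1 (R.mk s.5.13.2.2 s.5.13.2.1) (R.mk s.5.13.7.2 s.5.13.7.1) s.5.13.8 (R.mk s.5.13.5.2 s.5.13.5.1) s.5.13.6 (R.mk s.5.13.11.2 s.5.13.11.1) s.5.13.12 (R.mk s.5.13.9.2 s.5.13.9.1) s.5.13.10 s.5.13.15 (R.mk s.5.13.16.2 s.5.13.16.1) s.5.13.13 (R.mk s.5.13.14.2 s.5.13.14.1))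
  (@T16.mk R (R.mk s.5.14.3.2 s.5.14.3.1) s.5.14.4 (R.mk s.5.14.1.2 s.5.14.1.1) s.5.14.2 s.5.14.7 (R.mk s.5.14.8.2 s.5.14.8.1) s.5.14.5 (R.mk s.5.14.6.2 s.5.14.6.1) s.5.14.11 (R.mk s.5.14.12.2 s.5.14.12.1) s.5.14.9 (R.mk s.5.14.10.2 s.5.14.10.1) (R.mk s.5.14.15.2 s.5.14.15.1) s.5.14.16 (R.mk s.5.14.13.2 s.5.14.13.1) s.5.14.14)
  (@T16.mk R (R.mk s.5.15.3.2 s.5.15.3.1) (R.mk s.5.15.4.2 s.5.15.4.1) (R.mk s.5.15.1.2 s.5.15.1.1) (R.mk s.5.15.2.2 s.5.15.2.1) (R.mk s.5.15.7.2 s.5.15.7.1) (R.mk s.5.15.8.2 s.5.15.8.1) (R.mk s.5.15.5.2 s.5.15.5.1) (R.mk s.5.15.6.2 s.5.15.6.1) (R.mk s.5.15.11.2 s.5.15.11.1) (R.mk s.5.15.12.2 s.5.15.12.1) (R.mk s.5.15.9.2 s.5.15.9.1) (R.mk s.5.15.10.2 s.5.15.10.1) (R.mk s.5.15.15.2 s.5.15.15.1) (R.mk s.5.15.16.2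 s.5.15.16.1) (R.mk s.5.15.13.2 s.5.15.13.1) (R.mk s.5.15.14.2 s.5.15.14.1))
  (@T16.mk R (R.mk s.5.16.3.2 s.5.16.3.1) (R.mk s.5.16.4.2 s.5.16.4.1) (R.mk s.5.16.1.2 s.5.16.1.1) (R.mk s.5.16.2.2 s.5.16.2.1) (R.mk s.5.16.7.2 s.5.16.7.1) (R.mk s.5.16.8.2 s.5.16.8.1) (R.mk s.5.16.5.2 s.5.16.5.1) (R.mk s.5.16.6.2 s.5.16.6.1) (R.mk s.5.16.11.2 s.5.16.11.1) (R.mk s.5.16.12.2 s.5.16.12.1) (R.mk s.5.16.9.2 s.5.16.9.1) (R.mk s.5.16.10.2 s.5.16.10.1) (R.mk s.5.16.15.2 s.5.16.15.1) (R.mk s.5.16.16.2 s.5.16.16.1) (R.mk s.5.16.13.2 s.5.16.13.1) (R.mk s.5.16.14.2 s.5.16.14.1))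
 )
 (@T16.mk (T16 R)
  (@T16.mk R (R.mk s.6.1.3.2 s.6.1.3.1) s.6.1.4 (R.mk s.6.1.1.2 s.6.1.1.1) s.6.1.2 s.6.1.7 (R.mk s.6.1.8.2 s.6.1.8.1) s.6.1.5 (R.mk s.6.1.6.2 s.6.1.6.1) s.6.1.11 (R.mk s.6.1.12.2 s.6.1.12.1) s.6.1.9 (R.mk s.6.1.10.2 s.6.1.10.1) (R.mk s.6.1.15.2 s.6.1.15.1) s.6.1.16 (R.mk s.6.1.13.2 s.6.1.13.1) s.6.1.14)
  (@T16.mk R (R.mk s.6.2.3.2 s.6.2.3.1) s.6.2.4 (R.mk s.6.2.1.2 s.6.2.1.1) s.6.2.2 s.6.2.7 (R.mk s.6.2.8.2 s.6.2.8.1) s.6.2.5 (R.mk s.6.2.6.2 s.6.2.6.1) s.6.2.11 (R.mk s.6.2.12.2 s.6.2.12.1) s.6.2.9 (R.mk s.6.2.10.2 s.6.2.10.1) (R.mk s.6.2.15.2 s.6.2.15.1) s.6.2.16 (R.mk s.6.2.13.2 s.6.2.13.1) s.6.2.14)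
  (@T16.mk R (R.mk s.6.3.3.2 s.6.3.3.1) (R.mk s.6.3.4.2 s.6.3.4.1) (R.mk s.6.3.1.2 s.6.3.1.1) (R.mk s.6.3.2.2 s.6.3.2.1) (R.mk s.6.3.7.2 s.6.3.7.1) (R.mk s.6.3.8.2 s.6.3.8.1) (R.mk s.6.3.5.2 s.6.3.5.1) (R.mk s.6.3.6.2 s.6.3.6.1) (R.mk s.6.3.11.2 s.6.3.11.1) (R.mk s.6.3.12.2 s.6.3.12.1) (R.mk s.6.3.9.2 s.6.3.9.1) (R.mk s.6.3.10.2 s.6.3.10.1) (R.mk s.6.3.15.2 s.6.3.15.1) (R.mk s.6.3.16.2 s.6.3.16.1) (R.mk s.6.3.13.2 s.6.3.13.1) (R.mk s.6.3.14.2 s.6.3.14.1))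
  (@T16.mk R s.6.4.3 s.6.4.4 s.6.4.1 s.6.4.2 s.6.4.7 s.6.4.8 s.6.4.5 s.6.4.6 s.6.4.11 s.6.4.12 s.6.4.9 s.6.4.10 s.6.4.15 s.6.4.16 s.6.4.13 s.6.4.14)
  (@T16.mk R (R.mk s.6.5.3.2 s.6.5.3.1) s.6.5.4 (R.mk s.6.5.1.2 s.6.5.1.1) s.6.5.2 s.6.5.7 (R.mk s.6.5.8.2 s.6.5.8.1) s.6.5.5 (R.mk s.6.5.6.2 s.6.5.6.1) s.6.5.11 (R.mk s.6.5.12.2 s.6.5.12.1) s.6.5.9 (R.mk s.6.5.10.2 s.6.5.10.1) (R.mk s.6.5.15.2 s.6.5.15.1) s.6.5.16 (R.mk s.6.5.13.2 s.6.5.13.1) s.6.5.14)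
  (@T16.mk R s.6.6.3 (R.mk s.6.6.4.2 s.6.6.4.1) s.6.6.1 (R.mk s.6.6.2.2 s.6.6.2.1) (R.mk s.6.6.7.2 s.6.6.7.1) s.6.6.8 (R.mk s.6.6.5.2 s.6.6.5.1) s.6.6.6 (R.mk s.6.6.11.2 s.6.6.11.1) s.6.6.12 (R.mk s.6.6.9.2 s.6.6.9.1) s.6.6.10 s.6.6.15 (R.mk s.6.6.16.2 s.6.6.16.1) s.6.6.13 (R.mk s.6.6.14.2 s.6.6.14.1))
  (@T16.mk R s.6.7.3 s.6.7.4 s.6.7.1 s.6.7.2 s.6.7.7 s.6.7.8 s.6.7.5 s.6.7.6 s.6.7.11 s.6.7.12 s.6.7.9 s.6.7.10 s.6.7.15 s.6.7.16 s.6.7.13 s.6.7.14)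
  (@T16.mk R s.6.8.3 s.6.8.4 s.6.8.1 s.6.8.2 s.6.8.7 s.6.8.8 s.6.8.5 s.6.8.6 s.6.8.11 s.6.8.12 s.6.8.9 s.6.8.10 s.6.8.15 s.6.8.16 s.6.8.13 s.6.8.14)
  (@T16.mk R (R.mk s.6.9.3.2 s.6.9.3.1) s.6.9.4 (R.mk s.6.9.1.2 s.6.9.1.1) s.6.9.2 s.6.9.7 (R.mk s.6.9.8.2 s.6.9.8.1) s.6.9.5 (R.mk s.6.9.6.2 s.6.9.6.1) s.6.9.11 (R.mk s.6.9.12.2 s.6.9.12.1) s.6.9.9 (R.mk s.6.9.10.2 s.6.9.10.1) (R.mk s.6.9.15.2 s.6.9.15.1) s.6.9.16 (R.mk s.6.9.13.2 s.6.9.13.1) s.6.9.14)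
  (@T16.mk R (R.mk s.6.10.3.2 s.6.10.3.1) s.6.10.4 (R.mk s.6.10.1.2 s.6.10.1.1) s.6.10.2 s.6.10.7 (R.mk s.6.10.8.2 s.6.10.8.1) s.6.10.5 (R.mk s.6.10.6.2 s.6.10.6.1) s.6.10.11 (R.mk s.6.10.12.2 s.6.10.12.1) s.6.10.9 (R.mk s.6.10.10.2 s.6.10.10.1) (R.mk s.6.10.15.2 s.6.10.15.1) s.6.10.16 (R.mk s.6.10.13.2 s.6.10.13.1) s.6.10.14)
  (@T16.mk R (R.mk s.6.11.3.2 s.6.11.3.1) (R.mk s.6.11.4.2 s.6.11.4.1) (R.mk s.6.11.1.2 s.6.11.1.1) (R.mk s.6.11.2.2 s.6.11.2.1) (R.mk s.6.11.7.2 s.6.11.7.1) (R.mk s.6.11.8.2 s.6.11.8.1) (R.mk s.6.11.5.2 s.6.11.5.1) (R.mk s.6.11.6.2 s.6.11.6.1) (R.mk s.6.11.11.2 s.6.11.11.1) (R.mk s.6.11.12.2 s.6.11.12.1) (R.mk s.6.11.9.2 s.6.11.9.1) (R.mk s.6.11.10.2 s.6.11.10.1) (R.mk s.6.11.15.2 s.6.11.15.1) (R.mk s.6.11.16.2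 s.6.11.16.1) (R.mk s.6.11.13.2 s.6.11.13.1) (R.mk s.6.11.14.2 s.6.11.14.1))
  (@T16.mk R s.6.12.3 s.6.12.4 s.6.12.1 s.6.12.2 s.6.12.7 s.6.12.8 s.6.12.5 s.6.12.6 s.6.12.11 s.6.12.12 s.6.12.9 s.6.12.10 s.6.12.15 s.6.12.16 s.6.12.13 s.6.12.14)
  (@T16.mk R s.6.13.3 (R.mk s.6.13.4.2 s.6.13.4.1) s.6.13.1 (R.mk s.6.13.2.2 s.6.13.2.1) (R.mk s.6.13.7.2 s.6.13.7.1) s.6.13.8 (R.mk s.6.13.5.2 s.6.13.5.1) s.6.13.6 (R.mk s.6.13.11.2 s.6.13.11.1) s.6.13.12 (R.mk s.6.13.9.2 s.6.13.9.1) s.6.13.10 s.6.13.15 (R.mk s.6.13.16.2 s.6.13.16.1) s.6.13.13 (R.mk s.6.13.14.2 s.6.13.14.1))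
  (@T16.mk R (R.mk s.6.14.3.2 s.6.14.3.1) s.6.14.4 (R.mk s.6.14.1.2 s.6.14.1.1) s.6.14.2 s.6.14.7 (R.mk s.6.14.8.2 s.6.14.8.1) s.6.14.5 (R.mk s.6.14.6.2 s.6.14.6.1) s.6.14.11 (R.mk s.6.14.12.2 s.6.14.12.1) s.6.14.9 (R.mk s.6.14.10.2 s.6.14.10.1) (R.mk s.6.14.15.2 s.6.14.15.1) s.6.14.16 (R.mk s.6.14.13.2 s.6.14.13.1) s.6.14.14)
  (@T16.mk R (R.mk s.6.15.3.2 s.6.15.3.1) (R.mk s.6.15.4.2 s.6.15.4.1) (R.mk s.6.15.1.2 s.6.15.1.1) (R.mk s.6.15.2.2 s.6.15.2.1) (R.mk s.6.15.7.2 s.6.15.7.1) (R.mk s.6.15.8.2 s.6.15.8.1) (R.mk s.6.15.5.2 s.6.15.5.1) (R.mk s.6.15.6.2 s.6.15.6.1) (R.mk s.6.15.11.2 s.6.15.11.1) (R.mk s.6.15.12.2 s.6.15.12.1) (R.mk s.6.15.9.2 s.6.15.9.1) (R.mk s.6.15.10.2 s.6.15.10.1) (R.mk s.6.15.15.2 s.6.15.15.1) (R.mk s.6.15.16.2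 s.6.15.16.1) (R.mk s.6.15.13.2 s.6.15.13.1) (R.mk s.6.15.14.2 s.6.15.14.1))
  (@T16.mk R (R.mk s.6.16.3.2 s.6.16.3.1) (R.mk s.6.16.4.2 s.6.16.4.1) (R.mk s.6.16.1.2 s.6.16.1.1) (R.mk s.6.16.2.2 s.6.16.2.1) (R.mk s.6.16.7.2 s.6.16.7.1) (R.mk s.6.16.8.2 s.6.16.8.1) (R.mk s.6.16.5.2 s.6.16.5.1) (R.mk s.6.16.6.2 s.6.16.6.1) (R.mk s.6.16.11.2 s.6.16.11.1) (R.mk s.6.16.12.2 s.6.16.12.1) (R.mk s.6.16.9.2 s.6.16.9.1) (R.mk s.6.16.10.2 s.6.16.10.1) (R.mk s.6.16.15.2 s.6.16.15.1) (R.mk s.6.16.16.2 s.6.16.16.1) (R.mk s.6.16.13.2 s.6.16.13.1) (R.mk s.6.16.14.2 s.6.16.14.1))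
 )
 (@T16.mk (T16 R)
  (@T16.mk R (R.mk s.7.1.3.2 s.7.1.3.1) s.7.1.4 (R.mk s.7.1.1.2 s.7.1.1.1) s.7.1.2 s.7.1.7 (R.mk s.7.1.8.2 s.7.1.8.1) s.7.1.5 (R.mk s.7.1.6.2 s.7.1.6.1) s.7.1.11 (R.mk s.7.1.12.2 s.7.1.12.1) s.7.1.9 (R.mk s.7.1.10.2 s.7.1.10.1) (R.mk s.7.1.15.2 s.7.1.15.1) s.7.1.16 (R.mk s.7.1.13.2 s.7.1.13.1) s.7.1.14)
  (@T16.mk R s.7.2.3 (R.mk s.7.2.4.2 s.7.2.4.1) s.7.2.1 (R.mk s.7.2.2.2 s.7.2.2.1) (R.mk s.7.2.7.2 s.7.2.7.1) s.7.2.8 (R.mk s.7.2.5.2 s.7.2.5.1) s.7.2.6 (R.mk s.7.2.11.2 s.7.2.11.1) s.7.2.12 (R.mk s.7.2.9.2 s.7.2.9.1) s.7.2.10 s.7.2.15 (R.mk s.7.2.16.2 s.7.2.16.1) s.7.2.13 (R.mk s.7.2.14.2 s.7.2.14.1))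
  (@T16.mk R s.7.3.3 s.7.3.4 s.7.3.1 s.7.3.2 s.7.3.7 s.7.3.8 s.7.3.5 s.7.3.6 s.7.3.11 s.7.3.12 s.7.3.9 s.7.3.10 s.7.3.15 s.7.3.16 s.7.3.13 s.7.3.14)
  (@T16.mk R s.7.4.3 s.7.4.4 s.7.4.1 s.7.4.2 s.7.4.7 s.7.4.8 s.7.4.5 s.7.4.6 s.7.4.11 s.7.4.12 s.7.4.9 s.7.4.10 s.7.4.15 s.7.4.16 s.7.4.13 s.7.4.14)
  (@T16.mk R (R.mk s.7.5.3.2 s.7.5.3.1) s.7.5.4 (R.mk s.7.5.1.2 s.7.5.1.1) s.7.5.2 s.7.5.7 (R.mk s.7.5.8.2 s.7.5.8.1) s.7.5.5 (R.mk s.7.5.6.2 s.7.5.6.1) s.7.5.11 (R.mk s.7.5.12.2 s.7.5.12.1) s.7.5.9 (R.mk s.7.5.10.2 s.7.5.10.1) (R.mk s.7.5.15.2 s.7.5.15.1) s.7.5.16 (R.mk s.7.5.13.2 s.7.5.13.1) s.7.5.14)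
  (@T16.mk R (R.mk s.7.6.3.2 s.7.6.3.1) s.7.6.4 (R.mk s.7.6.1.2 s.7.6.1.1) s.7.6.2 s.7.6.7 (R.mk s.7.6.8.2 s.7.6.8.1) s.7.6.5 (R.mk s.7.6.6.2 s.7.6.6.1) s.7.6.11 (R.mk s.7.6.12.2 s.7.6.12.1) s.7.6.9 (R.mk s.7.6.10.2 s.7.6.10.1) (R.mk s.7.6.15.2 s.7.6.15.1) s.7.6.16 (R.mk s.7.6.13.2 s.7.6.13.1) s.7.6.14)
  (@T16.mk R (R.mk s.7.7.3.2 s.7.7.3.1) (R.mk s.7.7.4.2 s.7.7.4.1) (R.mk s.7.7.1.2 s.7.7.1.1) (R.mk s.7.7.2.2 s.7.7.2.1) (R.mk s.7.7.7.2 s.7.7.7.1) (R.mk s.7.7.8.2 s.7.7.8.1) (R.mk s.7.7.5.2 s.7.7.5.1) (R.mk s.7.7.6.2 s.7.7.6.1) (R.mk s.7.7.11.2 s.7.7.11.1) (R.mk s.7.7.12.2 s.7.7.12.1) (R.mk s.7.7.9.2 s.7.7.9.1) (R.mk s.7.7.10.2 s.7.7.10.1) (R.mk s.7.7.15.2 s.7.7.15.1) (R.mk s.7.7.16.2 s.7.7.16.1) (R.mk s.7.7.13.2 s.7.7.13.1) (R.mk s.7.7.14.2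 s.7.7.14.1))
  (@T16.mk R s.7.8.3 s.7.8.4 s.7.8.1 s.7.8.2 s.7.8.7 s.7.8.8 s.7.8.5 s.7.8.6 s.7.8.11 s.7.8.12 s.7.8.9 s.7.8.10 s.7.8.15 s.7.8.16 s.7.8.13 s.7.8.14)
  (@T16.mk R (R.mk s.7.9.3.2 s.7.9.3.1) s.7.9.4 (R.mk s.7.9.1.2 s.7.9.1.1) s.7.9.2 s.7.9.7 (R.mk s.7.9.8.2 s.7.9.8.1) s.7.9.5 (R.mk s.7.9.6.2 s.7.9.6.1) s.7.9.11 (R.mk s.7.9.12.2 s.7.9.12.1) s.7.9.9 (R.mk s.7.9.10.2 s.7.9.10.1) (R.mk s.7.9.15.2 s.7.9.15.1) s.7.9.16 (R.mk s.7.9.13.2 s.7.9.13.1) s.7.9.14)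
  (@T16.mk R s.7.10.3 (R.mk s.7.10.4.2 s.7.10.4.1) s.7.10.1 (R.mk s.7.10.2.2 s.7.10.2.1) (R.mk s.7.10.7.2 s.7.10.7.1) s.7.10.8 (R.mk s.7.10.5.2 s.7.10.5.1) s.7.10.6 (R.mk s.7.10.11.2 s.7.10.11.1) s.7.10.12 (R.mk s.7.10.9.2 s.7.10.9.1) s.7.10.10 s.7.10.15 (R.mk s.7.10.16.2 s.7.10.16.1) s.7.10.13 (R.mk s.7.10.14.2 s.7.10.14.1))
  (@T16.mk R s.7.11.3 s.7.11.4 s.7.11.1 s.7.11.2 s.7.11.7 s.7.11.8 s.7.11.5 s.7.11.6 s.7.11.11 s.7.11.12 s.7.11.9 s.7.11.10 s.7.11.15 s.7.11.16 s.7.11.13 s.7.11.14)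
  (@T16.mk R s.7.12.3 s.7.12.4 s.7.12.1 s.7.12.2 s.7.12.7 s.7.12.8 s.7.12.5 s.7.12.6 s.7.12.11 s.7.12.12 s.7.12.9 s.7.12.10 s.7.12.15 s.7.12.16 s.7.12.13 s.7.12.14)
  (@T16.mk R s.7.13.3 (R.mk s.7.13.4.2 s.7.13.4.1) s.7.13.1 (R.mk s.7.13.2.2 s.7.13.2.1) (R.mk s.7.13.7.2 s.7.13.7.1) s.7.13.8 (R.mk s.7.13.5.2 s.7.13.5.1) s.7.13.6 (R.mk s.7.13.11.2 s.7.13.11.1) s.7.13.12 (R.mk s.7.13.9.2 s.7.13.9.1) s.7.13.10 s.7.13.15 (R.mk s.7.13.16.2 s.7.13.16.1) s.7.13.13 (R.mk s.7.13.14.2 s.7.13.14.1))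
  (@T16.mk R s.7.14.3 (R.mk s.7.14.4.2 s.7.14.4.1) s.7.14.1 (R.mk s.7.14.2.2 s.7.14.2.1) (R.mk s.7.14.7.2 s.7.14.7.1) s.7.14.8 (R.mk s.7.14.5.2 s.7.14.5.1) s.7.14.6 (R.mk s.7.14.11.2 s.7.14.11.1) s.7.14.12 (R.mk s.7.14.9.2 s.7.14.9.1) s.7.14.10 s.7.14.15 (R.mk s.7.14.16.2 s.7.14.16.1) s.7.14.13 (R.mk s.7.14.14.2 s.7.14.14.1))
  (@T16.mk R s.7.15.3 s.7.15.4 s.7.15.1 s.7.15.2 s.7.15.7 s.7.15.8 s.7.15.5 s.7.15.6 s.7.15.11 s.7.15.12 s.7.15.9 s.7.15.10 s.7.15.15 s.7.15.16 s.7.15.13 s.7.15.14)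
  (@T16.mk R (R.mk s.7.16.3.2 s.7.16.3.1) (R.mk s.7.16.4.2 s.7.16.4.1) (R.mk s.7.16.1.2 s.7.16.1.1) (R.mk s.7.16.2.2 s.7.16.2.1) (R.mk s.7.16.7.2 s.7.16.7.1) (R.mk s.7.16.8.2 s.7.16.8.1) (R.mk s.7.16.5.2 s.7.16.5.1) (R.mk s.7.16.6.2 s.7.16.6.1) (R.mk s.7.16.11.2 s.7.16.11.1) (R.mk s.7.16.12.2 s.7.16.12.1) (R.mk s.7.16.9.2 s.7.16.9.1) (R.mk s.7.16.10.2 s.7.16.10.1) (R.mk s.7.16.15.2 s.7.16.15.1) (R.mk s.7.16.16.2 s.7.16.16.1) (R.mk s.7.16.13.2 s.7.16.13.1) (R.mk s.7.16.14.2 s.7.16.14.1))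
 )
 (@T16.mk (T16 R)
  (@T16.mk R s.8.1.3 (R.mk s.8.1.4.2 s.8.1.4.1) s.8.1.1 (R.mk s.8.1.2.2 s.8.1.2.1) (R.mk s.8.1.7.2 s.8.1.7.1) s.8.1.8 (R.mk s.8.1.5.2 s.8.1.5.1) s.8.1.6 (R.mk s.8.1.11.2 s.8.1.11.1) s.8.1.12 (R.mk s.8.1.9.2 s.8.1.9.1) s.8.1.10 s.8.1.15 (R.mk s.8.1.16.2 s.8.1.16.1) s.8.1.13 (R.mk s.8.1.14.2 s.8.1.14.1))
  (@T16.mk R (R.mk s.8.2.3.2 s.8.2.3.1) s.8.2.4 (R.mk s.8.2.1.2 s.8.2.1.1) s.8.2.2 s.8.2.7 (R.mk s.8.2.8.2 s.8.2.8.1) s.8.2.5 (R.mk s.8.2.6.2 s.8.2.6.1) s.8.2.11 (R.mk s.8.2.12.2 s.8.2.12.1) s.8.2.9 (R.mk s.8.2.10.2 s.8.2.10.1) (R.mk s.8.2.15.2 s.8.2.15.1) s.8.2.16 (R.mk s.8.2.13.2 s.8.2.13.1) s.8.2.14)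
  (@T16.mk R (R.mk s.8.3.3.2 s.8.3.3.1) (R.mk s.8.3.4.2 s.8.3.4.1) (R.mk s.8.3.1.2 s.8.3.1.1) (R.mk s.8.3.2.2 s.8.3.2.1) (R.mk s.8.3.7.2 s.8.3.7.1) (R.mk s.8.3.8.2 s.8.3.8.1) (R.mk s.8.3.5.2 s.8.3.5.1) (R.mk s.8.3.6.2 s.8.3.6.1) (R.mk s.8.3.11.2 s.8.3.11.1) (R.mk s.8.3.12.2 s.8.3.12.1) (R.mk s.8.3.9.2 s.8.3.9.1) (R.mk s.8.3.10.2 s.8.3.10.1) (R.mk s.8.3.15.2 s.8.3.15.1) (R.mk s.8.3.16.2 s.8.3.16.1) (R.mk s.8.3.13.2 s.8.3.13.1) (R.mk s.8.3.14.2 s.8.3.14.1))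
  (@T16.mk R (R.mk s.8.4.3.2 s.8.4.3.1) (R.mk s.8.4.4.2 s.8.4.4.1) (R.mk s.8.4.1.2 s.8.4.1.1) (R.mk s.8.4.2.2 s.8.4.2.1) (R.mk s.8.4.7.2 s.8.4.7.1) (R.mk s.8.4.8.2 s.8.4.8.1) (R.mk s.8.4.5.2 s.8.4.5.1) (R.mk s.8.4.6.2 s.8.4.6.1) (R.mk s.8.4.11.2 s.8.4.11.1) (R.mk s.8.4.12.2 s.8.4.12.1) (R.mk s.8.4.9.2 s.8.4.9.1) (R.mk s.8.4.10.2 s.8.4.10.1) (R.mk s.8.4.15.2 s.8.4.15.1) (R.mk s.8.4.16.2 s.8.4.16.1) (R.mk s.8.4.13.2 s.8.4.13.1) (R.mk s.8.4.14.2 s.8.4.14.1))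
  (@T16.mk R s.8.5.3 (R.mk s.8.5.4.2 s.8.5.4.1) s.8.5.1 (R.mk s.8.5.2.2 s.8.5.2.1) (R.mk s.8.5.7.2 s.8.5.7.1) s.8.5.8 (R.mk s.8.5.5.2 s.8.5.5.1) s.8.5.6 (R.mk s.8.5.11.2 s.8.5.11.1) s.8.5.12 (R.mk s.8.5.9.2 s.8.5.9.1) s.8.5.10 s.8.5.15 (R.mk s.8.5.16.2 s.8.5.16.1) s.8.5.13 (R.mk s.8.5.14.2 s.8.5.14.1))
  (@T16.mk R s.8.6.3 (R.mk s.8.6.4.2 s.8.6.4.1) s.8.6.1 (R.mk s.8.6.2.2 s.8.6.2.1) (R.mk s.8.6.7.2 s.8.6.7.1) s.8.6.8 (R.mk s.8.6.5.2 s.8.6.5.1) s.8.6.6 (R.mk s.8.6.11.2 s.8.6.11.1) s.8.6.12 (R.mk s.8.6.9.2 s.8.6.9.1) s.8.6.10 s.8.6.15 (R.mk s.8.6.16.2 s.8.6.16.1) s.8.6.13 (R.mk s.8.6.14.2 s.8.6.14.1))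
  (@T16.mk R s.8.7.3 s.8.7.4 s.8.7.1 s.8.7.2 s.8.7.7 s.8.7.8 s.8.7.5 s.8.7.6 s.8.7.11 s.8.7.12 s.8.7.9 s.8.7.10 s.8.7.15 s.8.7.16 s.8.7.13 s.8.7.14)
  (@T16.mk R (R.mk s.8.8.3.2 s.8.8.3.1) (R.mk s.8.8.4.2 s.8.8.4.1) (R.mk s.8.8.1.2 s.8.8.1.1) (R.mk s.8.8.2.2 s.8.8.2.1) (R.mk s.8.8.7.2 s.8.8.7.1) (R.mk s.8.8.8.2 s.8.8.8.1) (R.mk s.8.8.5.2 s.8.8.5.1) (R.mk s.8.8.6.2 s.8.8.6.1) (R.mk s.8.8.11.2 s.8.8.11.1) (R.mk s.8.8.12.2 s.8.8.12.1) (R.mk s.8.8.9.2 s.8.8.9.1) (R.mk s.8.8.10.2 s.8.8.10.1) (R.mk s.8.8.15.2 s.8.8.15.1) (R.mk s.8.8.16.2 s.8.8.16.1) (R.mk s.8.8.13.2 s.8.8.13.1) (R.mk s.8.8.14.2 s.8.8.14.1))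
  (@T16.mk R s.8.9.3 (R.mk s.8.9.4.2 s.8.9.4.1) s.8.9.1 (R.mk s.8.9.2.2 s.8.9.2.1) (R.mk s.8.9.7.2 s.8.9.7.1) s.8.9.8 (R.mk s.8.9.5.2 s.8.9.5.1) s.8.9.6 (R.mk s.8.9.11.2 s.8.9.11.1) s.8.9.12 (R.mk s.8.9.9.2 s.8.9.9.1) s.8.9.10 s.8.9.15 (R.mk s.8.9.16.2 s.8.9.16.1) s.8.9.13 (R.mk s.8.9.14.2 s.8.9.14.1))
  (@T16.mk R (R.mk s.8.10.3.2 s.8.10.3.1) s.8.10.4 (R.mk s.8.10.1.2 s.8.10.1.1) s.8.10.2 s.8.10.7 (R.mk s.8.10.8.2 s.8.10.8.1) s.8.10.5 (R.mk s.8.10.6.2 s.8.10.6.1) s.8.10.11 (R.mk s.8.10.12.2 s.8.10.12.1) s.8.10.9 (R.mk s.8.10.10.2 s.8.10.10.1) (R.mk s.8.10.15.2 s.8.10.15.1) s.8.10.16 (R.mk s.8.10.13.2 s.8.10.13.1) s.8.10.14)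
  (@T16.mk R (R.mk s.8.11.3.2 s.8.11.3.1) (R.mk s.8.11.4.2 s.8.11.4.1) (R.mk s.8.11.1.2 s.8.11.1.1) (R.mk s.8.11.2.2 s.8.11.2.1) (R.mk s.8.11.7.2 s.8.11.7.1) (R.mk s.8.11.8.2 s.8.11.8.1) (R.mk s.8.11.5.2 s.8.11.5.1) (R.mk s.8.11.6.2 s.8.11.6.1) (R.mk s.8.11.11.2 s.8.11.11.1) (R.mk s.8.11.12.2 s.8.11.12.1) (R.mk s.8.11.9.2 s.8.11.9.1) (R.mk s.8.11.10.2 s.8.11.10.1) (R.mk s.8.11.15.2 s.8.11.15.1) (R.mk s.8.11.16.2 s.8.11.16.1) (R.mk s.8.11.13.2 s.8.11.13.1) (R.mk s.8.11.14.2 s.8.11.14.1))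
  (@T16.mk R (R.mk s.8.12.3.2 s.8.12.3.1) (R.mk s.8.12.4.2 s.8.12.4.1) (R.mk s.8.12.1.2 s.8.12.1.1) (R.mk s.8.12.2.2 s.8.12.2.1) (R.mk s.8.12.7.2 s.8.12.7.1) (R.mk s.8.12.8.2 s.8.12.8.1) (R.mk s.8.12.5.2 s.8.12.5.1) (R.mk s.8.12.6.2 s.8.12.6.1) (R.mk s.8.12.11.2 s.8.12.11.1) (R.mk s.8.12.12.2 s.8.12.12.1) (R.mk s.8.12.9.2 s.8.12.9.1) (R.mk s.8.12.10.2 s.8.12.10.1) (R.mk s.8.12.15.2 s.8.12.15.1) (R.mk s.8.12.16.2 s.8.12.16.1) (R.mk s.8.12.13.2 s.8.12.13.1) (R.mk s.8.12.14.2 s.8.12.14.1))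
  (@T16.mk R (R.mk s.8.13.3.2 s.8.13.3.1) s.8.13.4 (R.mk s.8.13.1.2 s.8.13.1.1) s.8.13.2 s.8.13.7 (R.mk s.8.13.8.2 s.8.13.8.1) s.8.13.5 (R.mk s.8.13.6.2 s.8.13.6.1) s.8.13.11 (R.mk s.8.13.12.2 s.8.13.12.1) s.8.13.9 (R.mk s.8.13.10.2 s.8.13.10.1) (R.mk s.8.13.15.2 s.8.13.15.1) s.8.13.16 (R.mk s.8.13.13.2 s.8.13.13.1) s.8.13.14)
  (@T16.mk R (R.mk s.8.14.3.2 s.8.14.3.1) s.8.14.4 (R.mk s.8.14.1.2 s.8.14.1.1) s.8.14.2 s.8.14.7 (R.mk s.8.14.8.2 s.8.14.8.1) s.8.14.5 (R.mk s.8.14.6.2 s.8.14.6.1) s.8.14.11 (R.mk s.8.14.12.2 s.8.14.12.1) s.8.14.9 (R.mk s.8.14.10.2 s.8.14.10.1) (R.mk s.8.14.15.2 s.8.14.15.1) s.8.14.16 (R.mk s.8.14.13.2 s.8.14.13.1) s.8.14.14)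
  (@T16.mk R (R.mk s.8.15.3.2 s.8.15.3.1) (R.mk s.8.15.4.2 s.8.15.4.1) (R.mk s.8.15.1.2 s.8.15.1.1) (R.mk s.8.15.2.2 s.8.15.2.1) (R.mk s.8.15.7.2 s.8.15.7.1) (R.mk s.8.15.8.2 s.8.15.8.1) (R.mk s.8.15.5.2 s.8.15.5.1) (R.mk s.8.15.6.2 s.8.15.6.1) (R.mk s.8.15.11.2 s.8.15.11.1) (R.mk s.8.15.12.2 s.8.15.12.1) (R.mk s.8.15.9.2 s.8.15.9.1) (R.mk s.8.15.10.2 s.8.15.10.1) (R.mk s.8.15.15.2 s.8.15.15.1) (R.mk s.8.15.16.2 s.8.15.16.1) (R.mk s.8.15.13.2 s.8.15.13.1) (R.mk s.8.15.14.2 s.8.15.14.1))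
  (@T16.mk R s.8.16.3 s.8.16.4 s.8.16.1 s.8.16.2 s.8.16.7 s.8.16.8 s.8.16.5 s.8.16.6 s.8.16.11 s.8.16.12 s.8.16.9 s.8.16.10 s.8.16.15 s.8.16.16 s.8.16.13 s.8.16.14)
 )
 (@T16.mk (T16 R)
  (@T16.mk R (R.mk s.9.1.8.2 s.9.1.8.1) (R.mk s.9.1.7.2 s.9.1.7.1) (R.mk s.9.1.6.2 s.9.1.6.1) (R.mk s.9.1.5.2 s.9.1.5.1) (R.mk s.9.1.4.2 s.9.1.4.1) (R.mk s.9.1.3.2 s.9.1.3.1) (R.mk s.9.1.2.2 s.9.1.2.1) (R.mk s.9.1.1.2 s.9.1.1.1) (R.mk s.9.1.16.2 s.9.1.16.1) (R.mk s.9.1.15.2 s.9.1.15.1) (R.mk s.9.1.14.2 s.9.1.14.1) (R.mk s.9.1.13.2 s.9.1.13.1) (R.mk s.9.1.12.2 s.9.1.12.1) (R.mk s.9.1.11.2 s.9.1.11.1) (R.mk s.9.1.10.2 s.9.1.10.1) (R.mk s.9.1.9.2 s.9.1.9.1))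
  (@T16.mk R (R.mk s.9.2.4.2 s.9.2.4.1) (R.mk s.9.2.3.2 s.9.2.3.1) (R.mk s.9.2.2.2 s.9.2.2.1) (R.mk s.9.2.1.2 s.9.2.1.1) (R.mk s.9.2.8.2 s.9.2.8.1) (R.mk s.9.2.7.2 s.9.2.7.1) (R.mk s.9.2.6.2 s.9.2.6.1) (R.mk s.9.2.5.2 s.9.2.5.1) (R.mk s.9.2.12.2 s.9.2.12.1) (R.mk s.9.2.11.2 s.9.2.11.1) (R.mk s.9.2.10.2 s.9.2.10.1) (R.mk s.9.2.9.2 s.9.2.9.1) (R.mk s.9.2.16.2 s.9.2.16.1) (R.mk s.9.2.15.2 s.9.2.15.1) (R.mk s.9.2.14.2 s.9.2.14.1) (R.mk s.9.2.13.2 s.9.2.13.1))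
  (@T16.mk R s.9.3.2 s.9.3.1 s.9.3.4 s.9.3.3 s.9.3.6 s.9.3.5 s.9.3.8 s.9.3.7 s.9.3.10 s.9.3.9 s.9.3.12 s.9.3.11 s.9.3.14 s.9.3.13 s.9.3.16 s.9.3.15)
  (@T16.mk R (R.mk s.9.4.6.2 s.9.4.6.1) (R.mk s.9.4.5.2 s.9.4.5.1) (R.mk s.9.4.8.2 s.9.4.8.1) (R.mk s.9.4.7.2 s.9.4.7.1) (R.mk s.9.4.2.2 s.9.4.2.1) (R.mk s.9.4.1.2 s.9.4.1.1) (R.mk s.9.4.4.2 s.9.4.4.1) (R.mk s.9.4.3.2 s.9.4.3.1) (R.mk s.9.4.14.2 s.9.4.14.1) (R.mk s.9.4.13.2 s.9.4.13.1) (R.mk s.9.4.16.2 s.9.4.16.1) (R.mk s.9.4.15.2 s.9.4.15.1) (R.mk s.9.4.10.2 s.9.4.10.1) (R.mk s.9.4.9.2 s.9.4.9.1) (R.mk s.9.4.12.2 s.9.4.12.1) (R.mk s.9.4.11.2 s.9.4.11.1))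
  (@T16.mk R s.9.5.6 s.9.5.5 s.9.5.8 s.9.5.7 s.9.5.2 s.9.5.1 s.9.5.4 s.9.5.3 s.9.5.14 s.9.5.13 s.9.5.16 s.9.5.15 s.9.5.10 s.9.5.9 s.9.5.12 s.9.5.11)
  (@T16.mk R s.9.6.14 s.9.6.13 s.9.6.16 s.9.6.15 s.9.6.10 s.9.6.9 s.9.6.12 s.9.6.11 s.9.6.6 s.9.6.5 s.9.6.8 s.9.6.7 s.9.6.2 s.9.6.1 s.9.6.4 s.9.6.3)
  (@T16.mk R (R.mk s.9.7.11.2 s.9.7.11.1) (R.mk s.9.7.12.2 s.9.7.12.1) (R.mk s.9.7.9.2 s.9.7.9.1) (R.mk s.9.7.10.2 s.9.7.10.1) (R.mk s.9.7.15.2 s.9.7.15.1) (R.mk s.9.7.16.2 s.9.7.16.1) (R.mk s.9.7.13.2 s.9.7.13.1) (R.mk s.9.7.14.2 s.9.7.14.1) (R.mk s.9.7.3.2 s.9.7.3.1) (R.mk s.9.7.4.2 s.9.7.4.1) (R.mk s.9.7.1.2 s.9.7.1.1) (R.mk s.9.7.2.2 s.9.7.2.1) (R.mk s.9.7.7.2 s.9.7.7.1) (R.mk s.9.7.8.2 s.9.7.8.1) (R.mk s.9.7.5.2 s.9.7.5.1) (R.mk s.9.7.6.2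 s.9.7.6.1))
  (@T16.mk R (R.mk s.9.8.8.2 s.9.8.8.1) (R.mk s.9.8.7.2 s.9.8.7.1) (R.mk s.9.8.6.2 s.9.8.6.1) (R.mk s.9.8.5.2 s.9.8.5.1) (R.mk s.9.8.4.2 s.9.8.4.1) (R.mk s.9.8.3.2 s.9.8.3.1) (R.mk s.9.8.2.2 s.9.8.2.1) (R.mk s.9.8.1.2 s.9.8.1.1) (R.mk s.9.8.16.2 s.9.8.16.1) (R.mk s.9.8.15.2 s.9.8.15.1) (R.mk s.9.8.14.2 s.9.8.14.1) (R.mk s.9.8.13.2 s.9.8.13.1) (R.mk s.9.8.12.2 s.9.8.12.1) (R.mk s.9.8.11.2 s.9.8.11.1) (R.mk s.9.8.10.2 s.9.8.10.1) (R.mk s.9.8.9.2 s.9.8.9.1))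
  (@T16.mk R s.9.9.13 s.9.9.14 s.9.9.15 s.9.9.16 s.9.9.9 s.9.9.10 s.9.9.11 s.9.9.12 s.9.9.5 s.9.9.6 s.9.9.7 s.9.9.8 s.9.9.1 s.9.9.2 s.9.9.3 s.9.9.4)
  (@T16.mk R (R.mk s.9.10.16.2 s.9.10.16.1) (R.mk s.9.10.15.2 s.9.10.15.1) (R.mk s.9.10.14.2 s.9.10.14.1) (R.mk s.9.10.13.2 s.9.10.13.1) (R.mk s.9.10.12.2 s.9.10.12.1) (R.mk s.9.10.11.2 s.9.10.11.1) (R.mk s.9.10.10.2 s.9.10.10.1) (R.mk s.9.10.9.2 s.9.10.9.1) (R.mk s.9.10.8.2 s.9.10.8.1) (R.mk s.9.10.7.2 s.9.10.7.1) (R.mk s.9.10.6.2 s.9.10.6.1) (R.mk s.9.10.5.2 s.9.10.5.1) (R.mk s.9.10.4.2 s.9.10.4.1) (R.mk s.9.10.3.2 s.9.10.3.1) (R.mk s.9.10.2.2 s.9.10.2.1) (R.mk s.9.10.1.2 s.9.10.1.1))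
  (@T16.mk R (R.mk s.9.11.16.2 s.9.11.16.1) (R.mk s.9.11.15.2 s.9.11.15.1) (R.mk s.9.11.14.2 s.9.11.14.1) (R.mk s.9.11.13.2 s.9.11.13.1) (R.mk s.9.11.12.2 s.9.11.12.1) (R.mk s.9.11.11.2 s.9.11.11.1) (R.mk s.9.11.10.2 s.9.11.10.1) (R.mk s.9.11.9.2 s.9.11.9.1) (R.mk s.9.11.8.2 s.9.11.8.1) (R.mk s.9.11.7.2 s.9.11.7.1) (R.mk s.9.11.6.2 s.9.11.6.1) (R.mk s.9.11.5.2 s.9.11.5.1) (R.mk s.9.11.4.2 s.9.11.4.1) (R.mk s.9.11.3.2 s.9.11.3.1) (R.mk s.9.11.2.2 s.9.11.2.1) (R.mk s.9.11.1.2 s.9.11.1.1))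
  (@T16.mk R (R.mk s.9.12.12.2 s.9.12.12.1) (R.mk s.9.12.11.2 s.9.12.11.1) (R.mk s.9.12.10.2 s.9.12.10.1) (R.mk s.9.12.9.2 s.9.12.9.1) (R.mk s.9.12.16.2 s.9.12.16.1) (R.mk s.9.12.15.2 s.9.12.15.1) (R.mk s.9.12.14.2 s.9.12.14.1) (R.mk s.9.12.13.2 s.9.12.13.1) (R.mk s.9.12.4.2 s.9.12.4.1) (R.mk s.9.12.3.2 s.9.12.3.1) (R.mk s.9.12.2.2 s.9.12.2.1) (R.mk s.9.12.1.2 s.9.12.1.1) (R.mk s.9.12.8.2 s.9.12.8.1) (R.mk s.9.12.7.2 s.9.12.7.1) (R.mk s.9.12.6.2 s.9.12.6.1) (R.mk s.9.12.5.2 s.9.12.5.1))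
  (@T16.mk R s.9.13.9 s.9.13.10 s.9.13.11 s.9.13.12 s.9.13.13 s.9.13.14 s.9.13.15 s.9.13.16 s.9.13.1 s.9.13.2 s.9.13.3 s.9.13.4 s.9.13.5 s.9.13.6 s.9.13.7 s.9.13.8)
  (@T16.mk R (R.mk s.9.14.11.2 s.9.14.11.1) (R.mk s.9.14.12.2 s.9.14.12.1) (R.mk s.9.14.9.2 s.9.14.9.1) (R.mk s.9.14.10.2 s.9.14.10.1) (R.mk s.9.14.15.2 s.9.14.15.1) (R.mk s.9.14.16.2 s.9.14.16.1) (R.mk s.9.14.13.2 s.9.14.13.1) (R.mk s.9.14.14.2 s.9.14.14.1) (R.mk s.9.14.3.2 s.9.14.3.1) (R.mk s.9.14.4.2 s.9.14.4.1) (R.mk s.9.14.1.2 s.9.14.1.1) (R.mk s.9.14.2.2 s.9.14.2.1) (R.mk s.9.14.7.2 s.9.14.7.1) (R.mk s.9.14.8.2 s.9.14.8.1) (R.mk s.9.14.5.2 s.9.14.5.1) (R.mk s.9.14.6.2 s.9.14.6.1))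
  (@T16.mk R (R.mk s.9.15.12.2 s.9.15.12.1) (R.mk s.9.15.11.2 s.9.15.11.1) (R.mk s.9.15.10.2 s.9.15.10.1) (R.mk s.9.15.9.2 s.9.15.9.1) (R.mk s.9.15.16.2 s.9.15.16.1) (R.mk s.9.15.15.2 s.9.15.15.1) (R.mk s.9.15.14.2 s.9.15.14.1) (R.mk s.9.15.13.2 s.9.15.13.1) (R.mk s.9.15.4.2 s.9.15.4.1) (R.mk s.9.15.3.2 s.9.15.3.1) (R.mk s.9.15.2.2 s.9.15.2.1) (R.mk s.9.15.1.2 s.9.15.1.1) (R.mk s.9.15.8.2 s.9.15.8.1) (R.mk s.9.15.7.2 s.9.15.7.1) (R.mk s.9.15.6.2 s.9.15.6.1) (R.mk s.9.15.5.2 s.9.15.5.1))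
  (@T16.mk R (R.mk s.9.16.14.2 s.9.16.14.1) (R.mk s.9.16.13.2 s.9.16.13.1) (R.mk s.9.16.16.2 s.9.16.16.1) (R.mk s.9.16.15.2 s.9.16.15.1) (R.mk s.9.16.10.2 s.9.16.10.1) (R.mk s.9.16.9.2 s.9.16.9.1) (R.mk s.9.16.12.2 s.9.16.12.1) (R.mk s.9.16.11.2 s.9.16.11.1) (R.mk s.9.16.6.2 s.9.16.6.1) (R.mk s.9.16.5.2 s.9.16.5.1) (R.mk s.9.16.8.2 s.9.16.8.1) (R.mk s.9.16.7.2 s.9.16.7.1) (R.mk s.9.16.2.2 s.9.16.2.1) (R.mk s.9.16.1.2 s.9.16.1.1) (R.mk s.9.16.4.2 s.9.16.4.1) (R.mk s.9.16.3.2 s.9.16.3.1))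
 )
 (@T16.mk (T16 R)
  (@T16.mk R (R.mk s.10.1.5.2 s.10.1.5.1) (R.mk s.10.1.6.2 s.10.1.6.1) (R.mk s.10.1.7.2 s.10.1.7.1) (R.mk s.10.1.8.2 s.10.1.8.1) (R.mk s.10.1.1.2 s.10.1.1.1) (R.mk s.10.1.2.2 s.10.1.2.1) (R.mk s.10.1.3.2 s.10.1.3.1) (R.mk s.10.1.4.2 s.10.1.4.1) (R.mk s.10.1.13.2 s.10.1.13.1) (R.mk s.10.1.14.2 s.10.1.14.1) (R.mk s.10.1.15.2 s.10.1.15.1) (R.mk s.10.1.16.2 s.10.1.16.1) (R.mk s.10.1.9.2 s.10.1.9.1) (R.mk s.10.1.10.2 s.10.1.10.1) (R.mk s.10.1.11.2 s.10.1.11.1) (R.mk s.10.1.12.2 s.10.1.12.1))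
  (@T16.mk R (R.mk s.10.2.5.2 s.10.2.5.1) (R.mk s.10.2.6.2 s.10.2.6.1) (R.mk s.10.2.7.2 s.10.2.7.1) (R.mk s.10.2.8.2 s.10.2.8.1) (R.mk s.10.2.1.2 s.10.2.1.1) (R.mk s.10.2.2.2 s.10.2.2.1) (R.mk s.10.2.3.2 s.10.2.3.1) (R.mk s.10.2.4.2 s.10.2.4.1) (R.mk s.10.2.13.2 s.10.2.13.1) (R.mk s.10.2.14.2 s.10.2.14.1) (R.mk s.10.2.15.2 s.10.2.15.1) (R.mk s.10.2.16.2 s.10.2.16.1) (R.mk s.10.2.9.2 s.10.2.9.1) (R.mk s.10.2.10.2 s.10.2.10.1) (R.mk s.10.2.11.2 s.10.2.11.1) (R.mk s.10.2.12.2 s.10.2.12.1))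
  (@T16.mk R s.10.3.15 s.10.3.16 s.10.3.13 s.10.3.14 s.10.3.11 s.10.3.12 s.10.3.9 s.10.3.10 s.10.3.7 s.10.3.8 s.10.3.5 s.10.3.6 s.10.3.3 s.10.3.4 s.10.3.1 s.10.3.2)
  (@T16.mk R s.10.4.4 s.10.4.3 s.10.4.2 s.10.4.1 s.10.4.8 s.10.4.7 s.10.4.6 s.10.4.5 s.10.4.12 s.10.4.11 s.10.4.10 s.10.4.9 s.10.4.16 s.10.4.15 s.10.4.14 s.10.4.13)
  (@T16.mk R (R.mk s.10.5.5.2 s.10.5.5.1) (R.mk s.10.5.6.2 s.10.5.6.1) (R.mk s.10.5.7.2 s.10.5.7.1) (R.mk s.10.5.8.2 s.10.5.8.1) (R.mk s.10.5.1.2 s.10.5.1.1) (R.mk s.10.5.2.2 s.10.5.2.1) (R.mk s.10.5.3.2 s.10.5.3.1) (R.mk s.10.5.4.2 s.10.5.4.1) (R.mk s.10.5.13.2 s.10.5.13.1) (R.mk s.10.5.14.2 s.10.5.14.1) (R.mk s.10.5.15.2 s.10.5.15.1) (R.mk s.10.5.16.2 s.10.5.16.1) (R.mk s.10.5.9.2 s.10.5.9.1) (R.mk s.10.5.10.2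 s.10.5.10.1) (R.mk s.10.5.11.2 s.10.5.11.1) (R.mk s.10.5.12.2 s.10.5.12.1))
  (@T16.mk R s.10.6.1 s.10.6.2 s.10.6.3 s.10.6.4 s.10.6.5 s.10.6.6 s.10.6.7 s.10.6.8 s.10.6.9 s.10.6.10 s.10.6.11 s.10.6.12 s.10.6.13 s.10.6.14 s.10.6.15 s.10.6.16)
  (@T16.mk R s.10.7.8 s.10.7.7 s.10.7.6 s.10.7.5 s.10.7.4 s.10.7.3 s.10.7.2 s.10.7.1 s.10.7.16 s.10.7.15 s.10.7.14 s.10.7.13 s.10.7.12 s.10.7.11 s.10.7.10 s.10.7.9)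
  (@T16.mk R (R.mk s.10.8.15.2 s.10.8.15.1) (R.mk s.10.8.16.2 s.10.8.16.1) (R.mk s.10.8.13.2 s.10.8.13.1) (R.mk s.10.8.14.2 s.10.8.14.1) (R.mk s.10.8.11.2 s.10.8.11.1) (R.mk s.10.8.12.2 s.10.8.12.1) (R.mk s.10.8.9.2 s.10.8.9.1) (R.mk s.10.8.10.2 s.10.8.10.1) (R.mk s.10.8.7.2 s.10.8.7.1) (R.mk s.10.8.8.2 s.10.8.8.1) (R.mk s.10.8.5.2 s.10.8.5.1) (R.mk s.10.8.6.2 s.10.8.6.1) (R.mk s.10.8.3.2 s.10.8.3.1) (R.mk s.10.8.4.2 s.10.8.4.1) (R.mk s.10.8.1.2 s.10.8.1.1) (R.mk s.10.8.2.2 s.10.8.2.1))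
  (@T16.mk R (R.mk s.10.9.13.2 s.10.9.13.1) (R.mk s.10.9.14.2 s.10.9.14.1) (R.mk s.10.9.15.2 s.10.9.15.1) (R.mk s.10.9.16.2 s.10.9.16.1) (R.mk s.10.9.9.2 s.10.9.9.1) (R.mk s.10.9.10.2 s.10.9.10.1) (R.mk s.10.9.11.2 s.10.9.11.1) (R.mk s.10.9.12.2 s.10.9.12.1) (R.mk s.10.9.5.2 s.10.9.5.1) (R.mk s.10.9.6.2 s.10.9.6.1) (R.mk s.10.9.7.2 s.10.9.7.1) (R.mk s.10.9.8.2 s.10.9.8.1) (R.mk s.10.9.1.2 s.10.9.1.1) (R.mk s.10.9.2.2 s.10.9.2.1) (R.mk s.10.9.3.2 s.10.9.3.1) (R.mk s.10.9.4.2 s.10.9.4.1))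
  (@T16.mk R s.10.10.4 s.10.10.3 s.10.10.2 s.10.10.1 s.10.10.8 s.10.10.7 s.10.10.6 s.10.10.5 s.10.10.12 s.10.10.11 s.10.10.10 s.10.10.9 s.10.10.16 s.10.10.15 s.10.10.14 s.10.10.13)
  (@T16.mk R s.10.11.12 s.10.11.11 s.10.11.10 s.10.11.9 s.10.11.16 s.10.11.15 s.10.11.14 s.10.11.13 s.10.11.4 s.10.11.3 s.10.11.2 s.10.11.1 s.10.11.8 s.10.11.7 s.10.11.6 s.10.11.5)
  (@T16.mk R s.10.12.1 s.10.12.2 s.10.12.3 s.10.12.4 s.10.12.5 s.10.12.6 s.10.12.7 s.10.12.8 s.10.12.9 s.10.12.10 s.10.12.11 s.10.12.12 s.10.12.13 s.10.12.14 s.10.12.15 s.10.12.16)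
  (@T16.mk R s.10.13.8 s.10.13.7 s.10.13.6 s.10.13.5 s.10.13.4 s.10.13.3 s.10.13.2 s.10.13.1 s.10.13.16 s.10.13.15 s.10.13.14 s.10.13.13 s.10.13.12 s.10.13.11 s.10.13.10 s.10.13.9)
  (@T16.mk R (R.mk s.10.14.9.2 s.10.14.9.1) (R.mk s.10.14.10.2 s.10.14.10.1) (R.mk s.10.14.11.2 s.10.14.11.1) (R.mk s.10.14.12.2 s.10.14.12.1) (R.mk s.10.14.13.2 s.10.14.13.1) (R.mk s.10.14.14.2 s.10.14.14.1) (R.mk s.10.14.15.2 s.10.14.15.1) (R.mk s.10.14.16.2 s.10.14.16.1) (R.mk s.10.14.1.2 s.10.14.1.1) (R.mk s.10.14.2.2 s.10.14.2.1) (R.mk s.10.14.3.2 s.10.14.3.1) (R.mk s.10.14.4.2 s.10.14.4.1) (R.mk s.10.14.5.2 s.10.14.5.1) (R.mk s.10.14.6.2 s.10.14.6.1) (R.mk s.10.14.7.2 s.10.14.7.1) (R.mk s.10.14.8.2 s.10.14.8.1))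
  (@T16.mk R (R.mk s.10.15.6.2 s.10.15.6.1) (R.mk s.10.15.5.2 s.10.15.5.1) (R.mk s.10.15.8.2 s.10.15.8.1) (R.mk s.10.15.7.2 s.10.15.7.1) (R.mk s.10.15.2.2 s.10.15.2.1) (R.mk s.10.15.1.2 s.10.15.1.1) (R.mk s.10.15.4.2 s.10.15.4.1) (R.mk s.10.15.3.2 s.10.15.3.1) (R.mk s.10.15.14.2 s.10.15.14.1) (R.mk s.10.15.13.2 s.10.15.13.1) (R.mk s.10.15.16.2 s.10.15.16.1) (R.mk s.10.15.15.2 s.10.15.15.1) (R.mk s.10.15.10.2 s.10.15.10.1) (R.mk s.10.15.9.2 s.10.15.9.1) (R.mk s.10.15.12.2 s.10.15.12.1) (R.mk s.10.15.11.2 s.10.15.11.1))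
  (@T16.mk R (R.mk s.10.16.16.2 s.10.16.16.1) (R.mk s.10.16.15.2 s.10.16.15.1) (R.mk s.10.16.14.2 s.10.16.14.1) (R.mk s.10.16.13.2 s.10.16.13.1) (R.mk s.10.16.12.2 s.10.16.12.1) (R.mk s.10.16.11.2 s.10.16.11.1) (R.mk s.10.16.10.2 s.10.16.10.1) (R.mk s.10.16.9.2 s.10.16.9.1) (R.mk s.10.16.8.2 s.10.16.8.1) (R.mk s.10.16.7.2 s.10.16.7.1) (R.mk s.10.16.6.2 s.10.16.6.1) (R.mk s.10.16.5.2 s.10.16.5.1) (R.mk s.10.16.4.2 s.10.16.4.1) (R.mk s.10.16.3.2 s.10.16.3.1) (R.mk s.10.16.2.2 s.10.16.2.1) (R.mk s.10.16.1.2 s.10.16.1.1))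
 )
 (@T16.mk (T16 R)
  (@T16.mk R s.11.1.12 s.11.1.11 s.11.1.10 s.11.1.9 s.11.1.16 s.11.1.15 s.11.1.14 s.11.1.13 s.11.1.4 s.11.1.3 s.11.1.2 s.11.1.1 s.11.1.8 s.11.1.7 s.11.1.6 s.11.1.5)
  (@T16.mk R s.11.2.5 s.11.2.6 s.11.2.7 s.11.2.8 s.11.2.1 s.11.2.2 s.11.2.3 s.11.2.4 s.11.2.13 s.11.2.14 s.11.2.15 s.11.2.16 s.11.2.9 s.11.2.10 s.11.2.11 s.11.2.12)
  (@T16.mk R s.11.3.13 s.11.3.14 s.11.3.15 s.11.3.16 s.11.3.9 s.11.3.10 s.11.3.11 s.11.3.12 s.11.3.5 s.11.3.6 s.11.3.7 s.11.3.8 s.11.3.1 s.11.3.2 s.11.3.3 s.11.3.4)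
  (@T16.mk R (R.mk s.11.4.8.2 s.11.4.8.1) (R.mk s.11.4.7.2 s.11.4.7.1) (R.mk s.11.4.6.2 s.11.4.6.1) (R.mk s.11.4.5.2 s.11.4.5.1) (R.mk s.11.4.4.2 s.11.4.4.1) (R.mk s.11.4.3.2 s.11.4.3.1) (R.mk s.11.4.2.2 s.11.4.2.1) (R.mk s.11.4.1.2 s.11.4.1.1) (R.mk s.11.4.16.2 s.11.4.16.1) (R.mk s.11.4.15.2 s.11.4.15.1) (R.mk s.11.4.14.2 s.11.4.14.1) (R.mk s.11.4.13.2 s.11.4.13.1) (R.mk s.11.4.12.2 s.11.4.12.1) (R.mk s.11.4.11.2 s.11.4.11.1) (R.mk s.11.4.10.2 s.11.4.10.1) (R.mk s.11.4.9.2 s.11.4.9.1))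
  (@T16.mk R s.11.5.8 s.11.5.7 s.11.5.6 s.11.5.5 s.11.5.4 s.11.5.3 s.11.5.2 s.11.5.1 s.11.5.16 s.11.5.15 s.11.5.14 s.11.5.13 s.11.5.12 s.11.5.11 s.11.5.10 s.11.5.9)
  (@T16.mk R s.11.6.12 s.11.6.11 s.11.6.10 s.11.6.9 s.11.6.16 s.11.6.15 s.11.6.14 s.11.6.13 s.11.6.4 s.11.6.3 s.11.6.2 s.11.6.1 s.11.6.8 s.11.6.7 s.11.6.6 s.11.6.5)
  (@T16.mk R s.11.7.2 s.11.7.1 s.11.7.4 s.11.7.3 s.11.7.6 s.11.7.5 s.11.7.8 s.11.7.7 s.11.7.10 s.11.7.9 s.11.7.12 s.11.7.11 s.11.7.14 s.11.7.13 s.11.7.16 s.11.7.15)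
  (@T16.mk R s.11.8.14 s.11.8.13 s.11.8.16 s.11.8.15 s.11.8.10 s.11.8.9 s.11.8.12 s.11.8.11 s.11.8.6 s.11.8.5 s.11.8.8 s.11.8.7 s.11.8.2 s.11.8.1 s.11.8.4 s.11.8.3)
  (@T16.mk R (R.mk s.11.9.15.2 s.11.9.15.1) (R.mk s.11.9.16.2 s.11.9.16.1) (R.mk s.11.9.13.2 s.11.9.13.1) (R.mk s.11.9.14.2 s.11.9.14.1) (R.mk s.11.9.11.2 s.11.9.11.1) (R.mk s.11.9.12.2 s.11.9.12.1) (R.mk s.11.9.9.2 s.11.9.9.1) (R.mk s.11.9.10.2 s.11.9.10.1) (R.mk s.11.9.7.2 s.11.9.7.1) (R.mk s.11.9.8.2 s.11.9.8.1) (R.mk s.11.9.5.2 s.11.9.5.1) (R.mk s.11.9.6.2 s.11.9.6.1) (R.mk s.11.9.3.2 s.11.9.3.1) (R.mk s.11.9.4.2 s.11.9.4.1) (R.mk s.11.9.1.2 s.11.9.1.1) (R.mk s.11.9.2.2 s.11.9.2.1))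
  (@T16.mk R (R.mk s.11.10.2.2 s.11.10.2.1) (R.mk s.11.10.1.2 s.11.10.1.1) (R.mk s.11.10.4.2 s.11.10.4.1) (R.mk s.11.10.3.2 s.11.10.3.1) (R.mk s.11.10.6.2 s.11.10.6.1) (R.mk s.11.10.5.2 s.11.10.5.1) (R.mk s.11.10.8.2 s.11.10.8.1) (R.mk s.11.10.7.2 s.11.10.7.1) (R.mk s.11.10.10.2 s.11.10.10.1) (R.mk s.11.10.9.2 s.11.10.9.1) (R.mk s.11.10.12.2 s.11.10.12.1) (R.mk s.11.10.11.2 s.11.10.11.1) (R.mk s.11.10.14.2 s.11.10.14.1) (R.mk s.11.10.13.2 s.11.10.13.1) (R.mk s.11.10.16.2 s.11.10.16.1) (R.mk s.11.10.15.2 s.11.10.15.1))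
  (@T16.mk R s.11.11.13 s.11.11.14 s.11.11.15 s.11.11.16 s.11.11.9 s.11.11.10 s.11.11.11 s.11.11.12 s.11.11.5 s.11.11.6 s.11.11.7 s.11.11.8 s.11.11.1 s.11.11.2 s.11.11.3 s.11.11.4)
  (@T16.mk R (R.mk s.11.12.8.2 s.11.12.8.1) (R.mk s.11.12.7.2 s.11.12.7.1) (R.mk s.11.12.6.2 s.11.12.6.1) (R.mk s.11.12.5.2 s.11.12.5.1) (R.mk s.11.12.4.2 s.11.12.4.1) (R.mk s.11.12.3.2 s.11.12.3.1) (R.mk s.11.12.2.2 s.11.12.2.1) (R.mk s.11.12.1.2 s.11.12.1.1) (R.mk s.11.12.16.2 s.11.12.16.1) (R.mk s.11.12.15.2 s.11.12.15.1) (R.mk s.11.12.14.2 s.11.12.14.1) (R.mk s.11.12.13.2 s.11.12.13.1) (R.mk s.11.12.12.2 s.11.12.12.1) (R.mk s.11.12.11.2 s.11.12.11.1) (R.mk s.11.12.10.2 s.11.12.10.1) (R.mk s.11.12.9.2 s.11.12.9.1))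
  (@T16.mk R s.11.13.11 s.11.13.12 s.11.13.9 s.11.13.10 s.11.13.15 s.11.13.16 s.11.13.13 s.11.13.14 s.11.13.3 s.11.13.4 s.11.13.1 s.11.13.2 s.11.13.7 s.11.13.8 s.11.13.5 s.11.13.6)
  (@T16.mk R s.11.14.1 s.11.14.2 s.11.14.3 s.11.14.4 s.11.14.5 s.11.14.6 s.11.14.7 s.11.14.8 s.11.14.9 s.11.14.10 s.11.14.11 s.11.14.12 s.11.14.13 s.11.14.14 s.11.14.15 s.11.14.16)
  (@T16.mk R s.11.15.13 s.11.15.14 s.11.15.15 s.11.15.16 s.11.15.9 s.11.15.10 s.11.15.11 s.11.15.12 s.11.15.5 s.11.15.6 s.11.15.7 s.11.15.8 s.11.15.1 s.11.15.2 s.11.15.3 s.11.15.4)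
  (@T16.mk R s.11.16.1 s.11.16.2 s.11.16.3 s.11.16.4 s.11.16.5 s.11.16.6 s.11.16.7 s.11.16.8 s.11.16.9 s.11.16.10 s.11.16.11 s.11.16.12 s.11.16.13 s.11.16.14 s.11.16.15 s.11.16.16)
 )
 (@T16.mk (T16 R)
  (@T16.mk R s.12.1.11 s.12.1.12 s.12.1.9 s.12.1.10 s.12.1.15 s.12.1.16 s.12.1.13 s.12.1.14 s.12.1.3 s.12.1.4 s.12.1.1 s.12.1.2 s.12.1.7 s.12.1.8 s.12.1.5 s.12.1.6)
  (@T16.mk R (R.mk s.12.2.13.2 s.12.2.13.1) (R.mk s.12.2.14.2 s.12.2.14.1) (R.mk s.12.2.15.2 s.12.2.15.1) (R.mk s.12.2.16.2 s.12.2.16.1) (R.mk s.12.2.9.2 s.12.2.9.1) (R.mk s.12.2.10.2 s.12.2.10.1) (R.mk s.12.2.11.2 s.12.2.11.1) (R.mk s.12.2.12.2 s.12.2.12.1) (R.mk s.12.2.5.2 s.12.2.5.1) (R.mk s.12.2.6.2 s.12.2.6.1) (R.mk s.12.2.7.2 s.12.2.7.1) (R.mk s.12.2.8.2 s.12.2.8.1)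 (R.mk s.12.2.1.2 s.12.2.1.1) (R.mk s.12.2.2.2 s.12.2.2.1) (R.mk s.12.2.3.2 s.12.2.3.1) (R.mk s.12.2.4.2 s.12.2.4.1))
  (@T16.mk R s.12.3.13 s.12.3.14 s.12.3.15 s.12.3.16 s.12.3.9 s.12.3.10 s.12.3.11 s.12.3.12 s.12.3.5 s.12.3.6 s.12.3.7 s.12.3.8 s.12.3.1 s.12.3.2 s.12.3.3 s.12.3.4)
  (@T16.mk R s.12.4.10 s.12.4.9 s.12.4.12 s.12.4.11 s.12.4.14 s.12.4.13 s.12.4.16 s.12.4.15 s.12.4.2 s.12.4.1 s.12.4.4 s.12.4.3 s.12.4.6 s.12.4.5 s.12.4.8 s.12.4.7)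
  (@T16.mk R (R.mk s.12.5.9.2 s.12.5.9.1) (R.mk s.12.5.10.2 s.12.5.10.1) (R.mk s.12.5.11.2 s.12.5.11.1) (R.mk s.12.5.12.2 s.12.5.12.1) (R.mk s.12.5.13.2 s.12.5.13.1) (R.mk s.12.5.14.2 s.12.5.14.1) (R.mk s.12.5.15.2 s.12.5.15.1) (R.mk s.12.5.16.2 s.12.5.16.1) (R.mk s.12.5.1.2 s.12.5.1.1) (R.mk s.12.5.2.2 s.12.5.2.1) (R.mk s.12.5.3.2 s.12.5.3.1) (R.mk s.12.5.4.2 s.12.5.4.1) (R.mk s.12.5.5.2 s.12.5.5.1) (R.mk s.12.5.6.2 s.12.5.6.1) (R.mk s.12.5.7.2 s.12.5.7.1) (R.mk s.12.5.8.2 s.12.5.8.1))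
  (@T16.mk R s.12.6.13 s.12.6.14 s.12.6.15 s.12.6.16 s.12.6.9 s.12.6.10 s.12.6.11 s.12.6.12 s.12.6.5 s.12.6.6 s.12.6.7 s.12.6.8 s.12.6.1 s.12.6.2 s.12.6.3 s.12.6.4)
  (@T16.mk R s.12.7.13 s.12.7.14 s.12.7.15 s.12.7.16 s.12.7.9 s.12.7.10 s.12.7.11 s.12.7.12 s.12.7.5 s.12.7.6 s.12.7.7 s.12.7.8 s.12.7.1 s.12.7.2 s.12.7.3 s.12.7.4)
  (@T16.mk R s.12.8.13 s.12.8.14 s.12.8.15 s.12.8.16 s.12.8.9 s.12.8.10 s.12.8.11 s.12.8.12 s.12.8.5 s.12.8.6 s.12.8.7 s.12.8.8 s.12.8.1 s.12.8.2 s.12.8.3 s.12.8.4)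
  (@T16.mk R (R.mk s.12.9.6.2 s.12.9.6.1) (R.mk s.12.9.5.2 s.12.9.5.1) (R.mk s.12.9.8.2 s.12.9.8.1) (R.mk s.12.9.7.2 s.12.9.7.1) (R.mk s.12.9.2.2 s.12.9.2.1) (R.mk s.12.9.1.2 s.12.9.1.1) (R.mk s.12.9.4.2 s.12.9.4.1) (R.mk s.12.9.3.2 s.12.9.3.1) (R.mk s.12.9.14.2 s.12.9.14.1) (R.mk s.12.9.13.2 s.12.9.13.1) (R.mk s.12.9.16.2 s.12.9.16.1) (R.mk s.12.9.15.2 s.12.9.15.1) (R.mk s.12.9.10.2 s.12.9.10.1) (R.mk s.12.9.9.2 s.12.9.9.1) (R.mk s.12.9.12.2 s.12.9.12.1) (R.mk s.12.9.11.2 s.12.9.11.1))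
  (@T16.mk R s.12.10.14 s.12.10.13 s.12.10.16 s.12.10.15 s.12.10.10 s.12.10.9 s.12.10.12 s.12.10.11 s.12.10.6 s.12.10.5 s.12.10.8 s.12.10.7 s.12.10.2 s.12.10.1 s.12.10.4 s.12.10.3)
  (@T16.mk R s.12.11.5 s.12.11.6 s.12.11.7 s.12.11.8 s.12.11.1 s.12.11.2 s.12.11.3 s.12.11.4 s.12.11.13 s.12.11.14 s.12.11.15 s.12.11.16 s.12.11.9 s.12.11.10 s.12.11.11 s.12.11.12)
  (@T16.mk R s.12.12.8 s.12.12.7 s.12.12.6 s.12.12.5 s.12.12.4 s.12.12.3 s.12.12.2 s.12.12.1 s.12.12.16 s.12.12.15 s.12.12.14 s.12.12.13 s.12.12.12 s.12.12.11 s.12.12.10 s.12.12.9)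
  (@T16.mk R (R.mk s.12.13.7.2 s.12.13.7.1) (R.mk s.12.13.8.2 s.12.13.8.1) (R.mk s.12.13.5.2 s.12.13.5.1) (R.mk s.12.13.6.2 s.12.13.6.1) (R.mk s.12.13.3.2 s.12.13.3.1) (R.mk s.12.13.4.2 s.12.13.4.1) (R.mk s.12.13.1.2 s.12.13.1.1) (R.mk s.12.13.2.2 s.12.13.2.1) (R.mk s.12.13.15.2 s.12.13.15.1) (R.mk s.12.13.16.2 s.12.13.16.1) (R.mk s.12.13.13.2 s.12.13.13.1) (R.mk s.12.13.14.2 s.12.13.14.1) (R.mk s.12.13.11.2 s.12.13.11.1) (R.mk s.12.13.12.2 s.12.13.12.1) (R.mk s.12.13.9.2 s.12.13.9.1) (R.mk s.12.13.10.2 s.12.13.10.1))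
  (@T16.mk R s.12.14.7 s.12.14.8 s.12.14.5 s.12.14.6 s.12.14.3 s.12.14.4 s.12.14.1 s.12.14.2 s.12.14.15 s.12.14.16 s.12.14.13 s.12.14.14 s.12.14.11 s.12.14.12 s.12.14.9 s.12.14.10)
  (@T16.mk R s.12.15.15 s.12.15.16 s.12.15.13 s.12.15.14 s.12.15.11 s.12.15.12 s.12.15.9 s.12.15.10 s.12.15.7 s.12.15.8 s.12.15.5 s.12.15.6 s.12.15.3 s.12.15.4 s.12.15.1 s.12.15.2)
  (@T16.mk R s.12.16.13 s.12.16.14 s.12.16.15 s.12.16.16 s.12.16.9 s.12.16.10 s.12.16.11 s.12.16.12 s.12.16.5 s.12.16.6 s.12.16.7 s.12.16.8 s.12.16.1 s.12.16.2 s.12.16.3 s.12.16.4)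
 )
 (@T16.mk (T16 R)
  (@T16.mk R (R.mk s.13.1.11.2 s.13.1.11.1) (R.mk s.13.1.12.2 s.13.1.12.1) (R.mk s.13.1.9.2 s.13.1.9.1) (R.mk s.13.1.10.2 s.13.1.10.1) (R.mk s.13.1.15.2 s.13.1.15.1) (R.mk s.13.1.16.2 s.13.1.16.1) (R.mk s.13.1.13.2 s.13.1.13.1) (R.mk s.13.1.14.2 s.13.1.14.1) (R.mk s.13.1.3.2 s.13.1.3.1) (R.mk s.13.1.4.2 s.13.1.4.1) (R.mk s.13.1.1.2 s.13.1.1.1) (R.mk s.13.1.2.2 s.13.1.2.1) (R.mk s.13.1.7.2 s.13.1.7.1) (R.mk s.13.1.8.2 s.13.1.8.1) (R.mk s.13.1.5.2 s.13.1.5.1) (R.mk s.13.1.6.2 s.13.1.6.1))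
  (@T16.mk R s.13.2.7 s.13.2.8 s.13.2.5 s.13.2.6 s.13.2.3 s.13.2.4 s.13.2.1 s.13.2.2 s.13.2.15 s.13.2.16 s.13.2.13 s.13.2.14 s.13.2.11 s.13.2.12 s.13.2.9 s.13.2.10)
  (@T16.mk R (R.mk s.13.3.14.2 s.13.3.14.1) (R.mk s.13.3.13.2 s.13.3.13.1) (R.mk s.13.3.16.2 s.13.3.16.1) (R.mk s.13.3.15.2 s.13.3.15.1) (R.mk s.13.3.10.2 s.13.3.10.1) (R.mk s.13.3.9.2 s.13.3.9.1) (R.mk s.13.3.12.2 s.13.3.12.1) (R.mk s.13.3.11.2 s.13.3.11.1) (R.mk s.13.3.6.2 s.13.3.6.1) (R.mk s.13.3.5.2 s.13.3.5.1) (R.mk s.13.3.8.2 s.13.3.8.1) (R.mk s.13.3.7.2 s.13.3.7.1) (R.mk s.13.3.2.2 s.13.3.2.1) (R.mk s.13.3.1.2 s.13.3.1.1) (R.mk s.13.3.4.2 s.13.3.4.1) (R.mk s.13.3.3.2 s.13.3.3.1))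
  (@T16.mk R s.13.4.3 s.13.4.4 s.13.4.1 s.13.4.2 s.13.4.7 s.13.4.8 s.13.4.5 s.13.4.6 s.13.4.11 s.13.4.12 s.13.4.9 s.13.4.10 s.13.4.15 s.13.4.16 s.13.4.13 s.13.4.14)
  (@T16.mk R (R.mk s.13.5.9.2 s.13.5.9.1) (R.mk s.13.5.10.2 s.13.5.10.1) (R.mk s.13.5.11.2 s.13.5.11.1) (R.mk s.13.5.12.2 s.13.5.12.1) (R.mk s.13.5.13.2 s.13.5.13.1) (R.mk s.13.5.14.2 s.13.5.14.1) (R.mk s.13.5.15.2 s.13.5.15.1) (R.mk s.13.5.16.2 s.13.5.16.1) (R.mk s.13.5.1.2 s.13.5.1.1) (R.mk s.13.5.2.2 s.13.5.2.1) (R.mk s.13.5.3.2 s.13.5.3.1) (R.mk s.13.5.4.2 s.13.5.4.1) (R.mk s.13.5.5.2 s.13.5.5.1) (R.mk s.13.5.6.2 s.13.5.6.1) (R.mk s.13.5.7.2 s.13.5.7.1) (R.mk s.13.5.8.2 s.13.5.8.1))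
  (@T16.mk R (R.mk s.13.6.9.2 s.13.6.9.1) (R.mk s.13.6.10.2 s.13.6.10.1) (R.mk s.13.6.11.2 s.13.6.11.1) (R.mk s.13.6.12.2 s.13.6.12.1) (R.mk s.13.6.13.2 s.13.6.13.1) (R.mk s.13.6.14.2 s.13.6.14.1) (R.mk s.13.6.15.2 s.13.6.15.1) (R.mk s.13.6.16.2 s.13.6.16.1) (R.mk s.13.6.1.2 s.13.6.1.1) (R.mk s.13.6.2.2 s.13.6.2.1) (R.mk s.13.6.3.2 s.13.6.3.1) (R.mk s.13.6.4.2 s.13.6.4.1) (R.mk s.13.6.5.2 s.13.6.5.1) (R.mk s.13.6.6.2 s.13.6.6.1) (R.mk s.13.6.7.2 s.13.6.7.1) (R.mk s.13.6.8.2 s.13.6.8.1))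
  (@T16.mk R s.13.7.1 s.13.7.2 s.13.7.3 s.13.7.4 s.13.7.5 s.13.7.6 s.13.7.7 s.13.7.8 s.13.7.9 s.13.7.10 s.13.7.11 s.13.7.12 s.13.7.13 s.13.7.14 s.13.7.15 s.13.7.16)
  (@T16.mk R s.13.8.1 s.13.8.2 s.13.8.3 s.13.8.4 s.13.8.5 s.13.8.6 s.13.8.7 s.13.8.8 s.13.8.9 s.13.8.10 s.13.8.11 s.13.8.12 s.13.8.13 s.13.8.14 s.13.8.15 s.13.8.16)
  (@T16.mk R (R.mk s.13.9.9.2 s.13.9.9.1) (R.mk s.13.9.10.2 s.13.9.10.1) (R.mk s.13.9.11.2 s.13.9.11.1) (R.mk s.13.9.12.2 s.13.9.12.1) (R.mk s.13.9.13.2 s.13.9.13.1) (R.mk s.13.9.14.2 s.13.9.14.1) (R.mk s.13.9.15.2 s.13.9.15.1) (R.mk s.13.9.16.2 s.13.9.16.1) (R.mk s.13.9.1.2 s.13.9.1.1) (R.mk s.13.9.2.2 s.13.9.2.1) (R.mk s.13.9.3.2 s.13.9.3.1) (R.mk s.13.9.4.2 s.13.9.4.1) (R.mk s.13.9.5.2 s.13.9.5.1) (R.mk s.13.9.6.2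 s.13.9.6.1) (R.mk s.13.9.7.2 s.13.9.7.1) (R.mk s.13.9.8.2 s.13.9.8.1))
  (@T16.mk R s.13.10.9 s.13.10.10 s.13.10.11 s.13.10.12 s.13.10.13 s.13.10.14 s.13.10.15 s.13.10.16 s.13.10.1 s.13.10.2 s.13.10.3 s.13.10.4 s.13.10.5 s.13.10.6 s.13.10.7 s.13.10.8)
  (@T16.mk R s.13.11.13 s.13.11.14 s.13.11.15 s.13.11.16 s.13.11.9 s.13.11.10 s.13.11.11 s.13.11.12 s.13.11.5 s.13.11.6 s.13.11.7 s.13.11.8 s.13.11.1 s.13.11.2 s.13.11.3 s.13.11.4)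
  (@T16.mk R s.13.12.13 s.13.12.14 s.13.12.15 s.13.12.16 s.13.12.9 s.13.12.10 s.13.12.11 s.13.12.12 s.13.12.5 s.13.12.6 s.13.12.7 s.13.12.8 s.13.12.1 s.13.12.2 s.13.12.3 s.13.12.4)
  (@T16.mk R s.13.13.1 s.13.13.2 s.13.13.3 s.13.13.4 s.13.13.5 s.13.13.6 s.13.13.7 s.13.13.8 s.13.13.9 s.13.13.10 s.13.13.11 s.13.13.12 s.13.13.13 s.13.13.14 s.13.13.15 s.13.13.16)
  (@T16.mk R s.13.15.1 (R.mk s.13.15.2.2 s.13.15.2.1) s.13.15.3 s.13.15.4 s.13.15.5 s.13.15.6 s.13.15.7 (R.mk s.13.15.8.2 s.13.15.8.1) s.13.15.9 s.13.15.10 (R.mk s.13.15.11.2 s.13.15.11.1) s.13.15.12 s.13.15.13 (R.mk s.13.15.14.2 s.13.15.14.1) (R.mk s.13.15.15.2 s.13.15.15.1) (R.mk s.13.15.16.2 s.13.15.16.1))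
  (@T16.mk R s.13.14.1 (R.mk s.13.14.2.2 s.13.14.2.1) s.13.14.3 s.13.14.4 s.13.14.5 s.13.14.6 s.13.14.7 (R.mk s.13.14.8.2 s.13.14.8.1) s.13.14.9 s.13.14.10 (R.mk s.13.14.11.2 s.13.14.11.1) s.13.14.12 s.13.14.13 (R.mk s.13.14.14.2 s.13.14.14.1) (R.mk s.13.14.15.2 s.13.14.15.1) (R.mk s.13.14.16.2 s.13.14.16.1))
  (@T16.mk R s.14.1.1 (R.mk s.14.1.2.2 s.14.1.2.1) s.14.1.3 s.14.1.4 s.14.1.5 s.14.1.6 s.14.1.7 (R.mk s.14.1.8.2 s.14.1.8.1) (R.mk s.14.1.9.2 s.14.1.9.1) (R.mk s.14.1.10.2 s.14.1.10.1) s.14.1.11 (R.mk s.14.1.12.2 s.14.1.12.1) (R.mk s.14.1.13.2 s.14.1.13.1) s.14.1.14 s.14.1.15 s.14.1.16)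
 )
 (@T16.mk (T16 R)
  (@T16.mk R s.13.16.1 (R.mk s.13.16.2.2 s.13.16.2.1) s.13.16.3 s.13.16.4 s.13.16.5 s.13.16.6 s.13.16.7 (R.mk s.13.16.8.2 s.13.16.8.1) (R.mk s.13.16.9.2 s.13.16.9.1) (R.mk s.13.16.10.2 s.13.16.10.1) s.13.16.11 (R.mk s.13.16.12.2 s.13.16.12.1) (R.mk s.13.16.13.2 s.13.16.13.1) s.13.16.14 s.13.16.15 s.13.16.16)
  (@T16.mk R s.14.3.1 (R.mk s.14.3.2.2 s.14.3.2.1) s.14.3.3 s.14.3.4 s.14.3.5 s.14.3.6 s.14.3.7 (R.mk s.14.3.8.2 s.14.3.8.1) s.14.3.9 s.14.3.10 (R.mk s.14.3.11.2 s.14.3.11.1) s.14.3.12 s.14.3.13 (R.mk s.14.3.14.2 s.14.3.14.1) (R.mk s.14.3.15.2 s.14.3.15.1) (R.mk s.14.3.16.2 s.14.3.16.1))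
  (@T16.mk R s.14.2.1 (R.mk s.14.2.2.2 s.14.2.2.1) s.14.2.3 s.14.2.4 s.14.2.5 s.14.2.6 s.14.2.7 (R.mk s.14.2.8.2 s.14.2.8.1) s.14.2.9 s.14.2.10 (R.mk s.14.2.11.2 s.14.2.11.1) s.14.2.12 s.14.2.13 (R.mk s.14.2.14.2 s.14.2.14.1) (R.mk s.14.2.15.2 s.14.2.15.1) (R.mk s.14.2.16.2 s.14.2.16.1))
  (@T16.mk R s.14.5.1 (R.mk s.14.5.2.2 s.14.5.2.1) s.14.5.3 s.14.5.4 s.14.5.5 s.14.5.6 s.14.5.7 (R.mk s.14.5.8.2 s.14.5.8.1) (R.mk s.14.5.9.2 s.14.5.9.1) (R.mk s.14.5.10.2 s.14.5.10.1) s.14.5.11 (R.mk s.14.5.12.2 s.14.5.12.1) (R.mk s.14.5.13.2 s.14.5.13.1) s.14.5.14 s.14.5.15 s.14.5.16)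
  (@T16.mk R s.14.4.1 (R.mk s.14.4.2.2 s.14.4.2.1) s.14.4.3 s.14.4.4 s.14.4.5 s.14.4.6 s.14.4.7 (R.mk s.14.4.8.2 s.14.4.8.1) (R.mk s.14.4.9.2 s.14.4.9.1) (R.mk s.14.4.10.2 s.14.4.10.1) s.14.4.11 (R.mk s.14.4.12.2 s.14.4.12.1) (R.mk s.14.4.13.2 s.14.4.13.1) s.14.4.14 s.14.4.15 s.14.4.16)
  (@T16.mk R s.14.7.1 (R.mk s.14.7.2.2 s.14.7.2.1) (R.mk s.14.7.3.2 s.14.7.3.1) (R.mk s.14.7.4.2 s.14.7.4.1) (R.mk s.14.7.5.2 s.14.7.5.1) (R.mk s.14.7.6.2 s.14.7.6.1) s.14.7.7 (R.mk s.14.7.8.2 s.14.7.8.1) s.14.7.9 s.14.7.10 s.14.7.11 (R.mk s.14.7.12.2 s.14.7.12.1) (R.mk s.14.7.13.2 s.14.7.13.1) s.14.7.14 (R.mk s.14.7.15.2 s.14.7.15.1) (R.mk s.14.7.16.2 s.14.7.16.1))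
  (@T16.mk R s.14.6.1 (R.mk s.14.6.2.2 s.14.6.2.1) (R.mk s.14.6.3.2 s.14.6.3.1) (R.mk s.14.6.4.2 s.14.6.4.1) (R.mk s.14.6.5.2 s.14.6.5.1) (R.mk s.14.6.6.2 s.14.6.6.1) s.14.6.7 (R.mk s.14.6.8.2 s.14.6.8.1) s.14.6.9 s.14.6.10 s.14.6.11 (R.mk s.14.6.12.2 s.14.6.12.1) (R.mk s.14.6.13.2 s.14.6.13.1) s.14.6.14 (R.mk s.14.6.15.2 s.14.6.15.1) (R.mk s.14.6.16.2 s.14.6.16.1))
  (@T16.mk R s.14.9.1 (R.mk s.14.9.2.2 s.14.9.2.1) (R.mk s.14.9.3.2 s.14.9.3.1) (R.mk s.14.9.4.2 s.14.9.4.1) (R.mk s.14.9.5.2 s.14.9.5.1) (R.mk s.14.9.6.2 s.14.9.6.1) s.14.9.7 (R.mk s.14.9.8.2 s.14.9.8.1) (R.mk s.14.9.9.2 s.14.9.9.1) (R.mk s.14.9.10.2 s.14.9.10.1) (R.mk s.14.9.11.2 s.14.9.11.1) s.14.9.12 s.14.9.13 (R.mk s.14.9.14.2 s.14.9.14.1) s.14.9.15 s.14.9.16)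
  (@T16.mk R s.14.8.1 (R.mk s.14.8.2.2 s.14.8.2.1) (R.mk s.14.8.3.2 s.14.8.3.1) (R.mk s.14.8.4.2 s.14.8.4.1) (R.mk s.14.8.5.2 s.14.8.5.1) (R.mk s.14.8.6.2 s.14.8.6.1) s.14.8.7 (R.mk s.14.8.8.2 s.14.8.8.1) (R.mk s.14.8.9.2 s.14.8.9.1) (R.mk s.14.8.10.2 s.14.8.10.1) (R.mk s.14.8.11.2 s.14.8.11.1) s.14.8.12 s.14.8.13 (R.mk s.14.8.14.2 s.14.8.14.1) s.14.8.15 s.14.8.16)
  (@T16.mk R s.14.11.1 (R.mk s.14.11.2.2 s.14.11.2.1) (R.mk s.14.11.3.2 s.14.11.3.1) (R.mk s.14.11.4.2 s.14.11.4.1) (R.mk s.14.11.5.2 s.14.11.5.1) (R.mk s.14.11.6.2 s.14.11.6.1) s.14.11.7 (R.mk s.14.11.8.2 s.14.11.8.1) s.14.11.9 s.14.11.10 s.14.11.11 (R.mk s.14.11.12.2 s.14.11.12.1) (R.mk s.14.11.13.2 s.14.11.13.1) s.14.11.14 (R.mk s.14.11.15.2 s.14.11.15.1) (R.mk s.14.11.16.2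 s.14.11.16.1))
  (@T16.mk R s.14.10.1 (R.mk s.14.10.2.2 s.14.10.2.1) (R.mk s.14.10.3.2 s.14.10.3.1) (R.mk s.14.10.4.2 s.14.10.4.1) (R.mk s.14.10.5.2 s.14.10.5.1) (R.mk s.14.10.6.2 s.14.10.6.1) s.14.10.7 (R.mk s.14.10.8.2 s.14.10.8.1) s.14.10.9 s.14.10.10 s.14.10.11 (R.mk s.14.10.12.2 s.14.10.12.1) (R.mk s.14.10.13.2 s.14.10.13.1) s.14.10.14 (R.mk s.14.10.15.2 s.14.10.15.1) (R.mk s.14.10.16.2 s.14.10.16.1))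
  (@T16.mk R s.14.13.1 (R.mk s.14.13.2.2 s.14.13.2.1) (R.mk s.14.13.3.2 s.14.13.3.1) (R.mk s.14.13.4.2 s.14.13.4.1) (R.mk s.14.13.5.2 s.14.13.5.1) (R.mk s.14.13.6.2 s.14.13.6.1) s.14.13.7 (R.mk s.14.13.8.2 s.14.13.8.1) (R.mk s.14.13.9.2 s.14.13.9.1) (R.mk s.14.13.10.2 s.14.13.10.1) (R.mk s.14.13.11.2 s.14.13.11.1) s.14.13.12 s.14.13.13 (R.mk s.14.13.14.2 s.14.13.14.1) s.14.13.15 s.14.13.16)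
  (@T16.mk R s.14.12.1 (R.mk s.14.12.2.2 s.14.12.2.1) (R.mk s.14.12.3.2 s.14.12.3.1) (R.mk s.14.12.4.2 s.14.12.4.1) (R.mk s.14.12.5.2 s.14.12.5.1) (R.mk s.14.12.6.2 s.14.12.6.1) s.14.12.7 (R.mk s.14.12.8.2 s.14.12.8.1) (R.mk s.14.12.9.2 s.14.12.9.1) (R.mk s.14.12.10.2 s.14.12.10.1) (R.mk s.14.12.11.2 s.14.12.11.1) s.14.12.12 s.14.12.13 (R.mk s.14.12.14.2 s.14.12.14.1) s.14.12.15 s.14.12.16)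
  (@T16.mk R s.14.15.1 s.14.15.2 (R.mk s.14.15.3.2 s.14.15.3.1) s.14.15.4 s.14.15.5 (R.mk s.14.15.6.2 s.14.15.6.1) (R.mk s.14.15.7.2 s.14.15.7.1) (R.mk s.14.15.8.2 s.14.15.8.1) s.14.15.9 (R.mk s.14.15.10.2 s.14.15.10.1) s.14.15.11 s.14.15.12 s.14.15.13 s.14.15.14 s.14.15.15 (R.mk s.14.15.16.2 s.14.15.16.1))
  (@T16.mk R s.14.14.1 s.14.14.2 (R.mk s.14.14.3.2 s.14.14.3.1) s.14.14.4 s.14.14.5 (R.mk s.14.14.6.2 s.14.14.6.1) (R.mk s.14.14.7.2 s.14.14.7.1) (R.mk s.14.14.8.2 s.14.14.8.1) s.14.14.9 (R.mk s.14.14.10.2 s.14.14.10.1) s.14.14.11 s.14.14.12 s.14.14.13 s.14.14.14 s.14.14.15 (R.mk s.14.14.16.2 s.14.14.16.1))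
  (@T16.mk R s.15.1.1 s.15.1.2 (R.mk s.15.1.3.2 s.15.1.3.1) s.15.1.4 s.15.1.5 (R.mk s.15.1.6.2 s.15.1.6.1) (R.mk s.15.1.7.2 s.15.1.7.1) (R.mk s.15.1.8.2 s.15.1.8.1) (R.mk s.15.1.9.2 s.15.1.9.1) s.15.1.10 (R.mk s.15.1.11.2 s.15.1.11.1) (R.mk s.15.1.12.2 s.15.1.12.1) (R.mk s.15.1.13.2 s.15.1.13.1) (R.mk s.15.1.14.2 s.15.1.14.1) (R.mk s.15.1.15.2 s.15.1.15.1) s.15.1.16)
 )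
 (@T16.mk (T16 R)
  (@T16.mk R s.14.16.1 s.14.16.2 (R.mk s.14.16.3.2 s.14.16.3.1) s.14.16.4 s.14.16.5 (R.mk s.14.16.6.2 s.14.16.6.1) (R.mk s.14.16.7.2 s.14.16.7.1) (R.mk s.14.16.8.2 s.14.16.8.1) (R.mk s.14.16.9.2 s.14.16.9.1) s.14.16.10 (R.mk s.14.16.11.2 s.14.16.11.1) (R.mk s.14.16.12.2 s.14.16.12.1) (R.mk s.14.16.13.2 s.14.16.13.1) (R.mk s.14.16.14.2 s.14.16.14.1) (R.mk s.14.16.15.2 s.14.16.15.1) s.14.16.16)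
  (@T16.mk R (R.mk s.15.3.1.2 s.15.3.1.1) (R.mk s.15.3.2.2 s.15.3.2.1) s.15.3.3 (R.mk s.15.3.4.2 s.15.3.4.1) (R.mk s.15.3.5.2 s.15.3.5.1) s.15.3.6 s.15.3.7 s.15.3.8 (R.mk s.15.3.9.2 s.15.3.9.1) s.15.3.10 (R.mk s.15.3.11.2 s.15.3.11.1) (R.mk s.15.3.12.2 s.15.3.12.1) (R.mk s.15.3.13.2 s.15.3.13.1) (R.mk s.15.3.14.2 s.15.3.14.1) (R.mk s.15.3.15.2 s.15.3.15.1) s.15.3.16)
  (@T16.mk R (R.mk s.15.2.1.2 s.15.2.1.1) (R.mk s.15.2.2.2 s.15.2.2.1) s.15.2.3 (R.mk s.15.2.4.2 s.15.2.4.1) (R.mk s.15.2.5.2 s.15.2.5.1) s.15.2.6 s.15.2.7 s.15.2.8 (R.mk s.15.2.9.2 s.15.2.9.1) s.15.2.10 (R.mk s.15.2.11.2 s.15.2.11.1) (R.mk s.15.2.12.2 s.15.2.12.1) (R.mk s.15.2.13.2 s.15.2.13.1) (R.mk s.15.2.14.2 s.15.2.14.1) (R.mk s.15.2.15.2 s.15.2.15.1) s.15.2.16)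
  (@T16.mk R (R.mk s.15.5.1.2 s.15.5.1.1) (R.mk s.15.5.2.2 s.15.5.2.1) s.15.5.3 (R.mk s.15.5.4.2 s.15.5.4.1) (R.mk s.15.5.5.2 s.15.5.5.1) s.15.5.6 s.15.5.7 s.15.5.8 s.15.5.9 (R.mk s.15.5.10.2 s.15.5.10.1) s.15.5.11 s.15.5.12 s.15.5.13 s.15.5.14 s.15.5.15 (R.mk s.15.5.16.2 s.15.5.16.1))
  (@T16.mk R (R.mk s.15.4.1.2 s.15.4.1.1) (R.mk s.15.4.2.2 s.15.4.2.1) s.15.4.3 (R.mk s.15.4.4.2 s.15.4.4.1) (R.mk s.15.4.5.2 s.15.4.5.1) s.15.4.6 s.15.4.7 s.15.4.8 s.15.4.9 (R.mk s.15.4.10.2 s.15.4.10.1) s.15.4.11 s.15.4.12 s.15.4.13 s.15.4.14 s.15.4.15 (R.mk s.15.4.16.2 s.15.4.16.1))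
  (@T16.mk R s.15.7.1 s.15.7.2 s.15.7.3 (R.mk s.15.7.4.2 s.15.7.4.1) (R.mk s.15.7.5.2 s.15.7.5.1) s.15.7.6 (R.mk s.15.7.7.2 s.15.7.7.1) (R.mk s.15.7.8.2 s.15.7.8.1) s.15.7.9 (R.mk s.15.7.10.2 s.15.7.10.1) (R.mk s.15.7.11.2 s.15.7.11.1) (R.mk s.15.7.12.2 s.15.7.12.1) (R.mk s.15.7.13.2 s.15.7.13.1) (R.mk s.15.7.14.2 s.15.7.14.1) s.15.7.15 (R.mk s.15.7.16.2 s.15.7.16.1))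
  (@T16.mk R s.15.6.1 s.15.6.2 s.15.6.3 (R.mk s.15.6.4.2 s.15.6.4.1) (R.mk s.15.6.5.2 s.15.6.5.1) s.15.6.6 (R.mk s.15.6.7.2 s.15.6.7.1) (R.mk s.15.6.8.2 s.15.6.8.1) s.15.6.9 (R.mk s.15.6.10.2 s.15.6.10.1) (R.mk s.15.6.11.2 s.15.6.11.1) (R.mk s.15.6.12.2 s.15.6.12.1) (R.mk s.15.6.13.2 s.15.6.13.1) (R.mk s.15.6.14.2 s.15.6.14.1) s.15.6.15 (R.mk s.15.6.16.2 s.15.6.16.1))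
  (@T16.mk R s.15.9.1 s.15.9.2 s.15.9.3 (R.mk s.15.9.4.2 s.15.9.4.1) (R.mk s.15.9.5.2 s.15.9.5.1) s.15.9.6 (R.mk s.15.9.7.2 s.15.9.7.1) (R.mk s.15.9.8.2 s.15.9.8.1) (R.mk s.15.9.9.2 s.15.9.9.1) s.15.9.10 s.15.9.11 s.15.9.12 s.15.9.13 s.15.9.14 (R.mk s.15.9.15.2 s.15.9.15.1) s.15.9.16)
  (@T16.mk R s.15.8.1 s.15.8.2 s.15.8.3 (R.mk s.15.8.4.2 s.15.8.4.1) (R.mk s.15.8.5.2 s.15.8.5.1) s.15.8.6 (R.mk s.15.8.7.2 s.15.8.7.1) (R.mk s.15.8.8.2 s.15.8.8.1) (R.mk s.15.8.9.2 s.15.8.9.1) s.15.8.10 s.15.8.11 s.15.8.12 s.15.8.13 s.15.8.14 (R.mk s.15.8.15.2 s.15.8.15.1) s.15.8.16)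
  (@T16.mk R (R.mk s.15.11.1.2 s.15.11.1.1) (R.mk s.15.11.2.2 s.15.11.2.1) (R.mk s.15.11.3.2 s.15.11.3.1) s.15.11.4 s.15.11.5 (R.mk s.15.11.6.2 s.15.11.6.1) s.15.11.7 s.15.11.8 (R.mk s.15.11.9.2 s.15.11.9.1) s.15.11.10 s.15.11.11 s.15.11.12 s.15.11.13 s.15.11.14 (R.mk s.15.11.15.2 s.15.11.15.1) s.15.11.16)
  (@T16.mk R (R.mk s.15.10.1.2 s.15.10.1.1) (R.mk s.15.10.2.2 s.15.10.2.1) (R.mk s.15.10.3.2 s.15.10.3.1) s.15.10.4 s.15.10.5 (R.mk s.15.10.6.2 s.15.10.6.1) s.15.10.7 s.15.10.8 (R.mk s.15.10.9.2 s.15.10.9.1) s.15.10.10 s.15.10.11 s.15.10.12 s.15.10.13 s.15.10.14 (R.mk s.15.10.15.2 s.15.10.15.1) s.15.10.16)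
  (@T16.mk R (R.mk s.15.13.1.2 s.15.13.1.1) (R.mk s.15.13.2.2 s.15.13.2.1) (R.mk s.15.13.3.2 s.15.13.3.1) s.15.13.4 s.15.13.5 (R.mk s.15.13.6.2 s.15.13.6.1) s.15.13.7 s.15.13.8 s.15.13.9 (R.mk s.15.13.10.2 s.15.13.10.1) (R.mk s.15.13.11.2 s.15.13.11.1) (R.mk s.15.13.12.2 s.15.13.12.1) (R.mk s.15.13.13.2 s.15.13.13.1) (R.mk s.15.13.14.2 s.15.13.14.1) s.15.13.15 (R.mk s.15.13.16.2 s.15.13.16.1))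
  (@T16.mk R (R.mk s.15.12.1.2 s.15.12.1.1) (R.mk s.15.12.2.2 s.15.12.2.1) (R.mk s.15.12.3.2 s.15.12.3.1) s.15.12.4 s.15.12.5 (R.mk s.15.12.6.2 s.15.12.6.1) s.15.12.7 s.15.12.8 s.15.12.9 (R.mk s.15.12.10.2 s.15.12.10.1) (R.mk s.15.12.11.2 s.15.12.11.1) (R.mk s.15.12.12.2 s.15.12.12.1) (R.mk s.15.12.13.2 s.15.12.13.1) (R.mk s.15.12.14.2 s.15.12.14.1) s.15.12.15 (R.mk s.15.12.16.2 s.15.12.16.1))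
  (@T16.mk R s.15.15.1 s.15.15.2 s.15.15.3 (R.mk s.15.15.4.2 s.15.15.4.1) (R.mk s.15.15.5.2 s.15.15.5.1) s.15.15.6 (R.mk s.15.15.7.2 s.15.15.7.1) (R.mk s.15.15.8.2 s.15.15.8.1) s.15.15.9 (R.mk s.15.15.10.2 s.15.15.10.1) (R.mk s.15.15.11.2 s.15.15.11.1) (R.mk s.15.15.12.2 s.15.15.12.1) (R.mk s.15.15.13.2 s.15.15.13.1) (R.mk s.15.15.14.2 s.15.15.14.1) s.15.15.15 (R.mk s.15.15.16.2 s.15.15.16.1))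
  (@T16.mk R s.15.14.1 s.15.14.2 s.15.14.3 (R.mk s.15.14.4.2 s.15.14.4.1) (R.mk s.15.14.5.2 s.15.14.5.1) s.15.14.6 (R.mk s.15.14.7.2 s.15.14.7.1) (R.mk s.15.14.8.2 s.15.14.8.1) s.15.14.9 (R.mk s.15.14.10.2 s.15.14.10.1) (R.mk s.15.14.11.2 s.15.14.11.1) (R.mk s.15.14.12.2 s.15.14.12.1) (R.mk s.15.14.13.2 s.15.14.13.1) (R.mk s.15.14.14.2 s.15.14.14.1) s.15.14.15 (R.mk s.15.14.16.2 s.15.14.16.1))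
  (@T16.mk R (R.mk s.16.1.1.2 s.16.1.1.1) (R.mk s.16.1.2.2 s.16.1.2.1) (R.mk s.16.1.3.2 s.16.1.3.1) s.16.1.4 s.16.1.5 (R.mk s.16.1.6.2 s.16.1.6.1) s.16.1.7 s.16.1.8 s.16.1.9 (R.mk s.16.1.10.2 s.16.1.10.1) (R.mk s.16.1.11.2 s.16.1.11.1) (R.mk s.16.1.12.2 s.16.1.12.1) (R.mk s.16.1.13.2 s.16.1.13.1) (R.mk s.16.1.14.2 s.16.1.14.1) s.16.1.15 (R.mk s.16.1.16.2 s.16.1.16.1))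
 )
 (@T16.mk (T16 R)
  (@T16.mk R (R.mk s.15.16.1.2 s.15.16.1.1) (R.mk s.15.16.2.2 s.15.16.2.1) (R.mk s.15.16.3.2 s.15.16.3.1) s.15.16.4 s.15.16.5 (R.mk s.15.16.6.2 s.15.16.6.1) s.15.16.7 s.15.16.8 s.15.16.9 (R.mk s.15.16.10.2 s.15.16.10.1) (R.mk s.15.16.11.2 s.15.16.11.1) (R.mk s.15.16.12.2 s.15.16.12.1) (R.mk s.15.16.13.2 s.15.16.13.1) (R.mk s.15.16.14.2 s.15.16.14.1) s.15.16.15 (R.mk s.15.16.16.2 s.15.16.16.1))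
  (@T16.mk R s.16.3.1 s.16.3.2 s.16.3.3 (R.mk s.16.3.4.2 s.16.3.4.1) (R.mk s.16.3.5.2 s.16.3.5.1) s.16.3.6 (R.mk s.16.3.7.2 s.16.3.7.1) (R.mk s.16.3.8.2 s.16.3.8.1) s.16.3.9 (R.mk s.16.3.10.2 s.16.3.10.1) (R.mk s.16.3.11.2 s.16.3.11.1) (R.mk s.16.3.12.2 s.16.3.12.1) (R.mk s.16.3.13.2 s.16.3.13.1) (R.mk s.16.3.14.2 s.16.3.14.1) s.16.3.15 (R.mk s.16.3.16.2 s.16.3.16.1))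
  (@T16.mk R s.16.2.1 s.16.2.2 s.16.2.3 (R.mk s.16.2.4.2 s.16.2.4.1) (R.mk s.16.2.5.2 s.16.2.5.1) s.16.2.6 (R.mk s.16.2.7.2 s.16.2.7.1) (R.mk s.16.2.8.2 s.16.2.8.1) s.16.2.9 (R.mk s.16.2.10.2 s.16.2.10.1) (R.mk s.16.2.11.2 s.16.2.11.1) (R.mk s.16.2.12.2 s.16.2.12.1) (R.mk s.16.2.13.2 s.16.2.13.1) (R.mk s.16.2.14.2 s.16.2.14.1) s.16.2.15 (R.mk s.16.2.16.2 s.16.2.16.1))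
  (@T16.mk R (R.mk s.16.5.1.2 s.16.5.1.1) (R.mk s.16.5.2.2 s.16.5.2.1) (R.mk s.16.5.3.2 s.16.5.3.1) s.16.5.4 s.16.5.5 (R.mk s.16.5.6.2 s.16.5.6.1) s.16.5.7 s.16.5.8 s.16.5.9 (R.mk s.16.5.10.2 s.16.5.10.1) (R.mk s.16.5.11.2 s.16.5.11.1) (R.mk s.16.5.12.2 s.16.5.12.1) (R.mk s.16.5.13.2 s.16.5.13.1) (R.mk s.16.5.14.2 s.16.5.14.1) s.16.5.15 (R.mk s.16.5.16.2 s.16.5.16.1))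
  (@T16.mk R (R.mk s.16.4.1.2 s.16.4.1.1) (R.mk s.16.4.2.2 s.16.4.2.1) (R.mk s.16.4.3.2 s.16.4.3.1) s.16.4.4 s.16.4.5 (R.mk s.16.4.6.2 s.16.4.6.1) s.16.4.7 s.16.4.8 s.16.4.9 (R.mk s.16.4.10.2 s.16.4.10.1) (R.mk s.16.4.11.2 s.16.4.11.1) (R.mk s.16.4.12.2 s.16.4.12.1) (R.mk s.16.4.13.2 s.16.4.13.1) (R.mk s.16.4.14.2 s.16.4.14.1) s.16.4.15 (R.mk s.16.4.16.2 s.16.4.16.1))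
  (@T16.mk R s.16.7.1 s.16.7.2 (R.mk s.16.7.3.2 s.16.7.3.1) s.16.7.4 s.16.7.5 (R.mk s.16.7.6.2 s.16.7.6.1) (R.mk s.16.7.7.2 s.16.7.7.1) (R.mk s.16.7.8.2 s.16.7.8.1) s.16.7.9 (R.mk s.16.7.10.2 s.16.7.10.1) s.16.7.11 s.16.7.12 s.16.7.13 s.16.7.14 s.16.7.15 (R.mk s.16.7.16.2 s.16.7.16.1))
  (@T16.mk R s.16.6.1 s.16.6.2 (R.mk s.16.6.3.2 s.16.6.3.1) s.16.6.4 s.16.6.5 (R.mk s.16.6.6.2 s.16.6.6.1) (R.mk s.16.6.7.2 s.16.6.7.1) (R.mk s.16.6.8.2 s.16.6.8.1) s.16.6.9 (R.mk s.16.6.10.2 s.16.6.10.1) s.16.6.11 s.16.6.12 s.16.6.13 s.16.6.14 s.16.6.15 (R.mk s.16.6.16.2 s.16.6.16.1))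
  (@T16.mk R (R.mk s.16.9.1.2 s.16.9.1.1) (R.mk s.16.9.2.2 s.16.9.2.1) s.16.9.3 (R.mk s.16.9.4.2 s.16.9.4.1) (R.mk s.16.9.5.2 s.16.9.5.1) s.16.9.6 s.16.9.7 s.16.9.8 s.16.9.9 (R.mk s.16.9.10.2 s.16.9.10.1) s.16.9.11 s.16.9.12 s.16.9.13 s.16.9.14 s.16.9.15 (R.mk s.16.9.16.2 s.16.9.16.1))
  (@T16.mk R (R.mk s.16.8.1.2 s.16.8.1.1) (R.mk s.16.8.2.2 s.16.8.2.1) s.16.8.3 (R.mk s.16.8.4.2 s.16.8.4.1) (R.mk s.16.8.5.2 s.16.8.5.1) s.16.8.6 s.16.8.7 s.16.8.8 s.16.8.9 (R.mk s.16.8.10.2 s.16.8.10.1) s.16.8.11 s.16.8.12 s.16.8.13 s.16.8.14 s.16.8.15 (R.mk s.16.8.16.2 s.16.8.16.1))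
  (@T16.mk R s.16.11.1 s.16.11.2 (R.mk s.16.11.3.2 s.16.11.3.1) s.16.11.4 s.16.11.5 (R.mk s.16.11.6.2 s.16.11.6.1) (R.mk s.16.11.7.2 s.16.11.7.1) (R.mk s.16.11.8.2 s.16.11.8.1) s.16.11.9 (R.mk s.16.11.10.2 s.16.11.10.1) s.16.11.11 s.16.11.12 s.16.11.13 s.16.11.14 s.16.11.15 (R.mk s.16.11.16.2 s.16.11.16.1))
  (@T16.mk R s.16.10.1 s.16.10.2 (R.mk s.16.10.3.2 s.16.10.3.1) s.16.10.4 s.16.10.5 (R.mk s.16.10.6.2 s.16.10.6.1) (R.mk s.16.10.7.2 s.16.10.7.1) (R.mk s.16.10.8.2 s.16.10.8.1) s.16.10.9 (R.mk s.16.10.10.2 s.16.10.10.1) s.16.10.11 s.16.10.12 s.16.10.13 s.16.10.14 s.16.10.15 (R.mk s.16.10.16.2 s.16.10.16.1))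
  (@T16.mk R (R.mk s.16.13.1.2 s.16.13.1.1) (R.mk s.16.13.2.2 s.16.13.2.1) s.16.13.3 (R.mk s.16.13.4.2 s.16.13.4.1) (R.mk s.16.13.5.2 s.16.13.5.1) s.16.13.6 s.16.13.7 s.16.13.8 s.16.13.9 (R.mk s.16.13.10.2 s.16.13.10.1) s.16.13.11 s.16.13.12 s.16.13.13 s.16.13.14 s.16.13.15 (R.mk s.16.13.16.2 s.16.13.16.1))
  (@T16.mk R (R.mk s.16.12.1.2 s.16.12.1.1) (R.mk s.16.12.2.2 s.16.12.2.1) s.16.12.3 (R.mk s.16.12.4.2 s.16.12.4.1) (R.mk s.16.12.5.2 s.16.12.5.1) s.16.12.6 s.16.12.7 s.16.12.8 s.16.12.9 (R.mk s.16.12.10.2 s.16.12.10.1) s.16.12.11 s.16.12.12 s.16.12.13 s.16.12.14 s.16.12.15 (R.mk s.16.12.16.2 s.16.12.16.1))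
  (@T16.mk R (R.mk s.16.15.1.2 s.16.15.1.1) s.16.15.2 s.16.15.3 s.16.15.4 s.16.15.5 s.16.15.6 (R.mk s.16.15.7.2 s.16.15.7.1) s.16.15.8 (R.mk s.16.15.9.2 s.16.15.9.1) (R.mk s.16.15.10.2 s.16.15.10.1) (R.mk s.16.15.11.2 s.16.15.11.1) s.16.15.12 s.16.15.13 (R.mk s.16.15.14.2 s.16.15.14.1) s.16.15.15 s.16.15.16)
  (@T16.mk R (R.mk s.16.14.1.2 s.16.14.1.1) s.16.14.2 s.16.14.3 s.16.14.4 s.16.14.5 s.16.14.6 (R.mk s.16.14.7.2 s.16.14.7.1) s.16.14.8 (R.mk s.16.14.9.2 s.16.14.9.1) (R.mk s.16.14.10.2 s.16.14.10.1) (R.mk s.16.14.11.2 s.16.14.11.1) s.16.14.12 s.16.14.13 (R.mk s.16.14.14.2 s.16.14.14.1) s.16.14.15 s.16.14.16)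
  (@T16.mk R s.17.1.1 (R.mk s.17.1.2.2 s.17.1.2.1) (R.mk s.17.1.3.2 s.17.1.3.1) (R.mk s.17.1.4.2 s.17.1.4.1) (R.mk s.17.1.5.2 s.17.1.5.1) (R.mk s.17.1.6.2 s.17.1.6.1) s.17.1.7 (R.mk s.17.1.8.2 s.17.1.8.1) (R.mk s.17.1.9.2 s.17.1.9.1) (R.mk s.17.1.10.2 s.17.1.10.1) (R.mk s.17.1.11.2 s.17.1.11.1) s.17.1.12 s.17.1.13 (R.mk s.17.1.14.2 s.17.1.14.1) s.17.1.15 s.17.1.16)
 )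
 (@T16.mk (T16 R)
  (@T16.mk R s.16.16.1 (R.mk s.16.16.2.2 s.16.16.2.1) (R.mk s.16.16.3.2 s.16.16.3.1) (R.mk s.16.16.4.2 s.16.16.4.1) (R.mk s.16.16.5.2 s.16.16.5.1) (R.mk s.16.16.6.2 s.16.16.6.1) s.16.16.7 (R.mk s.16.16.8.2 s.16.16.8.1) (R.mk s.16.16.9.2 s.16.16.9.1) (R.mk s.16.16.10.2 s.16.16.10.1) (R.mk s.16.16.11.2 s.16.16.11.1) s.16.16.12 s.16.16.13 (R.mk s.16.16.14.2 s.16.16.14.1) s.16.16.15 s.16.16.16)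
  (@T16.mk R s.17.3.1 (R.mk s.17.3.2.2 s.17.3.2.1) (R.mk s.17.3.3.2 s.17.3.3.1) (R.mk s.17.3.4.2 s.17.3.4.1) (R.mk s.17.3.5.2 s.17.3.5.1) (R.mk s.17.3.6.2 s.17.3.6.1) s.17.3.7 (R.mk s.17.3.8.2 s.17.3.8.1) s.17.3.9 s.17.3.10 s.17.3.11 (R.mk s.17.3.12.2 s.17.3.12.1) (R.mk s.17.3.13.2 s.17.3.13.1) s.17.3.14 (R.mk s.17.3.15.2 s.17.3.15.1) (R.mk s.17.3.16.2 s.17.3.16.1))
  (@T16.mk R s.17.2.1 (R.mk s.17.2.2.2 s.17.2.2.1) (R.mk s.17.2.3.2 s.17.2.3.1) (R.mk s.17.2.4.2 s.17.2.4.1) (R.mk s.17.2.5.2 s.17.2.5.1) (R.mk s.17.2.6.2 s.17.2.6.1) s.17.2.7 (R.mk s.17.2.8.2 s.17.2.8.1) s.17.2.9 s.17.2.10 s.17.2.11 (R.mk s.17.2.12.2 s.17.2.12.1) (R.mk s.17.2.13.2 s.17.2.13.1) s.17.2.14 (R.mk s.17.2.15.2 s.17.2.15.1) (R.mk s.17.2.16.2 s.17.2.16.1))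
  (@T16.mk R (R.mk s.17.5.1.2 s.17.5.1.1) s.17.5.2 s.17.5.3 s.17.5.4 s.17.5.5 s.17.5.6 (R.mk s.17.5.7.2 s.17.5.7.1) s.17.5.8 s.17.5.9 s.17.5.10 s.17.5.11 (R.mk s.17.5.12.2 s.17.5.12.1) (R.mk s.17.5.13.2 s.17.5.13.1) s.17.5.14 (R.mk s.17.5.15.2 s.17.5.15.1) (R.mk s.17.5.16.2 s.17.5.16.1))
  (@T16.mk R (R.mk s.17.4.1.2 s.17.4.1.1) s.17.4.2 s.17.4.3 s.17.4.4 s.17.4.5 s.17.4.6 (R.mk s.17.4.7.2 s.17.4.7.1) s.17.4.8 s.17.4.9 s.17.4.10 s.17.4.11 (R.mk s.17.4.12.2 s.17.4.12.1) (R.mk s.17.4.13.2 s.17.4.13.1) s.17.4.14 (R.mk s.17.4.15.2 s.17.4.15.1) (R.mk s.17.4.16.2 s.17.4.16.1))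
  (@T16.mk R (R.mk s.17.7.1.2 s.17.7.1.1) s.17.7.2 (R.mk s.17.7.3.2 s.17.7.3.1) (R.mk s.17.7.4.2 s.17.7.4.1) (R.mk s.17.7.5.2 s.17.7.5.1) (R.mk s.17.7.6.2 s.17.7.6.1) (R.mk s.17.7.7.2 s.17.7.7.1) s.17.7.8 (R.mk s.17.7.9.2 s.17.7.9.1) (R.mk s.17.7.10.2 s.17.7.10.1) s.17.7.11 (R.mk s.17.7.12.2 s.17.7.12.1) (R.mk s.17.7.13.2 s.17.7.13.1) s.17.7.14 s.17.7.15 s.17.7.16)
  (@T16.mk R (R.mk s.17.6.1.2 s.17.6.1.1) s.17.6.2 (R.mk s.17.6.3.2 s.17.6.3.1) (R.mk s.17.6.4.2 s.17.6.4.1) (R.mk s.17.6.5.2 s.17.6.5.1) (R.mk s.17.6.6.2 s.17.6.6.1) (R.mk s.17.6.7.2 s.17.6.7.1) s.17.6.8 (R.mk s.17.6.9.2 s.17.6.9.1) (R.mk s.17.6.10.2 s.17.6.10.1) s.17.6.11 (R.mk s.17.6.12.2 s.17.6.12.1) (R.mk s.17.6.13.2 s.17.6.13.1) s.17.6.14 s.17.6.15 s.17.6.16)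
  (@T16.mk R s.17.9.1 (R.mk s.17.9.2.2 s.17.9.2.1) s.17.9.3 s.17.9.4 s.17.9.5 s.17.9.6 s.17.9.7 (R.mk s.17.9.8.2 s.17.9.8.1) (R.mk s.17.9.9.2 s.17.9.9.1) (R.mk s.17.9.10.2 s.17.9.10.1) s.17.9.11 (R.mk s.17.9.12.2 s.17.9.12.1) (R.mk s.17.9.13.2 s.17.9.13.1) s.17.9.14 s.17.9.15 s.17.9.16)
  (@T16.mk R s.17.8.1 (R.mk s.17.8.2.2 s.17.8.2.1) s.17.8.3 s.17.8.4 s.17.8.5 s.17.8.6 s.17.8.7 (R.mk s.17.8.8.2 s.17.8.8.1) (R.mk s.17.8.9.2 s.17.8.9.1) (R.mk s.17.8.10.2 s.17.8.10.1) s.17.8.11 (R.mk s.17.8.12.2 s.17.8.12.1) (R.mk s.17.8.13.2 s.17.8.13.1) s.17.8.14 s.17.8.15 s.17.8.16)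
  (@T16.mk R s.17.11.1 (R.mk s.17.11.2.2 s.17.11.2.1) s.17.11.3 s.17.11.4 s.17.11.5 s.17.11.6 s.17.11.7 (R.mk s.17.11.8.2 s.17.11.8.1) s.17.11.9 s.17.11.10 (R.mk s.17.11.11.2 s.17.11.11.1) s.17.11.12 s.17.11.13 (R.mk s.17.11.14.2 s.17.11.14.1) (R.mk s.17.11.15.2 s.17.11.15.1) (R.mk s.17.11.16.2 s.17.11.16.1))
  (@T16.mk R s.17.10.1 (R.mk s.17.10.2.2 s.17.10.2.1) s.17.10.3 s.17.10.4 s.17.10.5 s.17.10.6 s.17.10.7 (R.mk s.17.10.8.2 s.17.10.8.1) s.17.10.9 s.17.10.10 (R.mk s.17.10.11.2 s.17.10.11.1) s.17.10.12 s.17.10.13 (R.mk s.17.10.14.2 s.17.10.14.1) (R.mk s.17.10.15.2 s.17.10.15.1) (R.mk s.17.10.16.2 s.17.10.16.1))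
  (@T16.mk R (R.mk s.17.13.1.2 s.17.13.1.1) s.17.13.2 (R.mk s.17.13.3.2 s.17.13.3.1) (R.mk s.17.13.4.2 s.17.13.4.1) (R.mk s.17.13.5.2 s.17.13.5.1) (R.mk s.17.13.6.2 s.17.13.6.1) (R.mk s.17.13.7.2 s.17.13.7.1) s.17.13.8 s.17.13.9 s.17.13.10 (R.mk s.17.13.11.2 s.17.13.11.1) s.17.13.12 s.17.13.13 (R.mk s.17.13.14.2 s.17.13.14.1) (R.mk s.17.13.15.2 s.17.13.15.1) (R.mk s.17.13.16.2 s.17.13.16.1))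
  (@T16.mk R (R.mk s.17.12.1.2 s.17.12.1.1) s.17.12.2 (R.mk s.17.12.3.2 s.17.12.3.1) (R.mk s.17.12.4.2 s.17.12.4.1) (R.mk s.17.12.5.2 s.17.12.5.1) (R.mk s.17.12.6.2 s.17.12.6.1) (R.mk s.17.12.7.2 s.17.12.7.1) s.17.12.8 s.17.12.9 s.17.12.10 (R.mk s.17.12.11.2 s.17.12.11.1) s.17.12.12 s.17.12.13 (R.mk s.17.12.14.2 s.17.12.14.1) (R.mk s.17.12.15.2 s.17.12.15.1) (R.mk s.17.12.16.2 s.17.12.16.1))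
  (@T16.mk R s.17.14.1 s.17.14.2 s.17.14.3 s.17.14.4 (R.mk s.17.14.5.2 s.17.14.5.1) s.17.14.6 s.17.14.7 s.17.14.8 s.17.14.9 s.17.14.10 s.17.14.11 s.17.14.12 (R.mk s.17.14.13.2 s.17.14.13.1) (R.mk s.17.14.14.2 s.17.14.14.1) s.17.14.15 s.17.14.16)
  (@T16.mk R (R.mk s.17.15.1.2 s.17.15.1.1) (R.mk s.17.15.2.2 s.17.15.2.1) s.17.15.3 (R.mk s.17.15.4.2 s.17.15.4.1) (R.mk s.17.15.5.2 s.17.15.5.1) s.17.15.6 (R.mk s.17.15.7.2 s.17.15.7.1) s.17.15.8 s.17.15.9 s.17.15.10 (R.mk s.18.1.1.2 s.18.1.1.1) s.17.15.12 s.17.15.13 s.17.15.14 s.17.15.15 s.17.15.16)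
  (@T16.mk R s.17.16.1 s.17.16.2 (R.mk s.18.1.9.2 s.18.1.9.1) (R.mk s.18.1.10.2 s.18.1.10.1) s.17.16.5 s.17.16.6 (R.mk s.18.1.13.2 s.18.1.13.1) (R.mk s.18.1.14.2 s.18.1.14.1) s.17.16.9 (R.mk s.18.1.16.2 s.18.1.16.1) (R.mk s.18.2.1.2 s.18.2.1.1) s.17.16.12 (R.mk s.18.2.3.2 s.18.2.3.1) s.17.16.14 s.17.16.15 s.17.16.16)
 )
 (@T16.mk (T16 R)
  (@T16.mk R (R.mk s.17.15.11.2 s.17.15.11.1) s.18.1.2 s.18.1.3 s.18.1.4 s.18.1.5 s.18.1.6 s.18.1.7 s.18.1.8 (R.mk s.17.16.3.2 s.17.16.3.1) (R.mk s.17.16.4.2 s.17.16.4.1) s.18.1.11 s.18.1.12 (R.mk s.17.16.7.2 s.17.16.7.1) (R.mk s.17.16.8.2 s.17.16.8.1) s.18.1.15 (R.mk s.17.16.10.2 s.17.16.10.1))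
  (@T16.mk R (R.mk s.17.16.11.2 s.17.16.11.1) s.18.2.2 (R.mk s.17.16.13.2 s.17.16.13.1) s.18.2.4 s.18.2.5 s.18.2.6 s.18.2.7 s.18.2.8 s.18.2.9 s.18.2.10 s.18.2.11 s.18.2.12 s.18.2.13 s.18.2.14 s.18.2.15 s.18.2.16)
  (@T16.mk R s.18.3.1 s.18.3.2 s.18.3.3 s.18.3.4 s.18.3.5 s.18.3.6 s.18.3.7 s.18.3.8 s.18.3.9 s.18.3.10 s.18.3.11 s.18.3.12 s.18.3.13 s.18.3.14 s.18.3.15 s.18.3.16)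
  (@T16.mk R s.18.4.1 s.18.4.2 s.18.4.3 s.18.4.4 s.18.4.5 s.18.4.6 s.18.4.7 s.18.4.8 s.18.4.9 s.18.4.10 s.18.4.11 s.18.4.12 s.18.4.13 s.18.4.14 s.18.4.15 s.18.4.16)
  (@T16.mk R s.18.5.1 s.18.5.2 s.18.5.3 s.18.5.4 s.18.5.5 s.18.5.6 s.18.5.7 s.18.5.8 s.18.5.9 s.18.5.10 s.18.5.11 s.18.5.12 s.18.5.13 s.18.5.14 s.18.5.15 s.18.5.16)
  (@T16.mk R s.18.6.1 s.18.6.2 s.18.6.3 s.18.6.4 s.18.6.5 s.18.6.6 s.18.6.7 s.18.6.8 s.18.6.9 s.18.6.10 s.18.6.11 s.18.6.12 s.18.6.13 s.18.6.14 s.18.6.15 s.18.6.16)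
  (@T16.mk R s.18.7.1 s.18.7.2 s.18.7.3 s.18.7.4 s.18.7.5 s.18.7.6 s.18.7.7 s.18.7.8 s.18.7.9 s.18.7.10 s.18.7.11 s.18.7.12 s.18.7.13 s.18.7.14 s.18.7.15 s.18.7.16)
  (@T16.mk R s.18.8.1 s.18.8.2 s.18.8.3 s.18.8.4 s.18.8.5 s.18.8.6 s.18.8.7 s.18.8.8 s.18.8.9 s.18.8.10 s.18.8.11 s.18.8.12 s.18.8.13 s.18.8.14 s.18.8.15 s.18.8.16)
  (@T16.mk R s.18.9.1 s.18.9.2 s.18.9.3 s.18.9.4 s.18.9.5 s.18.9.6 s.18.9.7 s.18.9.8 s.18.9.9 s.18.9.10 s.18.9.11 s.18.9.12 s.18.9.13 s.18.9.14 s.18.9.15 s.18.9.16)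
  (@T16.mk R s.18.10.1 s.18.10.2 s.18.10.3 s.18.10.4 s.18.10.5 s.18.10.6 s.18.10.7 s.18.10.8 s.18.10.9 s.18.10.10 s.18.10.11 s.18.10.12 s.18.10.13 s.18.10.14 s.18.10.15 s.18.10.16)
  (@T16.mk R s.18.11.1 s.18.11.2 s.18.11.3 s.18.11.4 s.18.11.5 s.18.11.6 s.18.11.7 s.18.11.8 s.18.11.9 s.18.11.10 s.18.11.11 s.18.11.12 s.18.11.13 s.18.11.14 s.18.11.15 s.18.11.16)
  (@T16.mk R s.18.12.1 s.18.12.2 s.18.12.3 s.18.12.4 s.18.12.5 s.18.12.6 s.18.12.7 s.18.12.8 s.18.12.9 s.18.12.10 s.18.12.11 s.18.12.12 s.18.12.13 s.18.12.14 s.18.12.15 s.18.12.16)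
  (@T16.mk R s.18.13.1 s.18.13.2 s.18.13.3 s.18.13.4 s.18.13.5 s.18.13.6 s.18.13.7 s.18.13.8 s.18.13.9 s.18.13.10 s.18.13.11 s.18.13.12 s.18.13.13 s.18.13.14 s.18.13.15 s.18.13.16)
  (@T16.mk R s.18.14.1 s.18.14.2 s.18.14.3 s.18.14.4 s.18.14.5 s.18.14.6 s.18.14.7 s.18.14.8 s.18.14.9 s.18.14.10 s.18.14.11 s.18.14.12 s.18.14.13 s.18.14.14 s.18.14.15 s.18.14.16)
  (@T16.mk R s.18.15.1 s.18.15.2 s.18.15.3 s.18.15.4 s.18.15.5 s.18.15.6 s.18.15.7 s.18.15.8 s.18.15.9 s.18.15.10 s.18.15.11 s.18.15.12 s.18.15.13 s.18.15.14 s.18.15.15 s.18.15.16)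
  (@T16.mk R s.18.16.1 s.18.16.2 s.18.16.3 s.18.16.4 s.18.16.5 s.18.16.6 s.18.16.7 s.18.16.8 s.18.16.9 s.18.16.10 s.18.16.11 s.18.16.12 s.18.16.13 s.18.16.14 s.18.16.15 s.18.16.16)
 )
theorem cd26_eq (s : St) : cd26 s = gather tb26 s := by rfl
noncomputable def tb27 : Tab :=
@T18.mk (T16 (T16 E))
 (@T16.mk (T16 E)
  (@T16.mk E (p j0 i0 i0) (n j0 i0 i1) (n j0 i0 i2) (n j0 i0 i3) (n j0 i0 i4) (n j0 i0 i5) (n j0 i0 i6) (p j0 i0 i7) (p j0 i0 i8) (p j0 i0 i9) (p j0 i0 i10) (n j0 i0 i11) (p j0 i0 i12) (n j0 i0 i13) (n j0 i0 i14) (n j0 i0 i15))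
  (@T16.mk E (n j0 i1 i0) (p j0 i1 i1) (n j0 i1 i2) (n j0 i1 i3) (p j0 i1 i4) (p j0 i1 i5) (n j0 i1 i6) (p j0 i1 i7) (p j0 i1 i8) (p j0 i1 i9) (n j0 i1 i10) (p j0 i1 i11) (p j0 i1 i12) (n j0 i1 i13) (p j0 i1 i14) (p j0 i1 i15))
  (@T16.mk E (n j0 i2 i0) (n j0 i2 i1) (p j0 i2 i2) (n j0 i2 i3) (n j0 i2 i4) (p j0 i2 i5) (n j0 i2 i6) (n j0 i2 i7) (p j0 i2 i8) (n j0 i2 i9) (p j0 i2 i10) (p j0 i2 i11) (n j0 i2 i12) (n j0 i2 i13) (p j0 i2 i14) (n j0 i2 i15))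
  (@T16.mk E (n j0 i3 i0) (n j0 i3 i1) (n j0 i3 i2) (p j0 i3 i3) (n j0 i3 i4) (p j0 i3 i5) (p j0 i3 i6) (p j0 i3 i7) (n j0 i3 i8) (p j0 i3 i9) (p j0 i3 i10) (p j0 i3 i11) (p j0 i3 i12) (p j0 i3 i13) (p j0 i3 i14) (n j0 i3 i15))
  (@T16.mk E (p j0 i4 i0) (p j0 i4 i1) (n j0 i4 i2) (p j0 i4 i3) (p j0 i4 i4) (n j0 i4 i5) (p j0 i4 i6) (p j0 i4 i7) (n j0 i4 i8) (p j0 i4 i9) (n j0 i4 i10) (n j0 i4 i11) (p j0 i4 i12) (p j0 i4 i13) (n j0 i4 i14) (p j0 i4 i15))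
  (@T16.mk E (n j0 i5 i0) (n j0 i5 i1) (n j0 i5 i2) (p j0 i5 i3) (n j0 i5 i4) (p j0 i5 i5) (p j0 i5 i6) (p j0 i5 i7) (n j0 i5 i8) (p j0 i5 i9) (p j0 i5 i10) (p j0 i5 i11) (p j0 i5 i12) (p j0 i5 i13) (p j0 i5 i14) (n j0 i5 i15))
  (@T16.mk E (n j0 i6 i0) (p j0 i6 i1) (p j0 i6 i2) (p j0 i6 i3) (p j0 i6 i4) (p j0 i6 i5) (p j0 i6 i6) (n j0 i6 i7) (n j0 i6 i8) (n j0 i6 i9) (n j0 i6 i10) (p j0 i6 i11) (n j0 i6 i12) (p j0 i6 i13) (p j0 i6 i14) (p j0 i6 i15))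
  (@T16.mk E (n j0 i7 i0) (p j0 i7 i1) (n j0 i7 i2) (n j0 i7 i3) (p j0 i7 i4) (p j0 i7 i5) (n j0 i7 i6) (p j0 i7 i7) (p j0 i7 i8) (p j0 i7 i9) (n j0 i7 i10) (p j0 i7 i11) (p j0 i7 i12) (n j0 i7 i13) (p j0 i7 i14) (p j0 i7 i15))
  (@T16.mk E (n j0 i8 i0) (p j0 i8 i1) (n j0 i8 i2) (n j0 i8 i3) (p j0 i8 i4) (p j0 i8 i5) (n j0 i8 i6) (p j0 i8 i7) (p j0 i8 i8) (p j0 i8 i9) (n j0 i8 i10) (p j0 i8 i11) (p j0 i8 i12) (n j0 i8 i13) (p j0 i8 i14) (p j0 i8 i15))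
  (@T16.mk E (p j0 i9 i0) (n j0 i9 i1) (n j0 i9 i2) (n j0 i9 i3) (n j0 i9 i4) (n j0 i9 i5) (n j0 i9 i6) (p j0 i9 i7) (p j0 i9 i8) (p j0 i9 i9) (p j0 i9 i10) (n j0 i9 i11) (p j0 i9 i12) (n j0 i9 i13) (n j0 i9 i14) (n j0 i9 i15))
  (@T16.mk E (n j0 i10 i0) (n j0 i10 i1) (n j0 i10 i2) (p j0 i10 i3) (n j0 i10 i4) (p j0 i10 i5) (p j0 i10 i6) (p j0 i10 i7) (n j0 i10 i8) (p j0 i10 i9) (p j0 i10 i10) (p j0 i10 i11) (p j0 i10 i12) (p j0 i10 i13) (p j0 i10 i14) (n j0 i10 i15))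
  (@T16.mk E (n j0 i11 i0) (n j0 i11 i1) (p j0 i11 i2) (n j0 i11 i3) (n j0 i11 i4) (p j0 i11 i5) (n j0 i11 i6) (n j0 i11 i7) (p j0 i11 i8) (n j0 i11 i9) (p j0 i11 i10) (p j0 i11 i11) (n j0 i11 i12) (n j0 i11 i13) (p j0 i11 i14) (n j0 i11 i15))
  (@T16.mk E (n j0 i12 i0) (n j0 i12 i1) (n j0 i12 i2) (p j0 i12 i3) (n j0 i12 i4) (p j0 i12 i5) (p j0 i12 i6) (p j0 i12 i7) (n j0 i12 i8) (p j0 i12 i9) (p j0 i12 i10) (p j0 i12 i11) (p j0 i12 i12) (p j0 i12 i13) (p j0 i12 i14) (n j0 i12 i15))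
  (@T16.mk E (p j0 i13 i0) (p j0 i13 i1) (n j0 i13 i2) (p j0 i13 i3) (p j0 i13 i4) (n j0 i13 i5) (p j0 i13 i6) (p j0 i13 i7) (n j0 i13 i8) (p j0 i13 i9) (n j0 i13 i10) (n j0 i13 i11) (p j0 i13 i12) (p j0 i13 i13) (n j0 i13 i14) (p j0 i13 i15))
  (@T16.mk E (n j0 i14 i0) (p j0 i14 i1) (n j0 i14 i2) (n j0 i14 i3) (p j0 i14 i4) (p j0 i14 i5) (n j0 i14 i6) (p j0 i14 i7) (p j0 i14 i8) (p j0 i14 i9) (n j0 i14 i10) (p j0 i14 i11) (p j0 i14 i12) (n j0 i14 i13) (p j0 i14 i14) (p j0 i14 i15))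
  (@T16.mk E (n j0 i15 i0) (p j0 i15 i1) (p j0 i15 i2) (p j0 i15 i3) (p j0 i15 i4) (p j0 i15 i5) (p j0 i15 i6) (n j0 i15 i7) (n j0 i15 i8) (n j0 i15 i9) (n j0 i15 i10) (p j0 i15 i11) (n j0 i15 i12) (p j0 i15 i13) (p j0 i15 i14) (p j0 i15 i15))
 )
 (@T16.mk (T16 E)
  (@T16.mk E (n j1 i0 i0) (n j1 i0 i1) (n j1 i0 i2) (p j1 i0 i3) (n j1 i0 i4) (p j1 i0 i5) (p j1 i0 i6) (p j1 i0 i7) (n j1 i0 i8) (p j1 i0 i9) (p j1 i0 i10) (p j1 i0 i11) (p j1 i0 i12) (p j1 i0 i13) (p j1 i0 i14) (n j1 i0 i15))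
  (@T16.mk E (n j1 i1 i0) (n j1 i1 i1) (p j1 i1 i2) (n j1 i1 i3) (n j1 i1 i4) (p j1 i1 i5) (n j1 i1 i6) (n j1 i1 i7) (p j1 i1 i8) (n j1 i1 i9) (p j1 i1 i10) (p j1 i1 i11) (n j1 i1 i12) (n j1 i1 i13) (p j1 i1 i14) (n j1 i1 i15))
  (@T16.mk E (n j1 i2 i0) (p j1 i2 i1) (n j1 i2 i2) (n j1 i2 i3) (p j1 i2 i4) (p j1 i2 i5) (n j1 i2 i6) (p j1 i2 i7) (p j1 i2 i8) (p j1 i2 i9) (n j1 i2 i10) (p j1 i2 i11) (p j1 i2 i12) (n j1 i2 i13) (p j1 i2 i14) (p j1 i2 i15))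
  (@T16.mk E (p j1 i3 i0) (n j1 i3 i1) (n j1 i3 i2) (n j1 i3 i3) (n j1 i3 i4) (n j1 i3 i5) (n j1 i3 i6) (p j1 i3 i7) (p j1 i3 i8) (p j1 i3 i9) (p j1 i3 i10) (n j1 i3 i11) (p j1 i3 i12) (n j1 i3 i13) (n j1 i3 i14) (n j1 i3 i15))
  (@T16.mk E (n j1 i4 i0) (p j1 i4 i1) (n j1 i4 i2) (n j1 i4 i3) (p j1 i4 i4) (p j1 i4 i5) (n j1 i4 i6) (p j1 i4 i7) (p j1 i4 i8) (p j1 i4 i9) (n j1 i4 i10) (p j1 i4 i11) (p j1 i4 i12) (n j1 i4 i13) (p j1 i4 i14) (p j1 i4 i15))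
  (@T16.mk E (n j1 i5 i0) (p j1 i5 i1) (p j1 i5 i2) (p j1 i5 i3) (p j1 i5 i4) (p j1 i5 i5) (p j1 i5 i6) (n j1 i5 i7) (n j1 i5 i8) (n j1 i5 i9) (n j1 i5 i10) (p j1 i5 i11) (n j1 i5 i12) (p j1 i5 i13) (p j1 i5 i14) (p j1 i5 i15))
  (@T16.mk E (n j1 i6 i0) (n j1 i6 i1) (n j1 i6 i2) (p j1 i6 i3) (n j1 i6 i4) (p j1 i6 i5) (p j1 i6 i6) (p j1 i6 i7) (n j1 i6 i8) (p j1 i6 i9) (p j1 i6 i10) (p j1 i6 i11) (p j1 i6 i12) (p j1 i6 i13) (p j1 i6 i14) (n j1 i6 i15))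
  (@T16.mk E (p j1 i7 i0) (p j1 i7 i1) (n j1 i7 i2) (p j1 i7 i3) (p j1 i7 i4) (n j1 i7 i5) (p j1 i7 i6) (p j1 i7 i7) (n j1 i7 i8) (p j1 i7 i9) (n j1 i7 i10) (n j1 i7 i11) (p j1 i7 i12) (p j1 i7 i13) (n j1 i7 i14) (p j1 i7 i15))
  (@T16.mk E (n j1 i8 i0) (n j1 i8 i1) (p j1 i8 i2) (n j1 i8 i3) (n j1 i8 i4) (p j1 i8 i5) (n j1 i8 i6) (n j1 i8 i7) (p j1 i8 i8) (n j1 i8 i9) (p j1 i8 i10) (p j1 i8 i11) (n j1 i8 i12) (n j1 i8 i13) (p j1 i8 i14) (n j1 i8 i15))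
  (@T16.mk E (n j1 i9 i0) (n j1 i9 i1) (n j1 i9 i2) (p j1 i9 i3) (n j1 i9 i4) (p j1 i9 i5) (p j1 i9 i6) (p j1 i9 i7) (n j1 i9 i8) (p j1 i9 i9) (p j1 i9 i10) (p j1 i9 i11) (p j1 i9 i12) (p j1 i9 i13) (p j1 i9 i14) (n j1 i9 i15))
  (@T16.mk E (p j1 i10 i0) (n j1 i10 i1) (n j1 i10 i2) (n j1 i10 i3) (n j1 i10 i4) (n j1 i10 i5) (n j1 i10 i6) (p j1 i10 i7) (p j1 i10 i8) (p j1 i10 i9) (p j1 i10 i10) (n j1 i10 i11) (p j1 i10 i12) (n j1 i10 i13) (n j1 i10 i14) (n j1 i10 i15))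
  (@T16.mk E (n j1 i11 i0) (p j1 i11 i1) (n j1 i11 i2) (n j1 i11 i3) (p j1 i11 i4) (p j1 i11 i5) (n j1 i11 i6) (p j1 i11 i7) (p j1 i11 i8) (p j1 i11 i9) (n j1 i11 i10) (p j1 i11 i11) (p j1 i11 i12) (n j1 i11 i13) (p j1 i11 i14) (p j1 i11 i15))
  (@T16.mk E (n j1 i12 i0) (p j1 i12 i1) (p j1 i12 i2) (p j1 i12 i3) (p j1 i12 i4) (p j1 i12 i5) (p j1 i12 i6) (n j1 i12 i7) (n j1 i12 i8) (n j1 i12 i9) (n j1 i12 i10) (p j1 i12 i11) (n j1 i12 i12) (p j1 i12 i13) (p j1 i12 i14) (p j1 i12 i15))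
  (@T16.mk E (n j1 i13 i0) (p j1 i13 i1) (n j1 i13 i2) (n j1 i13 i3) (p j1 i13 i4) (p j1 i13 i5) (n j1 i13 i6) (p j1 i13 i7) (p j1 i13 i8) (p j1 i13 i9) (n j1 i13 i10) (p j1 i13 i11) (p j1 i13 i12) (n j1 i13 i13) (p j1 i13 i14) (p j1 i13 i15))
  (@T16.mk E (p j1 i14 i0) (p j1 i14 i1) (n j1 i14 i2) (p j1 i14 i3) (p j1 i14 i4) (n j1 i14 i5) (p j1 i14 i6) (p j1 i14 i7) (n j1 i14 i8) (p j1 i14 i9) (n j1 i14 i10) (n j1 i14 i11) (p j1 i14 i12) (p j1 i14 i13) (n j1 i14 i14) (p j1 i14 i15))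
  (@T16.mk E (n j1 i15 i0) (n j1 i15 i1) (n j1 i15 i2) (p j1 i15 i3) (n j1 i15 i4) (p j1 i15 i5) (p j1 i15 i6) (p j1 i15 i7) (n j1 i15 i8) (p j1 i15 i9) (p j1 i15 i10) (p j1 i15 i11) (p j1 i15 i12) (p j1 i15 i13) (p j1 i15 i14) (n j1 i15 i15))
 )
 (@T16.mk (T16 E)
  (@T16.mk E (p j2 i0 i0) (p j2 i0 i1) (p j2 i0 i2) (n j2 i0 i3) (n j2 i0 i4) (p j2 i0 i5) (p j2 i0 i6) (p j2 i0 i7) (n j2 i0 i8) (p j2 i0 i9) (p j2 i0 i10) (p j2 i0 i11) (n j2 i0 i12) (n j2 i0 i13) (n j2 i0 i14) (p j2 i0 i15))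
  (@T16.mk E (p j2 i1 i0) (p j2 i1 i1) (n j2 i1 i2) (p j2 i1 i3) (n j2 i1 i4) (p j2 i1 i5) (n j2 i1 i6) (n j2 i1 i7) (p j2 i1 i8) (n j2 i1 i9) (p j2 i1 i10) (p j2 i1 i11) (p j2 i1 i12) (p j2 i1 i13) (n j2 i1 i14) (p j2 i1 i15))
  (@T16.mk E (p j2 i2 i0) (n j2 i2 i1) (p j2 i2 i2) (p j2 i2 i3) (p j2 i2 i4) (p j2 i2 i5) (n j2 i2 i6) (p j2 i2 i7) (p j2 i2 i8) (p j2 i2 i9) (n j2 i2 i10) (p j2 i2 i11) (n j2 i2 i12) (p j2 i2 i13) (n j2 i2 i14) (n j2 i2 i15))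
  (@T16.mk E (n j2 i3 i0) (p j2 i3 i1) (p j2 i3 i2) (p j2 i3 i3) (n j2 i3 i4) (n j2 i3 i5) (n j2 i3 i6) (p j2 i3 i7) (p j2 i3 i8) (p j2 i3 i9) (p j2 i3 i10) (n j2 i3 i11) (n j2 i3 i12) (p j2 i3 i13) (p j2 i3 i14) (p j2 i3 i15))
  (@T16.mk E (n j2 i4 i0) (p j2 i4 i1) (n j2 i4 i2) (n j2 i4 i3) (n j2 i4 i4) (n j2 i4 i5) (p j2 i4 i6) (n j2 i4 i7) (n j2 i4 i8) (n j2 i4 i9) (p j2 i4 i10) (n j2 i4 i11) (p j2 i4 i12) (n j2 i4 i13) (p j2 i4 i14) (p j2 i4 i15))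
  (@T16.mk E (n j2 i5 i0) (p j2 i5 i1) (p j2 i5 i2) (p j2 i5 i3) (n j2 i5 i4) (n j2 i5 i5) (n j2 i5 i6) (p j2 i5 i7) (p j2 i5 i8) (p j2 i5 i9) (p j2 i5 i10) (n j2 i5 i11) (n j2 i5 i12) (p j2 i5 i13) (p j2 i5 i14) (p j2 i5 i15))
  (@T16.mk E (n j2 i6 i0) (n j2 i6 i1) (n j2 i6 i2) (p j2 i6 i3) (p j2 i6 i4) (n j2 i6 i5) (n j2 i6 i6) (n j2 i6 i7) (p j2 i6 i8) (n j2 i6 i9) (n j2 i6 i10) (n j2 i6 i11) (p j2 i6 i12) (p j2 i6 i13) (p j2 i6 i14) (n j2 i6 i15))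
  (@T16.mk E (p j2 i7 i0) (p j2 i7 i1) (n j2 i7 i2) (p j2 i7 i3) (n j2 i7 i4) (p j2 i7 i5) (n j2 i7 i6) (n j2 i7 i7) (p j2 i7 i8) (n j2 i7 i9) (p j2 i7 i10) (p j2 i7 i11) (p j2 i7 i12) (p j2 i7 i13) (n j2 i7 i14) (p j2 i7 i15))
  (@T16.mk E (p j2 i8 i0) (p j2 i8 i1) (n j2 i8 i2) (p j2 i8 i3) (n j2 i8 i4) (p j2 i8 i5) (n j2 i8 i6) (n j2 i8 i7) (p j2 i8 i8) (n j2 i8 i9) (p j2 i8 i10) (p j2 i8 i11) (p j2 i8 i12) (p j2 i8 i13) (n j2 i8 i14) (p j2 i8 i15))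
  (@T16.mk E (p j2 i9 i0) (p j2 i9 i1) (p j2 i9 i2) (n j2 i9 i3) (n j2 i9 i4) (p j2 i9 i5) (p j2 i9 i6) (p j2 i9 i7) (n j2 i9 i8) (p j2 i9 i9) (p j2 i9 i10) (p j2 i9 i11) (n j2 i9 i12) (n j2 i9 i13) (n j2 i9 i14) (p j2 i9 i15))
  (@T16.mk E (n j2 i10 i0) (p j2 i10 i1) (p j2 i10 i2) (p j2 i10 i3) (n j2 i10 i4) (n j2 i10 i5) (n j2 i10 i6) (p j2 i10 i7) (p j2 i10 i8) (p j2 i10 i9) (p j2 i10 i10) (n j2 i10 i11) (n j2 i10 i12) (p j2 i10 i13) (p j2 i10 i14) (p j2 i10 i15))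
  (@T16.mk E (p j2 i11 i0) (n j2 i11 i1) (p j2 i11 i2) (p j2 i11 i3) (p j2 i11 i4) (p j2 i11 i5) (n j2 i11 i6) (p j2 i11 i7) (p j2 i11 i8) (p j2 i11 i9) (n j2 i11 i10) (p j2 i11 i11) (n j2 i11 i12) (p j2 i11 i13) (n j2 i11 i14) (n j2 i11 i15))
  (@T16.mk E (n j2 i12 i0) (p j2 i12 i1) (p j2 i12 i2) (p j2 i12 i3) (n j2 i12 i4) (n j2 i12 i5) (n j2 i12 i6) (p j2 i12 i7) (p j2 i12 i8) (p j2 i12 i9) (p j2 i12 i10) (n j2 i12 i11) (n j2 i12 i12) (p j2 i12 i13) (p j2 i12 i14) (p j2 i12 i15))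
  (@T16.mk E (n j2 i13 i0) (p j2 i13 i1) (n j2 i13 i2) (n j2 i13 i3) (n j2 i13 i4) (n j2 i13 i5) (p j2 i13 i6) (n j2 i13 i7) (n j2 i13 i8) (n j2 i13 i9) (p j2 i13 i10) (n j2 i13 i11) (p j2 i13 i12) (n j2 i13 i13) (p j2 i13 i14) (p j2 i13 i15))
  (@T16.mk E (p j2 i14 i0) (p j2 i14 i1) (n j2 i14 i2) (p j2 i14 i3) (n j2 i14 i4) (p j2 i14 i5) (n j2 i14 i6) (n j2 i14 i7) (p j2 i14 i8) (n j2 i14 i9) (p j2 i14 i10) (p j2 i14 i11) (p j2 i14 i12) (p j2 i14 i13) (n j2 i14 i14) (p j2 i14 i15))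
  (@T16.mk E (n j2 i15 i0) (n j2 i15 i1) (n j2 i15 i2) (p j2 i15 i3) (p j2 i15 i4) (n j2 i15 i5) (n j2 i15 i6) (n j2 i15 i7) (p j2 i15 i8) (n j2 i15 i9) (n j2 i15 i10) (n j2 i15 i11) (p j2 i15 i12) (p j2 i15 i13) (p j2 i15 i14) (n j2 i15 i15))
 )
 (@T16.mk (T16 E)
  (@T16.mk E (n j3 i0 i0) (p j3 i0 i1) (p j3 i0 i2) (p j3 i0 i3) (n j3 i0 i4) (n j3 i0 i5) (n j3 i0 i6) (p j3 i0 i7) (p j3 i0 i8) (p j3 i0 i9) (p j3 i0 i10) (n j3 i0 i11) (n j3 i0 i12) (p j3 i0 i13) (p j3 i0 i14) (p j3 i0 i15))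
  (@T16.mk E (p j3 i1 i0) (n j3 i1 i1) (p j3 i1 i2) (p j3 i1 i3) (p j3 i1 i4) (p j3 i1 i5) (n j3 i1 i6) (p j3 i1 i7) (p j3 i1 i8) (p j3 i1 i9) (n j3 i1 i10) (p j3 i1 i11) (n j3 i1 i12) (p j3 i1 i13) (n j3 i1 i14) (n j3 i1 i15))
  (@T16.mk E (p j3 i2 i0) (p j3 i2 i1) (n j3 i2 i2) (p j3 i2 i3) (n j3 i2 i4) (p j3 i2 i5) (n j3 i2 i6) (n j3 i2 i7) (p j3 i2 i8) (n j3 i2 i9) (p j3 i2 i10) (p j3 i2 i11) (p j3 i2 i12) (p j3 i2 i13) (n j3 i2 i14) (p j3 i2 i15))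
  (@T16.mk E (p j3 i3 i0) (p j3 i3 i1) (p j3 i3 i2) (n j3 i3 i3) (n j3 i3 i4) (p j3 i3 i5) (p j3 i3 i6) (p j3 i3 i7) (n j3 i3 i8) (p j3 i3 i9) (p j3 i3 i10) (p j3 i3 i11) (n j3 i3 i12) (n j3 i3 i13) (n j3 i3 i14) (p j3 i3 i15))
  (@T16.mk E (p j3 i4 i0) (p j3 i4 i1) (n j3 i4 i2) (p j3 i4 i3) (n j3 i4 i4) (p j3 i4 i5) (n j3 i4 i6) (n j3 i4 i7) (p j3 i4 i8) (n j3 i4 i9) (p j3 i4 i10) (p j3 i4 i11) (p j3 i4 i12) (p j3 i4 i13) (n j3 i4 i14) (p j3 i4 i15))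
  (@T16.mk E (n j3 i5 i0) (n j3 i5 i1) (n j3 i5 i2) (p j3 i5 i3) (p j3 i5 i4) (n j3 i5 i5) (n j3 i5 i6) (n j3 i5 i7) (p j3 i5 i8) (n j3 i5 i9) (n j3 i5 i10) (n j3 i5 i11) (p j3 i5 i12) (p j3 i5 i13) (p j3 i5 i14) (n j3 i5 i15))
  (@T16.mk E (n j3 i6 i0) (p j3 i6 i1) (p j3 i6 i2) (p j3 i6 i3) (n j3 i6 i4) (n j3 i6 i5) (n j3 i6 i6) (p j3 i6 i7) (p j3 i6 i8) (p j3 i6 i9) (p j3 i6 i10) (n j3 i6 i11) (n j3 i6 i12) (p j3 i6 i13) (p j3 i6 i14) (p j3 i6 i15))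
  (@T16.mk E (n j3 i7 i0) (p j3 i7 i1) (n j3 i7 i2) (n j3 i7 i3) (n j3 i7 i4) (n j3 i7 i5) (p j3 i7 i6) (n j3 i7 i7) (n j3 i7 i8) (n j3 i7 i9) (p j3 i7 i10) (n j3 i7 i11) (p j3 i7 i12) (n j3 i7 i13) (p j3 i7 i14) (p j3 i7 i15))
  (@T16.mk E (p j3 i8 i0) (n j3 i8 i1) (p j3 i8 i2) (p j3 i8 i3) (p j3 i8 i4) (p j3 i8 i5) (n j3 i8 i6) (p j3 i8 i7) (p j3 i8 i8) (p j3 i8 i9) (n j3 i8 i10) (p j3 i8 i11) (n j3 i8 i12) (p j3 i8 i13) (n j3 i8 i14) (n j3 i8 i15))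
  (@T16.mk E (n j3 i9 i0) (p j3 i9 i1) (p j3 i9 i2) (p j3 i9 i3) (n j3 i9 i4) (n j3 i9 i5) (n j3 i9 i6) (p j3 i9 i7) (p j3 i9 i8) (p j3 i9 i9) (p j3 i9 i10) (n j3 i9 i11) (n j3 i9 i12) (p j3 i9 i13) (p j3 i9 i14) (p j3 i9 i15))
  (@T16.mk E (p j3 i10 i0) (p j3 i10 i1) (p j3 i10 i2) (n j3 i10 i3) (n j3 i10 i4) (p j3 i10 i5) (p j3 i10 i6) (p j3 i10 i7) (n j3 i10 i8) (p j3 i10 i9) (p j3 i10 i10) (p j3 i10 i11) (n j3 i10 i12) (n j3 i10 i13) (n j3 i10 i14) (p j3 i10 i15))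
  (@T16.mk E (p j3 i11 i0) (p j3 i11 i1) (n j3 i11 i2) (p j3 i11 i3) (n j3 i11 i4) (p j3 i11 i5) (n j3 i11 i6) (n j3 i11 i7) (p j3 i11 i8) (n j3 i11 i9) (p j3 i11 i10) (p j3 i11 i11) (p j3 i11 i12) (p j3 i11 i13) (n j3 i11 i14) (p j3 i11 i15))
  (@T16.mk E (n j3 i12 i0) (n j3 i12 i1) (n j3 i12 i2) (p j3 i12 i3) (p j3 i12 i4) (n j3 i12 i5) (n j3 i12 i6) (n j3 i12 i7) (p j3 i12 i8) (n j3 i12 i9) (n j3 i12 i10) (n j3 i12 i11) (p j3 i12 i12) (p j3 i12 i13) (p j3 i12 i14) (n j3 i12 i15))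
  (@T16.mk E (p j3 i13 i0) (p j3 i13 i1) (n j3 i13 i2) (p j3 i13 i3) (n j3 i13 i4) (p j3 i13 i5) (n j3 i13 i6) (n j3 i13 i7) (p j3 i13 i8) (n j3 i13 i9) (p j3 i13 i10) (p j3 i13 i11) (p j3 i13 i12) (p j3 i13 i13) (n j3 i13 i14) (p j3 i13 i15))
  (@T16.mk E (n j3 i14 i0) (p j3 i14 i1) (n j3 i14 i2) (n j3 i14 i3) (n j3 i14 i4) (n j3 i14 i5) (p j3 i14 i6) (n j3 i14 i7) (n j3 i14 i8) (n j3 i14 i9) (p j3 i14 i10) (n j3 i14 i11) (p j3 i14 i12) (n j3 i14 i13) (p j3 i14 i14) (p j3 i14 i15))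
  (@T16.mk E (n j3 i15 i0) (p j3 i15 i1) (p j3 i15 i2) (p j3 i15 i3) (n j3 i15 i4) (n j3 i15 i5) (n j3 i15 i6) (p j3 i15 i7) (p j3 i15 i8) (p j3 i15 i9) (p j3 i15 i10) (n j3 i15 i11) (n j3 i15 i12) (p j3 i15 i13) (p j3 i15 i14) (p j3 i15 i15))
 )
 (@T16.mk (T16 E)
  (@T16.mk E (p j7 i7 i6) (p j7 i7 i7) (n j7 i7 i4) (p j7 i7 i5) (p j7 i7 i2) (n j7 i7 i3) (p j7 i7 i0) (p j7 i7 i1) (p j7 i7 i14) (n j7 i7 i15) (p j7 i7 i12) (p j7 i7 i13) (n j7 i7 i10) (n j7 i7 i11) (p j7 i7 i8) (n j7 i7 i9))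
  (@T16.mk E (n j7 i6 i6) (n j7 i6 i7) (n j7 i6 i4) (p j7 i6 i5) (n j7 i6 i2) (p j7 i6 i3) (p j7 i6 i0) (p j7 i6 i1) (p j7 i6 i14) (n j7 i6 i15) (n j7 i6 i12) (n j7 i6 i13) (n j7 i6 i10) (n j7 i6 i11) (n j7 i6 i8) (p j7 i6 i9))
  (@T16.mk E (n j7 i5 i6) (p j7 i5 i7) (p j7 i5 i4) (p j7 i5 i5) (p j7 i5 i2) (p j7 i5 i3) (p j7 i5 i0) (n j7 i5 i1) (p j7 i5 i14) (p j7 i5 i15) (p j7 i5 i12) (n j7 i5 i13) (p j7 i5 i10) (n j7 i5 i11) (n j7 i5 i8) (n j7 i5 i9))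
  (@T16.mk E (n j7 i4 i6) (p j7 i4 i7) (n j7 i4 i4) (n j7 i4 i5) (p j7 i4 i2) (p j7 i4 i3) (n j7 i4 i0) (p j7 i4 i1) (n j7 i4 i14) (n j7 i4 i15) (p j7 i4 i12) (n j7 i4 i13) (n j7 i4 i10) (p j7 i4 i11) (n j7 i4 i8) (n j7 i4 i9))
  (@T16.mk E (n j7 i3 i6) (p j7 i3 i7) (p j7 i3 i4) (p j7 i3 i5) (p j7 i3 i2) (p j7 i3 i3) (p j7 i3 i0) (n j7 i3 i1) (p j7 i3 i14) (p j7 i3 i15) (p j7 i3 i12) (n j7 i3 i13) (p j7 i3 i10) (n j7 i3 i11) (n j7 i3 i8) (n j7 i3 i9))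
  (@T16.mk E (p j7 i2 i6) (n j7 i2 i7) (p j7 i2 i4) (p j7 i2 i5) (n j7 i2 i2) (n j7 i2 i3) (p j7 i2 i0) (n j7 i2 i1) (p j7 i2 i14) (p j7 i2 i15) (n j7 i2 i12) (p j7 i2 i13) (p j7 i2 i10) (n j7 i2 i11) (p j7 i2 i8) (p j7 i2 i9))
  (@T16.mk E (p j7 i1 i6) (p j7 i1 i7) (n j7 i1 i4) (p j7 i1 i5) (p j7 i1 i2) (n j7 i1 i3) (p j7 i1 i0) (p j7 i1 i1) (p j7 i1 i14) (n j7 i1 i15) (p j7 i1 i12) (p j7 i1 i13) (n j7 i1 i10) (n j7 i1 i11) (p j7 i1 i8) (n j7 i1 i9))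
  (@T16.mk E (n j7 i0 i6) (n j7 i0 i7) (n j7 i0 i4) (p j7 i0 i5) (n j7 i0 i2) (p j7 i0 i3) (p j7 i0 i0) (p j7 i0 i1) (p j7 i0 i14) (n j7 i0 i15) (n j7 i0 i12) (n j7 i0 i13) (n j7 i0 i10) (n j7 i0 i11) (n j7 i0 i8) (p j7 i0 i9))
  (@T16.mk E (p j7 i15 i6) (p j7 i15 i7) (p j7 i15 i4) (n j7 i15 i5) (p j7 i15 i2) (n j7 i15 i3) (n j7 i15 i0) (n j7 i15 i1) (n j7 i15 i14) (p j7 i15 i15) (p j7 i15 i12) (p j7 i15 i13) (p j7 i15 i10) (p j7 i15 i11) (p j7 i15 i8) (n j7 i15 i9))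
  (@T16.mk E (n j7 i14 i6) (n j7 i14 i7) (p j7 i14 i4) (n j7 i14 i5) (n j7 i14 i2) (p j7 i14 i3) (n j7 i14 i0) (n j7 i14 i1) (n j7 i14 i14) (p j7 i14 i15) (n j7 i14 i12) (n j7 i14 i13) (p j7 i14 i10) (p j7 i14 i11) (n j7 i14 i8) (p j7 i14 i9))
  (@T16.mk E (p j7 i13 i6) (n j7 i13 i7) (p j7 i13 i4) (p j7 i13 i5) (n j7 i13 i2) (n j7 i13 i3) (p j7 i13 i0) (n j7 i13 i1) (p j7 i13 i14) (p j7 i13 i15) (n j7 i13 i12) (p j7 i13 i13) (p j7 i13 i10) (n j7 i13 i11) (p j7 i13 i8) (p j7 i13 i9))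
  (@T16.mk E (n j7 i12 i6) (p j7 i12 i7) (p j7 i12 i4) (p j7 i12 i5) (p j7 i12 i2) (p j7 i12 i3) (p j7 i12 i0) (n j7 i12 i1) (p j7 i12 i14) (p j7 i12 i15) (p j7 i12 i12) (n j7 i12 i13) (p j7 i12 i10) (n j7 i12 i11) (n j7 i12 i8) (n j7 i12 i9))
  (@T16.mk E (p j7 i11 i6) (n j7 i11 i7) (p j7 i11 i4) (p j7 i11 i5) (n j7 i11 i2) (n j7 i11 i3) (p j7 i11 i0) (n j7 i11 i1) (p j7 i11 i14) (p j7 i11 i15) (n j7 i11 i12) (p j7 i11 i13) (p j7 i11 i10) (n j7 i11 i11) (p j7 i11 i8) (p j7 i11 i9))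
  (@T16.mk E (n j7 i10 i6) (p j7 i10 i7) (p j7 i10 i4) (p j7 i10 i5) (p j7 i10 i2) (p j7 i10 i3) (p j7 i10 i0) (n j7 i10 i1) (p j7 i10 i14) (p j7 i10 i15) (p j7 i10 i12) (n j7 i10 i13) (p j7 i10 i10) (n j7 i10 i11) (n j7 i10 i8) (n j7 i10 i9))
  (@T16.mk E (p j7 i9 i6) (p j7 i9 i7) (p j7 i9 i4) (n j7 i9 i5) (p j7 i9 i2) (n j7 i9 i3) (n j7 i9 i0) (n j7 i9 i1) (n j7 i9 i14) (p j7 i9 i15) (p j7 i9 i12) (p j7 i9 i13) (p j7 i9 i10) (p j7 i9 i11) (p j7 i9 i8) (n j7 i9 i9))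
  (@T16.mk E (p j7 i8 i6) (p j7 i8 i7) (n j7 i8 i4) (p j7 i8 i5) (p j7 i8 i2) (n j7 i8 i3) (p j7 i8 i0) (p j7 i8 i1) (p j7 i8 i14) (n j7 i8 i15) (p j7 i8 i12) (p j7 i8 i13) (n j7 i8 i10) (n j7 i8 i11) (p j7 i8 i8) (n j7 i8 i9))
 )
 (@T16.mk (T16 E)
  (@T16.mk E (n j6 i7 i6) (p j6 i7 i7) (n j6 i7 i4) (n j6 i7 i5) (p j6 i7 i2) (p j6 i7 i3) (n j6 i7 i0) (p j6 i7 i1) (n j6 i7 i14) (n j6 i7 i15) (p j6 i7 i12) (n j6 i7 i13) (n j6 i7 i10) (p j6 i7 i11) (n j6 i7 i8) (n j6 i7 i9))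
  (@T16.mk E (n j6 i6 i6) (p j6 i6 i7) (p j6 i6 i4) (p j6 i6 i5) (p j6 i6 i2) (p j6 i6 i3) (p j6 i6 i0) (n j6 i6 i1) (p j6 i6 i14) (p j6 i6 i15) (p j6 i6 i12) (n j6 i6 i13) (p j6 i6 i10) (n j6 i6 i11) (n j6 i6 i8) (n j6 i6 i9))
  (@T16.mk E (p j6 i5 i6) (p j6 i5 i7) (p j6 i5 i4) (n j6 i5 i5) (p j6 i5 i2) (n j6 i5 i3) (n j6 i5 i0) (n j6 i5 i1) (n j6 i5 i14) (p j6 i5 i15) (p j6 i5 i12) (p j6 i5 i13) (p j6 i5 i10) (p j6 i5 i11) (p j6 i5 i8) (n j6 i5 i9))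
  (@T16.mk E (p j6 i4 i6) (p j6 i4 i7) (n j6 i4 i4) (p j6 i4 i5) (p j6 i4 i2) (n j6 i4 i3) (p j6 i4 i0) (p j6 i4 i1) (p j6 i4 i14) (n j6 i4 i15) (p j6 i4 i12) (p j6 i4 i13) (n j6 i4 i10) (n j6 i4 i11) (p j6 i4 i8) (n j6 i4 i9))
  (@T16.mk E (n j6 i3 i6) (n j6 i3 i7) (n j6 i3 i4) (p j6 i3 i5) (n j6 i3 i2) (p j6 i3 i3) (p j6 i3 i0) (p j6 i3 i1) (p j6 i3 i14) (n j6 i3 i15) (n j6 i3 i12) (n j6 i3 i13) (n j6 i3 i10) (n j6 i3 i11) (n j6 i3 i8) (p j6 i3 i9))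
  (@T16.mk E (p j6 i2 i6) (p j6 i2 i7) (n j6 i2 i4) (p j6 i2 i5) (p j6 i2 i2) (n j6 i2 i3) (p j6 i2 i0) (p j6 i2 i1) (p j6 i2 i14) (n j6 i2 i15) (p j6 i2 i12) (p j6 i2 i13) (n j6 i2 i10) (n j6 i2 i11) (p j6 i2 i8) (n j6 i2 i9))
  (@T16.mk E (n j6 i1 i6) (p j6 i1 i7) (n j6 i1 i4) (n j6 i1 i5) (p j6 i1 i2) (p j6 i1 i3) (n j6 i1 i0) (p j6 i1 i1) (n j6 i1 i14) (n j6 i1 i15) (p j6 i1 i12) (n j6 i1 i13) (n j6 i1 i10) (p j6 i1 i11) (n j6 i1 i8) (n j6 i1 i9))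
  (@T16.mk E (n j6 i0 i6) (p j6 i0 i7) (p j6 i0 i4) (p j6 i0 i5) (p j6 i0 i2) (p j6 i0 i3) (p j6 i0 i0) (n j6 i0 i1) (p j6 i0 i14) (p j6 i0 i15) (p j6 i0 i12) (n j6 i0 i13) (p j6 i0 i10) (n j6 i0 i11) (n j6 i0 i8) (n j6 i0 i9))
  (@T16.mk E (p j6 i15 i6) (n j6 i15 i7) (n j6 i15 i4) (n j6 i15 i5) (n j6 i15 i2) (n j6 i15 i3) (n j6 i15 i0) (p j6 i15 i1) (n j6 i15 i14) (n j6 i15 i15) (n j6 i15 i12) (p j6 i15 i13) (n j6 i15 i10) (p j6 i15 i11) (p j6 i15 i8) (p j6 i15 i9))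
  (@T16.mk E (n j6 i14 i6) (p j6 i14 i7) (n j6 i14 i4) (n j6 i14 i5) (p j6 i14 i2) (p j6 i14 i3) (n j6 i14 i0) (p j6 i14 i1) (n j6 i14 i14) (n j6 i14 i15) (p j6 i14 i12) (n j6 i14 i13) (n j6 i14 i10) (p j6 i14 i11) (n j6 i14 i8) (n j6 i14 i9))
  (@T16.mk E (p j6 i13 i6) (p j6 i13 i7) (n j6 i13 i4) (p j6 i13 i5) (p j6 i13 i2) (n j6 i13 i3) (p j6 i13 i0) (p j6 i13 i1) (p j6 i13 i14) (n j6 i13 i15) (p j6 i13 i12) (p j6 i13 i13) (n j6 i13 i10) (n j6 i13 i11) (p j6 i13 i8) (n j6 i13 i9))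
  (@T16.mk E (p j6 i12 i6) (p j6 i12 i7) (p j6 i12 i4) (n j6 i12 i5) (p j6 i12 i2) (n j6 i12 i3) (n j6 i12 i0) (n j6 i12 i1) (n j6 i12 i14) (p j6 i12 i15) (p j6 i12 i12) (p j6 i12 i13) (p j6 i12 i10) (p j6 i12 i11) (p j6 i12 i8) (n j6 i12 i9))
  (@T16.mk E (n j6 i11 i6) (n j6 i11 i7) (p j6 i11 i4) (n j6 i11 i5) (n j6 i11 i2) (p j6 i11 i3) (n j6 i11 i0) (n j6 i11 i1) (n j6 i11 i14) (p j6 i11 i15) (n j6 i11 i12) (n j6 i11 i13) (p j6 i11 i10) (p j6 i11 i11) (n j6 i11 i8) (p j6 i11 i9))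
  (@T16.mk E (n j6 i10 i6) (n j6 i10 i7) (n j6 i10 i4) (p j6 i10 i5) (n j6 i10 i2) (p j6 i10 i3) (p j6 i10 i0) (p j6 i10 i1) (p j6 i10 i14) (n j6 i10 i15) (n j6 i10 i12) (n j6 i10 i13) (n j6 i10 i10) (n j6 i10 i11) (n j6 i10 i8) (p j6 i10 i9))
  (@T16.mk E (p j6 i9 i6) (n j6 i9 i7) (n j6 i9 i4) (n j6 i9 i5) (n j6 i9 i2) (n j6 i9 i3) (n j6 i9 i0) (p j6 i9 i1) (n j6 i9 i14) (n j6 i9 i15) (n j6 i9 i12) (p j6 i9 i13) (n j6 i9 i10) (p j6 i9 i11) (p j6 i9 i8) (p j6 i9 i9))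
  (@T16.mk E (p j6 i8 i6) (n j6 i8 i7) (p j6 i8 i4) (p j6 i8 i5) (n j6 i8 i2) (n j6 i8 i3) (p j6 i8 i0) (n j6 i8 i1) (p j6 i8 i14) (p j6 i8 i15) (n j6 i8 i12) (p j6 i8 i13) (p j6 i8 i10) (n j6 i8 i11) (p j6 i8 i8) (p j6 i8 i9))
 )
 (@T16.mk (T16 E)
  (@T16.mk E (p j5 i7 i6) (n j5 i7 i7) (p j5 i7 i4) (p j5 i7 i5) (p j5 i7 i2) (p j5 i7 i3) (n j5 i7 i0) (p j5 i7 i1) (n j5 i7 i14) (n j5 i7 i15) (p j5 i7 i12) (n j5 i7 i13) (p j5 i7 i10) (n j5 i7 i11) (p j5 i7 i8) (p j5 i7 i9))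
  (@T16.mk E (n j5 i6 i6) (p j5 i6 i7) (p j5 i6 i4) (p j5 i6 i5) (n j5 i6 i2) (n j5 i6 i3) (n j5 i6 i0) (p j5 i6 i1) (n j5 i6 i14) (n j5 i6 i15) (n j5 i6 i12) (p j5 i6 i13) (p j5 i6 i10) (n j5 i6 i11) (n j5 i6 i8) (n j5 i6 i9))
  (@T16.mk E (p j5 i5 i6) (p j5 i5 i7) (p j5 i5 i4) (n j5 i5 i5) (n j5 i5 i2) (p j5 i5 i3) (p j5 i5 i0) (p j5 i5 i1) (p j5 i5 i14) (n j5 i5 i15) (n j5 i5 i12) (n j5 i5 i13) (p j5 i5 i10) (p j5 i5 i11) (p j5 i5 i8) (n j5 i5 i9))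
  (@T16.mk E (p j5 i4 i6) (p j5 i4 i7) (n j5 i4 i4) (p j5 i4 i5) (n j5 i4 i2) (p j5 i4 i3) (n j5 i4 i0) (n j5 i4 i1) (n j5 i4 i14) (p j5 i4 i15) (n j5 i4 i12) (n j5 i4 i13) (n j5 i4 i10) (n j5 i4 i11) (p j5 i4 i8) (n j5 i4 i9))
  (@T16.mk E (p j5 i3 i6) (p j5 i3 i7) (p j5 i3 i4) (n j5 i3 i5) (n j5 i3 i2) (p j5 i3 i3) (p j5 i3 i0) (p j5 i3 i1) (p j5 i3 i14) (n j5 i3 i15) (n j5 i3 i12) (n j5 i3 i13) (p j5 i3 i10) (p j5 i3 i11) (p j5 i3 i8) (n j5 i3 i9))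
  (@T16.mk E (n j5 i2 i6) (n j5 i2 i7) (p j5 i2 i4) (n j5 i2 i5) (p j5 i2 i2) (n j5 i2 i3) (p j5 i2 i0) (p j5 i2 i1) (p j5 i2 i14) (n j5 i2 i15) (p j5 i2 i12) (p j5 i2 i13) (p j5 i2 i10) (p j5 i2 i11) (n j5 i2 i8) (p j5 i2 i9))
  (@T16.mk E (p j5 i1 i6) (n j5 i1 i7) (p j5 i1 i4) (p j5 i1 i5) (p j5 i1 i2) (p j5 i1 i3) (n j5 i1 i0) (p j5 i1 i1) (n j5 i1 i14) (n j5 i1 i15) (p j5 i1 i12) (n j5 i1 i13) (p j5 i1 i10) (n j5 i1 i11) (p j5 i1 i8) (p j5 i1 i9))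
  (@T16.mk E (n j5 i0 i6) (p j5 i0 i7) (p j5 i0 i4) (p j5 i0 i5) (n j5 i0 i2) (n j5 i0 i3) (n j5 i0 i0) (p j5 i0 i1) (n j5 i0 i14) (n j5 i0 i15) (n j5 i0 i12) (p j5 i0 i13) (p j5 i0 i10) (n j5 i0 i11) (n j5 i0 i8) (n j5 i0 i9))
  (@T16.mk E (p j5 i15 i6) (n j5 i15 i7) (n j5 i15 i4) (n j5 i15 i5) (p j5 i15 i2) (p j5 i15 i3) (p j5 i15 i0) (n j5 i15 i1) (p j5 i15 i14) (p j5 i15 i15) (p j5 i15 i12) (n j5 i15 i13) (n j5 i15 i10) (p j5 i15 i11) (p j5 i15 i8) (p j5 i15 i9))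
  (@T16.mk E (n j5 i14 i6) (p j5 i14 i7) (n j5 i14 i4) (n j5 i14 i5) (n j5 i14 i2) (n j5 i14 i3) (p j5 i14 i0) (n j5 i14 i1) (p j5 i14 i14) (p j5 i14 i15) (n j5 i14 i12) (p j5 i14 i13) (n j5 i14 i10) (p j5 i14 i11) (n j5 i14 i8) (n j5 i14 i9))
  (@T16.mk E (p j5 i13 i6) (p j5 i13 i7) (n j5 i13 i4) (p j5 i13 i5) (n j5 i13 i2) (p j5 i13 i3) (n j5 i13 i0) (n j5 i13 i1) (n j5 i13 i14) (p j5 i13 i15) (n j5 i13 i12) (n j5 i13 i13) (n j5 i13 i10) (n j5 i13 i11) (p j5 i13 i8) (n j5 i13 i9))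
  (@T16.mk E (n j5 i12 i6) (n j5 i12 i7) (n j5 i12 i4) (p j5 i12 i5) (p j5 i12 i2) (n j5 i12 i3) (n j5 i12 i0) (n j5 i12 i1) (n j5 i12 i14) (p j5 i12 i15) (p j5 i12 i12) (p j5 i12 i13) (n j5 i12 i10) (n j5 i12 i11) (n j5 i12 i8) (p j5 i12 i9))
  (@T16.mk E (n j5 i11 i6) (n j5 i11 i7) (p j5 i11 i4) (n j5 i11 i5) (p j5 i11 i2) (n j5 i11 i3) (p j5 i11 i0) (p j5 i11 i1) (p j5 i11 i14) (n j5 i11 i15) (p j5 i11 i12) (p j5 i11 i13) (p j5 i11 i10) (p j5 i11 i11) (n j5 i11 i8) (p j5 i11 i9))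
  (@T16.mk E (p j5 i10 i6) (p j5 i10 i7) (p j5 i10 i4) (n j5 i10 i5) (n j5 i10 i2) (p j5 i10 i3) (p j5 i10 i0) (p j5 i10 i1) (p j5 i10 i14) (n j5 i10 i15) (n j5 i10 i12) (n j5 i10 i13) (p j5 i10 i10) (p j5 i10 i11) (p j5 i10 i8) (n j5 i10 i9))
  (@T16.mk E (n j5 i9 i6) (p j5 i9 i7) (p j5 i9 i4) (p j5 i9 i5) (n j5 i9 i2) (n j5 i9 i3) (n j5 i9 i0) (p j5 i9 i1) (n j5 i9 i14) (n j5 i9 i15) (n j5 i9 i12) (p j5 i9 i13) (p j5 i9 i10) (n j5 i9 i11) (n j5 i9 i8) (n j5 i9 i9))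
  (@T16.mk E (n j5 i8 i6) (p j5 i8 i7) (n j5 i8 i4) (n j5 i8 i5) (n j5 i8 i2) (n j5 i8 i3) (p j5 i8 i0) (n j5 i8 i1) (p j5 i8 i14) (p j5 i8 i15) (n j5 i8 i12) (p j5 i8 i13) (n j5 i8 i10) (p j5 i8 i11) (n j5 i8 i8) (n j5 i8 i9))
 )
 (@T16.mk (T16 E)
  (@T16.mk E (p j4 i7 i6) (p j4 i7 i7) (n j4 i7 i4) (p j4 i7 i5) (n j4 i7 i2) (p j4 i7 i3) (n j4 i7 i0) (n j4 i7 i1) (n j4 i7 i14) (p j4 i7 i15) (n j4 i7 i12) (n j4 i7 i13) (n j4 i7 i10) (n j4 i7 i11) (p j4 i7 i8) (n j4 i7 i9))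
  (@T16.mk E (p j4 i6 i6) (p j4 i6 i7) (p j4 i6 i4) (n j4 i6 i5) (n j4 i6 i2) (p j4 i6 i3) (p j4 i6 i0) (p j4 i6 i1) (p j4 i6 i14) (n j4 i6 i15) (n j4 i6 i12) (n j4 i6 i13) (p j4 i6 i10) (p j4 i6 i11) (p j4 i6 i8) (n j4 i6 i9))
  (@T16.mk E (p j4 i5 i6) (n j4 i5 i7) (n j4 i5 i4) (n j4 i5 i5) (p j4 i5 i2) (p j4 i5 i3) (p j4 i5 i0) (n j4 i5 i1) (p j4 i5 i14) (p j4 i5 i15) (p j4 i5 i12) (n j4 i5 i13) (n j4 i5 i10) (p j4 i5 i11) (p j4 i5 i8) (p j4 i5 i9))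
  (@T16.mk E (p j4 i4 i6) (n j4 i4 i7) (p j4 i4 i4) (p j4 i4 i5) (p j4 i4 i2) (p j4 i4 i3) (n j4 i4 i0) (p j4 i4 i1) (n j4 i4 i14) (n j4 i4 i15) (p j4 i4 i12) (n j4 i4 i13) (p j4 i4 i10) (n j4 i4 i11) (p j4 i4 i8) (p j4 i4 i9))
  (@T16.mk E (n j4 i3 i6) (p j4 i3 i7) (p j4 i3 i4) (p j4 i3 i5) (n j4 i3 i2) (n j4 i3 i3) (n j4 i3 i0) (p j4 i3 i1) (n j4 i3 i14) (n j4 i3 i15) (n j4 i3 i12) (p j4 i3 i13) (p j4 i3 i10) (n j4 i3 i11) (n j4 i3 i8) (n j4 i3 i9))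
  (@T16.mk E (p j4 i2 i6) (n j4 i2 i7) (p j4 i2 i4) (p j4 i2 i5) (p j4 i2 i2) (p j4 i2 i3) (n j4 i2 i0) (p j4 i2 i1) (n j4 i2 i14) (n j4 i2 i15) (p j4 i2 i12) (n j4 i2 i13) (p j4 i2 i10) (n j4 i2 i11) (p j4 i2 i8) (p j4 i2 i9))
  (@T16.mk E (p j4 i1 i6) (p j4 i1 i7) (n j4 i1 i4) (p j4 i1 i5) (n j4 i1 i2) (p j4 i1 i3) (n j4 i1 i0) (n j4 i1 i1) (n j4 i1 i14) (p j4 i1 i15) (n j4 i1 i12) (n j4 i1 i13) (n j4 i1 i10) (n j4 i1 i11) (p j4 i1 i8) (n j4 i1 i9))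
  (@T16.mk E (p j4 i0 i6) (p j4 i0 i7) (p j4 i0 i4) (n j4 i0 i5) (n j4 i0 i2) (p j4 i0 i3) (p j4 i0 i0) (p j4 i0 i1) (p j4 i0 i14) (n j4 i0 i15) (n j4 i0 i12) (n j4 i0 i13) (p j4 i0 i10) (p j4 i0 i11) (p j4 i0 i8) (n j4 i0 i9))
  (@T16.mk E (p j4 i15 i6) (p j4 i15 i7) (p j4 i15 i4) (n j4 i15 i5) (n j4 i15 i2) (p j4 i15 i3) (p j4 i15 i0) (p j4 i15 i1) (p j4 i15 i14) (n j4 i15 i15) (n j4 i15 i12) (n j4 i15 i13) (p j4 i15 i10) (p j4 i15 i11) (p j4 i15 i8) (n j4 i15 i9))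
  (@T16.mk E (n j4 i14 i6) (n j4 i14 i7) (p j4 i14 i4) (n j4 i14 i5) (p j4 i14 i2) (n j4 i14 i3) (p j4 i14 i0) (p j4 i14 i1) (p j4 i14 i14) (n j4 i14 i15) (p j4 i14 i12) (p j4 i14 i13) (p j4 i14 i10) (p j4 i14 i11) (n j4 i14 i8) (p j4 i14 i9))
  (@T16.mk E (p j4 i13 i6) (n j4 i13 i7) (p j4 i13 i4) (p j4 i13 i5) (p j4 i13 i2) (p j4 i13 i3) (n j4 i13 i0) (p j4 i13 i1) (n j4 i13 i14) (n j4 i13 i15) (p j4 i13 i12) (n j4 i13 i13) (p j4 i13 i10) (n j4 i13 i11) (p j4 i13 i8) (p j4 i13 i9))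
  (@T16.mk E (p j4 i12 i6) (n j4 i12 i7) (n j4 i12 i4) (n j4 i12 i5) (p j4 i12 i2) (p j4 i12 i3) (p j4 i12 i0) (n j4 i12 i1) (p j4 i12 i14) (p j4 i12 i15) (p j4 i12 i12) (n j4 i12 i13) (n j4 i12 i10) (p j4 i12 i11) (p j4 i12 i8) (p j4 i12 i9))
  (@T16.mk E (p j4 i11 i6) (n j4 i11 i7) (p j4 i11 i4) (p j4 i11 i5) (p j4 i11 i2) (p j4 i11 i3) (n j4 i11 i0) (p j4 i11 i1) (n j4 i11 i14) (n j4 i11 i15) (p j4 i11 i12) (n j4 i11 i13) (p j4 i11 i10) (n j4 i11 i11) (p j4 i11 i8) (p j4 i11 i9))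
  (@T16.mk E (p j4 i10 i6) (n j4 i10 i7) (n j4 i10 i4) (n j4 i10 i5) (p j4 i10 i2) (p j4 i10 i3) (p j4 i10 i0) (n j4 i10 i1) (p j4 i10 i14) (p j4 i10 i15) (p j4 i10 i12) (n j4 i10 i13) (n j4 i10 i10) (p j4 i10 i11) (p j4 i10 i8) (p j4 i10 i9))
  (@T16.mk E (n j4 i9 i6) (n j4 i9 i7) (n j4 i9 i4) (p j4 i9 i5) (p j4 i9 i2) (n j4 i9 i3) (n j4 i9 i0) (n j4 i9 i1) (n j4 i9 i14) (p j4 i9 i15) (p j4 i9 i12) (p j4 i9 i13) (n j4 i9 i10) (n j4 i9 i11) (n j4 i9 i8) (p j4 i9 i9))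
  (@T16.mk E (n j4 i8 i6) (n j4 i8 i7) (p j4 i8 i4) (n j4 i8 i5) (p j4 i8 i2) (n j4 i8 i3) (p j4 i8 i0) (p j4 i8 i1) (p j4 i8 i14) (n j4 i8 i15) (p j4 i8 i12) (p j4 i8 i13) (p j4 i8 i10) (p j4 i8 i11) (n j4 i8 i8) (p j4 i8 i9))
 )
 (@T16.mk (T16 E)
  (@T16.mk E (p j8 i0 i11) (p j8 i0 i10) (p j8 i0 i9) (p j8 i0 i8) (p j8 i0 i15) (p j8 i0 i14) (p j8 i0 i13) (p j8 i0 i12) (p j8 i0 i3) (p j8 i0 i2) (p j8 i0 i1) (p j8 i0 i0) (p j8 i0 i7) (p j8 i0 i6) (p j8 i0 i5) (p j8 i0 i4))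
  (@T16.mk E (n j8 i1 i5) (n j8 i1 i4) (n j8 i1 i7) (n j8 i1 i6) (n j8 i1 i1) (n j8 i1 i0) (n j8 i1 i3) (n j8 i1 i2) (n j8 i1 i13) (n j8 i1 i12) (n j8 i1 i15) (n j8 i1 i14) (n j8 i1 i9) (n j8 i1 i8) (n j8 i1 i11) (n j8 i1 i10))
  (@T16.mk E (p j8 i2 i14) (p j8 i2 i15) (p j8 i2 i12) (p j8 i2 i13) (p j8 i2 i10) (p j8 i2 i11) (p j8 i2 i8) (p j8 i2 i9) (p j8 i2 i6) (p j8 i2 i7) (p j8 i2 i4) (p j8 i2 i5) (p j8 i2 i2) (p j8 i2 i3) (p j8 i2 i0) (p j8 i2 i1))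
  (@T16.mk E (n j8 i3 i10) (n j8 i3 i11) (n j8 i3 i8) (n j8 i3 i9) (n j8 i3 i14) (n j8 i3 i15) (n j8 i3 i12) (n j8 i3 i13) (n j8 i3 i2) (n j8 i3 i3) (n j8 i3 i0) (n j8 i3 i1) (n j8 i3 i6) (n j8 i3 i7) (n j8 i3 i4) (n j8 i3 i5))
  (@T16.mk E (p j8 i4 i3) (p j8 i4 i2) (p j8 i4 i1) (p j8 i4 i0) (p j8 i4 i7) (p j8 i4 i6) (p j8 i4 i5) (p j8 i4 i4) (p j8 i4 i11) (p j8 i4 i10) (p j8 i4 i9) (p j8 i4 i8) (p j8 i4 i15) (p j8 i4 i14) (p j8 i4 i13) (p j8 i4 i12))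
  (@T16.mk E (p j8 i5 i7) (p j8 i5 i6) (p j8 i5 i5) (p j8 i5 i4) (p j8 i5 i3) (p j8 i5 i2) (p j8 i5 i1) (p j8 i5 i0) (p j8 i5 i15) (p j8 i5 i14) (p j8 i5 i13) (p j8 i5 i12) (p j8 i5 i11) (p j8 i5 i10) (p j8 i5 i9) (p j8 i5 i8))
  (@T16.mk E (n j8 i6 i12) (n j8 i6 i13) (n j8 i6 i14) (n j8 i6 i15) (n j8 i6 i8) (n j8 i6 i9) (n j8 i6 i10) (n j8 i6 i11) (n j8 i6 i4) (n j8 i6 i5) (n j8 i6 i6) (n j8 i6 i7) (n j8 i6 i0) (n j8 i6 i1) (n j8 i6 i2) (n j8 i6 i3))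
  (@T16.mk E (p j8 i7 i11) (p j8 i7 i10) (p j8 i7 i9) (p j8 i7 i8) (p j8 i7 i15) (p j8 i7 i14) (p j8 i7 i13) (p j8 i7 i12) (p j8 i7 i3) (p j8 i7 i2) (p j8 i7 i1) (p j8 i7 i0) (p j8 i7 i7) (p j8 i7 i6) (p j8 i7 i5) (p j8 i7 i4))
  (@T16.mk E (p j8 i8 i0) (p j8 i8 i1) (p j8 i8 i2) (p j8 i8 i3) (p j8 i8 i4) (p j8 i8 i5) (p j8 i8 i6) (p j8 i8 i7) (p j8 i8 i8) (p j8 i8 i9) (p j8 i8 i10) (p j8 i8 i11) (p j8 i8 i12) (p j8 i8 i13) (p j8 i8 i14) (p j8 i8 i15))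
  (@T16.mk E (p j8 i9 i11) (p j8 i9 i10) (p j8 i9 i9) (p j8 i9 i8) (p j8 i9 i15) (p j8 i9 i14) (p j8 i9 i13) (p j8 i9 i12) (p j8 i9 i3) (p j8 i9 i2) (p j8 i9 i1) (p j8 i9 i0) (p j8 i9 i7) (p j8 i9 i6) (p j8 i9 i5) (p j8 i9 i4))
  (@T16.mk E (p j8 i10 i6) (p j8 i10 i7) (p j8 i10 i4) (p j8 i10 i5) (p j8 i10 i2) (p j8 i10 i3) (p j8 i10 i0) (p j8 i10 i1) (p j8 i10 i14) (p j8 i10 i15) (p j8 i10 i12) (p j8 i10 i13) (p j8 i10 i10) (p j8 i10 i11) (p j8 i10 i8) (p j8 i10 i9))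
  (@T16.mk E (p j8 i11 i0) (p j8 i11 i1) (p j8 i11 i2) (p j8 i11 i3) (p j8 i11 i4) (p j8 i11 i5) (p j8 i11 i6) (p j8 i11 i7) (p j8 i11 i8) (p j8 i11 i9) (p j8 i11 i10) (p j8 i11 i11) (p j8 i11 i12) (p j8 i11 i13) (p j8 i11 i14) (p j8 i11 i15))
  (@T16.mk E (n j8 i12 i10) (n j8 i12 i11) (n j8 i12 i8) (n j8 i12 i9) (n j8 i12 i14) (n j8 i12 i15) (n j8 i12 i12) (n j8 i12 i13) (n j8 i12 i2) (n j8 i12 i3) (n j8 i12 i0) (n j8 i12 i1) (n j8 i12 i6) (n j8 i12 i7) (n j8 i12 i4) (n j8 i12 i5))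
  (@T16.mk E (p j8 i13 i1) (p j8 i13 i0) (p j8 i13 i3) (p j8 i13 i2) (p j8 i13 i5) (p j8 i13 i4) (p j8 i13 i7) (p j8 i13 i6) (p j8 i13 i9) (p j8 i13 i8) (p j8 i13 i11) (p j8 i13 i10) (p j8 i13 i13) (p j8 i13 i12) (p j8 i13 i15) (p j8 i13 i14))
  (@T16.mk E (p j8 i14 i0) (p j8 i14 i1) (p j8 i14 i2) (p j8 i14 i3) (p j8 i14 i4) (p j8 i14 i5) (p j8 i14 i6) (p j8 i14 i7) (p j8 i14 i8) (p j8 i14 i9) (p j8 i14 i10) (p j8 i14 i11) (p j8 i14 i12) (p j8 i14 i13) (p j8 i14 i14) (p j8 i14 i15))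
  (@T16.mk E (p j8 i15 i1) (p j8 i15 i0) (p j8 i15 i3) (p j8 i15 i2) (p j8 i15 i5) (p j8 i15 i4) (p j8 i15 i7) (p j8 i15 i6) (p j8 i15 i9) (p j8 i15 i8) (p j8 i15 i11) (p j8 i15 i10) (p j8 i15 i13) (p j8 i15 i12) (p j8 i15 i15) (p j8 i15 i14))
 )
 (@T16.mk (T16 E)
  (@T16.mk E (p j9 i0 i0) (p j9 i0 i1) (p j9 i0 i2) (p j9 i0 i3) (p j9 i0 i4) (p j9 i0 i5) (p j9 i0 i6) (p j9 i0 i7) (p j9 i0 i8) (p j9 i0 i9) (p j9 i0 i10) (p j9 i0 i11) (p j9 i0 i12) (p j9 i0 i13) (p j9 i0 i14) (p j9 i0 i15))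
  (@T16.mk E (n j9 i1 i15) (n j9 i1 i14) (n j9 i1 i13) (n j9 i1 i12) (n j9 i1 i11) (n j9 i1 i10) (n j9 i1 i9) (n j9 i1 i8) (n j9 i1 i7) (n j9 i1 i6) (n j9 i1 i5) (n j9 i1 i4) (n j9 i1 i3) (n j9 i1 i2) (n j9 i1 i1) (n j9 i1 i0))
  (@T16.mk E (p j9 i2 i15) (p j9 i2 i14) (p j9 i2 i13) (p j9 i2 i12) (p j9 i2 i11) (p j9 i2 i10) (p j9 i2 i9) (p j9 i2 i8) (p j9 i2 i7) (p j9 i2 i6) (p j9 i2 i5) (p j9 i2 i4) (p j9 i2 i3) (p j9 i2 i2) (p j9 i2 i1) (p j9 i2 i0))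
  (@T16.mk E (p j9 i3 i6) (p j9 i3 i7) (p j9 i3 i4) (p j9 i3 i5) (p j9 i3 i2) (p j9 i3 i3) (p j9 i3 i0) (p j9 i3 i1) (p j9 i3 i14) (p j9 i3 i15) (p j9 i3 i12) (p j9 i3 i13) (p j9 i3 i10) (p j9 i3 i11) (p j9 i3 i8) (p j9 i3 i9))
  (@T16.mk E (n j9 i4 i8) (n j9 i4 i9) (n j9 i4 i10) (n j9 i4 i11) (n j9 i4 i12) (n j9 i4 i13) (n j9 i4 i14) (n j9 i4 i15) (n j9 i4 i0) (n j9 i4 i1) (n j9 i4 i2) (n j9 i4 i3) (n j9 i4 i4) (n j9 i4 i5) (n j9 i4 i6) (n j9 i4 i7))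
  (@T16.mk E (n j9 i5 i4) (n j9 i5 i5) (n j9 i5 i6) (n j9 i5 i7) (n j9 i5 i0) (n j9 i5 i1) (n j9 i5 i2) (n j9 i5 i3) (n j9 i5 i12) (n j9 i5 i13) (n j9 i5 i14) (n j9 i5 i15) (n j9 i5 i8) (n j9 i5 i9) (n j9 i5 i10) (n j9 i5 i11))
  (@T16.mk E (n j9 i6 i2) (n j9 i6 i3) (n j9 i6 i0) (n j9 i6 i1) (n j9 i6 i6) (n j9 i6 i7) (n j9 i6 i4) (n j9 i6 i5) (n j9 i6 i10) (n j9 i6 i11) (n j9 i6 i8) (n j9 i6 i9) (n j9 i6 i14) (n j9 i6 i15) (n j9 i6 i12) (n j9 i6 i13))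
  (@T16.mk E (n j9 i7 i11) (n j9 i7 i10) (n j9 i7 i9) (n j9 i7 i8) (n j9 i7 i15) (n j9 i7 i14) (n j9 i7 i13) (n j9 i7 i12) (n j9 i7 i3) (n j9 i7 i2) (n j9 i7 i1) (n j9 i7 i0) (n j9 i7 i7) (n j9 i7 i6) (n j9 i7 i5) (n j9 i7 i4))
  (@T16.mk E (n j9 i8 i12) (n j9 i8 i13) (n j9 i8 i14) (n j9 i8 i15) (n j9 i8 i8) (n j9 i8 i9) (n j9 i8 i10) (n j9 i8 i11) (n j9 i8 i4) (n j9 i8 i5) (n j9 i8 i6) (n j9 i8 i7) (n j9 i8 i0) (n j9 i8 i1) (n j9 i8 i2) (n j9 i8 i3))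
  (@T16.mk E (p j9 i9 i5) (p j9 i9 i4) (p j9 i9 i7) (p j9 i9 i6) (p j9 i9 i1) (p j9 i9 i0) (p j9 i9 i3) (p j9 i9 i2) (p j9 i9 i13) (p j9 i9 i12) (p j9 i9 i15) (p j9 i9 i14) (p j9 i9 i9) (p j9 i9 i8) (p j9 i9 i11) (p j9 i9 i10))
  (@T16.mk E (p j9 i10 i7) (p j9 i10 i6) (p j9 i10 i5) (p j9 i10 i4) (p j9 i10 i3) (p j9 i10 i2) (p j9 i10 i1) (p j9 i10 i0) (p j9 i10 i15) (p j9 i10 i14) (p j9 i10 i13) (p j9 i10 i12) (p j9 i10 i11) (p j9 i10 i10) (p j9 i10 i9) (p j9 i10 i8))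
  (@T16.mk E (n j9 i11 i5) (n j9 i11 i4) (n j9 i11 i7) (n j9 i11 i6) (n j9 i11 i1) (n j9 i11 i0) (n j9 i11 i3) (n j9 i11 i2) (n j9 i11 i13) (n j9 i11 i12) (n j9 i11 i15) (n j9 i11 i14) (n j9 i11 i9) (n j9 i11 i8) (n j9 i11 i11) (n j9 i11 i10))
  (@T16.mk E (n j9 i12 i5) (n j9 i12 i4) (n j9 i12 i7) (n j9 i12 i6) (n j9 i12 i1) (n j9 i12 i0) (n j9 i12 i3) (n j9 i12 i2) (n j9 i12 i13) (n j9 i12 i12) (n j9 i12 i15) (n j9 i12 i14) (n j9 i12 i9) (n j9 i12 i8) (n j9 i12 i11) (n j9 i12 i10))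
  (@T16.mk E (n j9 i13 i14) (n j9 i13 i15) (n j9 i13 i12) (n j9 i13 i13) (n j9 i13 i10) (n j9 i13 i11) (n j9 i13 i8) (n j9 i13 i9) (n j9 i13 i6) (n j9 i13 i7) (n j9 i13 i4) (n j9 i13 i5) (n j9 i13 i2) (n j9 i13 i3) (n j9 i13 i0) (n j9 i13 i1))
  (@T16.mk E (n j9 i14 i7) (n j9 i14 i6) (n j9 i14 i5) (n j9 i14 i4) (n j9 i14 i3) (n j9 i14 i2) (n j9 i14 i1) (n j9 i14 i0) (n j9 i14 i15) (n j9 i14 i14) (n j9 i14 i13) (n j9 i14 i12) (n j9 i14 i11) (n j9 i14 i10) (n j9 i14 i9) (n j9 i14 i8))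
  (@T16.mk E (p j9 i15 i2) (p j9 i15 i3) (p j9 i15 i0) (p j9 i15 i1) (p j9 i15 i6) (p j9 i15 i7) (p j9 i15 i4) (p j9 i15 i5) (p j9 i15 i10) (p j9 i15 i11) (p j9 i15 i8) (p j9 i15 i9) (p j9 i15 i14) (p j9 i15 i15) (p j9 i15 i12) (p j9 i15 i13))
 )
 (@T16.mk (T16 E)
  (@T16.mk E (n j10 i0 i7) (n j10 i0 i6) (n j10 i0 i5) (n j10 i0 i4) (n j10 i0 i3) (n j10 i0 i2) (n j10 i0 i1) (n j10 i0 i0) (n j10 i0 i15) (n j10 i0 i14) (n j10 i0 i13) (n j10 i0 i12) (n j10 i0 i11) (n j10 i0 i10) (n j10 i0 i9) (n j10 i0 i8))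
  (@T16.mk E (p j10 i1 i13) (p j10 i1 i12) (p j10 i1 i15) (p j10 i1 i14) (p j10 i1 i9) (p j10 i1 i8) (p j10 i1 i11) (p j10 i1 i10) (p j10 i1 i5) (p j10 i1 i4) (p j10 i1 i7) (p j10 i1 i6) (p j10 i1 i1) (p j10 i1 i0) (p j10 i1 i3) (p j10 i1 i2))
  (@T16.mk E (n j10 i2 i6) (n j10 i2 i7) (n j10 i2 i4) (n j10 i2 i5) (n j10 i2 i2) (n j10 i2 i3) (n j10 i2 i0) (n j10 i2 i1) (n j10 i2 i14) (n j10 i2 i15) (n j10 i2 i12) (n j10 i2 i13) (n j10 i2 i10) (n j10 i2 i11) (n j10 i2 i8) (n j10 i2 i9))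
  (@T16.mk E (n j10 i3 i14) (n j10 i3 i15) (n j10 i3 i12) (n j10 i3 i13) (n j10 i3 i10) (n j10 i3 i11) (n j10 i3 i8) (n j10 i3 i9) (n j10 i3 i6) (n j10 i3 i7) (n j10 i3 i4) (n j10 i3 i5) (n j10 i3 i2) (n j10 i3 i3) (n j10 i3 i0) (n j10 i3 i1))
  (@T16.mk E (n j10 i4 i9) (n j10 i4 i8) (n j10 i4 i11) (n j10 i4 i10) (n j10 i4 i13) (n j10 i4 i12) (n j10 i4 i15) (n j10 i4 i14) (n j10 i4 i1) (n j10 i4 i0) (n j10 i4 i3) (n j10 i4 i2) (n j10 i4 i5) (n j10 i4 i4) (n j10 i4 i7) (n j10 i4 i6))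
  (@T16.mk E (n j10 i5 i7) (n j10 i5 i6) (n j10 i5 i5) (n j10 i5 i4) (n j10 i5 i3) (n j10 i5 i2) (n j10 i5 i1) (n j10 i5 i0) (n j10 i5 i15) (n j10 i5 i14) (n j10 i5 i13) (n j10 i5 i12) (n j10 i5 i11) (n j10 i5 i10) (n j10 i5 i9) (n j10 i5 i8))
  (@T16.mk E (n j10 i6 i7) (n j10 i6 i6) (n j10 i6 i5) (n j10 i6 i4) (n j10 i6 i3) (n j10 i6 i2) (n j10 i6 i1) (n j10 i6 i0) (n j10 i6 i15) (n j10 i6 i14) (n j10 i6 i13) (n j10 i6 i12) (n j10 i6 i11) (n j10 i6 i10) (n j10 i6 i9) (n j10 i6 i8))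
  (@T16.mk E (n j10 i7 i12) (n j10 i7 i13) (n j10 i7 i14) (n j10 i7 i15) (n j10 i7 i8) (n j10 i7 i9) (n j10 i7 i10) (n j10 i7 i11) (n j10 i7 i4) (n j10 i7 i5) (n j10 i7 i6) (n j10 i7 i7) (n j10 i7 i0) (n j10 i7 i1) (n j10 i7 i2) (n j10 i7 i3))
  (@T16.mk E (p j10 i8 i1) (p j10 i8 i0) (p j10 i8 i3) (p j10 i8 i2) (p j10 i8 i5) (p j10 i8 i4) (p j10 i8 i7) (p j10 i8 i6) (p j10 i8 i9) (p j10 i8 i8) (p j10 i8 i11) (p j10 i8 i10) (p j10 i8 i13) (p j10 i8 i12) (p j10 i8 i15) (p j10 i8 i14))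
  (@T16.mk E (p j10 i9 i14) (p j10 i9 i15) (p j10 i9 i12) (p j10 i9 i13) (p j10 i9 i10) (p j10 i9 i11) (p j10 i9 i8) (p j10 i9 i9) (p j10 i9 i6) (p j10 i9 i7) (p j10 i9 i4) (p j10 i9 i5) (p j10 i9 i2) (p j10 i9 i3) (p j10 i9 i0) (p j10 i9 i1))
  (@T16.mk E (n j10 i10 i15) (n j10 i10 i14) (n j10 i10 i13) (n j10 i10 i12) (n j10 i10 i11) (n j10 i10 i10) (n j10 i10 i9) (n j10 i10 i8) (n j10 i10 i7) (n j10 i10 i6) (n j10 i10 i5) (n j10 i10 i4) (n j10 i10 i3) (n j10 i10 i2) (n j10 i10 i1) (n j10 i10 i0))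
  (@T16.mk E (p j10 i11 i13) (p j10 i11 i12) (p j10 i11 i15) (p j10 i11 i14) (p j10 i11 i9) (p j10 i11 i8) (p j10 i11 i11) (p j10 i11 i10) (p j10 i11 i5) (p j10 i11 i4) (p j10 i11 i7) (p j10 i11 i6) (p j10 i11 i1) (p j10 i11 i0) (p j10 i11 i3) (p j10 i11 i2))
  (@T16.mk E (n j10 i12 i2) (n j10 i12 i3) (n j10 i12 i0) (n j10 i12 i1) (n j10 i12 i6) (n j10 i12 i7) (n j10 i12 i4) (n j10 i12 i5) (n j10 i12 i10) (n j10 i12 i11) (n j10 i12 i8) (n j10 i12 i9) (n j10 i12 i14) (n j10 i12 i15) (n j10 i12 i12) (n j10 i12 i13))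
  (@T16.mk E (n j10 i13 i1) (n j10 i13 i0) (n j10 i13 i3) (n j10 i13 i2) (n j10 i13 i5) (n j10 i13 i4) (n j10 i13 i7) (n j10 i13 i6) (n j10 i13 i9) (n j10 i13 i8) (n j10 i13 i11) (n j10 i13 i10) (n j10 i13 i13) (n j10 i13 i12) (n j10 i13 i15) (n j10 i13 i14))
  (@T16.mk E (n j10 i14 i1) (n j10 i14 i0) (n j10 i14 i3) (n j10 i14 i2) (n j10 i14 i5) (n j10 i14 i4) (n j10 i14 i7) (n j10 i14 i6) (n j10 i14 i9) (n j10 i14 i8) (n j10 i14 i11) (n j10 i14 i10) (n j10 i14 i13) (n j10 i14 i12) (n j10 i14 i15) (n j10 i14 i14))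
  (@T16.mk E (n j10 i15 i7) (n j10 i15 i6) (n j10 i15 i5) (n j10 i15 i4) (n j10 i15 i3) (n j10 i15 i2) (n j10 i15 i1) (n j10 i15 i0) (n j10 i15 i15) (n j10 i15 i14) (n j10 i15 i13) (n j10 i15 i12) (n j10 i15 i11) (n j10 i15 i10) (n j10 i15 i9) (n j10 i15 i8))
 )
 (@T16.mk (T16 E)
  (@T16.mk E (n j11 i0 i2) (n j11 i0 i3) (n j11 i0 i0) (n j11 i0 i1) (n j11 i0 i6) (n j11 i0 i7) (n j11 i0 i4) (n j11 i0 i5) (n j11 i0 i10) (n j11 i0 i11) (n j11 i0 i8) (n j11 i0 i9) (n j11 i0 i14) (n j11 i0 i15) (n j11 i0 i12) (n j11 i0 i13))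
  (@T16.mk E (n j11 i1 i1) (n j11 i1 i0) (n j11 i1 i3) (n j11 i1 i2) (n j11 i1 i5) (n j11 i1 i4) (n j11 i1 i7) (n j11 i1 i6) (n j11 i1 i9) (n j11 i1 i8) (n j11 i1 i11) (n j11 i1 i10) (n j11 i1 i13) (n j11 i1 i12) (n j11 i1 i15) (n j11 i1 i14))
  (@T16.mk E (n j11 i2 i7) (n j11 i2 i6) (n j11 i2 i5) (n j11 i2 i4) (n j11 i2 i3) (n j11 i2 i2) (n j11 i2 i1) (n j11 i2 i0) (n j11 i2 i15) (n j11 i2 i14) (n j11 i2 i13) (n j11 i2 i12) (n j11 i2 i11) (n j11 i2 i10) (n j11 i2 i9) (n j11 i2 i8))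
  (@T16.mk E (n j11 i3 i4) (n j11 i3 i5) (n j11 i3 i6) (n j11 i3 i7) (n j11 i3 i0) (n j11 i3 i1) (n j11 i3 i2) (n j11 i3 i3) (n j11 i3 i12) (n j11 i3 i13) (n j11 i3 i14) (n j11 i3 i15) (n j11 i3 i8) (n j11 i3 i9) (n j11 i3 i10) (n j11 i3 i11))
  (@T16.mk E (n j11 i4 i6) (n j11 i4 i7) (n j11 i4 i4) (n j11 i4 i5) (n j11 i4 i2) (n j11 i4 i3) (n j11 i4 i0) (n j11 i4 i1) (n j11 i4 i14) (n j11 i4 i15) (n j11 i4 i12) (n j11 i4 i13) (n j11 i4 i10) (n j11 i4 i11) (n j11 i4 i8) (n j11 i4 i9))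
  (@T16.mk E (n j11 i5 i4) (n j11 i5 i5) (n j11 i5 i6) (n j11 i5 i7) (n j11 i5 i0) (n j11 i5 i1) (n j11 i5 i2) (n j11 i5 i3) (n j11 i5 i12) (n j11 i5 i13) (n j11 i5 i14) (n j11 i5 i15) (n j11 i5 i8) (n j11 i5 i9) (n j11 i5 i10) (n j11 i5 i11))
  (@T16.mk E (p j11 i6 i12) (p j11 i6 i13) (p j11 i6 i14) (p j11 i6 i15) (p j11 i6 i8) (p j11 i6 i9) (p j11 i6 i10) (p j11 i6 i11) (p j11 i6 i4) (p j11 i6 i5) (p j11 i6 i6) (p j11 i6 i7) (p j11 i6 i0) (p j11 i6 i1) (p j11 i6 i2) (p j11 i6 i3))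
  (@T16.mk E (n j11 i7 i4) (n j11 i7 i5) (n j11 i7 i6) (n j11 i7 i7) (n j11 i7 i0) (n j11 i7 i1) (n j11 i7 i2) (n j11 i7 i3) (n j11 i7 i12) (n j11 i7 i13) (n j11 i7 i14) (n j11 i7 i15) (n j11 i7 i8) (n j11 i7 i9) (n j11 i7 i10) (n j11 i7 i11))
  (@T16.mk E (n j11 i8 i9) (n j11 i8 i8) (n j11 i8 i11) (n j11 i8 i10) (n j11 i8 i13) (n j11 i8 i12) (n j11 i8 i15) (n j11 i8 i14) (n j11 i8 i1) (n j11 i8 i0) (n j11 i8 i3) (n j11 i8 i2) (n j11 i8 i5) (n j11 i8 i4) (n j11 i8 i7) (n j11 i8 i6))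
  (@T16.mk E (n j11 i9 i12) (n j11 i9 i13) (n j11 i9 i14) (n j11 i9 i15) (n j11 i9 i8) (n j11 i9 i9) (n j11 i9 i10) (n j11 i9 i11) (n j11 i9 i4) (n j11 i9 i5) (n j11 i9 i6) (n j11 i9 i7) (n j11 i9 i0) (n j11 i9 i1) (n j11 i9 i2) (n j11 i9 i3))
  (@T16.mk E (p j11 i10 i0) (p j11 i10 i1) (p j11 i10 i2) (p j11 i10 i3) (p j11 i10 i4) (p j11 i10 i5) (p j11 i10 i6) (p j11 i10 i7) (p j11 i10 i8) (p j11 i10 i9) (p j11 i10 i10) (p j11 i10 i11) (p j11 i10 i12) (p j11 i10 i13) (p j11 i10 i14) (p j11 i10 i15))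
  (@T16.mk E (n j11 i11 i1) (n j11 i11 i0) (n j11 i11 i3) (n j11 i11 i2) (n j11 i11 i5) (n j11 i11 i4) (n j11 i11 i7) (n j11 i11 i6) (n j11 i11 i9) (n j11 i11 i8) (n j11 i11 i11) (n j11 i11 i10) (n j11 i11 i13) (n j11 i11 i12) (n j11 i11 i15) (n j11 i11 i14))
  (@T16.mk E (p j11 i12 i0) (p j11 i12 i1) (p j11 i12 i2) (p j11 i12 i3) (p j11 i12 i4) (p j11 i12 i5) (p j11 i12 i6) (p j11 i12 i7) (p j11 i12 i8) (p j11 i12 i9) (p j11 i12 i10) (p j11 i12 i11) (p j11 i12 i12) (p j11 i12 i13) (p j11 i12 i14) (p j11 i12 i15))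
  (@T16.mk E (p j11 i13 i2) (p j11 i13 i3) (p j11 i13 i0) (p j11 i13 i1) (p j11 i13 i6) (p j11 i13 i7) (p j11 i13 i4) (p j11 i13 i5) (p j11 i13 i10) (p j11 i13 i11) (p j11 i13 i8) (p j11 i13 i9) (p j11 i13 i14) (p j11 i13 i15) (p j11 i13 i12) (p j11 i13 i13))
  (@T16.mk E (p j11 i14 i4) (p j11 i14 i5) (p j11 i14 i6) (p j11 i14 i7) (p j11 i14 i0) (p j11 i14 i1) (p j11 i14 i2) (p j11 i14 i3) (p j11 i14 i12) (p j11 i14 i13) (p j11 i14 i14) (p j11 i14 i15) (p j11 i14 i8) (p j11 i14 i9) (p j11 i14 i10) (p j11 i14 i11))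
  (@T16.mk E (p j11 i15 i0) (p j11 i15 i1) (p j11 i15 i2) (p j11 i15 i3) (p j11 i15 i4) (p j11 i15 i5) (p j11 i15 i6) (p j11 i15 i7) (p j11 i15 i8) (p j11 i15 i9) (p j11 i15 i10) (p j11 i15 i11) (p j11 i15 i12) (p j11 i15 i13) (p j11 i15 i14) (p j11 i15 i15))
 )
 (@T16.mk (T16 E)
  (@T16.mk E (n j12 i0 i13) (n j12 i0 i12) (n j12 i0 i15) (n j12 i0 i14) (n j12 i0 i9) (n j12 i0 i8) (n j12 i0 i11) (n j12 i0 i10) (n j12 i0 i5) (n j12 i0 i4) (n j12 i0 i7) (n j12 i0 i6) (n j12 i0 i1) (n j12 i0 i0) (n j12 i0 i3) (n j12 i0 i2))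
  (@T16.mk E (p j12 i1 i2) (p j12 i1 i3) (p j12 i1 i0) (p j12 i1 i1) (p j12 i1 i6) (p j12 i1 i7) (p j12 i1 i4) (p j12 i1 i5) (p j12 i1 i10) (p j12 i1 i11) (p j12 i1 i8) (p j12 i1 i9) (p j12 i1 i14) (p j12 i1 i15) (p j12 i1 i12) (p j12 i1 i13))
  (@T16.mk E (p j12 i2 i12) (p j12 i2 i13) (p j12 i2 i14) (p j12 i2 i15) (p j12 i2 i8) (p j12 i2 i9) (p j12 i2 i10) (p j12 i2 i11) (p j12 i2 i4) (p j12 i2 i5) (p j12 i2 i6) (p j12 i2 i7) (p j12 i2 i0) (p j12 i2 i1) (p j12 i2 i2) (p j12 i2 i3))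
  (@T16.mk E (n j12 i3 i13) (n j12 i3 i12) (n j12 i3 i15) (n j12 i3 i14) (n j12 i3 i9) (n j12 i3 i8) (n j12 i3 i11) (n j12 i3 i10) (n j12 i3 i5) (n j12 i3 i4) (n j12 i3 i7) (n j12 i3 i6) (n j12 i3 i1) (n j12 i3 i0) (n j12 i3 i3) (n j12 i3 i2))
  (@T16.mk E (p j12 i4 i15) (p j12 i4 i14) (p j12 i4 i13) (p j12 i4 i12) (p j12 i4 i11) (p j12 i4 i10) (p j12 i4 i9) (p j12 i4 i8) (p j12 i4 i7) (p j12 i4 i6) (p j12 i4 i5) (p j12 i4 i4) (p j12 i4 i3) (p j12 i4 i2) (p j12 i4 i1) (p j12 i4 i0))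
  (@T16.mk E (p j12 i5 i3) (p j12 i5 i2) (p j12 i5 i1) (p j12 i5 i0) (p j12 i5 i7) (p j12 i5 i6) (p j12 i5 i5) (p j12 i5 i4) (p j12 i5 i11) (p j12 i5 i10) (p j12 i5 i9) (p j12 i5 i8) (p j12 i5 i15) (p j12 i5 i14) (p j12 i5 i13) (p j12 i5 i12))
  (@T16.mk E (n j12 i6 i9) (n j12 i6 i8) (n j12 i6 i11) (n j12 i6 i10) (n j12 i6 i13) (n j12 i6 i12) (n j12 i6 i15) (n j12 i6 i14) (n j12 i6 i1) (n j12 i6 i0) (n j12 i6 i3) (n j12 i6 i2) (n j12 i6 i5) (n j12 i6 i4) (n j12 i6 i7) (n j12 i6 i6))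
  (@T16.mk E (p j12 i7 i9) (p j12 i7 i8) (p j12 i7 i11) (p j12 i7 i10) (p j12 i7 i13) (p j12 i7 i12) (p j12 i7 i15) (p j12 i7 i14) (p j12 i7 i1) (p j12 i7 i0) (p j12 i7 i3) (p j12 i7 i2) (p j12 i7 i5) (p j12 i7 i4) (p j12 i7 i7) (p j12 i7 i6))
  (@T16.mk E (p j12 i8 i10) (p j12 i8 i11) (p j12 i8 i8) (p j12 i8 i9) (p j12 i8 i14) (p j12 i8 i15) (p j12 i8 i12) (p j12 i8 i13) (p j12 i8 i2) (p j12 i8 i3) (p j12 i8 i0) (p j12 i8 i1) (p j12 i8 i6) (p j12 i8 i7) (p j12 i8 i4) (p j12 i8 i5))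
  (@T16.mk E (n j12 i9 i10) (n j12 i9 i11) (n j12 i9 i8) (n j12 i9 i9) (n j12 i9 i14) (n j12 i9 i15) (n j12 i9 i12) (n j12 i9 i13) (n j12 i9 i2) (n j12 i9 i3) (n j12 i9 i0) (n j12 i9 i1) (n j12 i9 i6) (n j12 i9 i7) (n j12 i9 i4) (n j12 i9 i5))
  (@T16.mk E (n j12 i10 i7) (n j12 i10 i6) (n j12 i10 i5) (n j12 i10 i4) (n j12 i10 i3) (n j12 i10 i2) (n j12 i10 i1) (n j12 i10 i0) (n j12 i10 i15) (n j12 i10 i14) (n j12 i10 i13) (n j12 i10 i12) (n j12 i10 i11) (n j12 i10 i10) (n j12 i10 i9) (n j12 i10 i8))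
  (@T16.mk E (p j12 i11 i7) (p j12 i11 i6) (p j12 i11 i5) (p j12 i11 i4) (p j12 i11 i3) (p j12 i11 i2) (p j12 i11 i1) (p j12 i11 i0) (p j12 i11 i15) (p j12 i11 i14) (p j12 i11 i13) (p j12 i11 i12) (p j12 i11 i11) (p j12 i11 i10) (p j12 i11 i9) (p j12 i11 i8))
  (@T16.mk E (n j12 i12 i8) (n j12 i12 i9) (n j12 i12 i10) (n j12 i12 i11) (n j12 i12 i12) (n j12 i12 i13) (n j12 i12 i14) (n j12 i12 i15) (n j12 i12 i0) (n j12 i12 i1) (n j12 i12 i2) (n j12 i12 i3) (n j12 i12 i4) (n j12 i12 i5) (n j12 i12 i6) (n j12 i12 i7))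
  (@T16.mk E (p j16 i5 i4) (n j16 i5 i5) (p j16 i5 i6) (p j16 i5 i7) (p j16 i5 i0) (p j16 i5 i1) (p j16 i5 i2) (n j16 i5 i3) (p j16 i5 i12) (n j16 i5 i13) (p j16 i5 i14) (p j16 i5 i15) (n j16 i5 i8) (n j16 i5 i9) (n j16 i5 i10) (p j16 i5 i11))
  (@T16.mk E (p j16 i6 i4) (p j16 i6 i5) (p j16 i6 i6) (n j16 i6 i7) (p j16 i6 i0) (n j16 i6 i1) (p j16 i6 i2) (p j16 i6 i3) (p j16 i6 i12) (p j16 i6 i13) (p j16 i6 i14) (n j16 i6 i15) (n j16 i6 i8) (p j16 i6 i9) (n j16 i6 i10) (n j16 i6 i11))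
  (@T16.mk E (p j16 i7 i4) (n j16 i7 i5) (n j16 i7 i6) (n j16 i7 i7) (n j16 i7 i0) (n j16 i7 i1) (p j16 i7 i2) (n j16 i7 i3) (p j16 i7 i12) (n j16 i7 i13) (n j16 i7 i14) (n j16 i7 i15) (p j16 i7 i8) (p j16 i7 i9) (n j16 i7 i10) (p j16 i7 i11))
 )
 (@T16.mk (T16 E)
  (@T16.mk E (n j16 i8 i4) (n j16 i8 i5) (p j16 i8 i6) (n j16 i8 i7) (p j16 i8 i0) (n j16 i8 i1) (n j16 i8 i2) (n j16 i8 i3) (n j16 i8 i12) (n j16 i8 i13) (p j16 i8 i14) (n j16 i8 i15) (n j16 i8 i8) (p j16 i8 i9) (p j16 i8 i10) (p j16 i8 i11))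
  (@T16.mk E (p j16 i9 i4) (p j16 i9 i5) (n j16 i9 i6) (p j16 i9 i7) (n j16 i9 i0) (p j16 i9 i1) (p j16 i9 i2) (p j16 i9 i3) (p j16 i9 i12) (p j16 i9 i13) (n j16 i9 i14) (p j16 i9 i15) (p j16 i9 i8) (n j16 i9 i9) (n j16 i9 i10) (n j16 i9 i11))
  (@T16.mk E (n j16 i10 i4) (p j16 i10 i5) (p j16 i10 i6) (p j16 i10 i7) (p j16 i10 i0) (p j16 i10 i1) (n j16 i10 i2) (p j16 i10 i3) (n j16 i10 i12) (p j16 i10 i13) (p j16 i10 i14) (p j16 i10 i15) (n j16 i10 i8) (n j16 i10 i9) (p j16 i10 i10) (n j16 i10 i11))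
  (@T16.mk E (n j16 i11 i4) (n j16 i11 i5) (n j16 i11 i6) (p j16 i11 i7) (n j16 i11 i0) (p j16 i11 i1) (n j16 i11 i2) (n j16 i11 i3) (n j16 i11 i12) (n j16 i11 i13) (n j16 i11 i14) (p j16 i11 i15) (p j16 i11 i8) (n j16 i11 i9) (p j16 i11 i10) (p j16 i11 i11))
  (@T16.mk E (n j16 i12 i4) (p j16 i12 i5) (n j16 i12 i6) (n j16 i12 i7) (n j16 i12 i0) (n j16 i12 i1) (n j16 i12 i2) (p j16 i12 i3) (n j16 i12 i12) (p j16 i12 i13) (n j16 i12 i14) (n j16 i12 i15) (p j16 i12 i8) (p j16 i12 i9) (p j16 i12 i10) (n j16 i12 i11))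
  (@T16.mk E (p j15 i13 i4) (p j15 i13 i5) (n j15 i13 i6) (p j15 i13 i7) (n j15 i13 i0) (p j15 i13 i1) (p j15 i13 i2) (p j15 i13 i3) (n j15 i13 i12) (n j15 i13 i13) (p j15 i13 i14) (n j15 i13 i15) (n j15 i13 i8) (p j15 i13 i9) (p j15 i13 i10) (p j15 i13 i11))
  (@T16.mk E (n j15 i14 i4) (p j15 i14 i5) (p j15 i14 i6) (p j15 i14 i7) (p j15 i14 i0) (p j15 i14 i1) (n j15 i14 i2) (p j15 i14 i3) (p j15 i14 i12) (n j15 i14 i13) (n j15 i14 i14) (n j15 i14 i15) (p j15 i14 i8) (p j15 i14 i9) (n j15 i14 i10) (p j15 i14 i11))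
  (@T16.mk E (n j15 i15 i4) (n j15 i15 i5) (n j15 i15 i6) (p j15 i15 i7) (n j15 i15 i0) (p j15 i15 i1) (n j15 i15 i2) (n j15 i15 i3) (p j15 i15 i12) (p j15 i15 i13) (p j15 i15 i14) (n j15 i15 i15) (n j15 i15 i8) (p j15 i15 i9) (n j15 i15 i10) (n j15 i15 i11))
  (@T16.mk E (n j16 i0 i4) (p j16 i0 i5) (n j16 i0 i6) (n j16 i0 i7) (n j16 i0 i0) (n j16 i0 i1) (n j16 i0 i2) (p j16 i0 i3) (p j16 i0 i12) (n j16 i0 i13) (p j16 i0 i14) (p j16 i0 i15) (n j16 i0 i8) (n j16 i0 i9) (n j16 i0 i10) (p j16 i0 i11))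
  (@T16.mk E (p j16 i1 i4) (n j16 i1 i5) (p j16 i1 i6) (p j16 i1 i7) (p j16 i1 i0) (p j16 i1 i1) (p j16 i1 i2) (n j16 i1 i3) (n j16 i1 i12) (p j16 i1 i13) (n j16 i1 i14) (n j16 i1 i15) (p j16 i1 i8) (p j16 i1 i9) (p j16 i1 i10) (n j16 i1 i11))
  (@T16.mk E (p j16 i2 i4) (p j16 i2 i5) (p j16 i2 i6) (n j16 i2 i7) (p j16 i2 i0) (n j16 i2 i1) (p j16 i2 i2) (p j16 i2 i3) (n j16 i2 i12) (n j16 i2 i13) (n j16 i2 i14) (p j16 i2 i15) (p j16 i2 i8) (n j16 i2 i9) (p j16 i2 i10) (p j16 i2 i11))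
  (@T16.mk E (p j16 i3 i4) (n j16 i3 i5) (n j16 i3 i6) (n j16 i3 i7) (n j16 i3 i0) (n j16 i3 i1) (p j16 i3 i2) (n j16 i3 i3) (n j16 i3 i12) (p j16 i3 i13) (p j16 i3 i14) (p j16 i3 i15) (n j16 i3 i8) (n j16 i3 i9) (p j16 i3 i10) (n j16 i3 i11))
  (@T16.mk E (n j16 i4 i4) (n j16 i4 i5) (p j16 i4 i6) (n j16 i4 i7) (p j16 i4 i0) (n j16 i4 i1) (n j16 i4 i2) (n j16 i4 i3) (p j16 i4 i12) (p j16 i4 i13) (n j16 i4 i14) (p j16 i4 i15) (p j16 i4 i8) (n j16 i4 i9) (n j16 i4 i10) (n j16 i4 i11))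
  (@T16.mk E (p j15 i5 i4) (p j15 i5 i5) (n j15 i5 i6) (p j15 i5 i7) (n j15 i5 i0) (p j15 i5 i1) (p j15 i5 i2) (p j15 i5 i3) (n j15 i5 i12) (n j15 i5 i13) (p j15 i5 i14) (n j15 i5 i15) (n j15 i5 i8) (p j15 i5 i9) (p j15 i5 i10) (p j15 i5 i11))
  (@T16.mk E (n j15 i6 i4) (p j15 i6 i5) (p j15 i6 i6) (p j15 i6 i7) (p j15 i6 i0) (p j15 i6 i1) (n j15 i6 i2) (p j15 i6 i3) (p j15 i6 i12) (n j15 i6 i13) (n j15 i6 i14) (n j15 i6 i15) (p j15 i6 i8) (p j15 i6 i9) (n j15 i6 i10) (p j15 i6 i11))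
  (@T16.mk E (n j15 i7 i4) (n j15 i7 i5) (n j15 i7 i6) (p j15 i7 i7) (n j15 i7 i0) (p j15 i7 i1) (n j15 i7 i2) (n j15 i7 i3) (p j15 i7 i12) (p j15 i7 i13) (p j15 i7 i14) (n j15 i7 i15) (n j15 i7 i8) (p j15 i7 i9) (n j15 i7 i10) (n j15 i7 i11))
 )
 (@T16.mk (T16 E)
  (@T16.mk E (n j15 i8 i4) (p j15 i8 i5) (n j15 i8 i6) (n j15 i8 i7) (n j15 i8 i0) (n j15 i8 i1) (n j15 i8 i2) (p j15 i8 i3) (p j15 i8 i12) (n j15 i8 i13) (p j15 i8 i14) (p j15 i8 i15) (n j15 i8 i8) (n j15 i8 i9) (n j15 i8 i10) (p j15 i8 i11))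
  (@T16.mk E (p j15 i9 i4) (n j15 i9 i5) (p j15 i9 i6) (p j15 i9 i7) (p j15 i9 i0) (p j15 i9 i1) (p j15 i9 i2) (n j15 i9 i3) (n j15 i9 i12) (p j15 i9 i13) (n j15 i9 i14) (n j15 i9 i15) (p j15 i9 i8) (p j15 i9 i9) (p j15 i9 i10) (n j15 i9 i11))
  (@T16.mk E (p j15 i10 i4) (p j15 i10 i5) (p j15 i10 i6) (n j15 i10 i7) (p j15 i10 i0) (n j15 i10 i1) (p j15 i10 i2) (p j15 i10 i3) (n j15 i10 i12) (n j15 i10 i13) (n j15 i10 i14) (p j15 i10 i15) (p j15 i10 i8) (n j15 i10 i9) (p j15 i10 i10) (p j15 i10 i11))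
  (@T16.mk E (p j15 i11 i4) (n j15 i11 i5) (n j15 i11 i6) (n j15 i11 i7) (n j15 i11 i0) (n j15 i11 i1) (p j15 i11 i2) (n j15 i11 i3) (n j15 i11 i12) (p j15 i11 i13) (p j15 i11 i14) (p j15 i11 i15) (n j15 i11 i8) (n j15 i11 i9) (p j15 i11 i10) (n j15 i11 i11))
  (@T16.mk E (n j15 i12 i4) (n j15 i12 i5) (p j15 i12 i6) (n j15 i12 i7) (p j15 i12 i0) (n j15 i12 i1) (n j15 i12 i2) (n j15 i12 i3) (p j15 i12 i12) (p j15 i12 i13) (n j15 i12 i14) (p j15 i12 i15) (p j15 i12 i8) (n j15 i12 i9) (n j15 i12 i10) (n j15 i12 i11))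
  (@T16.mk E (n j14 i13 i4) (p j14 i13 i5) (n j14 i13 i6) (n j14 i13 i7) (n j14 i13 i0) (n j14 i13 i1) (n j14 i13 i2) (p j14 i13 i3) (n j14 i13 i12) (p j14 i13 i13) (n j14 i13 i14) (n j14 i13 i15) (p j14 i13 i8) (p j14 i13 i9) (p j14 i13 i10) (n j14 i13 i11))
  (@T16.mk E (n j14 i14 i4) (n j14 i14 i5) (n j14 i14 i6) (p j14 i14 i7) (n j14 i14 i0) (p j14 i14 i1) (n j14 i14 i2) (n j14 i14 i3) (n j14 i14 i12) (n j14 i14 i13) (n j14 i14 i14) (p j14 i14 i15) (p j14 i14 i8) (n j14 i14 i9) (p j14 i14 i10) (p j14 i14 i11))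
  (@T16.mk E (n j14 i15 i4) (p j14 i15 i5) (p j14 i15 i6) (p j14 i15 i7) (p j14 i15 i0) (p j14 i15 i1) (n j14 i15 i2) (p j14 i15 i3) (n j14 i15 i12) (p j14 i15 i13) (p j14 i15 i14) (p j14 i15 i15) (n j14 i15 i8) (n j14 i15 i9) (p j14 i15 i10) (n j14 i15 i11))
  (@T16.mk E (p j15 i0 i4) (p j15 i0 i5) (n j15 i0 i6) (p j15 i0 i7) (n j15 i0 i0) (p j15 i0 i1) (p j15 i0 i2) (p j15 i0 i3) (p j15 i0 i12) (p j15 i0 i13) (n j15 i0 i14) (p j15 i0 i15) (p j15 i0 i8) (n j15 i0 i9) (n j15 i0 i10) (n j15 i0 i11))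
  (@T16.mk E (n j15 i1 i4) (n j15 i1 i5) (p j15 i1 i6) (n j15 i1 i7) (p j15 i1 i0) (n j15 i1 i1) (n j15 i1 i2) (n j15 i1 i3) (n j15 i1 i12) (n j15 i1 i13) (p j15 i1 i14) (n j15 i1 i15) (n j15 i1 i8) (p j15 i1 i9) (p j15 i1 i10) (p j15 i1 i11))
  (@T16.mk E (p j15 i2 i4) (n j15 i2 i5) (n j15 i2 i6) (n j15 i2 i7) (n j15 i2 i0) (n j15 i2 i1) (p j15 i2 i2) (n j15 i2 i3) (p j15 i2 i12) (n j15 i2 i13) (n j15 i2 i14) (n j15 i2 i15) (p j15 i2 i8) (p j15 i2 i9) (n j15 i2 i10) (p j15 i2 i11))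
  (@T16.mk E (p j15 i3 i4) (p j15 i3 i5) (p j15 i3 i6) (n j15 i3 i7) (p j15 i3 i0) (n j15 i3 i1) (p j15 i3 i2) (p j15 i3 i3) (p j15 i3 i12) (p j15 i3 i13) (p j15 i3 i14) (n j15 i3 i15) (n j15 i3 i8) (p j15 i3 i9) (n j15 i3 i10) (n j15 i3 i11))
  (@T16.mk E (p j15 i4 i4) (n j15 i4 i5) (p j15 i4 i6) (p j15 i4 i7) (p j15 i4 i0) (p j15 i4 i1) (p j15 i4 i2) (n j15 i4 i3) (p j15 i4 i12) (n j15 i4 i13) (p j15 i4 i14) (p j15 i4 i15) (n j15 i4 i8) (n j15 i4 i9) (n j15 i4 i10) (p j15 i4 i11))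
  (@T16.mk E (n j14 i5 i4) (n j14 i5 i5) (n j14 i5 i6) (p j14 i5 i7) (n j14 i5 i0) (p j14 i5 i1) (n j14 i5 i2) (n j14 i5 i3) (p j14 i5 i12) (p j14 i5 i13) (p j14 i5 i14) (n j14 i5 i15) (n j14 i5 i8) (p j14 i5 i9) (n j14 i5 i10) (n j14 i5 i11))
  (@T16.mk E (n j14 i6 i4) (p j14 i6 i5) (n j14 i6 i6) (n j14 i6 i7) (n j14 i6 i0) (n j14 i6 i1) (n j14 i6 i2) (p j14 i6 i3) (p j14 i6 i12) (n j14 i6 i13) (p j14 i6 i14) (p j14 i6 i15) (n j14 i6 i8) (n j14 i6 i9) (n j14 i6 i10) (p j14 i6 i11))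
  (@T16.mk E (p j14 i7 i4) (p j14 i7 i5) (n j14 i7 i6) (p j14 i7 i7) (n j14 i7 i0) (p j14 i7 i1) (p j14 i7 i2) (p j14 i7 i3) (n j14 i7 i12) (n j14 i7 i13) (p j14 i7 i14) (n j14 i7 i15) (n j14 i7 i8) (p j14 i7 i9) (p j14 i7 i10) (p j14 i7 i11))
 )
 (@T16.mk (T16 E)
  (@T16.mk E (n j14 i8 i4) (p j14 i8 i5) (p j14 i8 i6) (p j14 i8 i7) (p j14 i8 i0) (p j14 i8 i1) (n j14 i8 i2) (p j14 i8 i3) (p j14 i8 i12) (n j14 i8 i13) (n j14 i8 i14) (n j14 i8 i15) (p j14 i8 i8) (p j14 i8 i9) (n j14 i8 i10) (p j14 i8 i11))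
  (@T16.mk E (p j14 i9 i4) (n j14 i9 i5) (n j14 i9 i6) (n j14 i9 i7) (n j14 i9 i0) (n j14 i9 i1) (p j14 i9 i2) (n j14 i9 i3) (n j14 i9 i12) (p j14 i9 i13) (p j14 i9 i14) (p j14 i9 i15) (n j14 i9 i8) (n j14 i9 i9) (p j14 i9 i10) (n j14 i9 i11))
  (@T16.mk E (n j14 i10 i4) (n j14 i10 i5) (p j14 i10 i6) (n j14 i10 i7) (p j14 i10 i0) (n j14 i10 i1) (n j14 i10 i2) (n j14 i10 i3) (p j14 i10 i12) (p j14 i10 i13) (n j14 i10 i14) (p j14 i10 i15) (p j14 i10 i8) (n j14 i10 i9) (n j14 i10 i10) (n j14 i10 i11))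
  (@T16.mk E (p j14 i11 i4) (n j14 i11 i5) (p j14 i11 i6) (p j14 i11 i7) (p j14 i11 i0) (p j14 i11 i1) (p j14 i11 i2) (n j14 i11 i3) (n j14 i11 i12) (p j14 i11 i13) (n j14 i11 i14) (n j14 i11 i15) (p j14 i11 i8) (p j14 i11 i9) (p j14 i11 i10) (n j14 i11 i11))
  (@T16.mk E (p j14 i12 i4) (p j14 i12 i5) (p j14 i12 i6) (n j14 i12 i7) (p j14 i12 i0) (n j14 i12 i1) (p j14 i12 i2) (p j14 i12 i3) (n j14 i12 i12) (n j14 i12 i13) (n j14 i12 i14) (p j14 i12 i15) (p j14 i12 i8) (n j14 i12 i9) (p j14 i12 i10) (p j14 i12 i11))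
  (@T16.mk E (n j13 i13 i4) (p j13 i13 i5) (p j13 i13 i6) (p j13 i13 i7) (p j13 i13 i0) (p j13 i13 i1) (n j13 i13 i2) (p j13 i13 i3) (n j13 i13 i12) (p j13 i13 i13) (p j13 i13 i14) (p j13 i13 i15) (n j13 i13 i8) (n j13 i13 i9) (p j13 i13 i10) (n j13 i13 i11))
  (@T16.mk E (p j13 i14 i4) (p j13 i14 i5) (n j13 i14 i6) (p j13 i14 i7) (n j13 i14 i0) (p j13 i14 i1) (p j13 i14 i2) (p j13 i14 i3) (p j13 i14 i12) (p j13 i14 i13) (n j13 i14 i14) (p j13 i14 i15) (p j13 i14 i8) (n j13 i14 i9) (n j13 i14 i10) (n j13 i14 i11))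
  (@T16.mk E (n j13 i15 i4) (p j13 i15 i5) (n j13 i15 i6) (n j13 i15 i7) (n j13 i15 i0) (n j13 i15 i1) (n j13 i15 i2) (p j13 i15 i3) (n j13 i15 i12) (p j13 i15 i13) (n j13 i15 i14) (n j13 i15 i15) (p j13 i15 i8) (p j13 i15 i9) (p j13 i15 i10) (n j13 i15 i11))
  (@T16.mk E (n j14 i0 i4) (n j14 i0 i5) (n j14 i0 i6) (p j14 i0 i7) (n j14 i0 i0) (p j14 i0 i1) (n j14 i0 i2) (n j14 i0 i3) (n j14 i0 i12) (n j14 i0 i13) (n j14 i0 i14) (p j14 i0 i15) (p j14 i0 i8) (n j14 i0 i9) (p j14 i0 i10) (p j14 i0 i11))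
  (@T16.mk E (p j14 i1 i4) (p j14 i1 i5) (p j14 i1 i6) (n j14 i1 i7) (p j14 i1 i0) (n j14 i1 i1) (p j14 i1 i2) (p j14 i1 i3) (p j14 i1 i12) (p j14 i1 i13) (p j14 i1 i14) (n j14 i1 i15) (n j14 i1 i8) (p j14 i1 i9) (n j14 i1 i10) (n j14 i1 i11))
  (@T16.mk E (p j14 i2 i4) (n j14 i2 i5) (p j14 i2 i6) (p j14 i2 i7) (p j14 i2 i0) (p j14 i2 i1) (p j14 i2 i2) (n j14 i2 i3) (p j14 i2 i12) (n j14 i2 i13) (p j14 i2 i14) (p j14 i2 i15) (n j14 i2 i8) (n j14 i2 i9) (n j14 i2 i10) (p j14 i2 i11))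
  (@T16.mk E (n j14 i3 i4) (n j14 i3 i5) (p j14 i3 i6) (n j14 i3 i7) (p j14 i3 i0) (n j14 i3 i1) (n j14 i3 i2) (n j14 i3 i3) (n j14 i3 i12) (n j14 i3 i13) (p j14 i3 i14) (n j14 i3 i15) (n j14 i3 i8) (p j14 i3 i9) (p j14 i3 i10) (p j14 i3 i11))
  (@T16.mk E (p j14 i4 i4) (n j14 i4 i5) (n j14 i4 i6) (n j14 i4 i7) (n j14 i4 i0) (n j14 i4 i1) (p j14 i4 i2) (n j14 i4 i3) (p j14 i4 i12) (n j14 i4 i13) (n j14 i4 i14) (n j14 i4 i15) (p j14 i4 i8) (p j14 i4 i9) (n j14 i4 i10) (p j14 i4 i11))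
  (@T16.mk E (n j13 i5 i4) (p j13 i5 i5) (p j13 i5 i6) (p j13 i5 i7) (p j13 i5 i0) (p j13 i5 i1) (n j13 i5 i2) (p j13 i5 i3) (n j13 i5 i12) (p j13 i5 i13) (p j13 i5 i14) (p j13 i5 i15) (n j13 i5 i8) (n j13 i5 i9) (p j13 i5 i10) (n j13 i5 i11))
  (@T16.mk E (p j13 i6 i4) (p j13 i6 i5) (n j13 i6 i6) (p j13 i6 i7) (n j13 i6 i0) (p j13 i6 i1) (p j13 i6 i2) (p j13 i6 i3) (p j13 i6 i12) (p j13 i6 i13) (n j13 i6 i14) (p j13 i6 i15) (p j13 i6 i8) (n j13 i6 i9) (n j13 i6 i10) (n j13 i6 i11))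
  (@T16.mk E (n j13 i7 i4) (p j13 i7 i5) (n j13 i7 i6) (n j13 i7 i7) (n j13 i7 i0) (n j13 i7 i1) (n j13 i7 i2) (p j13 i7 i3) (n j13 i7 i12) (p j13 i7 i13) (n j13 i7 i14) (n j13 i7 i15) (p j13 i7 i8) (p j13 i7 i9) (p j13 i7 i10) (n j13 i7 i11))
 )
 (@T16.mk (T16 E)
  (@T16.mk E (n j13 i8 i4) (n j13 i8 i5) (n j13 i8 i6) (p j13 i8 i7) (n j13 i8 i0) (p j13 i8 i1) (n j13 i8 i2) (n j13 i8 i3) (n j13 i8 i12) (n j13 i8 i13) (n j13 i8 i14) (p j13 i8 i15) (p j13 i8 i8) (n j13 i8 i9) (p j13 i8 i10) (p j13 i8 i11))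
  (@T16.mk E (p j13 i9 i4) (p j13 i9 i5) (p j13 i9 i6) (n j13 i9 i7) (p j13 i9 i0) (n j13 i9 i1) (p j13 i9 i2) (p j13 i9 i3) (p j13 i9 i12) (p j13 i9 i13) (p j13 i9 i14) (n j13 i9 i15) (n j13 i9 i8) (p j13 i9 i9) (n j13 i9 i10) (n j13 i9 i11))
  (@T16.mk E (p j13 i10 i4) (n j13 i10 i5) (p j13 i10 i6) (p j13 i10 i7) (p j13 i10 i0) (p j13 i10 i1) (p j13 i10 i2) (n j13 i10 i3) (p j13 i10 i12) (n j13 i10 i13) (p j13 i10 i14) (p j13 i10 i15) (n j13 i10 i8) (n j13 i10 i9) (n j13 i10 i10) (p j13 i10 i11))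
  (@T16.mk E (n j13 i11 i4) (n j13 i11 i5) (p j13 i11 i6) (n j13 i11 i7) (p j13 i11 i0) (n j13 i11 i1) (n j13 i11 i2) (n j13 i11 i3) (n j13 i11 i12) (n j13 i11 i13) (p j13 i11 i14) (n j13 i11 i15) (n j13 i11 i8) (p j13 i11 i9) (p j13 i11 i10) (p j13 i11 i11))
  (@T16.mk E (p j13 i12 i4) (n j13 i12 i5) (n j13 i12 i6) (n j13 i12 i7) (n j13 i12 i0) (n j13 i12 i1) (p j13 i12 i2) (n j13 i12 i3) (p j13 i12 i12) (n j13 i12 i13) (n j13 i12 i14) (n j13 i12 i15) (p j13 i12 i8) (p j13 i12 i9) (n j13 i12 i10) (p j13 i12 i11))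
  (@T16.mk E (p j12 i13 i4) (p j12 i13 i5) (p j12 i13 i6) (n j12 i13 i7) (p j12 i13 i0) (n j12 i13 i1) (p j12 i13 i2) (p j12 i13 i3) (n j12 i13 i12) (n j12 i13 i13) (n j12 i13 i14) (p j12 i13 i15) (p j12 i13 i8) (n j12 i13 i9) (p j12 i13 i10) (p j12 i13 i11))
  (@T16.mk E (p j12 i14 i4) (n j12 i14 i5) (p j12 i14 i6) (p j12 i14 i7) (p j12 i14 i0) (p j12 i14 i1) (p j12 i14 i2) (n j12 i14 i3) (n j12 i14 i12) (p j12 i14 i13) (n j12 i14 i14) (n j12 i14 i15) (p j12 i14 i8) (p j12 i14 i9) (p j12 i14 i10) (n j12 i14 i11))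
  (@T16.mk E (n j12 i15 i4) (n j12 i15 i5) (p j12 i15 i6) (n j12 i15 i7) (p j12 i15 i0) (n j12 i15 i1) (n j12 i15 i2) (n j12 i15 i3) (p j12 i15 i12) (p j12 i15 i13) (n j12 i15 i14) (p j12 i15 i15) (p j12 i15 i8) (n j12 i15 i9) (n j12 i15 i10) (n j12 i15 i11))
  (@T16.mk E (p j13 i0 i4) (n j13 i0 i5) (n j13 i0 i6) (n j13 i0 i7) (n j13 i0 i0) (n j13 i0 i1) (p j13 i0 i2) (n j13 i0 i3) (n j13 i0 i12) (p j13 i0 i13) (p j13 i0 i14) (p j13 i0 i15) (n j13 i0 i8) (n j13 i0 i9) (p j13 i0 i10) (n j13 i0 i11))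
  (@T16.mk E (n j13 i1 i4) (p j13 i1 i5) (p j13 i1 i6) (p j13 i1 i7) (p j13 i1 i0) (p j13 i1 i1) (n j13 i1 i2) (p j13 i1 i3) (p j13 i1 i12) (n j13 i1 i13) (n j13 i1 i14) (n j13 i1 i15) (p j13 i1 i8) (p j13 i1 i9) (n j13 i1 i10) (p j13 i1 i11))
  (@T16.mk E (p j13 i2 i4) (p j13 i2 i5) (n j13 i2 i6) (p j13 i2 i7) (n j13 i2 i0) (p j13 i2 i1) (p j13 i2 i2) (p j13 i2 i3) (n j13 i2 i12) (n j13 i2 i13) (p j13 i2 i14) (n j13 i2 i15) (n j13 i2 i8) (p j13 i2 i9) (p j13 i2 i10) (p j13 i2 i11))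
  (@T16.mk E (n j13 i3 i4) (p j13 i3 i5) (n j13 i3 i6) (n j13 i3 i7) (n j13 i3 i0) (n j13 i3 i1) (n j13 i3 i2) (p j13 i3 i3) (p j13 i3 i12) (n j13 i3 i13) (p j13 i3 i14) (p j13 i3 i15) (n j13 i3 i8) (n j13 i3 i9) (n j13 i3 i10) (p j13 i3 i11))
  (@T16.mk E (n j13 i4 i4) (n j13 i4 i5) (n j13 i4 i6) (p j13 i4 i7) (n j13 i4 i0) (p j13 i4 i1) (n j13 i4 i2) (n j13 i4 i3) (p j13 i4 i12) (p j13 i4 i13) (p j13 i4 i14) (n j13 i4 i15) (n j13 i4 i8) (p j13 i4 i9) (n j13 i4 i10) (n j13 i4 i11))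
  (@T16.mk E (p j16 i13 i0) (p j16 i13 i1) (n j16 i13 i2) (p j16 i13 i3) (p j16 i13 i4) (p j16 i13 i5) (p j16 i13 i6) (n j16 i13 i7) (n j16 i13 i8) (n j16 i13 i9) (p j16 i13 i10) (p j16 i13 i11) (p j16 i13 i12) (p j16 i13 i13) (p j16 i13 i14) (n j16 i13 i15))
  (@T16.mk E (p j16 i14 i0) (p j16 i14 i1) (n j16 i14 i2) (n j16 i14 i3) (p j16 i14 i4) (p j16 i14 i5) (n j16 i14 i6) (p j16 i14 i7) (n j16 i15 i14) (p j16 i14 i9) (p j16 i14 i10) (p j16 i14 i11) (p j16 i14 i12) (n j17 i0 i3) (n j17 i0 i4) (n j17 i0 i5))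
  (@T16.mk E (p j16 i15 i0) (p j16 i15 i1) (p j16 i15 i2) (p j16 i15 i3) (p j16 i15 i4) (n j17 i0 i11) (p j16 i15 i6) (p j16 i15 i7) (n j17 i0 i14) (n j17 i0 i15) (p j16 i15 i10) (p j16 i15 i11) (n j17 i1 i2) (p j16 i15 i13) (n j16 i14 i8) (p j16 i15 i15))
 )
 (@T16.mk (T16 E)
  (@T16.mk E (p j17 i0 i0) (p j17 i0 i1) (p j17 i0 i2) (n j16 i14 i13) (n j16 i14 i14) (n j16 i14 i15) (p j17 i0 i6) (p j17 i0 i7) (p j17 i0 i8) (p j17 i0 i9) (p j17 i0 i10) (n j16 i15 i5) (p j17 i0 i12) (p j17 i0 i13) (n j16 i15 i8) (n j16 i15 i9))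
  (@T16.mk E (p j17 i1 i0) (p j17 i1 i1) (n j16 i15 i12) (p j17 i1 i3) (p j17 i1 i4) (p j17 i1 i5) (p j17 i1 i6) (p j17 i1 i7) (p j17 i1 i8) (p j17 i1 i9) (p j17 i1 i10) (p j17 i1 i11) (p j17 i1 i12) (p j17 i1 i13) (p j17 i1 i14) (p j17 i1 i15))
  (@T16.mk E (p j17 i2 i0) (p j17 i2 i1) (p j17 i2 i2) (p j17 i2 i3) (p j17 i2 i4) (p j17 i2 i5) (p j17 i2 i6) (p j17 i2 i7) (p j17 i2 i8) (p j17 i2 i9) (p j17 i2 i10) (p j17 i2 i11) (p j17 i2 i12) (p j17 i2 i13) (p j17 i2 i14) (p j17 i2 i15))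
  (@T16.mk E (p j17 i3 i0) (p j17 i3 i1) (p j17 i3 i2) (p j17 i3 i3) (p j17 i3 i4) (p j17 i3 i5) (p j17 i3 i6) (p j17 i3 i7) (p j17 i3 i8) (p j17 i3 i9) (p j17 i3 i10) (p j17 i3 i11) (p j17 i3 i12) (p j17 i3 i13) (p j17 i3 i14) (p j17 i3 i15))
  (@T16.mk E (p j17 i4 i0) (p j17 i4 i1) (p j17 i4 i2) (p j17 i4 i3) (p j17 i4 i4) (p j17 i4 i5) (p j17 i4 i6) (p j17 i4 i7) (p j17 i4 i8) (p j17 i4 i9) (p j17 i4 i10) (p j17 i4 i11) (p j17 i4 i12) (p j17 i4 i13) (p j17 i4 i14) (p j17 i4 i15))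
  (@T16.mk E (p j17 i5 i0) (p j17 i5 i1) (p j17 i5 i2) (p j17 i5 i3) (p j17 i5 i4) (p j17 i5 i5) (p j17 i5 i6) (p j17 i5 i7) (p j17 i5 i8) (p j17 i5 i9) (p j17 i5 i10) (p j17 i5 i11) (p j17 i5 i12) (p j17 i5 i13) (p j17 i5 i14) (p j17 i5 i15))
  (@T16.mk E (p j17 i6 i0) (p j17 i6 i1) (p j17 i6 i2) (p j17 i6 i3) (p j17 i6 i4) (p j17 i6 i5) (p j17 i6 i6) (p j17 i6 i7) (p j17 i6 i8) (p j17 i6 i9) (p j17 i6 i10) (p j17 i6 i11) (p j17 i6 i12) (p j17 i6 i13) (p j17 i6 i14) (p j17 i6 i15))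
  (@T16.mk E (p j17 i7 i0) (p j17 i7 i1) (p j17 i7 i2) (p j17 i7 i3) (p j17 i7 i4) (p j17 i7 i5) (p j17 i7 i6) (p j17 i7 i7) (p j17 i7 i8) (p j17 i7 i9) (p j17 i7 i10) (p j17 i7 i11) (p j17 i7 i12) (p j17 i7 i13) (p j17 i7 i14) (p j17 i7 i15))
  (@T16.mk E (p j17 i8 i0) (p j17 i8 i1) (p j17 i8 i2) (p j17 i8 i3) (p j17 i8 i4) (p j17 i8 i5) (p j17 i8 i6) (p j17 i8 i7) (p j17 i8 i8) (p j17 i8 i9) (p j17 i8 i10) (p j17 i8 i11) (p j17 i8 i12) (p j17 i8 i13) (p j17 i8 i14) (p j17 i8 i15))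
  (@T16.mk E (p j17 i9 i0) (p j17 i9 i1) (p j17 i9 i2) (p j17 i9 i3) (p j17 i9 i4) (p j17 i9 i5) (p j17 i9 i6) (p j17 i9 i7) (p j17 i9 i8) (p j17 i9 i9) (p j17 i9 i10) (p j17 i9 i11) (p j17 i9 i12) (p j17 i9 i13) (p j17 i9 i14) (p j17 i9 i15))
  (@T16.mk E (p j17 i10 i0) (p j17 i10 i1) (p j17 i10 i2) (p j17 i10 i3) (p j17 i10 i4) (p j17 i10 i5) (p j17 i10 i6) (p j17 i10 i7) (p j17 i10 i8) (p j17 i10 i9) (p j17 i10 i10) (p j17 i10 i11) (p j17 i10 i12) (p j17 i10 i13) (p j17 i10 i14) (p j17 i10 i15))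
  (@T16.mk E (p j17 i11 i0) (p j17 i11 i1) (p j17 i11 i2) (p j17 i11 i3) (p j17 i11 i4) (p j17 i11 i5) (p j17 i11 i6) (p j17 i11 i7) (p j17 i11 i8) (p j17 i11 i9) (p j17 i11 i10) (p j17 i11 i11) (p j17 i11 i12) (p j17 i11 i13) (p j17 i11 i14) (p j17 i11 i15))
  (@T16.mk E (p j17 i12 i0) (p j17 i12 i1) (p j17 i12 i2) (p j17 i12 i3) (p j17 i12 i4) (p j17 i12 i5) (p j17 i12 i6) (p j17 i12 i7) (p j17 i12 i8) (p j17 i12 i9) (p j17 i12 i10) (p j17 i12 i11) (p j17 i12 i12) (p j17 i12 i13) (p j17 i12 i14) (p j17 i12 i15))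
  (@T16.mk E (p j17 i13 i0) (p j17 i13 i1) (p j17 i13 i2) (p j17 i13 i3) (p j17 i13 i4) (p j17 i13 i5) (p j17 i13 i6) (p j17 i13 i7) (p j17 i13 i8) (p j17 i13 i9) (p j17 i13 i10) (p j17 i13 i11) (p j17 i13 i12) (p j17 i13 i13) (p j17 i13 i14) (p j17 i13 i15))
  (@T16.mk E (p j17 i14 i0) (p j17 i14 i1) (p j17 i14 i2) (p j17 i14 i3) (p j17 i14 i4) (p j17 i14 i5) (p j17 i14 i6) (p j17 i14 i7) (p j17 i14 i8) (p j17 i14 i9) (p j17 i14 i10) (p j17 i14 i11) (p j17 i14 i12) (p j17 i14 i13) (p j17 i14 i14) (p j17 i14 i15))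
  (@T16.mk E (p j17 i15 i0) (p j17 i15 i1) (p j17 i15 i2) (p j17 i15 i3) (p j17 i15 i4) (p j17 i15 i5) (p j17 i15 i6) (p j17 i15 i7) (p j17 i15 i8) (p j17 i15 i9) (p j17 i15 i10) (p j17 i15 i11) (p j17 i15 i12) (p j17 i15 i13) (p j17 i15 i14) (p j17 i15 i15))
 )
theorem tb27_ok : okTab tb27 = true := by decide +kernel
noncomputable def cd27 (s : St) : St :=
@T18.mk (T16 (T16 R))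
 (@T16.mk (T16 R)
  (@T16.mk R s.1.1.1 (R.mk s.1.1.2.2 s.1.1.2.1) (R.mk s.1.1.3.2 s.1.1.3.1) (R.mk s.1.1.4.2 s.1.1.4.1) (R.mk s.1.1.5.2 s.1.1.5.1) (R.mk s.1.1.6.2 s.1.1.6.1) (R.mk s.1.1.7.2 s.1.1.7.1) s.1.1.8 s.1.1.9 s.1.1.10 s.1.1.11 (R.mk s.1.1.12.2 s.1.1.12.1) s.1.1.13 (R.mk s.1.1.14.2 s.1.1.14.1) (R.mk s.1.1.15.2 s.1.1.15.1) (R.mk s.1.1.16.2 s.1.1.16.1))
  (@T16.mk R (R.mk s.1.2.1.2 s.1.2.1.1) s.1.2.2 (R.mk s.1.2.3.2 s.1.2.3.1) (R.mk s.1.2.4.2 s.1.2.4.1) s.1.2.5 s.1.2.6 (R.mk s.1.2.7.2 s.1.2.7.1) s.1.2.8 s.1.2.9 s.1.2.10 (R.mk s.1.2.11.2 s.1.2.11.1) s.1.2.12 s.1.2.13 (R.mk s.1.2.14.2 s.1.2.14.1) s.1.2.15 s.1.2.16)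
  (@T16.mk R (R.mk s.1.3.1.2 s.1.3.1.1) (R.mk s.1.3.2.2 s.1.3.2.1) s.1.3.3 (R.mk s.1.3.4.2 s.1.3.4.1) (R.mk s.1.3.5.2 s.1.3.5.1) s.1.3.6 (R.mk s.1.3.7.2 s.1.3.7.1) (R.mk s.1.3.8.2 s.1.3.8.1) s.1.3.9 (R.mk s.1.3.10.2 s.1.3.10.1) s.1.3.11 s.1.3.12 (R.mk s.1.3.13.2 s.1.3.13.1) (R.mk s.1.3.14.2 s.1.3.14.1) s.1.3.15 (R.mk s.1.3.16.2 s.1.3.16.1))
  (@T16.mk R (R.mk s.1.4.1.2 s.1.4.1.1) (R.mk s.1.4.2.2 s.1.4.2.1) (R.mk s.1.4.3.2 s.1.4.3.1) s.1.4.4 (R.mk s.1.4.5.2 s.1.4.5.1) s.1.4.6 s.1.4.7 s.1.4.8 (R.mk s.1.4.9.2 s.1.4.9.1) s.1.4.10 s.1.4.11 s.1.4.12 s.1.4.13 s.1.4.14 s.1.4.15 (R.mk s.1.4.16.2 s.1.4.16.1))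
  (@T16.mk R s.1.5.1 s.1.5.2 (R.mk s.1.5.3.2 s.1.5.3.1) s.1.5.4 s.1.5.5 (R.mk s.1.5.6.2 s.1.5.6.1) s.1.5.7 s.1.5.8 (R.mk s.1.5.9.2 s.1.5.9.1) s.1.5.10 (R.mk s.1.5.11.2 s.1.5.11.1) (R.mk s.1.5.12.2 s.1.5.12.1) s.1.5.13 s.1.5.14 (R.mk s.1.5.15.2 s.1.5.15.1) s.1.5.16)
  (@T16.mk R (R.mk s.1.6.1.2 s.1.6.1.1) (R.mk s.1.6.2.2 s.1.6.2.1) (R.mk s.1.6.3.2 s.1.6.3.1) s.1.6.4 (R.mk s.1.6.5.2 s.1.6.5.1) s.1.6.6 s.1.6.7 s.1.6.8 (R.mk s.1.6.9.2 s.1.6.9.1) s.1.6.10 s.1.6.11 s.1.6.12 s.1.6.13 s.1.6.14 s.1.6.15 (R.mk s.1.6.16.2 s.1.6.16.1))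
  (@T16.mk R (R.mk s.1.7.1.2 s.1.7.1.1) s.1.7.2 s.1.7.3 s.1.7.4 s.1.7.5 s.1.7.6 s.1.7.7 (R.mk s.1.7.8.2 s.1.7.8.1) (R.mk s.1.7.9.2 s.1.7.9.1) (R.mk s.1.7.10.2 s.1.7.10.1) (R.mk s.1.7.11.2 s.1.7.11.1) s.1.7.12 (R.mk s.1.7.13.2 s.1.7.13.1) s.1.7.14 s.1.7.15 s.1.7.16)
  (@T16.mk R (R.mk s.1.8.1.2 s.1.8.1.1) s.1.8.2 (R.mk s.1.8.3.2 s.1.8.3.1) (R.mk s.1.8.4.2 s.1.8.4.1) s.1.8.5 s.1.8.6 (R.mk s.1.8.7.2 s.1.8.7.1) s.1.8.8 s.1.8.9 s.1.8.10 (R.mk s.1.8.11.2 s.1.8.11.1) s.1.8.12 s.1.8.13 (R.mk s.1.8.14.2 s.1.8.14.1) s.1.8.15 s.1.8.16)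
  (@T16.mk R (R.mk s.1.9.1.2 s.1.9.1.1) s.1.9.2 (R.mk s.1.9.3.2 s.1.9.3.1) (R.mk s.1.9.4.2 s.1.9.4.1) s.1.9.5 s.1.9.6 (R.mk s.1.9.7.2 s.1.9.7.1) s.1.9.8 s.1.9.9 s.1.9.10 (R.mk s.1.9.11.2 s.1.9.11.1) s.1.9.12 s.1.9.13 (R.mk s.1.9.14.2 s.1.9.14.1) s.1.9.15 s.1.9.16)
  (@T16.mk R s.1.10.1 (R.mk s.1.10.2.2 s.1.10.2.1) (R.mk s.1.10.3.2 s.1.10.3.1) (R.mk s.1.10.4.2 s.1.10.4.1) (R.mk s.1.10.5.2 s.1.10.5.1) (R.mk s.1.10.6.2 s.1.10.6.1) (R.mk s.1.10.7.2 s.1.10.7.1) s.1.10.8 s.1.10.9 s.1.10.10 s.1.10.11 (R.mk s.1.10.12.2 s.1.10.12.1) s.1.10.13 (R.mk s.1.10.14.2 s.1.10.14.1) (R.mk s.1.10.15.2 s.1.10.15.1) (R.mk s.1.10.16.2 s.1.10.16.1))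
  (@T16.mk R (R.mk s.1.11.1.2 s.1.11.1.1) (R.mk s.1.11.2.2 s.1.11.2.1) (R.mk s.1.11.3.2 s.1.11.3.1) s.1.11.4 (R.mk s.1.11.5.2 s.1.11.5.1) s.1.11.6 s.1.11.7 s.1.11.8 (R.mk s.1.11.9.2 s.1.11.9.1) s.1.11.10 s.1.11.11 s.1.11.12 s.1.11.13 s.1.11.14 s.1.11.15 (R.mk s.1.11.16.2 s.1.11.16.1))
  (@T16.mk R (R.mk s.1.12.1.2 s.1.12.1.1) (R.mk s.1.12.2.2 s.1.12.2.1) s.1.12.3 (R.mk s.1.12.4.2 s.1.12.4.1) (R.mk s.1.12.5.2 s.1.12.5.1) s.1.12.6 (R.mk s.1.12.7.2 s.1.12.7.1) (R.mk s.1.12.8.2 s.1.12.8.1) s.1.12.9 (R.mk s.1.12.10.2 s.1.12.10.1) s.1.12.11 s.1.12.12 (R.mk s.1.12.13.2 s.1.12.13.1) (R.mk s.1.12.14.2 s.1.12.14.1) s.1.12.15 (R.mk s.1.12.16.2 s.1.12.16.1))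
  (@T16.mk R (R.mk s.1.13.1.2 s.1.13.1.1) (R.mk s.1.13.2.2 s.1.13.2.1) (R.mk s.1.13.3.2 s.1.13.3.1) s.1.13.4 (R.mk s.1.13.5.2 s.1.13.5.1) s.1.13.6 s.1.13.7 s.1.13.8 (R.mk s.1.13.9.2 s.1.13.9.1) s.1.13.10 s.1.13.11 s.1.13.12 s.1.13.13 s.1.13.14 s.1.13.15 (R.mk s.1.13.16.2 s.1.13.16.1))
  (@T16.mk R s.1.14.1 s.1.14.2 (R.mk s.1.14.3.2 s.1.14.3.1) s.1.14.4 s.1.14.5 (R.mk s.1.14.6.2 s.1.14.6.1) s.1.14.7 s.1.14.8 (R.mk s.1.14.9.2 s.1.14.9.1) s.1.14.10 (R.mk s.1.14.11.2 s.1.14.11.1) (R.mk s.1.14.12.2 s.1.14.12.1) s.1.14.13 s.1.14.14 (R.mk s.1.14.15.2 s.1.14.15.1) s.1.14.16)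
  (@T16.mk R (R.mk s.1.15.1.2 s.1.15.1.1) s.1.15.2 (R.mk s.1.15.3.2 s.1.15.3.1) (R.mk s.1.15.4.2 s.1.15.4.1) s.1.15.5 s.1.15.6 (R.mk s.1.15.7.2 s.1.15.7.1) s.1.15.8 s.1.15.9 s.1.15.10 (R.mk s.1.15.11.2 s.1.15.11.1) s.1.15.12 s.1.15.13 (R.mk s.1.15.14.2 s.1.15.14.1) s.1.15.15 s.1.15.16)
  (@T16.mk R (R.mk s.1.16.1.2 s.1.16.1.1) s.1.16.2 s.1.16.3 s.1.16.4 s.1.16.5 s.1.16.6 s.1.16.7 (R.mk s.1.16.8.2 s.1.16.8.1) (R.mk s.1.16.9.2 s.1.16.9.1) (R.mk s.1.16.10.2 s.1.16.10.1) (R.mk s.1.16.11.2 s.1.16.11.1) s.1.16.12 (R.mk s.1.16.13.2 s.1.16.13.1) s.1.16.14 s.1.16.15 s.1.16.16)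
 )
 (@T16.mk (T16 R)
  (@T16.mk R (R.mk s.2.1.1.2 s.2.1.1.1) (R.mk s.2.1.2.2 s.2.1.2.1) (R.mk s.2.1.3.2 s.2.1.3.1) s.2.1.4 (R.mk s.2.1.5.2 s.2.1.5.1) s.2.1.6 s.2.1.7 s.2.1.8 (R.mk s.2.1.9.2 s.2.1.9.1) s.2.1.10 s.2.1.11 s.2.1.12 s.2.1.13 s.2.1.14 s.2.1.15 (R.mk s.2.1.16.2 s.2.1.16.1))
  (@T16.mk R (R.mk s.2.2.1.2 s.2.2.1.1) (R.mk s.2.2.2.2 s.2.2.2.1) s.2.2.3 (R.mk s.2.2.4.2 s.2.2.4.1) (R.mk s.2.2.5.2 s.2.2.5.1) s.2.2.6 (R.mk s.2.2.7.2 s.2.2.7.1) (R.mk s.2.2.8.2 s.2.2.8.1) s.2.2.9 (R.mk s.2.2.10.2 s.2.2.10.1) s.2.2.11 s.2.2.12 (R.mk s.2.2.13.2 s.2.2.13.1) (R.mk s.2.2.14.2 s.2.2.14.1) s.2.2.15 (R.mk s.2.2.16.2 s.2.2.16.1))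
  (@T16.mk R (R.mk s.2.3.1.2 s.2.3.1.1) s.2.3.2 (R.mk s.2.3.3.2 s.2.3.3.1) (R.mk s.2.3.4.2 s.2.3.4.1) s.2.3.5 s.2.3.6 (R.mk s.2.3.7.2 s.2.3.7.1) s.2.3.8 s.2.3.9 s.2.3.10 (R.mk s.2.3.11.2 s.2.3.11.1) s.2.3.12 s.2.3.13 (R.mk s.2.3.14.2 s.2.3.14.1) s.2.3.15 s.2.3.16)
  (@T16.mk R s.2.4.1 (R.mk s.2.4.2.2 s.2.4.2.1) (R.mk s.2.4.3.2 s.2.4.3.1) (R.mk s.2.4.4.2 s.2.4.4.1) (R.mk s.2.4.5.2 s.2.4.5.1) (R.mk s.2.4.6.2 s.2.4.6.1) (R.mk s.2.4.7.2 s.2.4.7.1) s.2.4.8 s.2.4.9 s.2.4.10 s.2.4.11 (R.mk s.2.4.12.2 s.2.4.12.1) s.2.4.13 (R.mk s.2.4.14.2 s.2.4.14.1) (R.mk s.2.4.15.2 s.2.4.15.1) (R.mk s.2.4.16.2 s.2.4.16.1))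
  (@T16.mk R (R.mk s.2.5.1.2 s.2.5.1.1) s.2.5.2 (R.mk s.2.5.3.2 s.2.5.3.1) (R.mk s.2.5.4.2 s.2.5.4.1) s.2.5.5 s.2.5.6 (R.mk s.2.5.7.2 s.2.5.7.1) s.2.5.8 s.2.5.9 s.2.5.10 (R.mk s.2.5.11.2 s.2.5.11.1) s.2.5.12 s.2.5.13 (R.mk s.2.5.14.2 s.2.5.14.1) s.2.5.15 s.2.5.16)
  (@T16.mk R (R.mk s.2.6.1.2 s.2.6.1.1) s.2.6.2 s.2.6.3 s.2.6.4 s.2.6.5 s.2.6.6 s.2.6.7 (R.mk s.2.6.8.2 s.2.6.8.1) (R.mk s.2.6.9.2 s.2.6.9.1) (R.mk s.2.6.10.2 s.2.6.10.1) (R.mk s.2.6.11.2 s.2.6.11.1) s.2.6.12 (R.mk s.2.6.13.2 s.2.6.13.1) s.2.6.14 s.2.6.15 s.2.6.16)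
  (@T16.mk R (R.mk s.2.7.1.2 s.2.7.1.1) (R.mk s.2.7.2.2 s.2.7.2.1) (R.mk s.2.7.3.2 s.2.7.3.1) s.2.7.4 (R.mk s.2.7.5.2 s.2.7.5.1) s.2.7.6 s.2.7.7 s.2.7.8 (R.mk s.2.7.9.2 s.2.7.9.1) s.2.7.10 s.2.7.11 s.2.7.12 s.2.7.13 s.2.7.14 s.2.7.15 (R.mk s.2.7.16.2 s.2.7.16.1))
  (@T16.mk R s.2.8.1 s.2.8.2 (R.mk s.2.8.3.2 s.2.8.3.1) s.2.8.4 s.2.8.5 (R.mk s.2.8.6.2 s.2.8.6.1) s.2.8.7 s.2.8.8 (R.mk s.2.8.9.2 s.2.8.9.1) s.2.8.10 (R.mk s.2.8.11.2 s.2.8.11.1) (R.mk s.2.8.12.2 s.2.8.12.1) s.2.8.13 s.2.8.14 (R.mk s.2.8.15.2 s.2.8.15.1) s.2.8.16)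
  (@T16.mk R (R.mk s.2.9.1.2 s.2.9.1.1) (R.mk s.2.9.2.2 s.2.9.2.1) s.2.9.3 (R.mk s.2.9.4.2 s.2.9.4.1) (R.mk s.2.9.5.2 s.2.9.5.1) s.2.9.6 (R.mk s.2.9.7.2 s.2.9.7.1) (R.mk s.2.9.8.2 s.2.9.8.1) s.2.9.9 (R.mk s.2.9.10.2 s.2.9.10.1) s.2.9.11 s.2.9.12 (R.mk s.2.9.13.2 s.2.9.13.1) (R.mk s.2.9.14.2 s.2.9.14.1) s.2.9.15 (R.mk s.2.9.16.2 s.2.9.16.1))
  (@T16.mk R (R.mk s.2.10.1.2 s.2.10.1.1) (R.mk s.2.10.2.2 s.2.10.2.1) (R.mk s.2.10.3.2 s.2.10.3.1) s.2.10.4 (R.mk s.2.10.5.2 s.2.10.5.1) s.2.10.6 s.2.10.7 s.2.10.8 (R.mk s.2.10.9.2 s.2.10.9.1) s.2.10.10 s.2.10.11 s.2.10.12 s.2.10.13 s.2.10.14 s.2.10.15 (R.mk s.2.10.16.2 s.2.10.16.1))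
  (@T16.mk R s.2.11.1 (R.mk s.2.11.2.2 s.2.11.2.1) (R.mk s.2.11.3.2 s.2.11.3.1) (R.mk s.2.11.4.2 s.2.11.4.1) (R.mk s.2.11.5.2 s.2.11.5.1) (R.mk s.2.11.6.2 s.2.11.6.1) (R.mk s.2.11.7.2 s.2.11.7.1) s.2.11.8 s.2.11.9 s.2.11.10 s.2.11.11 (R.mk s.2.11.12.2 s.2.11.12.1) s.2.11.13 (R.mk s.2.11.14.2 s.2.11.14.1) (R.mk s.2.11.15.2 s.2.11.15.1) (R.mk s.2.11.16.2 s.2.11.16.1))
  (@T16.mk R (R.mk s.2.12.1.2 s.2.12.1.1) s.2.12.2 (R.mk s.2.12.3.2 s.2.12.3.1) (R.mk s.2.12.4.2 s.2.12.4.1) s.2.12.5 s.2.12.6 (R.mk s.2.12.7.2 s.2.12.7.1) s.2.12.8 s.2.12.9 s.2.12.10 (R.mk s.2.12.11.2 s.2.12.11.1) s.2.12.12 s.2.12.13 (R.mk s.2.12.14.2 s.2.12.14.1) s.2.12.15 s.2.12.16)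
  (@T16.mk R (R.mk s.2.13.1.2 s.2.13.1.1) s.2.13.2 s.2.13.3 s.2.13.4 s.2.13.5 s.2.13.6 s.2.13.7 (R.mk s.2.13.8.2 s.2.13.8.1) (R.mk s.2.13.9.2 s.2.13.9.1) (R.mk s.2.13.10.2 s.2.13.10.1) (R.mk s.2.13.11.2 s.2.13.11.1) s.2.13.12 (R.mk s.2.13.13.2 s.2.13.13.1) s.2.13.14 s.2.13.15 s.2.13.16)
  (@T16.mk R (R.mk s.2.14.1.2 s.2.14.1.1) s.2.14.2 (R.mk s.2.14.3.2 s.2.14.3.1) (R.mk s.2.14.4.2 s.2.14.4.1) s.2.14.5 s.2.14.6 (R.mk s.2.14.7.2 s.2.14.7.1) s.2.14.8 s.2.14.9 s.2.14.10 (R.mk s.2.14.11.2 s.2.14.11.1) s.2.14.12 s.2.14.13 (R.mk s.2.14.14.2 s.2.14.14.1) s.2.14.15 s.2.14.16)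
  (@T16.mk R s.2.15.1 s.2.15.2 (R.mk s.2.15.3.2 s.2.15.3.1) s.2.15.4 s.2.15.5 (R.mk s.2.15.6.2 s.2.15.6.1) s.2.15.7 s.2.15.8 (R.mk s.2.15.9.2 s.2.15.9.1) s.2.15.10 (R.mk s.2.15.11.2 s.2.15.11.1) (R.mk s.2.15.12.2 s.2.15.12.1) s.2.15.13 s.2.15.14 (R.mk s.2.15.15.2 s.2.15.15.1) s.2.15.16)
  (@T16.mk R (R.mk s.2.16.1.2 s.2.16.1.1) (R.mk s.2.16.2.2 s.2.16.2.1) (R.mk s.2.16.3.2 s.2.16.3.1) s.2.16.4 (R.mk s.2.16.5.2 s.2.16.5.1) s.2.16.6 s.2.16.7 s.2.16.8 (R.mk s.2.16.9.2 s.2.16.9.1) s.2.16.10 s.2.16.11 s.2.16.12 s.2.16.13 s.2.16.14 s.2.16.15 (R.mk s.2.16.16.2 s.2.16.16.1))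
 )
 (@T16.mk (T16 R)
  (@T16.mk R s.3.1.1 s.3.1.2 s.3.1.3 (R.mk s.3.1.4.2 s.3.1.4.1) (R.mk s.3.1.5.2 s.3.1.5.1) s.3.1.6 s.3.1.7 s.3.1.8 (R.mk s.3.1.9.2 s.3.1.9.1) s.3.1.10 s.3.1.11 s.3.1.12 (R.mk s.3.1.13.2 s.3.1.13.1) (R.mk s.3.1.14.2 s.3.1.14.1) (R.mk s.3.1.15.2 s.3.1.15.1) s.3.1.16)
  (@T16.mk R s.3.2.1 s.3.2.2 (R.mk s.3.2.3.2 s.3.2.3.1) s.3.2.4 (R.mk s.3.2.5.2 s.3.2.5.1) s.3.2.6 (R.mk s.3.2.7.2 s.3.2.7.1) (R.mk s.3.2.8.2 s.3.2.8.1) s.3.2.9 (R.mk s.3.2.10.2 s.3.2.10.1) s.3.2.11 s.3.2.12 s.3.2.13 s.3.2.14 (R.mk s.3.2.15.2 s.3.2.15.1) s.3.2.16)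
  (@T16.mk R s.3.3.1 (R.mk s.3.3.2.2 s.3.3.2.1) s.3.3.3 s.3.3.4 s.3.3.5 s.3.3.6 (R.mk s.3.3.7.2 s.3.3.7.1) s.3.3.8 s.3.3.9 s.3.3.10 (R.mk s.3.3.11.2 s.3.3.11.1) s.3.3.12 (R.mk s.3.3.13.2 s.3.3.13.1) s.3.3.14 (R.mk s.3.3.15.2 s.3.3.15.1) (R.mk s.3.3.16.2 s.3.3.16.1))
  (@T16.mk R (R.mk s.3.4.1.2 s.3.4.1.1) s.3.4.2 s.3.4.3 s.3.4.4 (R.mk s.3.4.5.2 s.3.4.5.1) (R.mk s.3.4.6.2 s.3.4.6.1) (R.mk s.3.4.7.2 s.3.4.7.1) s.3.4.8 s.3.4.9 s.3.4.10 s.3.4.11 (R.mk s.3.4.12.2 s.3.4.12.1) (R.mk s.3.4.13.2 s.3.4.13.1) s.3.4.14 s.3.4.15 s.3.4.16)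
  (@T16.mk R (R.mk s.3.5.1.2 s.3.5.1.1) s.3.5.2 (R.mk s.3.5.3.2 s.3.5.3.1) (R.mk s.3.5.4.2 s.3.5.4.1) (R.mk s.3.5.5.2 s.3.5.5.1) (R.mk s.3.5.6.2 s.3.5.6.1) s.3.5.7 (R.mk s.3.5.8.2 s.3.5.8.1) (R.mk s.3.5.9.2 s.3.5.9.1) (R.mk s.3.5.10.2 s.3.5.10.1) s.3.5.11 (R.mk s.3.5.12.2 s.3.5.12.1) s.3.5.13 (R.mk s.3.5.14.2 s.3.5.14.1) s.3.5.15 s.3.5.16)
  (@T16.mk R (R.mk s.3.6.1.2 s.3.6.1.1) s.3.6.2 s.3.6.3 s.3.6.4 (R.mk s.3.6.5.2 s.3.6.5.1) (R.mk s.3.6.6.2 s.3.6.6.1) (R.mk s.3.6.7.2 s.3.6.7.1) s.3.6.8 s.3.6.9 s.3.6.10 s.3.6.11 (R.mk s.3.6.12.2 s.3.6.12.1) (R.mk s.3.6.13.2 s.3.6.13.1) s.3.6.14 s.3.6.15 s.3.6.16)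
  (@T16.mk R (R.mk s.3.7.1.2 s.3.7.1.1) (R.mk s.3.7.2.2 s.3.7.2.1) (R.mk s.3.7.3.2 s.3.7.3.1) s.3.7.4 s.3.7.5 (R.mk s.3.7.6.2 s.3.7.6.1) (R.mk s.3.7.7.2 s.3.7.7.1) (R.mk s.3.7.8.2 s.3.7.8.1) s.3.7.9 (R.mk s.3.7.10.2 s.3.7.10.1) (R.mk s.3.7.11.2 s.3.7.11.1) (R.mk s.3.7.12.2 s.3.7.12.1) s.3.7.13 s.3.7.14 s.3.7.15 (R.mk s.3.7.16.2 s.3.7.16.1))
  (@T16.mk R s.3.8.1 s.3.8.2 (R.mk s.3.8.3.2 s.3.8.3.1) s.3.8.4 (R.mk s.3.8.5.2 s.3.8.5.1) s.3.8.6 (R.mk s.3.8.7.2 s.3.8.7.1) (R.mk s.3.8.8.2 s.3.8.8.1) s.3.8.9 (R.mk s.3.8.10.2 s.3.8.10.1) s.3.8.11 s.3.8.12 s.3.8.13 s.3.8.14 (R.mk s.3.8.15.2 s.3.8.15.1) s.3.8.16)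
  (@T16.mk R s.3.9.1 s.3.9.2 (R.mk s.3.9.3.2 s.3.9.3.1) s.3.9.4 (R.mk s.3.9.5.2 s.3.9.5.1) s.3.9.6 (R.mk s.3.9.7.2 s.3.9.7.1) (R.mk s.3.9.8.2 s.3.9.8.1) s.3.9.9 (R.mk s.3.9.10.2 s.3.9.10.1) s.3.9.11 s.3.9.12 s.3.9.13 s.3.9.14 (R.mk s.3.9.15.2 s.3.9.15.1) s.3.9.16)
  (@T16.mk R s.3.10.1 s.3.10.2 s.3.10.3 (R.mk s.3.10.4.2 s.3.10.4.1) (R.mk s.3.10.5.2 s.3.10.5.1) s.3.10.6 s.3.10.7 s.3.10.8 (R.mk s.3.10.9.2 s.3.10.9.1) s.3.10.10 s.3.10.11 s.3.10.12 (R.mk s.3.10.13.2 s.3.10.13.1) (R.mk s.3.10.14.2 s.3.10.14.1) (R.mk s.3.10.15.2 s.3.10.15.1) s.3.10.16)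
  (@T16.mk R (R.mk s.3.11.1.2 s.3.11.1.1) s.3.11.2 s.3.11.3 s.3.11.4 (R.mk s.3.11.5.2 s.3.11.5.1) (R.mk s.3.11.6.2 s.3.11.6.1) (R.mk s.3.11.7.2 s.3.11.7.1) s.3.11.8 s.3.11.9 s.3.11.10 s.3.11.11 (R.mk s.3.11.12.2 s.3.11.12.1) (R.mk s.3.11.13.2 s.3.11.13.1) s.3.11.14 s.3.11.15 s.3.11.16)
  (@T16.mk R s.3.12.1 (R.mk s.3.12.2.2 s.3.12.2.1) s.3.12.3 s.3.12.4 s.3.12.5 s.3.12.6 (R.mk s.3.12.7.2 s.3.12.7.1) s.3.12.8 s.3.12.9 s.3.12.10 (R.mk s.3.12.11.2 s.3.12.11.1) s.3.12.12 (R.mk s.3.12.13.2 s.3.12.13.1) s.3.12.14 (R.mk s.3.12.15.2 s.3.12.15.1) (R.mk s.3.12.16.2 s.3.12.16.1))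
  (@T16.mk R (R.mk s.3.13.1.2 s.3.13.1.1) s.3.13.2 s.3.13.3 s.3.13.4 (R.mk s.3.13.5.2 s.3.13.5.1) (R.mk s.3.13.6.2 s.3.13.6.1) (R.mk s.3.13.7.2 s.3.13.7.1) s.3.13.8 s.3.13.9 s.3.13.10 s.3.13.11 (R.mk s.3.13.12.2 s.3.13.12.1) (R.mk s.3.13.13.2 s.3.13.13.1) s.3.13.14 s.3.13.15 s.3.13.16)
  (@T16.mk R (R.mk s.3.14.1.2 s.3.14.1.1) s.3.14.2 (R.mk s.3.14.3.2 s.3.14.3.1) (R.mk s.3.14.4.2 s.3.14.4.1) (R.mk s.3.14.5.2 s.3.14.5.1) (R.mk s.3.14.6.2 s.3.14.6.1) s.3.14.7 (R.mk s.3.14.8.2 s.3.14.8.1) (R.mk s.3.14.9.2 s.3.14.9.1) (R.mk s.3.14.10.2 s.3.14.10.1) s.3.14.11 (R.mk s.3.14.12.2 s.3.14.12.1) s.3.14.13 (R.mk s.3.14.14.2 s.3.14.14.1) s.3.14.15 s.3.14.16)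
  (@T16.mk R s.3.15.1 s.3.15.2 (R.mk s.3.15.3.2 s.3.15.3.1) s.3.15.4 (R.mk s.3.15.5.2 s.3.15.5.1) s.3.15.6 (R.mk s.3.15.7.2 s.3.15.7.1) (R.mk s.3.15.8.2 s.3.15.8.1) s.3.15.9 (R.mk s.3.15.10.2 s.3.15.10.1) s.3.15.11 s.3.15.12 s.3.15.13 s.3.15.14 (R.mk s.3.15.15.2 s.3.15.15.1) s.3.15.16)
  (@T16.mk R (R.mk s.3.16.1.2 s.3.16.1.1) (R.mk s.3.16.2.2 s.3.16.2.1) (R.mk s.3.16.3.2 s.3.16.3.1) s.3.16.4 s.3.16.5 (R.mk s.3.16.6.2 s.3.16.6.1) (R.mk s.3.16.7.2 s.3.16.7.1) (R.mk s.3.16.8.2 s.3.16.8.1) s.3.16.9 (R.mk s.3.16.10.2 s.3.16.10.1) (R.mk s.3.16.11.2 s.3.16.11.1) (R.mk s.3.16.12.2 s.3.16.12.1) s.3.16.13 s.3.16.14 s.3.16.15 (R.mk s.3.16.16.2 s.3.16.16.1))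
 )
 (@T16.mk (T16 R)
  (@T16.mk R (R.mk s.4.1.1.2 s.4.1.1.1) s.4.1.2 s.4.1.3 s.4.1.4 (R.mk s.4.1.5.2 s.4.1.5.1) (R.mk s.4.1.6.2 s.4.1.6.1) (R.mk s.4.1.7.2 s.4.1.7.1) s.4.1.8 s.4.1.9 s.4.1.10 s.4.1.11 (R.mk s.4.1.12.2 s.4.1.12.1) (R.mk s.4.1.13.2 s.4.1.13.1) s.4.1.14 s.4.1.15 s.4.1.16)
  (@T16.mk R s.4.2.1 (R.mk s.4.2.2.2 s.4.2.2.1) s.4.2.3 s.4.2.4 s.4.2.5 s.4.2.6 (R.mk s.4.2.7.2 s.4.2.7.1) s.4.2.8 s.4.2.9 s.4.2.10 (R.mk s.4.2.11.2 s.4.2.11.1) s.4.2.12 (R.mk s.4.2.13.2 s.4.2.13.1) s.4.2.14 (R.mk s.4.2.15.2 s.4.2.15.1) (R.mk s.4.2.16.2 s.4.2.16.1))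
  (@T16.mk R s.4.3.1 s.4.3.2 (R.mk s.4.3.3.2 s.4.3.3.1) s.4.3.4 (R.mk s.4.3.5.2 s.4.3.5.1) s.4.3.6 (R.mk s.4.3.7.2 s.4.3.7.1) (R.mk s.4.3.8.2 s.4.3.8.1) s.4.3.9 (R.mk s.4.3.10.2 s.4.3.10.1) s.4.3.11 s.4.3.12 s.4.3.13 s.4.3.14 (R.mk s.4.3.15.2 s.4.3.15.1) s.4.3.16)
  (@T16.mk R s.4.4.1 s.4.4.2 s.4.4.3 (R.mk s.4.4.4.2 s.4.4.4.1) (R.mk s.4.4.5.2 s.4.4.5.1) s.4.4.6 s.4.4.7 s.4.4.8 (R.mk s.4.4.9.2 s.4.4.9.1) s.4.4.10 s.4.4.11 s.4.4.12 (R.mk s.4.4.13.2 s.4.4.13.1) (R.mk s.4.4.14.2 s.4.4.14.1) (R.mk s.4.4.15.2 s.4.4.15.1) s.4.4.16)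
  (@T16.mk R s.4.5.1 s.4.5.2 (R.mk s.4.5.3.2 s.4.5.3.1) s.4.5.4 (R.mk s.4.5.5.2 s.4.5.5.1) s.4.5.6 (R.mk s.4.5.7.2 s.4.5.7.1) (R.mk s.4.5.8.2 s.4.5.8.1) s.4.5.9 (R.mk s.4.5.10.2 s.4.5.10.1) s.4.5.11 s.4.5.12 s.4.5.13 s.4.5.14 (R.mk s.4.5.15.2 s.4.5.15.1) s.4.5.16)
  (@T16.mk R (R.mk s.4.6.1.2 s.4.6.1.1) (R.mk s.4.6.2.2 s.4.6.2.1) (R.mk s.4.6.3.2 s.4.6.3.1) s.4.6.4 s.4.6.5 (R.mk s.4.6.6.2 s.4.6.6.1) (R.mk s.4.6.7.2 s.4.6.7.1) (R.mk s.4.6.8.2 s.4.6.8.1) s.4.6.9 (R.mk s.4.6.10.2 s.4.6.10.1) (R.mk s.4.6.11.2 s.4.6.11.1) (R.mk s.4.6.12.2 s.4.6.12.1) s.4.6.13 s.4.6.14 s.4.6.15 (R.mk s.4.6.16.2 s.4.6.16.1))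
  (@T16.mk R (R.mk s.4.7.1.2 s.4.7.1.1) s.4.7.2 s.4.7.3 s.4.7.4 (R.mk s.4.7.5.2 s.4.7.5.1) (R.mk s.4.7.6.2 s.4.7.6.1) (R.mk s.4.7.7.2 s.4.7.7.1) s.4.7.8 s.4.7.9 s.4.7.10 s.4.7.11 (R.mk s.4.7.12.2 s.4.7.12.1) (R.mk s.4.7.13.2 s.4.7.13.1) s.4.7.14 s.4.7.15 s.4.7.16)
  (@T16.mk R (R.mk s.4.8.1.2 s.4.8.1.1) s.4.8.2 (R.mk s.4.8.3.2 s.4.8.3.1) (R.mk s.4.8.4.2 s.4.8.4.1) (R.mk s.4.8.5.2 s.4.8.5.1) (R.mk s.4.8.6.2 s.4.8.6.1) s.4.8.7 (R.mk s.4.8.8.2 s.4.8.8.1) (R.mk s.4.8.9.2 s.4.8.9.1) (R.mk s.4.8.10.2 s.4.8.10.1) s.4.8.11 (R.mk s.4.8.12.2 s.4.8.12.1) s.4.8.13 (R.mk s.4.8.14.2 s.4.8.14.1) s.4.8.15 s.4.8.16)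
  (@T16.mk R s.4.9.1 (R.mk s.4.9.2.2 s.4.9.2.1) s.4.9.3 s.4.9.4 s.4.9.5 s.4.9.6 (R.mk s.4.9.7.2 s.4.9.7.1) s.4.9.8 s.4.9.9 s.4.9.10 (R.mk s.4.9.11.2 s.4.9.11.1) s.4.9.12 (R.mk s.4.9.13.2 s.4.9.13.1) s.4.9.14 (R.mk s.4.9.15.2 s.4.9.15.1) (R.mk s.4.9.16.2 s.4.9.16.1))
  (@T16.mk R (R.mk s.4.10.1.2 s.4.10.1.1) s.4.10.2 s.4.10.3 s.4.10.4 (R.mk s.4.10.5.2 s.4.10.5.1) (R.mk s.4.10.6.2 s.4.10.6.1) (R.mk s.4.10.7.2 s.4.10.7.1) s.4.10.8 s.4.10.9 s.4.10.10 s.4.10.11 (R.mk s.4.10.12.2 s.4.10.12.1) (R.mk s.4.10.13.2 s.4.10.13.1) s.4.10.14 s.4.10.15 s.4.10.16)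
  (@T16.mk R s.4.11.1 s.4.11.2 s.4.11.3 (R.mk s.4.11.4.2 s.4.11.4.1) (R.mk s.4.11.5.2 s.4.11.5.1) s.4.11.6 s.4.11.7 s.4.11.8 (R.mk s.4.11.9.2 s.4.11.9.1) s.4.11.10 s.4.11.11 s.4.11.12 (R.mk s.4.11.13.2 s.4.11.13.1) (R.mk s.4.11.14.2 s.4.11.14.1) (R.mk s.4.11.15.2 s.4.11.15.1) s.4.11.16)
  (@T16.mk R s.4.12.1 s.4.12.2 (R.mk s.4.12.3.2 s.4.12.3.1) s.4.12.4 (R.mk s.4.12.5.2 s.4.12.5.1) s.4.12.6 (R.mk s.4.12.7.2 s.4.12.7.1) (R.mk s.4.12.8.2 s.4.12.8.1) s.4.12.9 (R.mk s.4.12.10.2 s.4.12.10.1) s.4.12.11 s.4.12.12 s.4.12.13 s.4.12.14 (R.mk s.4.12.15.2 s.4.12.15.1) s.4.12.16)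
  (@T16.mk R (R.mk s.4.13.1.2 s.4.13.1.1) (R.mk s.4.13.2.2 s.4.13.2.1) (R.mk s.4.13.3.2 s.4.13.3.1) s.4.13.4 s.4.13.5 (R.mk s.4.13.6.2 s.4.13.6.1) (R.mk s.4.13.7.2 s.4.13.7.1) (R.mk s.4.13.8.2 s.4.13.8.1) s.4.13.9 (R.mk s.4.13.10.2 s.4.13.10.1) (R.mk s.4.13.11.2 s.4.13.11.1) (R.mk s.4.13.12.2 s.4.13.12.1) s.4.13.13 s.4.13.14 s.4.13.15 (R.mk s.4.13.16.2 s.4.13.16.1))
  (@T16.mk R s.4.14.1 s.4.14.2 (R.mk s.4.14.3.2 s.4.14.3.1) s.4.14.4 (R.mk s.4.14.5.2 s.4.14.5.1) s.4.14.6 (R.mk s.4.14.7.2 s.4.14.7.1) (R.mk s.4.14.8.2 s.4.14.8.1) s.4.14.9 (R.mk s.4.14.10.2 s.4.14.10.1) s.4.14.11 s.4.14.12 s.4.14.13 s.4.14.14 (R.mk s.4.14.15.2 s.4.14.15.1) s.4.14.16)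
  (@T16.mk R (R.mk s.4.15.1.2 s.4.15.1.1) s.4.15.2 (R.mk s.4.15.3.2 s.4.15.3.1) (R.mk s.4.15.4.2 s.4.15.4.1) (R.mk s.4.15.5.2 s.4.15.5.1) (R.mk s.4.15.6.2 s.4.15.6.1) s.4.15.7 (R.mk s.4.15.8.2 s.4.15.8.1) (R.mk s.4.15.9.2 s.4.15.9.1) (R.mk s.4.15.10.2 s.4.15.10.1) s.4.15.11 (R.mk s.4.15.12.2 s.4.15.12.1) s.4.15.13 (R.mk s.4.15.14.2 s.4.15.14.1) s.4.15.15 s.4.15.16)
  (@T16.mk R (R.mk s.4.16.1.2 s.4.16.1.1) s.4.16.2 s.4.16.3 s.4.16.4 (R.mk s.4.16.5.2 s.4.16.5.1) (R.mk s.4.16.6.2 s.4.16.6.1) (R.mk s.4.16.7.2 s.4.16.7.1) s.4.16.8 s.4.16.9 s.4.16.10 s.4.16.11 (R.mk s.4.16.12.2 s.4.16.12.1) (R.mk s.4.16.13.2 s.4.16.13.1) s.4.16.14 s.4.16.15 s.4.16.16)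
 )
 (@T16.mk (T16 R)
  (@T16.mk R s.8.8.7 s.8.8.8 (R.mk s.8.8.5.2 s.8.8.5.1) s.8.8.6 s.8.8.3 (R.mk s.8.8.4.2 s.8.8.4.1) s.8.8.1 s.8.8.2 s.8.8.15 (R.mk s.8.8.16.2 s.8.8.16.1) s.8.8.13 s.8.8.14 (R.mk s.8.8.11.2 s.8.8.11.1) (R.mk s.8.8.12.2 s.8.8.12.1) s.8.8.9 (R.mk s.8.8.10.2 s.8.8.10.1))
  (@T16.mk R (R.mk s.8.7.7.2 s.8.7.7.1) (R.mk s.8.7.8.2 s.8.7.8.1) (R.mk s.8.7.5.2 s.8.7.5.1) s.8.7.6 (R.mk s.8.7.3.2 s.8.7.3.1) s.8.7.4 s.8.7.1 s.8.7.2 s.8.7.15 (R.mk s.8.7.16.2 s.8.7.16.1) (R.mk s.8.7.13.2 s.8.7.13.1) (R.mk s.8.7.14.2 s.8.7.14.1) (R.mk s.8.7.11.2 s.8.7.11.1) (R.mk s.8.7.12.2 s.8.7.12.1) (R.mk s.8.7.9.2 s.8.7.9.1) s.8.7.10)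
  (@T16.mk R (R.mk s.8.6.7.2 s.8.6.7.1) s.8.6.8 s.8.6.5 s.8.6.6 s.8.6.3 s.8.6.4 s.8.6.1 (R.mk s.8.6.2.2 s.8.6.2.1) s.8.6.15 s.8.6.16 s.8.6.13 (R.mk s.8.6.14.2 s.8.6.14.1) s.8.6.11 (R.mk s.8.6.12.2 s.8.6.12.1) (R.mk s.8.6.9.2 s.8.6.9.1) (R.mk s.8.6.10.2 s.8.6.10.1))
  (@T16.mk R (R.mk s.8.5.7.2 s.8.5.7.1) s.8.5.8 (R.mk s.8.5.5.2 s.8.5.5.1) (R.mk s.8.5.6.2 s.8.5.6.1) s.8.5.3 s.8.5.4 (R.mk s.8.5.1.2 s.8.5.1.1) s.8.5.2 (R.mk s.8.5.15.2 s.8.5.15.1) (R.mk s.8.5.16.2 s.8.5.16.1) s.8.5.13 (R.mk s.8.5.14.2 s.8.5.14.1) (R.mk s.8.5.11.2 s.8.5.11.1) s.8.5.12 (R.mk s.8.5.9.2 s.8.5.9.1) (R.mk s.8.5.10.2 s.8.5.10.1))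
  (@T16.mk R (R.mk s.8.4.7.2 s.8.4.7.1) s.8.4.8 s.8.4.5 s.8.4.6 s.8.4.3 s.8.4.4 s.8.4.1 (R.mk s.8.4.2.2 s.8.4.2.1) s.8.4.15 s.8.4.16 s.8.4.13 (R.mk s.8.4.14.2 s.8.4.14.1) s.8.4.11 (R.mk s.8.4.12.2 s.8.4.12.1) (R.mk s.8.4.9.2 s.8.4.9.1) (R.mk s.8.4.10.2 s.8.4.10.1))
  (@T16.mk R s.8.3.7 (R.mk s.8.3.8.2 s.8.3.8.1) s.8.3.5 s.8.3.6 (R.mk s.8.3.3.2 s.8.3.3.1) (R.mk s.8.3.4.2 s.8.3.4.1) s.8.3.1 (R.mk s.8.3.2.2 s.8.3.2.1) s.8.3.15 s.8.3.16 (R.mk s.8.3.13.2 s.8.3.13.1) s.8.3.14 s.8.3.11 (R.mk s.8.3.12.2 s.8.3.12.1) s.8.3.9 s.8.3.10)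
  (@T16.mk R s.8.2.7 s.8.2.8 (R.mk s.8.2.5.2 s.8.2.5.1) s.8.2.6 s.8.2.3 (R.mk s.8.2.4.2 s.8.2.4.1) s.8.2.1 s.8.2.2 s.8.2.15 (R.mk s.8.2.16.2 s.8.2.16.1) s.8.2.13 s.8.2.14 (R.mk s.8.2.11.2 s.8.2.11.1) (R.mk s.8.2.12.2 s.8.2.12.1) s.8.2.9 (R.mk s.8.2.10.2 s.8.2.10.1))
  (@T16.mk R (R.mk s.8.1.7.2 s.8.1.7.1) (R.mk s.8.1.8.2 s.8.1.8.1) (R.mk s.8.1.5.2 s.8.1.5.1) s.8.1.6 (R.mk s.8.1.3.2 s.8.1.3.1) s.8.1.4 s.8.1.1 s.8.1.2 s.8.1.15 (R.mk s.8.1.16.2 s.8.1.16.1) (R.mk s.8.1.13.2 s.8.1.13.1) (R.mk s.8.1.14.2 s.8.1.14.1) (R.mk s.8.1.11.2 s.8.1.11.1) (R.mk s.8.1.12.2 s.8.1.12.1) (R.mk s.8.1.9.2 s.8.1.9.1) s.8.1.10)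
  (@T16.mk R s.8.16.7 s.8.16.8 s.8.16.5 (R.mk s.8.16.6.2 s.8.16.6.1) s.8.16.3 (R.mk s.8.16.4.2 s.8.16.4.1) (R.mk s.8.16.1.2 s.8.16.1.1) (R.mk s.8.16.2.2 s.8.16.2.1) (R.mk s.8.16.15.2 s.8.16.15.1) s.8.16.16 s.8.16.13 s.8.16.14 s.8.16.11 s.8.16.12 s.8.16.9 (R.mk s.8.16.10.2 s.8.16.10.1))
  (@T16.mk R (R.mk s.8.15.7.2 s.8.15.7.1) (R.mk s.8.15.8.2 s.8.15.8.1) s.8.15.5 (R.mk s.8.15.6.2 s.8.15.6.1) (R.mk s.8.15.3.2 s.8.15.3.1) s.8.15.4 (R.mk s.8.15.1.2 s.8.15.1.1) (R.mk s.8.15.2.2 s.8.15.2.1) (R.mk s.8.15.15.2 s.8.15.15.1) s.8.15.16 (R.mk s.8.15.13.2 s.8.15.13.1) (R.mk s.8.15.14.2 s.8.15.14.1) s.8.15.11 s.8.15.12 (R.mk s.8.15.9.2 s.8.15.9.1) s.8.15.10)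
  (@T16.mk R s.8.14.7 (R.mk s.8.14.8.2 s.8.14.8.1) s.8.14.5 s.8.14.6 (R.mk s.8.14.3.2 s.8.14.3.1) (R.mk s.8.14.4.2 s.8.14.4.1) s.8.14.1 (R.mk s.8.14.2.2 s.8.14.2.1) s.8.14.15 s.8.14.16 (R.mk s.8.14.13.2 s.8.14.13.1) s.8.14.14 s.8.14.11 (R.mk s.8.14.12.2 s.8.14.12.1) s.8.14.9 s.8.14.10)
  (@T16.mk R (R.mk s.8.13.7.2 s.8.13.7.1) s.8.13.8 s.8.13.5 s.8.13.6 s.8.13.3 s.8.13.4 s.8.13.1 (R.mk s.8.13.2.2 s.8.13.2.1) s.8.13.15 s.8.13.16 s.8.13.13 (R.mk s.8.13.14.2 s.8.13.14.1) s.8.13.11 (R.mk s.8.13.12.2 s.8.13.12.1) (R.mk s.8.13.9.2 s.8.13.9.1) (R.mk s.8.13.10.2 s.8.13.10.1))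
  (@T16.mk R s.8.12.7 (R.mk s.8.12.8.2 s.8.12.8.1) s.8.12.5 s.8.12.6 (R.mk s.8.12.3.2 s.8.12.3.1) (R.mk s.8.12.4.2 s.8.12.4.1) s.8.12.1 (R.mk s.8.12.2.2 s.8.12.2.1) s.8.12.15 s.8.12.16 (R.mk s.8.12.13.2 s.8.12.13.1) s.8.12.14 s.8.12.11 (R.mk s.8.12.12.2 s.8.12.12.1) s.8.12.9 s.8.12.10)
  (@T16.mk R (R.mk s.8.11.7.2 s.8.11.7.1) s.8.11.8 s.8.11.5 s.8.11.6 s.8.11.3 s.8.11.4 s.8.11.1 (R.mk s.8.11.2.2 s.8.11.2.1) s.8.11.15 s.8.11.16 s.8.11.13 (R.mk s.8.11.14.2 s.8.11.14.1) s.8.11.11 (R.mk s.8.11.12.2 s.8.11.12.1) (R.mk s.8.11.9.2 s.8.11.9.1) (R.mk s.8.11.10.2 s.8.11.10.1))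
  (@T16.mk R s.8.10.7 s.8.10.8 s.8.10.5 (R.mk s.8.10.6.2 s.8.10.6.1) s.8.10.3 (R.mk s.8.10.4.2 s.8.10.4.1) (R.mk s.8.10.1.2 s.8.10.1.1) (R.mk s.8.10.2.2 s.8.10.2.1) (R.mk s.8.10.15.2 s.8.10.15.1) s.8.10.16 s.8.10.13 s.8.10.14 s.8.10.11 s.8.10.12 s.8.10.9 (R.mk s.8.10.10.2 s.8.10.10.1))
  (@T16.mk R s.8.9.7 s.8.9.8 (R.mk s.8.9.5.2 s.8.9.5.1) s.8.9.6 s.8.9.3 (R.mk s.8.9.4.2 s.8.9.4.1) s.8.9.1 s.8.9.2 s.8.9.15 (R.mk s.8.9.16.2 s.8.9.16.1) s.8.9.13 s.8.9.14 (R.mk s.8.9.11.2 s.8.9.11.1) (R.mk s.8.9.12.2 s.8.9.12.1) s.8.9.9 (R.mk s.8.9.10.2 s.8.9.10.1))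
 )
 (@T16.mk (T16 R)
  (@T16.mk R (R.mk s.7.8.7.2 s.7.8.7.1) s.7.8.8 (R.mk s.7.8.5.2 s.7.8.5.1) (R.mk s.7.8.6.2 s.7.8.6.1) s.7.8.3 s.7.8.4 (R.mk s.7.8.1.2 s.7.8.1.1) s.7.8.2 (R.mk s.7.8.15.2 s.7.8.15.1) (R.mk s.7.8.16.2 s.7.8.16.1) s.7.8.13 (R.mk s.7.8.14.2 s.7.8.14.1) (R.mk s.7.8.11.2 s.7.8.11.1) s.7.8.12 (R.mk s.7.8.9.2 s.7.8.9.1) (R.mk s.7.8.10.2 s.7.8.10.1))
  (@T16.mk R (R.mk s.7.7.7.2 s.7.7.7.1) s.7.7.8 s.7.7.5 s.7.7.6 s.7.7.3 s.7.7.4 s.7.7.1 (R.mk s.7.7.2.2 s.7.7.2.1) s.7.7.15 s.7.7.16 s.7.7.13 (R.mk s.7.7.14.2 s.7.7.14.1) s.7.7.11 (R.mk s.7.7.12.2 s.7.7.12.1) (R.mk s.7.7.9.2 s.7.7.9.1) (R.mk s.7.7.10.2 s.7.7.10.1))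
  (@T16.mk R s.7.6.7 s.7.6.8 s.7.6.5 (R.mk s.7.6.6.2 s.7.6.6.1) s.7.6.3 (R.mk s.7.6.4.2 s.7.6.4.1) (R.mk s.7.6.1.2 s.7.6.1.1) (R.mk s.7.6.2.2 s.7.6.2.1) (R.mk s.7.6.15.2 s.7.6.15.1) s.7.6.16 s.7.6.13 s.7.6.14 s.7.6.11 s.7.6.12 s.7.6.9 (R.mk s.7.6.10.2 s.7.6.10.1))
  (@T16.mk R s.7.5.7 s.7.5.8 (R.mk s.7.5.5.2 s.7.5.5.1) s.7.5.6 s.7.5.3 (R.mk s.7.5.4.2 s.7.5.4.1) s.7.5.1 s.7.5.2 s.7.5.15 (R.mk s.7.5.16.2 s.7.5.16.1) s.7.5.13 s.7.5.14 (R.mk s.7.5.11.2 s.7.5.11.1) (R.mk s.7.5.12.2 s.7.5.12.1) s.7.5.9 (R.mk s.7.5.10.2 s.7.5.10.1))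
  (@T16.mk R (R.mk s.7.4.7.2 s.7.4.7.1) (R.mk s.7.4.8.2 s.7.4.8.1) (R.mk s.7.4.5.2 s.7.4.5.1) s.7.4.6 (R.mk s.7.4.3.2 s.7.4.3.1) s.7.4.4 s.7.4.1 s.7.4.2 s.7.4.15 (R.mk s.7.4.16.2 s.7.4.16.1) (R.mk s.7.4.13.2 s.7.4.13.1) (R.mk s.7.4.14.2 s.7.4.14.1) (R.mk s.7.4.11.2 s.7.4.11.1) (R.mk s.7.4.12.2 s.7.4.12.1) (R.mk s.7.4.9.2 s.7.4.9.1) s.7.4.10)
  (@T16.mk R s.7.3.7 s.7.3.8 (R.mk s.7.3.5.2 s.7.3.5.1) s.7.3.6 s.7.3.3 (R.mk s.7.3.4.2 s.7.3.4.1) s.7.3.1 s.7.3.2 s.7.3.15 (R.mk s.7.3.16.2 s.7.3.16.1) s.7.3.13 s.7.3.14 (R.mk s.7.3.11.2 s.7.3.11.1) (R.mk s.7.3.12.2 s.7.3.12.1) s.7.3.9 (R.mk s.7.3.10.2 s.7.3.10.1))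
  (@T16.mk R (R.mk s.7.2.7.2 s.7.2.7.1) s.7.2.8 (R.mk s.7.2.5.2 s.7.2.5.1) (R.mk s.7.2.6.2 s.7.2.6.1) s.7.2.3 s.7.2.4 (R.mk s.7.2.1.2 s.7.2.1.1) s.7.2.2 (R.mk s.7.2.15.2 s.7.2.15.1) (R.mk s.7.2.16.2 s.7.2.16.1) s.7.2.13 (R.mk s.7.2.14.2 s.7.2.14.1) (R.mk s.7.2.11.2 s.7.2.11.1) s.7.2.12 (R.mk s.7.2.9.2 s.7.2.9.1) (R.mk s.7.2.10.2 s.7.2.10.1))
  (@T16.mk R (R.mk s.7.1.7.2 s.7.1.7.1) s.7.1.8 s.7.1.5 s.7.1.6 s.7.1.3 s.7.1.4 s.7.1.1 (R.mk s.7.1.2.2 s.7.1.2.1) s.7.1.15 s.7.1.16 s.7.1.13 (R.mk s.7.1.14.2 s.7.1.14.1) s.7.1.11 (R.mk s.7.1.12.2 s.7.1.12.1) (R.mk s.7.1.9.2 s.7.1.9.1) (R.mk s.7.1.10.2 s.7.1.10.1))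
  (@T16.mk R s.7.16.7 (R.mk s.7.16.8.2 s.7.16.8.1) (R.mk s.7.16.5.2 s.7.16.5.1) (R.mk s.7.16.6.2 s.7.16.6.1) (R.mk s.7.16.3.2 s.7.16.3.1) (R.mk s.7.16.4.2 s.7.16.4.1) (R.mk s.7.16.1.2 s.7.16.1.1) s.7.16.2 (R.mk s.7.16.15.2 s.7.16.15.1) (R.mk s.7.16.16.2 s.7.16.16.1) (R.mk s.7.16.13.2 s.7.16.13.1) s.7.16.14 (R.mk s.7.16.11.2 s.7.16.11.1) s.7.16.12 s.7.16.9 s.7.16.10)
  (@T16.mk R (R.mk s.7.15.7.2 s.7.15.7.1) s.7.15.8 (R.mk s.7.15.5.2 s.7.15.5.1) (R.mk s.7.15.6.2 s.7.15.6.1) s.7.15.3 s.7.15.4 (R.mk s.7.15.1.2 s.7.15.1.1) s.7.15.2 (R.mk s.7.15.15.2 s.7.15.15.1) (R.mk s.7.15.16.2 s.7.15.16.1) s.7.15.13 (R.mk s.7.15.14.2 s.7.15.14.1) (R.mk s.7.15.11.2 s.7.15.11.1) s.7.15.12 (R.mk s.7.15.9.2 s.7.15.9.1) (R.mk s.7.15.10.2 s.7.15.10.1))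
  (@T16.mk R s.7.14.7 s.7.14.8 (R.mk s.7.14.5.2 s.7.14.5.1) s.7.14.6 s.7.14.3 (R.mk s.7.14.4.2 s.7.14.4.1) s.7.14.1 s.7.14.2 s.7.14.15 (R.mk s.7.14.16.2 s.7.14.16.1) s.7.14.13 s.7.14.14 (R.mk s.7.14.11.2 s.7.14.11.1) (R.mk s.7.14.12.2 s.7.14.12.1) s.7.14.9 (R.mk s.7.14.10.2 s.7.14.10.1))
  (@T16.mk R s.7.13.7 s.7.13.8 s.7.13.5 (R.mk s.7.13.6.2 s.7.13.6.1) s.7.13.3 (R.mk s.7.13.4.2 s.7.13.4.1) (R.mk s.7.13.1.2 s.7.13.1.1) (R.mk s.7.13.2.2 s.7.13.2.1) (R.mk s.7.13.15.2 s.7.13.15.1) s.7.13.16 s.7.13.13 s.7.13.14 s.7.13.11 s.7.13.12 s.7.13.9 (R.mk s.7.13.10.2 s.7.13.10.1))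
  (@T16.mk R (R.mk s.7.12.7.2 s.7.12.7.1) (R.mk s.7.12.8.2 s.7.12.8.1) s.7.12.5 (R.mk s.7.12.6.2 s.7.12.6.1) (R.mk s.7.12.3.2 s.7.12.3.1) s.7.12.4 (R.mk s.7.12.1.2 s.7.12.1.1) (R.mk s.7.12.2.2 s.7.12.2.1) (R.mk s.7.12.15.2 s.7.12.15.1) s.7.12.16 (R.mk s.7.12.13.2 s.7.12.13.1) (R.mk s.7.12.14.2 s.7.12.14.1) s.7.12.11 s.7.12.12 (R.mk s.7.12.9.2 s.7.12.9.1) s.7.12.10)
  (@T16.mk R (R.mk s.7.11.7.2 s.7.11.7.1) (R.mk s.7.11.8.2 s.7.11.8.1) (R.mk s.7.11.5.2 s.7.11.5.1) s.7.11.6 (R.mk s.7.11.3.2 s.7.11.3.1) s.7.11.4 s.7.11.1 s.7.11.2 s.7.11.15 (R.mk s.7.11.16.2 s.7.11.16.1) (R.mk s.7.11.13.2 s.7.11.13.1) (R.mk s.7.11.14.2 s.7.11.14.1) (R.mk s.7.11.11.2 s.7.11.11.1) (R.mk s.7.11.12.2 s.7.11.12.1) (R.mk s.7.11.9.2 s.7.11.9.1) s.7.11.10)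
  (@T16.mk R s.7.10.7 (R.mk s.7.10.8.2 s.7.10.8.1) (R.mk s.7.10.5.2 s.7.10.5.1) (R.mk s.7.10.6.2 s.7.10.6.1) (R.mk s.7.10.3.2 s.7.10.3.1) (R.mk s.7.10.4.2 s.7.10.4.1) (R.mk s.7.10.1.2 s.7.10.1.1) s.7.10.2 (R.mk s.7.10.15.2 s.7.10.15.1) (R.mk s.7.10.16.2 s.7.10.16.1) (R.mk s.7.10.13.2 s.7.10.13.1) s.7.10.14 (R.mk s.7.10.11.2 s.7.10.11.1) s.7.10.12 s.7.10.9 s.7.10.10)
  (@T16.mk R s.7.9.7 (R.mk s.7.9.8.2 s.7.9.8.1) s.7.9.5 s.7.9.6 (R.mk s.7.9.3.2 s.7.9.3.1) (R.mk s.7.9.4.2 s.7.9.4.1) s.7.9.1 (R.mk s.7.9.2.2 s.7.9.2.1) s.7.9.15 s.7.9.16 (R.mk s.7.9.13.2 s.7.9.13.1) s.7.9.14 s.7.9.11 (R.mk s.7.9.12.2 s.7.9.12.1) s.7.9.9 s.7.9.10)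
 )
 (@T16.mk (T16 R)
  (@T16.mk R s.6.8.7 (R.mk s.6.8.8.2 s.6.8.8.1) s.6.8.5 s.6.8.6 s.6.8.3 s.6.8.4 (R.mk s.6.8.1.2 s.6.8.1.1) s.6.8.2 (R.mk s.6.8.15.2 s.6.8.15.1) (R.mk s.6.8.16.2 s.6.8.16.1) s.6.8.13 (R.mk s.6.8.14.2 s.6.8.14.1) s.6.8.11 (R.mk s.6.8.12.2 s.6.8.12.1) s.6.8.9 s.6.8.10)
  (@T16.mk R (R.mk s.6.7.7.2 s.6.7.7.1) s.6.7.8 s.6.7.5 s.6.7.6 (R.mk s.6.7.3.2 s.6.7.3.1) (R.mk s.6.7.4.2 s.6.7.4.1) (R.mk s.6.7.1.2 s.6.7.1.1) s.6.7.2 (R.mk s.6.7.15.2 s.6.7.15.1) (R.mk s.6.7.16.2 s.6.7.16.1) (R.mk s.6.7.13.2 s.6.7.13.1) s.6.7.14 s.6.7.11 (R.mk s.6.7.12.2 s.6.7.12.1) (R.mk s.6.7.9.2 s.6.7.9.1) (R.mk s.6.7.10.2 s.6.7.10.1))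
  (@T16.mk R s.6.6.7 s.6.6.8 s.6.6.5 (R.mk s.6.6.6.2 s.6.6.6.1) (R.mk s.6.6.3.2 s.6.6.3.1) s.6.6.4 s.6.6.1 s.6.6.2 s.6.6.15 (R.mk s.6.6.16.2 s.6.6.16.1) (R.mk s.6.6.13.2 s.6.6.13.1) (R.mk s.6.6.14.2 s.6.6.14.1) s.6.6.11 s.6.6.12 s.6.6.9 (R.mk s.6.6.10.2 s.6.6.10.1))
  (@T16.mk R s.6.5.7 s.6.5.8 (R.mk s.6.5.5.2 s.6.5.5.1) s.6.5.6 (R.mk s.6.5.3.2 s.6.5.3.1) s.6.5.4 (R.mk s.6.5.1.2 s.6.5.1.1) (R.mk s.6.5.2.2 s.6.5.2.1) (R.mk s.6.5.15.2 s.6.5.15.1) s.6.5.16 (R.mk s.6.5.13.2 s.6.5.13.1) (R.mk s.6.5.14.2 s.6.5.14.1) (R.mk s.6.5.11.2 s.6.5.11.1) (R.mk s.6.5.12.2 s.6.5.12.1) s.6.5.9 (R.mk s.6.5.10.2 s.6.5.10.1))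
  (@T16.mk R s.6.4.7 s.6.4.8 s.6.4.5 (R.mk s.6.4.6.2 s.6.4.6.1) (R.mk s.6.4.3.2 s.6.4.3.1) s.6.4.4 s.6.4.1 s.6.4.2 s.6.4.15 (R.mk s.6.4.16.2 s.6.4.16.1) (R.mk s.6.4.13.2 s.6.4.13.1) (R.mk s.6.4.14.2 s.6.4.14.1) s.6.4.11 s.6.4.12 s.6.4.9 (R.mk s.6.4.10.2 s.6.4.10.1))
  (@T16.mk R (R.mk s.6.3.7.2 s.6.3.7.1) (R.mk s.6.3.8.2 s.6.3.8.1) s.6.3.5 (R.mk s.6.3.6.2 s.6.3.6.1) s.6.3.3 (R.mk s.6.3.4.2 s.6.3.4.1) s.6.3.1 s.6.3.2 s.6.3.15 (R.mk s.6.3.16.2 s.6.3.16.1) s.6.3.13 s.6.3.14 s.6.3.11 s.6.3.12 (R.mk s.6.3.9.2 s.6.3.9.1) s.6.3.10)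
  (@T16.mk R s.6.2.7 (R.mk s.6.2.8.2 s.6.2.8.1) s.6.2.5 s.6.2.6 s.6.2.3 s.6.2.4 (R.mk s.6.2.1.2 s.6.2.1.1) s.6.2.2 (R.mk s.6.2.15.2 s.6.2.15.1) (R.mk s.6.2.16.2 s.6.2.16.1) s.6.2.13 (R.mk s.6.2.14.2 s.6.2.14.1) s.6.2.11 (R.mk s.6.2.12.2 s.6.2.12.1) s.6.2.9 s.6.2.10)
  (@T16.mk R (R.mk s.6.1.7.2 s.6.1.7.1) s.6.1.8 s.6.1.5 s.6.1.6 (R.mk s.6.1.3.2 s.6.1.3.1) (R.mk s.6.1.4.2 s.6.1.4.1) (R.mk s.6.1.1.2 s.6.1.1.1) s.6.1.2 (R.mk s.6.1.15.2 s.6.1.15.1) (R.mk s.6.1.16.2 s.6.1.16.1) (R.mk s.6.1.13.2 s.6.1.13.1) s.6.1.14 s.6.1.11 (R.mk s.6.1.12.2 s.6.1.12.1) (R.mk s.6.1.9.2 s.6.1.9.1) (R.mk s.6.1.10.2 s.6.1.10.1))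
  (@T16.mk R s.6.16.7 (R.mk s.6.16.8.2 s.6.16.8.1) (R.mk s.6.16.5.2 s.6.16.5.1) (R.mk s.6.16.6.2 s.6.16.6.1) s.6.16.3 s.6.16.4 s.6.16.1 (R.mk s.6.16.2.2 s.6.16.2.1) s.6.16.15 s.6.16.16 s.6.16.13 (R.mk s.6.16.14.2 s.6.16.14.1) (R.mk s.6.16.11.2 s.6.16.11.1) s.6.16.12 s.6.16.9 s.6.16.10)
  (@T16.mk R (R.mk s.6.15.7.2 s.6.15.7.1) s.6.15.8 (R.mk s.6.15.5.2 s.6.15.5.1) (R.mk s.6.15.6.2 s.6.15.6.1) (R.mk s.6.15.3.2 s.6.15.3.1) (R.mk s.6.15.4.2 s.6.15.4.1) s.6.15.1 (R.mk s.6.15.2.2 s.6.15.2.1) s.6.15.15 s.6.15.16 (R.mk s.6.15.13.2 s.6.15.13.1) s.6.15.14 (R.mk s.6.15.11.2 s.6.15.11.1) s.6.15.12 (R.mk s.6.15.9.2 s.6.15.9.1) (R.mk s.6.15.10.2 s.6.15.10.1))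
  (@T16.mk R s.6.14.7 s.6.14.8 (R.mk s.6.14.5.2 s.6.14.5.1) s.6.14.6 (R.mk s.6.14.3.2 s.6.14.3.1) s.6.14.4 (R.mk s.6.14.1.2 s.6.14.1.1) (R.mk s.6.14.2.2 s.6.14.2.1) (R.mk s.6.14.15.2 s.6.14.15.1) s.6.14.16 (R.mk s.6.14.13.2 s.6.14.13.1) (R.mk s.6.14.14.2 s.6.14.14.1) (R.mk s.6.14.11.2 s.6.14.11.1) (R.mk s.6.14.12.2 s.6.14.12.1) s.6.14.9 (R.mk s.6.14.10.2 s.6.14.10.1))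
  (@T16.mk R (R.mk s.6.13.7.2 s.6.13.7.1) (R.mk s.6.13.8.2 s.6.13.8.1) (R.mk s.6.13.5.2 s.6.13.5.1) s.6.13.6 s.6.13.3 (R.mk s.6.13.4.2 s.6.13.4.1) (R.mk s.6.13.1.2 s.6.13.1.1) (R.mk s.6.13.2.2 s.6.13.2.1) (R.mk s.6.13.15.2 s.6.13.15.1) s.6.13.16 s.6.13.13 s.6.13.14 (R.mk s.6.13.11.2 s.6.13.11.1) (R.mk s.6.13.12.2 s.6.13.12.1) (R.mk s.6.13.9.2 s.6.13.9.1) s.6.13.10)
  (@T16.mk R (R.mk s.6.12.7.2 s.6.12.7.1) (R.mk s.6.12.8.2 s.6.12.8.1) s.6.12.5 (R.mk s.6.12.6.2 s.6.12.6.1) s.6.12.3 (R.mk s.6.12.4.2 s.6.12.4.1) s.6.12.1 s.6.12.2 s.6.12.15 (R.mk s.6.12.16.2 s.6.12.16.1) s.6.12.13 s.6.12.14 s.6.12.11 s.6.12.12 (R.mk s.6.12.9.2 s.6.12.9.1) s.6.12.10)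
  (@T16.mk R s.6.11.7 s.6.11.8 s.6.11.5 (R.mk s.6.11.6.2 s.6.11.6.1) (R.mk s.6.11.3.2 s.6.11.3.1) s.6.11.4 s.6.11.1 s.6.11.2 s.6.11.15 (R.mk s.6.11.16.2 s.6.11.16.1) (R.mk s.6.11.13.2 s.6.11.13.1) (R.mk s.6.11.14.2 s.6.11.14.1) s.6.11.11 s.6.11.12 s.6.11.9 (R.mk s.6.11.10.2 s.6.11.10.1))
  (@T16.mk R (R.mk s.6.10.7.2 s.6.10.7.1) s.6.10.8 s.6.10.5 s.6.10.6 (R.mk s.6.10.3.2 s.6.10.3.1) (R.mk s.6.10.4.2 s.6.10.4.1) (R.mk s.6.10.1.2 s.6.10.1.1) s.6.10.2 (R.mk s.6.10.15.2 s.6.10.15.1) (R.mk s.6.10.16.2 s.6.10.16.1) (R.mk s.6.10.13.2 s.6.10.13.1) s.6.10.14 s.6.10.11 (R.mk s.6.10.12.2 s.6.10.12.1) (R.mk s.6.10.9.2 s.6.10.9.1) (R.mk s.6.10.10.2 s.6.10.10.1))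
  (@T16.mk R (R.mk s.6.9.7.2 s.6.9.7.1) s.6.9.8 (R.mk s.6.9.5.2 s.6.9.5.1) (R.mk s.6.9.6.2 s.6.9.6.1) (R.mk s.6.9.3.2 s.6.9.3.1) (R.mk s.6.9.4.2 s.6.9.4.1) s.6.9.1 (R.mk s.6.9.2.2 s.6.9.2.1) s.6.9.15 s.6.9.16 (R.mk s.6.9.13.2 s.6.9.13.1) s.6.9.14 (R.mk s.6.9.11.2 s.6.9.11.1) s.6.9.12 (R.mk s.6.9.9.2 s.6.9.9.1) (R.mk s.6.9.10.2 s.6.9.10.1))
 )
 (@T16.mk (T16 R)
  (@T16.mk R s.5.8.7 s.5.8.8 (R.mk s.5.8.5.2 s.5.8.5.1) s.5.8.6 (R.mk s.5.8.3.2 s.5.8.3.1) s.5.8.4 (R.mk s.5.8.1.2 s.5.8.1.1) (R.mk s.5.8.2.2 s.5.8.2.1) (R.mk s.5.8.15.2 s.5.8.15.1) s.5.8.16 (R.mk s.5.8.13.2 s.5.8.13.1) (R.mk s.5.8.14.2 s.5.8.14.1) (R.mk s.5.8.11.2 s.5.8.11.1) (R.mk s.5.8.12.2 s.5.8.12.1) s.5.8.9 (R.mk s.5.8.10.2 s.5.8.10.1))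
  (@T16.mk R s.5.7.7 s.5.7.8 s.5.7.5 (R.mk s.5.7.6.2 s.5.7.6.1) (R.mk s.5.7.3.2 s.5.7.3.1) s.5.7.4 s.5.7.1 s.5.7.2 s.5.7.15 (R.mk s.5.7.16.2 s.5.7.16.1) (R.mk s.5.7.13.2 s.5.7.13.1) (R.mk s.5.7.14.2 s.5.7.14.1) s.5.7.11 s.5.7.12 s.5.7.9 (R.mk s.5.7.10.2 s.5.7.10.1))
  (@T16.mk R s.5.6.7 (R.mk s.5.6.8.2 s.5.6.8.1) (R.mk s.5.6.5.2 s.5.6.5.1) (R.mk s.5.6.6.2 s.5.6.6.1) s.5.6.3 s.5.6.4 s.5.6.1 (R.mk s.5.6.2.2 s.5.6.2.1) s.5.6.15 s.5.6.16 s.5.6.13 (R.mk s.5.6.14.2 s.5.6.14.1) (R.mk s.5.6.11.2 s.5.6.11.1) s.5.6.12 s.5.6.9 s.5.6.10)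
  (@T16.mk R s.5.5.7 (R.mk s.5.5.8.2 s.5.5.8.1) s.5.5.5 s.5.5.6 s.5.5.3 s.5.5.4 (R.mk s.5.5.1.2 s.5.5.1.1) s.5.5.2 (R.mk s.5.5.15.2 s.5.5.15.1) (R.mk s.5.5.16.2 s.5.5.16.1) s.5.5.13 (R.mk s.5.5.14.2 s.5.5.14.1) s.5.5.11 (R.mk s.5.5.12.2 s.5.5.12.1) s.5.5.9 s.5.5.10)
  (@T16.mk R (R.mk s.5.4.7.2 s.5.4.7.1) s.5.4.8 s.5.4.5 s.5.4.6 (R.mk s.5.4.3.2 s.5.4.3.1) (R.mk s.5.4.4.2 s.5.4.4.1) (R.mk s.5.4.1.2 s.5.4.1.1) s.5.4.2 (R.mk s.5.4.15.2 s.5.4.15.1) (R.mk s.5.4.16.2 s.5.4.16.1) (R.mk s.5.4.13.2 s.5.4.13.1) s.5.4.14 s.5.4.11 (R.mk s.5.4.12.2 s.5.4.12.1) (R.mk s.5.4.9.2 s.5.4.9.1) (R.mk s.5.4.10.2 s.5.4.10.1))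
  (@T16.mk R s.5.3.7 (R.mk s.5.3.8.2 s.5.3.8.1) s.5.3.5 s.5.3.6 s.5.3.3 s.5.3.4 (R.mk s.5.3.1.2 s.5.3.1.1) s.5.3.2 (R.mk s.5.3.15.2 s.5.3.15.1) (R.mk s.5.3.16.2 s.5.3.16.1) s.5.3.13 (R.mk s.5.3.14.2 s.5.3.14.1) s.5.3.11 (R.mk s.5.3.12.2 s.5.3.12.1) s.5.3.9 s.5.3.10)
  (@T16.mk R s.5.2.7 s.5.2.8 (R.mk s.5.2.5.2 s.5.2.5.1) s.5.2.6 (R.mk s.5.2.3.2 s.5.2.3.1) s.5.2.4 (R.mk s.5.2.1.2 s.5.2.1.1) (R.mk s.5.2.2.2 s.5.2.2.1) (R.mk s.5.2.15.2 s.5.2.15.1) s.5.2.16 (R.mk s.5.2.13.2 s.5.2.13.1) (R.mk s.5.2.14.2 s.5.2.14.1) (R.mk s.5.2.11.2 s.5.2.11.1) (R.mk s.5.2.12.2 s.5.2.12.1) s.5.2.9 (R.mk s.5.2.10.2 s.5.2.10.1))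
  (@T16.mk R s.5.1.7 s.5.1.8 s.5.1.5 (R.mk s.5.1.6.2 s.5.1.6.1) (R.mk s.5.1.3.2 s.5.1.3.1) s.5.1.4 s.5.1.1 s.5.1.2 s.5.1.15 (R.mk s.5.1.16.2 s.5.1.16.1) (R.mk s.5.1.13.2 s.5.1.13.1) (R.mk s.5.1.14.2 s.5.1.14.1) s.5.1.11 s.5.1.12 s.5.1.9 (R.mk s.5.1.10.2 s.5.1.10.1))
  (@T16.mk R s.5.16.7 s.5.16.8 s.5.16.5 (R.mk s.5.16.6.2 s.5.16.6.1) (R.mk s.5.16.3.2 s.5.16.3.1) s.5.16.4 s.5.16.1 s.5.16.2 s.5.16.15 (R.mk s.5.16.16.2 s.5.16.16.1) (R.mk s.5.16.13.2 s.5.16.13.1) (R.mk s.5.16.14.2 s.5.16.14.1) s.5.16.11 s.5.16.12 s.5.16.9 (R.mk s.5.16.10.2 s.5.16.10.1))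
  (@T16.mk R (R.mk s.5.15.7.2 s.5.15.7.1) (R.mk s.5.15.8.2 s.5.15.8.1) s.5.15.5 (R.mk s.5.15.6.2 s.5.15.6.1) s.5.15.3 (R.mk s.5.15.4.2 s.5.15.4.1) s.5.15.1 s.5.15.2 s.5.15.15 (R.mk s.5.15.16.2 s.5.15.16.1) s.5.15.13 s.5.15.14 s.5.15.11 s.5.15.12 (R.mk s.5.15.9.2 s.5.15.9.1) s.5.15.10)
  (@T16.mk R s.5.14.7 (R.mk s.5.14.8.2 s.5.14.8.1) s.5.14.5 s.5.14.6 s.5.14.3 s.5.14.4 (R.mk s.5.14.1.2 s.5.14.1.1) s.5.14.2 (R.mk s.5.14.15.2 s.5.14.15.1) (R.mk s.5.14.16.2 s.5.14.16.1) s.5.14.13 (R.mk s.5.14.14.2 s.5.14.14.1) s.5.14.11 (R.mk s.5.14.12.2 s.5.14.12.1) s.5.14.9 s.5.14.10)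
  (@T16.mk R s.5.13.7 (R.mk s.5.13.8.2 s.5.13.8.1) (R.mk s.5.13.5.2 s.5.13.5.1) (R.mk s.5.13.6.2 s.5.13.6.1) s.5.13.3 s.5.13.4 s.5.13.1 (R.mk s.5.13.2.2 s.5.13.2.1) s.5.13.15 s.5.13.16 s.5.13.13 (R.mk s.5.13.14.2 s.5.13.14.1) (R.mk s.5.13.11.2 s.5.13.11.1) s.5.13.12 s.5.13.9 s.5.13.10)
  (@T16.mk R s.5.12.7 (R.mk s.5.12.8.2 s.5.12.8.1) s.5.12.5 s.5.12.6 s.5.12.3 s.5.12.4 (R.mk s.5.12.1.2 s.5.12.1.1) s.5.12.2 (R.mk s.5.12.15.2 s.5.12.15.1) (R.mk s.5.12.16.2 s.5.12.16.1) s.5.12.13 (R.mk s.5.12.14.2 s.5.12.14.1) s.5.12.11 (R.mk s.5.12.12.2 s.5.12.12.1) s.5.12.9 s.5.12.10)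
  (@T16.mk R s.5.11.7 (R.mk s.5.11.8.2 s.5.11.8.1) (R.mk s.5.11.5.2 s.5.11.5.1) (R.mk s.5.11.6.2 s.5.11.6.1) s.5.11.3 s.5.11.4 s.5.11.1 (R.mk s.5.11.2.2 s.5.11.2.1) s.5.11.15 s.5.11.16 s.5.11.13 (R.mk s.5.11.14.2 s.5.11.14.1) (R.mk s.5.11.11.2 s.5.11.11.1) s.5.11.12 s.5.11.9 s.5.11.10)
  (@T16.mk R (R.mk s.5.10.7.2 s.5.10.7.1) (R.mk s.5.10.8.2 s.5.10.8.1) (R.mk s.5.10.5.2 s.5.10.5.1) s.5.10.6 s.5.10.3 (R.mk s.5.10.4.2 s.5.10.4.1) (R.mk s.5.10.1.2 s.5.10.1.1) (R.mk s.5.10.2.2 s.5.10.2.1) (R.mk s.5.10.15.2 s.5.10.15.1) s.5.10.16 s.5.10.13 s.5.10.14 (R.mk s.5.10.11.2 s.5.10.11.1) (R.mk s.5.10.12.2 s.5.10.12.1) (R.mk s.5.10.9.2 s.5.10.9.1) s.5.10.10)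
  (@T16.mk R (R.mk s.5.9.7.2 s.5.9.7.1) (R.mk s.5.9.8.2 s.5.9.8.1) s.5.9.5 (R.mk s.5.9.6.2 s.5.9.6.1) s.5.9.3 (R.mk s.5.9.4.2 s.5.9.4.1) s.5.9.1 s.5.9.2 s.5.9.15 (R.mk s.5.9.16.2 s.5.9.16.1) s.5.9.13 s.5.9.14 s.5.9.11 s.5.9.12 (R.mk s.5.9.9.2 s.5.9.9.1) s.5.9.10)
 )
 (@T16.mk (T16 R)
  (@T16.mk R s.9.1.12 s.9.1.11 s.9.1.10 s.9.1.9 s.9.1.16 s.9.1.15 s.9.1.14 s.9.1.13 s.9.1.4 s.9.1.3 s.9.1.2 s.9.1.1 s.9.1.8 s.9.1.7 s.9.1.6 s.9.1.5)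
  (@T16.mk R (R.mk s.9.2.6.2 s.9.2.6.1) (R.mk s.9.2.5.2 s.9.2.5.1) (R.mk s.9.2.8.2 s.9.2.8.1) (R.mk s.9.2.7.2 s.9.2.7.1) (R.mk s.9.2.2.2 s.9.2.2.1) (R.mk s.9.2.1.2 s.9.2.1.1) (R.mk s.9.2.4.2 s.9.2.4.1) (R.mk s.9.2.3.2 s.9.2.3.1) (R.mk s.9.2.14.2 s.9.2.14.1) (R.mk s.9.2.13.2 s.9.2.13.1) (R.mk s.9.2.16.2 s.9.2.16.1) (R.mk s.9.2.15.2 s.9.2.15.1) (R.mk s.9.2.10.2 s.9.2.10.1) (R.mk s.9.2.9.2 s.9.2.9.1) (R.mk s.9.2.12.2 s.9.2.12.1) (R.mk s.9.2.11.2 s.9.2.11.1))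
  (@T16.mk R s.9.3.15 s.9.3.16 s.9.3.13 s.9.3.14 s.9.3.11 s.9.3.12 s.9.3.9 s.9.3.10 s.9.3.7 s.9.3.8 s.9.3.5 s.9.3.6 s.9.3.3 s.9.3.4 s.9.3.1 s.9.3.2)
  (@T16.mk R (R.mk s.9.4.11.2 s.9.4.11.1) (R.mk s.9.4.12.2 s.9.4.12.1) (R.mk s.9.4.9.2 s.9.4.9.1) (R.mk s.9.4.10.2 s.9.4.10.1) (R.mk s.9.4.15.2 s.9.4.15.1) (R.mk s.9.4.16.2 s.9.4.16.1) (R.mk s.9.4.13.2 s.9.4.13.1) (R.mk s.9.4.14.2 s.9.4.14.1) (R.mk s.9.4.3.2 s.9.4.3.1) (R.mk s.9.4.4.2 s.9.4.4.1) (R.mk s.9.4.1.2 s.9.4.1.1) (R.mk s.9.4.2.2 s.9.4.2.1) (R.mk s.9.4.7.2 s.9.4.7.1) (R.mk s.9.4.8.2 s.9.4.8.1) (R.mk s.9.4.5.2 s.9.4.5.1) (R.mk s.9.4.6.2 s.9.4.6.1))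
  (@T16.mk R s.9.5.4 s.9.5.3 s.9.5.2 s.9.5.1 s.9.5.8 s.9.5.7 s.9.5.6 s.9.5.5 s.9.5.12 s.9.5.11 s.9.5.10 s.9.5.9 s.9.5.16 s.9.5.15 s.9.5.14 s.9.5.13)
  (@T16.mk R s.9.6.8 s.9.6.7 s.9.6.6 s.9.6.5 s.9.6.4 s.9.6.3 s.9.6.2 s.9.6.1 s.9.6.16 s.9.6.15 s.9.6.14 s.9.6.13 s.9.6.12 s.9.6.11 s.9.6.10 s.9.6.9)
  (@T16.mk R (R.mk s.9.7.13.2 s.9.7.13.1) (R.mk s.9.7.14.2 s.9.7.14.1) (R.mk s.9.7.15.2 s.9.7.15.1) (R.mk s.9.7.16.2 s.9.7.16.1) (R.mk s.9.7.9.2 s.9.7.9.1) (R.mk s.9.7.10.2 s.9.7.10.1) (R.mk s.9.7.11.2 s.9.7.11.1) (R.mk s.9.7.12.2 s.9.7.12.1) (R.mk s.9.7.5.2 s.9.7.5.1) (R.mk s.9.7.6.2 s.9.7.6.1) (R.mk s.9.7.7.2 s.9.7.7.1) (R.mk s.9.7.8.2 s.9.7.8.1) (R.mk s.9.7.1.2 s.9.7.1.1) (R.mk s.9.7.2.2 s.9.7.2.1) (R.mk s.9.7.3.2 s.9.7.3.1) (R.mk s.9.7.4.2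 s.9.7.4.1))
  (@T16.mk R s.9.8.12 s.9.8.11 s.9.8.10 s.9.8.9 s.9.8.16 s.9.8.15 s.9.8.14 s.9.8.13 s.9.8.4 s.9.8.3 s.9.8.2 s.9.8.1 s.9.8.8 s.9.8.7 s.9.8.6 s.9.8.5)
  (@T16.mk R s.9.9.1 s.9.9.2 s.9.9.3 s.9.9.4 s.9.9.5 s.9.9.6 s.9.9.7 s.9.9.8 s.9.9.9 s.9.9.10 s.9.9.11 s.9.9.12 s.9.9.13 s.9.9.14 s.9.9.15 s.9.9.16)
  (@T16.mk R s.9.10.12 s.9.10.11 s.9.10.10 s.9.10.9 s.9.10.16 s.9.10.15 s.9.10.14 s.9.10.13 s.9.10.4 s.9.10.3 s.9.10.2 s.9.10.1 s.9.10.8 s.9.10.7 s.9.10.6 s.9.10.5)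
  (@T16.mk R s.9.11.7 s.9.11.8 s.9.11.5 s.9.11.6 s.9.11.3 s.9.11.4 s.9.11.1 s.9.11.2 s.9.11.15 s.9.11.16 s.9.11.13 s.9.11.14 s.9.11.11 s.9.11.12 s.9.11.9 s.9.11.10)
  (@T16.mk R s.9.12.1 s.9.12.2 s.9.12.3 s.9.12.4 s.9.12.5 s.9.12.6 s.9.12.7 s.9.12.8 s.9.12.9 s.9.12.10 s.9.12.11 s.9.12.12 s.9.12.13 s.9.12.14 s.9.12.15 s.9.12.16)
  (@T16.mk R (R.mk s.9.13.11.2 s.9.13.11.1) (R.mk s.9.13.12.2 s.9.13.12.1) (R.mk s.9.13.9.2 s.9.13.9.1) (R.mk s.9.13.10.2 s.9.13.10.1) (R.mk s.9.13.15.2 s.9.13.15.1) (R.mk s.9.13.16.2 s.9.13.16.1) (R.mk s.9.13.13.2 s.9.13.13.1) (R.mk s.9.13.14.2 s.9.13.14.1) (R.mk s.9.13.3.2 s.9.13.3.1) (R.mk s.9.13.4.2 s.9.13.4.1) (R.mk s.9.13.1.2 s.9.13.1.1) (R.mk s.9.13.2.2 s.9.13.2.1) (R.mk s.9.13.7.2 s.9.13.7.1) (R.mk s.9.13.8.2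 s.9.13.8.1) (R.mk s.9.13.5.2 s.9.13.5.1) (R.mk s.9.13.6.2 s.9.13.6.1))
  (@T16.mk R s.9.14.2 s.9.14.1 s.9.14.4 s.9.14.3 s.9.14.6 s.9.14.5 s.9.14.8 s.9.14.7 s.9.14.10 s.9.14.9 s.9.14.12 s.9.14.11 s.9.14.14 s.9.14.13 s.9.14.16 s.9.14.15)
  (@T16.mk R s.9.15.1 s.9.15.2 s.9.15.3 s.9.15.4 s.9.15.5 s.9.15.6 s.9.15.7 s.9.15.8 s.9.15.9 s.9.15.10 s.9.15.11 s.9.15.12 s.9.15.13 s.9.15.14 s.9.15.15 s.9.15.16)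
  (@T16.mk R s.9.16.2 s.9.16.1 s.9.16.4 s.9.16.3 s.9.16.6 s.9.16.5 s.9.16.8 s.9.16.7 s.9.16.10 s.9.16.9 s.9.16.12 s.9.16.11 s.9.16.14 s.9.16.13 s.9.16.16 s.9.16.15)
 )
 (@T16.mk (T16 R)
  (@T16.mk R s.10.1.1 s.10.1.2 s.10.1.3 s.10.1.4 s.10.1.5 s.10.1.6 s.10.1.7 s.10.1.8 s.10.1.9 s.10.1.10 s.10.1.11 s.10.1.12 s.10.1.13 s.10.1.14 s.10.1.15 s.10.1.16)
  (@T16.mk R (R.mk s.10.2.16.2 s.10.2.16.1) (R.mk s.10.2.15.2 s.10.2.15.1) (R.mk s.10.2.14.2 s.10.2.14.1) (R.mk s.10.2.13.2 s.10.2.13.1) (R.mk s.10.2.12.2 s.10.2.12.1) (R.mk s.10.2.11.2 s.10.2.11.1) (R.mk s.10.2.10.2 s.10.2.10.1) (R.mk s.10.2.9.2 s.10.2.9.1) (R.mk s.10.2.8.2 s.10.2.8.1) (R.mk s.10.2.7.2 s.10.2.7.1) (R.mk s.10.2.6.2 s.10.2.6.1) (R.mk s.10.2.5.2 s.10.2.5.1) (R.mk s.10.2.4.2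 s.10.2.4.1) (R.mk s.10.2.3.2 s.10.2.3.1) (R.mk s.10.2.2.2 s.10.2.2.1) (R.mk s.10.2.1.2 s.10.2.1.1))
  (@T16.mk R s.10.3.16 s.10.3.15 s.10.3.14 s.10.3.13 s.10.3.12 s.10.3.11 s.10.3.10 s.10.3.9 s.10.3.8 s.10.3.7 s.10.3.6 s.10.3.5 s.10.3.4 s.10.3.3 s.10.3.2 s.10.3.1)
  (@T16.mk R s.10.4.7 s.10.4.8 s.10.4.5 s.10.4.6 s.10.4.3 s.10.4.4 s.10.4.1 s.10.4.2 s.10.4.15 s.10.4.16 s.10.4.13 s.10.4.14 s.10.4.11 s.10.4.12 s.10.4.9 s.10.4.10)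
  (@T16.mk R (R.mk s.10.5.9.2 s.10.5.9.1) (R.mk s.10.5.10.2 s.10.5.10.1) (R.mk s.10.5.11.2 s.10.5.11.1) (R.mk s.10.5.12.2 s.10.5.12.1) (R.mk s.10.5.13.2 s.10.5.13.1) (R.mk s.10.5.14.2 s.10.5.14.1) (R.mk s.10.5.15.2 s.10.5.15.1) (R.mk s.10.5.16.2 s.10.5.16.1) (R.mk s.10.5.1.2 s.10.5.1.1) (R.mk s.10.5.2.2 s.10.5.2.1) (R.mk s.10.5.3.2 s.10.5.3.1) (R.mk s.10.5.4.2 s.10.5.4.1) (R.mk s.10.5.5.2 s.10.5.5.1) (R.mk s.10.5.6.2 s.10.5.6.1) (R.mk s.10.5.7.2 s.10.5.7.1) (R.mk s.10.5.8.2 s.10.5.8.1))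
  (@T16.mk R (R.mk s.10.6.5.2 s.10.6.5.1) (R.mk s.10.6.6.2 s.10.6.6.1) (R.mk s.10.6.7.2 s.10.6.7.1) (R.mk s.10.6.8.2 s.10.6.8.1) (R.mk s.10.6.1.2 s.10.6.1.1) (R.mk s.10.6.2.2 s.10.6.2.1) (R.mk s.10.6.3.2 s.10.6.3.1) (R.mk s.10.6.4.2 s.10.6.4.1) (R.mk s.10.6.13.2 s.10.6.13.1) (R.mk s.10.6.14.2 s.10.6.14.1) (R.mk s.10.6.15.2 s.10.6.15.1) (R.mk s.10.6.16.2 s.10.6.16.1) (R.mk s.10.6.9.2 s.10.6.9.1) (R.mk s.10.6.10.2 s.10.6.10.1) (R.mk s.10.6.11.2 s.10.6.11.1) (R.mk s.10.6.12.2 s.10.6.12.1))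
  (@T16.mk R (R.mk s.10.7.3.2 s.10.7.3.1) (R.mk s.10.7.4.2 s.10.7.4.1) (R.mk s.10.7.1.2 s.10.7.1.1) (R.mk s.10.7.2.2 s.10.7.2.1) (R.mk s.10.7.7.2 s.10.7.7.1) (R.mk s.10.7.8.2 s.10.7.8.1) (R.mk s.10.7.5.2 s.10.7.5.1) (R.mk s.10.7.6.2 s.10.7.6.1) (R.mk s.10.7.11.2 s.10.7.11.1) (R.mk s.10.7.12.2 s.10.7.12.1) (R.mk s.10.7.9.2 s.10.7.9.1) (R.mk s.10.7.10.2 s.10.7.10.1) (R.mk s.10.7.15.2 s.10.7.15.1) (R.mk s.10.7.16.2 s.10.7.16.1) (R.mk s.10.7.13.2 s.10.7.13.1) (R.mk s.10.7.14.2 s.10.7.14.1))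
  (@T16.mk R (R.mk s.10.8.12.2 s.10.8.12.1) (R.mk s.10.8.11.2 s.10.8.11.1) (R.mk s.10.8.10.2 s.10.8.10.1) (R.mk s.10.8.9.2 s.10.8.9.1) (R.mk s.10.8.16.2 s.10.8.16.1) (R.mk s.10.8.15.2 s.10.8.15.1) (R.mk s.10.8.14.2 s.10.8.14.1) (R.mk s.10.8.13.2 s.10.8.13.1) (R.mk s.10.8.4.2 s.10.8.4.1) (R.mk s.10.8.3.2 s.10.8.3.1) (R.mk s.10.8.2.2 s.10.8.2.1) (R.mk s.10.8.1.2 s.10.8.1.1) (R.mk s.10.8.8.2 s.10.8.8.1) (R.mk s.10.8.7.2 s.10.8.7.1) (R.mk s.10.8.6.2 s.10.8.6.1) (R.mk s.10.8.5.2 s.10.8.5.1))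
  (@T16.mk R (R.mk s.10.9.13.2 s.10.9.13.1) (R.mk s.10.9.14.2 s.10.9.14.1) (R.mk s.10.9.15.2 s.10.9.15.1) (R.mk s.10.9.16.2 s.10.9.16.1) (R.mk s.10.9.9.2 s.10.9.9.1) (R.mk s.10.9.10.2 s.10.9.10.1) (R.mk s.10.9.11.2 s.10.9.11.1) (R.mk s.10.9.12.2 s.10.9.12.1) (R.mk s.10.9.5.2 s.10.9.5.1) (R.mk s.10.9.6.2 s.10.9.6.1) (R.mk s.10.9.7.2 s.10.9.7.1) (R.mk s.10.9.8.2 s.10.9.8.1) (R.mk s.10.9.1.2 s.10.9.1.1) (R.mk s.10.9.2.2 s.10.9.2.1) (R.mk s.10.9.3.2 s.10.9.3.1) (R.mk s.10.9.4.2 s.10.9.4.1))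
  (@T16.mk R s.10.10.6 s.10.10.5 s.10.10.8 s.10.10.7 s.10.10.2 s.10.10.1 s.10.10.4 s.10.10.3 s.10.10.14 s.10.10.13 s.10.10.16 s.10.10.15 s.10.10.10 s.10.10.9 s.10.10.12 s.10.10.11)
  (@T16.mk R s.10.11.8 s.10.11.7 s.10.11.6 s.10.11.5 s.10.11.4 s.10.11.3 s.10.11.2 s.10.11.1 s.10.11.16 s.10.11.15 s.10.11.14 s.10.11.13 s.10.11.12 s.10.11.11 s.10.11.10 s.10.11.9)
  (@T16.mk R (R.mk s.10.12.6.2 s.10.12.6.1) (R.mk s.10.12.5.2 s.10.12.5.1) (R.mk s.10.12.8.2 s.10.12.8.1) (R.mk s.10.12.7.2 s.10.12.7.1) (R.mk s.10.12.2.2 s.10.12.2.1) (R.mk s.10.12.1.2 s.10.12.1.1) (R.mk s.10.12.4.2 s.10.12.4.1) (R.mk s.10.12.3.2 s.10.12.3.1) (R.mk s.10.12.14.2 s.10.12.14.1) (R.mk s.10.12.13.2 s.10.12.13.1) (R.mk s.10.12.16.2 s.10.12.16.1) (R.mk s.10.12.15.2 s.10.12.15.1)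 (R.mk s.10.12.10.2 s.10.12.10.1) (R.mk s.10.12.9.2 s.10.12.9.1) (R.mk s.10.12.12.2 s.10.12.12.1) (R.mk s.10.12.11.2 s.10.12.11.1))
  (@T16.mk R (R.mk s.10.13.6.2 s.10.13.6.1) (R.mk s.10.13.5.2 s.10.13.5.1) (R.mk s.10.13.8.2 s.10.13.8.1) (R.mk s.10.13.7.2 s.10.13.7.1) (R.mk s.10.13.2.2 s.10.13.2.1) (R.mk s.10.13.1.2 s.10.13.1.1) (R.mk s.10.13.4.2 s.10.13.4.1) (R.mk s.10.13.3.2 s.10.13.3.1) (R.mk s.10.13.14.2 s.10.13.14.1) (R.mk s.10.13.13.2 s.10.13.13.1) (R.mk s.10.13.16.2 s.10.13.16.1) (R.mk s.10.13.15.2 s.10.13.15.1) (R.mk s.10.13.10.2 s.10.13.10.1) (R.mk s.10.13.9.2 s.10.13.9.1) (R.mk s.10.13.12.2 s.10.13.12.1) (R.mk s.10.13.11.2 s.10.13.11.1))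
  (@T16.mk R (R.mk s.10.14.15.2 s.10.14.15.1) (R.mk s.10.14.16.2 s.10.14.16.1) (R.mk s.10.14.13.2 s.10.14.13.1) (R.mk s.10.14.14.2 s.10.14.14.1) (R.mk s.10.14.11.2 s.10.14.11.1) (R.mk s.10.14.12.2 s.10.14.12.1) (R.mk s.10.14.9.2 s.10.14.9.1) (R.mk s.10.14.10.2 s.10.14.10.1) (R.mk s.10.14.7.2 s.10.14.7.1) (R.mk s.10.14.8.2 s.10.14.8.1) (R.mk s.10.14.5.2 s.10.14.5.1) (R.mk s.10.14.6.2 s.10.14.6.1) (R.mk s.10.14.3.2 s.10.14.3.1) (R.mk s.10.14.4.2 s.10.14.4.1) (R.mk s.10.14.1.2 s.10.14.1.1) (R.mk s.10.14.2.2 s.10.14.2.1))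
  (@T16.mk R (R.mk s.10.15.8.2 s.10.15.8.1) (R.mk s.10.15.7.2 s.10.15.7.1) (R.mk s.10.15.6.2 s.10.15.6.1) (R.mk s.10.15.5.2 s.10.15.5.1) (R.mk s.10.15.4.2 s.10.15.4.1) (R.mk s.10.15.3.2 s.10.15.3.1) (R.mk s.10.15.2.2 s.10.15.2.1) (R.mk s.10.15.1.2 s.10.15.1.1) (R.mk s.10.15.16.2 s.10.15.16.1) (R.mk s.10.15.15.2 s.10.15.15.1) (R.mk s.10.15.14.2 s.10.15.14.1) (R.mk s.10.15.13.2 s.10.15.13.1) (R.mk s.10.15.12.2 s.10.15.12.1) (R.mk s.10.15.11.2 s.10.15.11.1) (R.mk s.10.15.10.2 s.10.15.10.1) (R.mk s.10.15.9.2 s.10.15.9.1))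
  (@T16.mk R s.10.16.3 s.10.16.4 s.10.16.1 s.10.16.2 s.10.16.7 s.10.16.8 s.10.16.5 s.10.16.6 s.10.16.11 s.10.16.12 s.10.16.9 s.10.16.10 s.10.16.15 s.10.16.16 s.10.16.13 s.10.16.14)
 )
 (@T16.mk (T16 R)
  (@T16.mk R (R.mk s.11.1.8.2 s.11.1.8.1) (R.mk s.11.1.7.2 s.11.1.7.1) (R.mk s.11.1.6.2 s.11.1.6.1) (R.mk s.11.1.5.2 s.11.1.5.1) (R.mk s.11.1.4.2 s.11.1.4.1) (R.mk s.11.1.3.2 s.11.1.3.1) (R.mk s.11.1.2.2 s.11.1.2.1) (R.mk s.11.1.1.2 s.11.1.1.1) (R.mk s.11.1.16.2 s.11.1.16.1) (R.mk s.11.1.15.2 s.11.1.15.1) (R.mk s.11.1.14.2 s.11.1.14.1) (R.mk s.11.1.13.2 s.11.1.13.1) (R.mk s.11.1.12.2 s.11.1.12.1) (R.mk s.11.1.11.2 s.11.1.11.1) (R.mk s.11.1.10.2 s.11.1.10.1) (R.mk s.11.1.9.2 s.11.1.9.1))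
  (@T16.mk R s.11.2.14 s.11.2.13 s.11.2.16 s.11.2.15 s.11.2.10 s.11.2.9 s.11.2.12 s.11.2.11 s.11.2.6 s.11.2.5 s.11.2.8 s.11.2.7 s.11.2.2 s.11.2.1 s.11.2.4 s.11.2.3)
  (@T16.mk R (R.mk s.11.3.7.2 s.11.3.7.1) (R.mk s.11.3.8.2 s.11.3.8.1) (R.mk s.11.3.5.2 s.11.3.5.1) (R.mk s.11.3.6.2 s.11.3.6.1) (R.mk s.11.3.3.2 s.11.3.3.1) (R.mk s.11.3.4.2 s.11.3.4.1) (R.mk s.11.3.1.2 s.11.3.1.1) (R.mk s.11.3.2.2 s.11.3.2.1) (R.mk s.11.3.15.2 s.11.3.15.1) (R.mk s.11.3.16.2 s.11.3.16.1) (R.mk s.11.3.13.2 s.11.3.13.1) (R.mk s.11.3.14.2 s.11.3.14.1) (R.mk s.11.3.11.2 s.11.3.11.1) (R.mk s.11.3.12.2 s.11.3.12.1) (R.mk s.11.3.9.2 s.11.3.9.1) (R.mk s.11.3.10.2 s.11.3.10.1))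
  (@T16.mk R (R.mk s.11.4.15.2 s.11.4.15.1) (R.mk s.11.4.16.2 s.11.4.16.1) (R.mk s.11.4.13.2 s.11.4.13.1) (R.mk s.11.4.14.2 s.11.4.14.1) (R.mk s.11.4.11.2 s.11.4.11.1) (R.mk s.11.4.12.2 s.11.4.12.1) (R.mk s.11.4.9.2 s.11.4.9.1) (R.mk s.11.4.10.2 s.11.4.10.1) (R.mk s.11.4.7.2 s.11.4.7.1) (R.mk s.11.4.8.2 s.11.4.8.1) (R.mk s.11.4.5.2 s.11.4.5.1) (R.mk s.11.4.6.2 s.11.4.6.1) (R.mk s.11.4.3.2 s.11.4.3.1) (R.mk s.11.4.4.2 s.11.4.4.1) (R.mk s.11.4.1.2 s.11.4.1.1) (R.mk s.11.4.2.2 s.11.4.2.1))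
  (@T16.mk R (R.mk s.11.5.10.2 s.11.5.10.1) (R.mk s.11.5.9.2 s.11.5.9.1) (R.mk s.11.5.12.2 s.11.5.12.1) (R.mk s.11.5.11.2 s.11.5.11.1) (R.mk s.11.5.14.2 s.11.5.14.1) (R.mk s.11.5.13.2 s.11.5.13.1) (R.mk s.11.5.16.2 s.11.5.16.1) (R.mk s.11.5.15.2 s.11.5.15.1) (R.mk s.11.5.2.2 s.11.5.2.1) (R.mk s.11.5.1.2 s.11.5.1.1) (R.mk s.11.5.4.2 s.11.5.4.1) (R.mk s.11.5.3.2 s.11.5.3.1) (R.mk s.11.5.6.2 s.11.5.6.1) (R.mk s.11.5.5.2 s.11.5.5.1) (R.mk s.11.5.8.2 s.11.5.8.1) (R.mk s.11.5.7.2 s.11.5.7.1))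
  (@T16.mk R (R.mk s.11.6.8.2 s.11.6.8.1) (R.mk s.11.6.7.2 s.11.6.7.1) (R.mk s.11.6.6.2 s.11.6.6.1) (R.mk s.11.6.5.2 s.11.6.5.1) (R.mk s.11.6.4.2 s.11.6.4.1) (R.mk s.11.6.3.2 s.11.6.3.1) (R.mk s.11.6.2.2 s.11.6.2.1) (R.mk s.11.6.1.2 s.11.6.1.1) (R.mk s.11.6.16.2 s.11.6.16.1) (R.mk s.11.6.15.2 s.11.6.15.1) (R.mk s.11.6.14.2 s.11.6.14.1) (R.mk s.11.6.13.2 s.11.6.13.1) (R.mk s.11.6.12.2 s.11.6.12.1) (R.mk s.11.6.11.2 s.11.6.11.1) (R.mk s.11.6.10.2 s.11.6.10.1) (R.mk s.11.6.9.2 s.11.6.9.1))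
  (@T16.mk R (R.mk s.11.7.8.2 s.11.7.8.1) (R.mk s.11.7.7.2 s.11.7.7.1) (R.mk s.11.7.6.2 s.11.7.6.1) (R.mk s.11.7.5.2 s.11.7.5.1) (R.mk s.11.7.4.2 s.11.7.4.1) (R.mk s.11.7.3.2 s.11.7.3.1) (R.mk s.11.7.2.2 s.11.7.2.1) (R.mk s.11.7.1.2 s.11.7.1.1) (R.mk s.11.7.16.2 s.11.7.16.1) (R.mk s.11.7.15.2 s.11.7.15.1) (R.mk s.11.7.14.2 s.11.7.14.1) (R.mk s.11.7.13.2 s.11.7.13.1) (R.mk s.11.7.12.2 s.11.7.12.1) (R.mk s.11.7.11.2 s.11.7.11.1) (R.mk s.11.7.10.2 s.11.7.10.1) (R.mk s.11.7.9.2 s.11.7.9.1))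
  (@T16.mk R (R.mk s.11.8.13.2 s.11.8.13.1) (R.mk s.11.8.14.2 s.11.8.14.1) (R.mk s.11.8.15.2 s.11.8.15.1) (R.mk s.11.8.16.2 s.11.8.16.1) (R.mk s.11.8.9.2 s.11.8.9.1) (R.mk s.11.8.10.2 s.11.8.10.1) (R.mk s.11.8.11.2 s.11.8.11.1) (R.mk s.11.8.12.2 s.11.8.12.1) (R.mk s.11.8.5.2 s.11.8.5.1) (R.mk s.11.8.6.2 s.11.8.6.1) (R.mk s.11.8.7.2 s.11.8.7.1) (R.mk s.11.8.8.2 s.11.8.8.1) (R.mk s.11.8.1.2 s.11.8.1.1) (R.mk s.11.8.2.2 s.11.8.2.1) (R.mk s.11.8.3.2 s.11.8.3.1) (R.mk s.11.8.4.2 s.11.8.4.1))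
  (@T16.mk R s.11.9.2 s.11.9.1 s.11.9.4 s.11.9.3 s.11.9.6 s.11.9.5 s.11.9.8 s.11.9.7 s.11.9.10 s.11.9.9 s.11.9.12 s.11.9.11 s.11.9.14 s.11.9.13 s.11.9.16 s.11.9.15)
  (@T16.mk R s.11.10.15 s.11.10.16 s.11.10.13 s.11.10.14 s.11.10.11 s.11.10.12 s.11.10.9 s.11.10.10 s.11.10.7 s.11.10.8 s.11.10.5 s.11.10.6 s.11.10.3 s.11.10.4 s.11.10.1 s.11.10.2)
  (@T16.mk R (R.mk s.11.11.16.2 s.11.11.16.1) (R.mk s.11.11.15.2 s.11.11.15.1) (R.mk s.11.11.14.2 s.11.11.14.1) (R.mk s.11.11.13.2 s.11.11.13.1) (R.mk s.11.11.12.2 s.11.11.12.1) (R.mk s.11.11.11.2 s.11.11.11.1) (R.mk s.11.11.10.2 s.11.11.10.1) (R.mk s.11.11.9.2 s.11.11.9.1) (R.mk s.11.11.8.2 s.11.11.8.1) (R.mk s.11.11.7.2 s.11.11.7.1) (R.mk s.11.11.6.2 s.11.11.6.1) (R.mk s.11.11.5.2 s.11.11.5.1)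 (R.mk s.11.11.4.2 s.11.11.4.1) (R.mk s.11.11.3.2 s.11.11.3.1) (R.mk s.11.11.2.2 s.11.11.2.1) (R.mk s.11.11.1.2 s.11.11.1.1))
  (@T16.mk R s.11.12.14 s.11.12.13 s.11.12.16 s.11.12.15 s.11.12.10 s.11.12.9 s.11.12.12 s.11.12.11 s.11.12.6 s.11.12.5 s.11.12.8 s.11.12.7 s.11.12.2 s.11.12.1 s.11.12.4 s.11.12.3)
  (@T16.mk R (R.mk s.11.13.3.2 s.11.13.3.1) (R.mk s.11.13.4.2 s.11.13.4.1) (R.mk s.11.13.1.2 s.11.13.1.1) (R.mk s.11.13.2.2 s.11.13.2.1) (R.mk s.11.13.7.2 s.11.13.7.1) (R.mk s.11.13.8.2 s.11.13.8.1) (R.mk s.11.13.5.2 s.11.13.5.1) (R.mk s.11.13.6.2 s.11.13.6.1) (R.mk s.11.13.11.2 s.11.13.11.1) (R.mk s.11.13.12.2 s.11.13.12.1) (R.mk s.11.13.9.2 s.11.13.9.1) (R.mk s.11.13.10.2 s.11.13.10.1) (R.mk s.11.13.15.2 s.11.13.15.1) (R.mk s.11.13.16.2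 s.11.13.16.1) (R.mk s.11.13.13.2 s.11.13.13.1) (R.mk s.11.13.14.2 s.11.13.14.1))
  (@T16.mk R (R.mk s.11.14.2.2 s.11.14.2.1) (R.mk s.11.14.1.2 s.11.14.1.1) (R.mk s.11.14.4.2 s.11.14.4.1) (R.mk s.11.14.3.2 s.11.14.3.1) (R.mk s.11.14.6.2 s.11.14.6.1) (R.mk s.11.14.5.2 s.11.14.5.1) (R.mk s.11.14.8.2 s.11.14.8.1) (R.mk s.11.14.7.2 s.11.14.7.1) (R.mk s.11.14.10.2 s.11.14.10.1) (R.mk s.11.14.9.2 s.11.14.9.1) (R.mk s.11.14.12.2 s.11.14.12.1) (R.mk s.11.14.11.2 s.11.14.11.1) (R.mk s.11.14.14.2 s.11.14.14.1) (R.mk s.11.14.13.2 s.11.14.13.1) (R.mk s.11.14.16.2 s.11.14.16.1) (R.mk s.11.14.15.2 s.11.14.15.1))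
  (@T16.mk R (R.mk s.11.15.2.2 s.11.15.2.1) (R.mk s.11.15.1.2 s.11.15.1.1) (R.mk s.11.15.4.2 s.11.15.4.1) (R.mk s.11.15.3.2 s.11.15.3.1) (R.mk s.11.15.6.2 s.11.15.6.1) (R.mk s.11.15.5.2 s.11.15.5.1) (R.mk s.11.15.8.2 s.11.15.8.1) (R.mk s.11.15.7.2 s.11.15.7.1) (R.mk s.11.15.10.2 s.11.15.10.1) (R.mk s.11.15.9.2 s.11.15.9.1) (R.mk s.11.15.12.2 s.11.15.12.1) (R.mk s.11.15.11.2 s.11.15.11.1) (R.mk s.11.15.14.2 s.11.15.14.1) (R.mk s.11.15.13.2 s.11.15.13.1) (R.mk s.11.15.16.2 s.11.15.16.1) (R.mk s.11.15.15.2 s.11.15.15.1))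
  (@T16.mk R (R.mk s.11.16.8.2 s.11.16.8.1) (R.mk s.11.16.7.2 s.11.16.7.1) (R.mk s.11.16.6.2 s.11.16.6.1) (R.mk s.11.16.5.2 s.11.16.5.1) (R.mk s.11.16.4.2 s.11.16.4.1) (R.mk s.11.16.3.2 s.11.16.3.1) (R.mk s.11.16.2.2 s.11.16.2.1) (R.mk s.11.16.1.2 s.11.16.1.1) (R.mk s.11.16.16.2 s.11.16.16.1) (R.mk s.11.16.15.2 s.11.16.15.1) (R.mk s.11.16.14.2 s.11.16.14.1) (R.mk s.11.16.13.2 s.11.16.13.1) (R.mk s.11.16.12.2 s.11.16.12.1) (R.mk s.11.16.11.2 s.11.16.11.1) (R.mk s.11.16.10.2 s.11.16.10.1) (R.mk s.11.16.9.2 s.11.16.9.1))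
 )
 (@T16.mk (T16 R)
  (@T16.mk R (R.mk s.12.1.3.2 s.12.1.3.1) (R.mk s.12.1.4.2 s.12.1.4.1) (R.mk s.12.1.1.2 s.12.1.1.1) (R.mk s.12.1.2.2 s.12.1.2.1) (R.mk s.12.1.7.2 s.12.1.7.1) (R.mk s.12.1.8.2 s.12.1.8.1) (R.mk s.12.1.5.2 s.12.1.5.1) (R.mk s.12.1.6.2 s.12.1.6.1) (R.mk s.12.1.11.2 s.12.1.11.1) (R.mk s.12.1.12.2 s.12.1.12.1) (R.mk s.12.1.9.2 s.12.1.9.1) (R.mk s.12.1.10.2 s.12.1.10.1) (R.mk s.12.1.15.2 s.12.1.15.1) (R.mk s.12.1.16.2 s.12.1.16.1) (R.mk s.12.1.13.2 s.12.1.13.1) (R.mk s.12.1.14.2 s.12.1.14.1))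
  (@T16.mk R (R.mk s.12.2.2.2 s.12.2.2.1) (R.mk s.12.2.1.2 s.12.2.1.1) (R.mk s.12.2.4.2 s.12.2.4.1) (R.mk s.12.2.3.2 s.12.2.3.1) (R.mk s.12.2.6.2 s.12.2.6.1) (R.mk s.12.2.5.2 s.12.2.5.1) (R.mk s.12.2.8.2 s.12.2.8.1) (R.mk s.12.2.7.2 s.12.2.7.1) (R.mk s.12.2.10.2 s.12.2.10.1) (R.mk s.12.2.9.2 s.12.2.9.1) (R.mk s.12.2.12.2 s.12.2.12.1) (R.mk s.12.2.11.2 s.12.2.11.1) (R.mk s.12.2.14.2 s.12.2.14.1) (R.mk s.12.2.13.2 s.12.2.13.1) (R.mk s.12.2.16.2 s.12.2.16.1) (R.mk s.12.2.15.2 s.12.2.15.1))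
  (@T16.mk R (R.mk s.12.3.8.2 s.12.3.8.1) (R.mk s.12.3.7.2 s.12.3.7.1) (R.mk s.12.3.6.2 s.12.3.6.1) (R.mk s.12.3.5.2 s.12.3.5.1) (R.mk s.12.3.4.2 s.12.3.4.1) (R.mk s.12.3.3.2 s.12.3.3.1) (R.mk s.12.3.2.2 s.12.3.2.1) (R.mk s.12.3.1.2 s.12.3.1.1) (R.mk s.12.3.16.2 s.12.3.16.1) (R.mk s.12.3.15.2 s.12.3.15.1) (R.mk s.12.3.14.2 s.12.3.14.1) (R.mk s.12.3.13.2 s.12.3.13.1) (R.mk s.12.3.12.2 s.12.3.12.1) (R.mk s.12.3.11.2 s.12.3.11.1) (R.mk s.12.3.10.2 s.12.3.10.1) (R.mk s.12.3.9.2 s.12.3.9.1))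
  (@T16.mk R (R.mk s.12.4.5.2 s.12.4.5.1) (R.mk s.12.4.6.2 s.12.4.6.1) (R.mk s.12.4.7.2 s.12.4.7.1) (R.mk s.12.4.8.2 s.12.4.8.1) (R.mk s.12.4.1.2 s.12.4.1.1) (R.mk s.12.4.2.2 s.12.4.2.1) (R.mk s.12.4.3.2 s.12.4.3.1) (R.mk s.12.4.4.2 s.12.4.4.1) (R.mk s.12.4.13.2 s.12.4.13.1) (R.mk s.12.4.14.2 s.12.4.14.1) (R.mk s.12.4.15.2 s.12.4.15.1) (R.mk s.12.4.16.2 s.12.4.16.1) (R.mk s.12.4.9.2 s.12.4.9.1) (R.mk s.12.4.10.2 s.12.4.10.1) (R.mk s.12.4.11.2 s.12.4.11.1) (R.mk s.12.4.12.2 s.12.4.12.1))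
  (@T16.mk R (R.mk s.12.5.7.2 s.12.5.7.1) (R.mk s.12.5.8.2 s.12.5.8.1) (R.mk s.12.5.5.2 s.12.5.5.1) (R.mk s.12.5.6.2 s.12.5.6.1) (R.mk s.12.5.3.2 s.12.5.3.1) (R.mk s.12.5.4.2 s.12.5.4.1) (R.mk s.12.5.1.2 s.12.5.1.1) (R.mk s.12.5.2.2 s.12.5.2.1) (R.mk s.12.5.15.2 s.12.5.15.1) (R.mk s.12.5.16.2 s.12.5.16.1) (R.mk s.12.5.13.2 s.12.5.13.1) (R.mk s.12.5.14.2 s.12.5.14.1) (R.mk s.12.5.11.2 s.12.5.11.1) (R.mk s.12.5.12.2 s.12.5.12.1) (R.mk s.12.5.9.2 s.12.5.9.1) (R.mk s.12.5.10.2 s.12.5.10.1))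
  (@T16.mk R (R.mk s.12.6.5.2 s.12.6.5.1) (R.mk s.12.6.6.2 s.12.6.6.1) (R.mk s.12.6.7.2 s.12.6.7.1) (R.mk s.12.6.8.2 s.12.6.8.1) (R.mk s.12.6.1.2 s.12.6.1.1) (R.mk s.12.6.2.2 s.12.6.2.1) (R.mk s.12.6.3.2 s.12.6.3.1) (R.mk s.12.6.4.2 s.12.6.4.1) (R.mk s.12.6.13.2 s.12.6.13.1) (R.mk s.12.6.14.2 s.12.6.14.1) (R.mk s.12.6.15.2 s.12.6.15.1) (R.mk s.12.6.16.2 s.12.6.16.1) (R.mk s.12.6.9.2 s.12.6.9.1) (R.mk s.12.6.10.2 s.12.6.10.1) (R.mk s.12.6.11.2 s.12.6.11.1) (R.mk s.12.6.12.2 s.12.6.12.1))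
  (@T16.mk R s.12.7.13 s.12.7.14 s.12.7.15 s.12.7.16 s.12.7.9 s.12.7.10 s.12.7.11 s.12.7.12 s.12.7.5 s.12.7.6 s.12.7.7 s.12.7.8 s.12.7.1 s.12.7.2 s.12.7.3 s.12.7.4)
  (@T16.mk R (R.mk s.12.8.5.2 s.12.8.5.1) (R.mk s.12.8.6.2 s.12.8.6.1) (R.mk s.12.8.7.2 s.12.8.7.1) (R.mk s.12.8.8.2 s.12.8.8.1) (R.mk s.12.8.1.2 s.12.8.1.1) (R.mk s.12.8.2.2 s.12.8.2.1) (R.mk s.12.8.3.2 s.12.8.3.1) (R.mk s.12.8.4.2 s.12.8.4.1) (R.mk s.12.8.13.2 s.12.8.13.1) (R.mk s.12.8.14.2 s.12.8.14.1) (R.mk s.12.8.15.2 s.12.8.15.1) (R.mk s.12.8.16.2 s.12.8.16.1) (R.mk s.12.8.9.2 s.12.8.9.1) (R.mk s.12.8.10.2 s.12.8.10.1) (R.mk s.12.8.11.2 s.12.8.11.1) (R.mk s.12.8.12.2 s.12.8.12.1))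
  (@T16.mk R (R.mk s.12.9.10.2 s.12.9.10.1) (R.mk s.12.9.9.2 s.12.9.9.1) (R.mk s.12.9.12.2 s.12.9.12.1) (R.mk s.12.9.11.2 s.12.9.11.1) (R.mk s.12.9.14.2 s.12.9.14.1) (R.mk s.12.9.13.2 s.12.9.13.1) (R.mk s.12.9.16.2 s.12.9.16.1) (R.mk s.12.9.15.2 s.12.9.15.1) (R.mk s.12.9.2.2 s.12.9.2.1) (R.mk s.12.9.1.2 s.12.9.1.1) (R.mk s.12.9.4.2 s.12.9.4.1) (R.mk s.12.9.3.2 s.12.9.3.1) (R.mk s.12.9.6.2 s.12.9.6.1) (R.mk s.12.9.5.2 s.12.9.5.1) (R.mk s.12.9.8.2 s.12.9.8.1) (R.mk s.12.9.7.2 s.12.9.7.1))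
  (@T16.mk R (R.mk s.12.10.13.2 s.12.10.13.1) (R.mk s.12.10.14.2 s.12.10.14.1) (R.mk s.12.10.15.2 s.12.10.15.1) (R.mk s.12.10.16.2 s.12.10.16.1) (R.mk s.12.10.9.2 s.12.10.9.1) (R.mk s.12.10.10.2 s.12.10.10.1) (R.mk s.12.10.11.2 s.12.10.11.1) (R.mk s.12.10.12.2 s.12.10.12.1) (R.mk s.12.10.5.2 s.12.10.5.1) (R.mk s.12.10.6.2 s.12.10.6.1) (R.mk s.12.10.7.2 s.12.10.7.1) (R.mk s.12.10.8.2 s.12.10.8.1) (R.mk s.12.10.1.2 s.12.10.1.1) (R.mk s.12.10.2.2 s.12.10.2.1) (R.mk s.12.10.3.2 s.12.10.3.1) (R.mk s.12.10.4.2 s.12.10.4.1))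
  (@T16.mk R s.12.11.1 s.12.11.2 s.12.11.3 s.12.11.4 s.12.11.5 s.12.11.6 s.12.11.7 s.12.11.8 s.12.11.9 s.12.11.10 s.12.11.11 s.12.11.12 s.12.11.13 s.12.11.14 s.12.11.15 s.12.11.16)
  (@T16.mk R (R.mk s.12.12.2.2 s.12.12.2.1) (R.mk s.12.12.1.2 s.12.12.1.1) (R.mk s.12.12.4.2 s.12.12.4.1) (R.mk s.12.12.3.2 s.12.12.3.1) (R.mk s.12.12.6.2 s.12.12.6.1) (R.mk s.12.12.5.2 s.12.12.5.1) (R.mk s.12.12.8.2 s.12.12.8.1) (R.mk s.12.12.7.2 s.12.12.7.1) (R.mk s.12.12.10.2 s.12.12.10.1) (R.mk s.12.12.9.2 s.12.12.9.1) (R.mk s.12.12.12.2 s.12.12.12.1) (R.mk s.12.12.11.2 s.12.12.11.1) (R.mk s.12.12.14.2 s.12.12.14.1) (R.mk s.12.12.13.2 s.12.12.13.1) (R.mk s.12.12.16.2 s.12.12.16.1) (R.mk s.12.12.15.2 s.12.12.15.1))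
  (@T16.mk R s.12.13.1 s.12.13.2 s.12.13.3 s.12.13.4 s.12.13.5 s.12.13.6 s.12.13.7 s.12.13.8 s.12.13.9 s.12.13.10 s.12.13.11 s.12.13.12 s.12.13.13 s.12.13.14 s.12.13.15 s.12.13.16)
  (@T16.mk R s.12.14.3 s.12.14.4 s.12.14.1 s.12.14.2 s.12.14.7 s.12.14.8 s.12.14.5 s.12.14.6 s.12.14.11 s.12.14.12 s.12.14.9 s.12.14.10 s.12.14.15 s.12.14.16 s.12.14.13 s.12.14.14)
  (@T16.mk R s.12.15.5 s.12.15.6 s.12.15.7 s.12.15.8 s.12.15.1 s.12.15.2 s.12.15.3 s.12.15.4 s.12.15.13 s.12.15.14 s.12.15.15 s.12.15.16 s.12.15.9 s.12.15.10 s.12.15.11 s.12.15.12)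
  (@T16.mk R s.12.16.1 s.12.16.2 s.12.16.3 s.12.16.4 s.12.16.5 s.12.16.6 s.12.16.7 s.12.16.8 s.12.16.9 s.12.16.10 s.12.16.11 s.12.16.12 s.12.16.13 s.12.16.14 s.12.16.15 s.12.16.16)
 )
 (@T16.mk (T16 R)
  (@T16.mk R (R.mk s.13.1.14.2 s.13.1.14.1) (R.mk s.13.1.13.2 s.13.1.13.1) (R.mk s.13.1.16.2 s.13.1.16.1) (R.mk s.13.1.15.2 s.13.1.15.1) (R.mk s.13.1.10.2 s.13.1.10.1) (R.mk s.13.1.9.2 s.13.1.9.1) (R.mk s.13.1.12.2 s.13.1.12.1) (R.mk s.13.1.11.2 s.13.1.11.1) (R.mk s.13.1.6.2 s.13.1.6.1) (R.mk s.13.1.5.2 s.13.1.5.1) (R.mk s.13.1.8.2 s.13.1.8.1) (R.mk s.13.1.7.2 s.13.1.7.1) (R.mk s.13.1.2.2 s.13.1.2.1) (R.mk s.13.1.1.2 s.13.1.1.1) (R.mk s.13.1.4.2 s.13.1.4.1) (R.mk s.13.1.3.2 s.13.1.3.1))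
  (@T16.mk R s.13.2.3 s.13.2.4 s.13.2.1 s.13.2.2 s.13.2.7 s.13.2.8 s.13.2.5 s.13.2.6 s.13.2.11 s.13.2.12 s.13.2.9 s.13.2.10 s.13.2.15 s.13.2.16 s.13.2.13 s.13.2.14)
  (@T16.mk R s.13.3.13 s.13.3.14 s.13.3.15 s.13.3.16 s.13.3.9 s.13.3.10 s.13.3.11 s.13.3.12 s.13.3.5 s.13.3.6 s.13.3.7 s.13.3.8 s.13.3.1 s.13.3.2 s.13.3.3 s.13.3.4)
  (@T16.mk R (R.mk s.13.4.14.2 s.13.4.14.1) (R.mk s.13.4.13.2 s.13.4.13.1) (R.mk s.13.4.16.2 s.13.4.16.1) (R.mk s.13.4.15.2 s.13.4.15.1) (R.mk s.13.4.10.2 s.13.4.10.1) (R.mk s.13.4.9.2 s.13.4.9.1) (R.mk s.13.4.12.2 s.13.4.12.1) (R.mk s.13.4.11.2 s.13.4.11.1) (R.mk s.13.4.6.2 s.13.4.6.1) (R.mk s.13.4.5.2 s.13.4.5.1) (R.mk s.13.4.8.2 s.13.4.8.1) (R.mk s.13.4.7.2 s.13.4.7.1) (R.mk s.13.4.2.2 s.13.4.2.1) (R.mk s.13.4.1.2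 s.13.4.1.1) (R.mk s.13.4.4.2 s.13.4.4.1) (R.mk s.13.4.3.2 s.13.4.3.1))
  (@T16.mk R s.13.5.16 s.13.5.15 s.13.5.14 s.13.5.13 s.13.5.12 s.13.5.11 s.13.5.10 s.13.5.9 s.13.5.8 s.13.5.7 s.13.5.6 s.13.5.5 s.13.5.4 s.13.5.3 s.13.5.2 s.13.5.1)
  (@T16.mk R s.13.6.4 s.13.6.3 s.13.6.2 s.13.6.1 s.13.6.8 s.13.6.7 s.13.6.6 s.13.6.5 s.13.6.12 s.13.6.11 s.13.6.10 s.13.6.9 s.13.6.16 s.13.6.15 s.13.6.14 s.13.6.13)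
  (@T16.mk R (R.mk s.13.7.10.2 s.13.7.10.1) (R.mk s.13.7.9.2 s.13.7.9.1) (R.mk s.13.7.12.2 s.13.7.12.1) (R.mk s.13.7.11.2 s.13.7.11.1) (R.mk s.13.7.14.2 s.13.7.14.1) (R.mk s.13.7.13.2 s.13.7.13.1) (R.mk s.13.7.16.2 s.13.7.16.1) (R.mk s.13.7.15.2 s.13.7.15.1) (R.mk s.13.7.2.2 s.13.7.2.1) (R.mk s.13.7.1.2 s.13.7.1.1) (R.mk s.13.7.4.2 s.13.7.4.1) (R.mk s.13.7.3.2 s.13.7.3.1) (R.mk s.13.7.6.2 s.13.7.6.1) (R.mk s.13.7.5.2 s.13.7.5.1) (R.mk s.13.7.8.2 s.13.7.8.1) (R.mk s.13.7.7.2 s.13.7.7.1))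
  (@T16.mk R s.13.8.10 s.13.8.9 s.13.8.12 s.13.8.11 s.13.8.14 s.13.8.13 s.13.8.16 s.13.8.15 s.13.8.2 s.13.8.1 s.13.8.4 s.13.8.3 s.13.8.6 s.13.8.5 s.13.8.8 s.13.8.7)
  (@T16.mk R s.13.9.11 s.13.9.12 s.13.9.9 s.13.9.10 s.13.9.15 s.13.9.16 s.13.9.13 s.13.9.14 s.13.9.3 s.13.9.4 s.13.9.1 s.13.9.2 s.13.9.7 s.13.9.8 s.13.9.5 s.13.9.6)
  (@T16.mk R (R.mk s.13.10.11.2 s.13.10.11.1) (R.mk s.13.10.12.2 s.13.10.12.1) (R.mk s.13.10.9.2 s.13.10.9.1) (R.mk s.13.10.10.2 s.13.10.10.1) (R.mk s.13.10.15.2 s.13.10.15.1) (R.mk s.13.10.16.2 s.13.10.16.1) (R.mk s.13.10.13.2 s.13.10.13.1) (R.mk s.13.10.14.2 s.13.10.14.1) (R.mk s.13.10.3.2 s.13.10.3.1) (R.mk s.13.10.4.2 s.13.10.4.1) (R.mk s.13.10.1.2 s.13.10.1.1) (R.mk s.13.10.2.2 s.13.10.2.1) (R.mk s.13.10.7.2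 s.13.10.7.1) (R.mk s.13.10.8.2 s.13.10.8.1) (R.mk s.13.10.5.2 s.13.10.5.1) (R.mk s.13.10.6.2 s.13.10.6.1))
  (@T16.mk R (R.mk s.13.11.8.2 s.13.11.8.1) (R.mk s.13.11.7.2 s.13.11.7.1) (R.mk s.13.11.6.2 s.13.11.6.1) (R.mk s.13.11.5.2 s.13.11.5.1) (R.mk s.13.11.4.2 s.13.11.4.1) (R.mk s.13.11.3.2 s.13.11.3.1) (R.mk s.13.11.2.2 s.13.11.2.1) (R.mk s.13.11.1.2 s.13.11.1.1) (R.mk s.13.11.16.2 s.13.11.16.1) (R.mk s.13.11.15.2 s.13.11.15.1) (R.mk s.13.11.14.2 s.13.11.14.1) (R.mk s.13.11.13.2 s.13.11.13.1) (R.mk s.13.11.12.2 s.13.11.12.1) (R.mk s.13.11.11.2 s.13.11.11.1) (R.mk s.13.11.10.2 s.13.11.10.1) (R.mk s.13.11.9.2 s.13.11.9.1))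
  (@T16.mk R s.13.12.8 s.13.12.7 s.13.12.6 s.13.12.5 s.13.12.4 s.13.12.3 s.13.12.2 s.13.12.1 s.13.12.16 s.13.12.15 s.13.12.14 s.13.12.13 s.13.12.12 s.13.12.11 s.13.12.10 s.13.12.9)
  (@T16.mk R (R.mk s.13.13.9.2 s.13.13.9.1) (R.mk s.13.13.10.2 s.13.13.10.1) (R.mk s.13.13.11.2 s.13.13.11.1) (R.mk s.13.13.12.2 s.13.13.12.1) (R.mk s.13.13.13.2 s.13.13.13.1) (R.mk s.13.13.14.2 s.13.13.14.1) (R.mk s.13.13.15.2 s.13.13.15.1) (R.mk s.13.13.16.2 s.13.13.16.1) (R.mk s.13.13.1.2 s.13.13.1.1) (R.mk s.13.13.2.2 s.13.13.2.1) (R.mk s.13.13.3.2 s.13.13.3.1) (R.mk s.13.13.4.2 s.13.13.4.1) (R.mk s.13.13.5.2 s.13.13.5.1) (R.mk s.13.13.6.2 s.13.13.6.1) (R.mk s.13.13.7.2 s.13.13.7.1) (R.mk s.13.13.8.2 s.13.13.8.1))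
  (@T16.mk R s.17.6.5 (R.mk s.17.6.6.2 s.17.6.6.1) s.17.6.7 s.17.6.8 s.17.6.1 s.17.6.2 s.17.6.3 (R.mk s.17.6.4.2 s.17.6.4.1) s.17.6.13 (R.mk s.17.6.14.2 s.17.6.14.1) s.17.6.15 s.17.6.16 (R.mk s.17.6.9.2 s.17.6.9.1) (R.mk s.17.6.10.2 s.17.6.10.1) (R.mk s.17.6.11.2 s.17.6.11.1) s.17.6.12)
  (@T16.mk R s.17.7.5 s.17.7.6 s.17.7.7 (R.mk s.17.7.8.2 s.17.7.8.1) s.17.7.1 (R.mk s.17.7.2.2 s.17.7.2.1) s.17.7.3 s.17.7.4 s.17.7.13 s.17.7.14 s.17.7.15 (R.mk s.17.7.16.2 s.17.7.16.1) (R.mk s.17.7.9.2 s.17.7.9.1) s.17.7.10 (R.mk s.17.7.11.2 s.17.7.11.1) (R.mk s.17.7.12.2 s.17.7.12.1))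
  (@T16.mk R s.17.8.5 (R.mk s.17.8.6.2 s.17.8.6.1) (R.mk s.17.8.7.2 s.17.8.7.1) (R.mk s.17.8.8.2 s.17.8.8.1) (R.mk s.17.8.1.2 s.17.8.1.1) (R.mk s.17.8.2.2 s.17.8.2.1) s.17.8.3 (R.mk s.17.8.4.2 s.17.8.4.1) s.17.8.13 (R.mk s.17.8.14.2 s.17.8.14.1) (R.mk s.17.8.15.2 s.17.8.15.1) (R.mk s.17.8.16.2 s.17.8.16.1) s.17.8.9 s.17.8.10 (R.mk s.17.8.11.2 s.17.8.11.1) s.17.8.12)
 )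
 (@T16.mk (T16 R)
  (@T16.mk R (R.mk s.17.9.5.2 s.17.9.5.1) (R.mk s.17.9.6.2 s.17.9.6.1) s.17.9.7 (R.mk s.17.9.8.2 s.17.9.8.1) s.17.9.1 (R.mk s.17.9.2.2 s.17.9.2.1) (R.mk s.17.9.3.2 s.17.9.3.1) (R.mk s.17.9.4.2 s.17.9.4.1) (R.mk s.17.9.13.2 s.17.9.13.1) (R.mk s.17.9.14.2 s.17.9.14.1) s.17.9.15 (R.mk s.17.9.16.2 s.17.9.16.1) (R.mk s.17.9.9.2 s.17.9.9.1) s.17.9.10 s.17.9.11 s.17.9.12)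
  (@T16.mk R s.17.10.5 s.17.10.6 (R.mk s.17.10.7.2 s.17.10.7.1) s.17.10.8 (R.mk s.17.10.1.2 s.17.10.1.1) s.17.10.2 s.17.10.3 s.17.10.4 s.17.10.13 s.17.10.14 (R.mk s.17.10.15.2 s.17.10.15.1) s.17.10.16 s.17.10.9 (R.mk s.17.10.10.2 s.17.10.10.1) (R.mk s.17.10.11.2 s.17.10.11.1) (R.mk s.17.10.12.2 s.17.10.12.1))
  (@T16.mk R (R.mk s.17.11.5.2 s.17.11.5.1) s.17.11.6 s.17.11.7 s.17.11.8 s.17.11.1 s.17.11.2 (R.mk s.17.11.3.2 s.17.11.3.1) s.17.11.4 (R.mk s.17.11.13.2 s.17.11.13.1) s.17.11.14 s.17.11.15 s.17.11.16 (R.mk s.17.11.9.2 s.17.11.9.1) (R.mk s.17.11.10.2 s.17.11.10.1) s.17.11.11 (R.mk s.17.11.12.2 s.17.11.12.1))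
  (@T16.mk R (R.mk s.17.12.5.2 s.17.12.5.1) (R.mk s.17.12.6.2 s.17.12.6.1) (R.mk s.17.12.7.2 s.17.12.7.1) s.17.12.8 (R.mk s.17.12.1.2 s.17.12.1.1) s.17.12.2 (R.mk s.17.12.3.2 s.17.12.3.1) (R.mk s.17.12.4.2 s.17.12.4.1) (R.mk s.17.12.13.2 s.17.12.13.1) (R.mk s.17.12.14.2 s.17.12.14.1) (R.mk s.17.12.15.2 s.17.12.15.1) s.17.12.16 s.17.12.9 (R.mk s.17.12.10.2 s.17.12.10.1) s.17.12.11 s.17.12.12)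
  (@T16.mk R (R.mk s.17.13.5.2 s.17.13.5.1) s.17.13.6 (R.mk s.17.13.7.2 s.17.13.7.1) (R.mk s.17.13.8.2 s.17.13.8.1) (R.mk s.17.13.1.2 s.17.13.1.1) (R.mk s.17.13.2.2 s.17.13.2.1) (R.mk s.17.13.3.2 s.17.13.3.1) s.17.13.4 (R.mk s.17.13.13.2 s.17.13.13.1) s.17.13.14 (R.mk s.17.13.15.2 s.17.13.15.1) (R.mk s.17.13.16.2 s.17.13.16.1) s.17.13.9 s.17.13.10 s.17.13.11 (R.mk s.17.13.12.2 s.17.13.12.1))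
  (@T16.mk R s.16.14.5 s.16.14.6 (R.mk s.16.14.7.2 s.16.14.7.1) s.16.14.8 (R.mk s.16.14.1.2 s.16.14.1.1) s.16.14.2 s.16.14.3 s.16.14.4 (R.mk s.16.14.13.2 s.16.14.13.1) (R.mk s.16.14.14.2 s.16.14.14.1) s.16.14.15 (R.mk s.16.14.16.2 s.16.14.16.1) (R.mk s.16.14.9.2 s.16.14.9.1) s.16.14.10 s.16.14.11 s.16.14.12)
  (@T16.mk R (R.mk s.16.15.5.2 s.16.15.5.1) s.16.15.6 s.16.15.7 s.16.15.8 s.16.15.1 s.16.15.2 (R.mk s.16.15.3.2 s.16.15.3.1) s.16.15.4 s.16.15.13 (R.mk s.16.15.14.2 s.16.15.14.1) (R.mk s.16.15.15.2 s.16.15.15.1) (R.mk s.16.15.16.2 s.16.15.16.1) s.16.15.9 s.16.15.10 (R.mk s.16.15.11.2 s.16.15.11.1) s.16.15.12)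
  (@T16.mk R (R.mk s.16.16.5.2 s.16.16.5.1) (R.mk s.16.16.6.2 s.16.16.6.1) (R.mk s.16.16.7.2 s.16.16.7.1) s.16.16.8 (R.mk s.16.16.1.2 s.16.16.1.1) s.16.16.2 (R.mk s.16.16.3.2 s.16.16.3.1) (R.mk s.16.16.4.2 s.16.16.4.1) s.16.16.13 s.16.16.14 s.16.16.15 (R.mk s.16.16.16.2 s.16.16.16.1) (R.mk s.16.16.9.2 s.16.16.9.1) s.16.16.10 (R.mk s.16.16.11.2 s.16.16.11.1) (R.mk s.16.16.12.2 s.16.16.12.1))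
  (@T16.mk R (R.mk s.17.1.5.2 s.17.1.5.1) s.17.1.6 (R.mk s.17.1.7.2 s.17.1.7.1) (R.mk s.17.1.8.2 s.17.1.8.1) (R.mk s.17.1.1.2 s.17.1.1.1) (R.mk s.17.1.2.2 s.17.1.2.1) (R.mk s.17.1.3.2 s.17.1.3.1) s.17.1.4 s.17.1.13 (R.mk s.17.1.14.2 s.17.1.14.1) s.17.1.15 s.17.1.16 (R.mk s.17.1.9.2 s.17.1.9.1) (R.mk s.17.1.10.2 s.17.1.10.1) (R.mk s.17.1.11.2 s.17.1.11.1) s.17.1.12)
  (@T16.mk R s.17.2.5 (R.mk s.17.2.6.2 s.17.2.6.1) s.17.2.7 s.17.2.8 s.17.2.1 s.17.2.2 s.17.2.3 (R.mk s.17.2.4.2 s.17.2.4.1) (R.mk s.17.2.13.2 s.17.2.13.1) s.17.2.14 (R.mk s.17.2.15.2 s.17.2.15.1) (R.mk s.17.2.16.2 s.17.2.16.1) s.17.2.9 s.17.2.10 s.17.2.11 (R.mk s.17.2.12.2 s.17.2.12.1))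
  (@T16.mk R s.17.3.5 s.17.3.6 s.17.3.7 (R.mk s.17.3.8.2 s.17.3.8.1) s.17.3.1 (R.mk s.17.3.2.2 s.17.3.2.1) s.17.3.3 s.17.3.4 (R.mk s.17.3.13.2 s.17.3.13.1) (R.mk s.17.3.14.2 s.17.3.14.1) (R.mk s.17.3.15.2 s.17.3.15.1) s.17.3.16 s.17.3.9 (R.mk s.17.3.10.2 s.17.3.10.1) s.17.3.11 s.17.3.12)
  (@T16.mk R s.17.4.5 (R.mk s.17.4.6.2 s.17.4.6.1) (R.mk s.17.4.7.2 s.17.4.7.1) (R.mk s.17.4.8.2 s.17.4.8.1) (R.mk s.17.4.1.2 s.17.4.1.1) (R.mk s.17.4.2.2 s.17.4.2.1) s.17.4.3 (R.mk s.17.4.4.2 s.17.4.4.1) (R.mk s.17.4.13.2 s.17.4.13.1) s.17.4.14 s.17.4.15 s.17.4.16 (R.mk s.17.4.9.2 s.17.4.9.1) (R.mk s.17.4.10.2 s.17.4.10.1) s.17.4.11 (R.mk s.17.4.12.2 s.17.4.12.1))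
  (@T16.mk R (R.mk s.17.5.5.2 s.17.5.5.1) (R.mk s.17.5.6.2 s.17.5.6.1) s.17.5.7 (R.mk s.17.5.8.2 s.17.5.8.1) s.17.5.1 (R.mk s.17.5.2.2 s.17.5.2.1) (R.mk s.17.5.3.2 s.17.5.3.1) (R.mk s.17.5.4.2 s.17.5.4.1) s.17.5.13 s.17.5.14 (R.mk s.17.5.15.2 s.17.5.15.1) s.17.5.16 s.17.5.9 (R.mk s.17.5.10.2 s.17.5.10.1) (R.mk s.17.5.11.2 s.17.5.11.1) (R.mk s.17.5.12.2 s.17.5.12.1))
  (@T16.mk R s.16.6.5 s.16.6.6 (R.mk s.16.6.7.2 s.16.6.7.1) s.16.6.8 (R.mk s.16.6.1.2 s.16.6.1.1) s.16.6.2 s.16.6.3 s.16.6.4 (R.mk s.16.6.13.2 s.16.6.13.1) (R.mk s.16.6.14.2 s.16.6.14.1) s.16.6.15 (R.mk s.16.6.16.2 s.16.6.16.1) (R.mk s.16.6.9.2 s.16.6.9.1) s.16.6.10 s.16.6.11 s.16.6.12)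
  (@T16.mk R (R.mk s.16.7.5.2 s.16.7.5.1) s.16.7.6 s.16.7.7 s.16.7.8 s.16.7.1 s.16.7.2 (R.mk s.16.7.3.2 s.16.7.3.1) s.16.7.4 s.16.7.13 (R.mk s.16.7.14.2 s.16.7.14.1) (R.mk s.16.7.15.2 s.16.7.15.1) (R.mk s.16.7.16.2 s.16.7.16.1) s.16.7.9 s.16.7.10 (R.mk s.16.7.11.2 s.16.7.11.1) s.16.7.12)
  (@T16.mk R (R.mk s.16.8.5.2 s.16.8.5.1) (R.mk s.16.8.6.2 s.16.8.6.1) (R.mk s.16.8.7.2 s.16.8.7.1) s.16.8.8 (R.mk s.16.8.1.2 s.16.8.1.1) s.16.8.2 (R.mk s.16.8.3.2 s.16.8.3.1) (R.mk s.16.8.4.2 s.16.8.4.1) s.16.8.13 s.16.8.14 s.16.8.15 (R.mk s.16.8.16.2 s.16.8.16.1) (R.mk s.16.8.9.2 s.16.8.9.1) s.16.8.10 (R.mk s.16.8.11.2 s.16.8.11.1) (R.mk s.16.8.12.2 s.16.8.12.1))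
 )
 (@T16.mk (T16 R)
  (@T16.mk R (R.mk s.16.9.5.2 s.16.9.5.1) s.16.9.6 (R.mk s.16.9.7.2 s.16.9.7.1) (R.mk s.16.9.8.2 s.16.9.8.1) (R.mk s.16.9.1.2 s.16.9.1.1) (R.mk s.16.9.2.2 s.16.9.2.1) (R.mk s.16.9.3.2 s.16.9.3.1) s.16.9.4 s.16.9.13 (R.mk s.16.9.14.2 s.16.9.14.1) s.16.9.15 s.16.9.16 (R.mk s.16.9.9.2 s.16.9.9.1) (R.mk s.16.9.10.2 s.16.9.10.1) (R.mk s.16.9.11.2 s.16.9.11.1) s.16.9.12)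
  (@T16.mk R s.16.10.5 (R.mk s.16.10.6.2 s.16.10.6.1) s.16.10.7 s.16.10.8 s.16.10.1 s.16.10.2 s.16.10.3 (R.mk s.16.10.4.2 s.16.10.4.1) (R.mk s.16.10.13.2 s.16.10.13.1) s.16.10.14 (R.mk s.16.10.15.2 s.16.10.15.1) (R.mk s.16.10.16.2 s.16.10.16.1) s.16.10.9 s.16.10.10 s.16.10.11 (R.mk s.16.10.12.2 s.16.10.12.1))
  (@T16.mk R s.16.11.5 s.16.11.6 s.16.11.7 (R.mk s.16.11.8.2 s.16.11.8.1) s.16.11.1 (R.mk s.16.11.2.2 s.16.11.2.1) s.16.11.3 s.16.11.4 (R.mk s.16.11.13.2 s.16.11.13.1) (R.mk s.16.11.14.2 s.16.11.14.1) (R.mk s.16.11.15.2 s.16.11.15.1) s.16.11.16 s.16.11.9 (R.mk s.16.11.10.2 s.16.11.10.1) s.16.11.11 s.16.11.12)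
  (@T16.mk R s.16.12.5 (R.mk s.16.12.6.2 s.16.12.6.1) (R.mk s.16.12.7.2 s.16.12.7.1) (R.mk s.16.12.8.2 s.16.12.8.1) (R.mk s.16.12.1.2 s.16.12.1.1) (R.mk s.16.12.2.2 s.16.12.2.1) s.16.12.3 (R.mk s.16.12.4.2 s.16.12.4.1) (R.mk s.16.12.13.2 s.16.12.13.1) s.16.12.14 s.16.12.15 s.16.12.16 (R.mk s.16.12.9.2 s.16.12.9.1) (R.mk s.16.12.10.2 s.16.12.10.1) s.16.12.11 (R.mk s.16.12.12.2 s.16.12.12.1))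
  (@T16.mk R (R.mk s.16.13.5.2 s.16.13.5.1) (R.mk s.16.13.6.2 s.16.13.6.1) s.16.13.7 (R.mk s.16.13.8.2 s.16.13.8.1) s.16.13.1 (R.mk s.16.13.2.2 s.16.13.2.1) (R.mk s.16.13.3.2 s.16.13.3.1) (R.mk s.16.13.4.2 s.16.13.4.1) s.16.13.13 s.16.13.14 (R.mk s.16.13.15.2 s.16.13.15.1) s.16.13.16 s.16.13.9 (R.mk s.16.13.10.2 s.16.13.10.1) (R.mk s.16.13.11.2 s.16.13.11.1) (R.mk s.16.13.12.2 s.16.13.12.1))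
  (@T16.mk R (R.mk s.15.14.5.2 s.15.14.5.1) s.15.14.6 (R.mk s.15.14.7.2 s.15.14.7.1) (R.mk s.15.14.8.2 s.15.14.8.1) (R.mk s.15.14.1.2 s.15.14.1.1) (R.mk s.15.14.2.2 s.15.14.2.1) (R.mk s.15.14.3.2 s.15.14.3.1) s.15.14.4 (R.mk s.15.14.13.2 s.15.14.13.1) s.15.14.14 (R.mk s.15.14.15.2 s.15.14.15.1) (R.mk s.15.14.16.2 s.15.14.16.1) s.15.14.9 s.15.14.10 s.15.14.11 (R.mk s.15.14.12.2 s.15.14.12.1))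
  (@T16.mk R (R.mk s.15.15.5.2 s.15.15.5.1) (R.mk s.15.15.6.2 s.15.15.6.1) (R.mk s.15.15.7.2 s.15.15.7.1) s.15.15.8 (R.mk s.15.15.1.2 s.15.15.1.1) s.15.15.2 (R.mk s.15.15.3.2 s.15.15.3.1) (R.mk s.15.15.4.2 s.15.15.4.1) (R.mk s.15.15.13.2 s.15.15.13.1) (R.mk s.15.15.14.2 s.15.15.14.1) (R.mk s.15.15.15.2 s.15.15.15.1) s.15.15.16 s.15.15.9 (R.mk s.15.15.10.2 s.15.15.10.1) s.15.15.11 s.15.15.12)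
  (@T16.mk R (R.mk s.15.16.5.2 s.15.16.5.1) s.15.16.6 s.15.16.7 s.15.16.8 s.15.16.1 s.15.16.2 (R.mk s.15.16.3.2 s.15.16.3.1) s.15.16.4 (R.mk s.15.16.13.2 s.15.16.13.1) s.15.16.14 s.15.16.15 s.15.16.16 (R.mk s.15.16.9.2 s.15.16.9.1) (R.mk s.15.16.10.2 s.15.16.10.1) s.15.16.11 (R.mk s.15.16.12.2 s.15.16.12.1))
  (@T16.mk R s.16.1.5 s.16.1.6 (R.mk s.16.1.7.2 s.16.1.7.1) s.16.1.8 (R.mk s.16.1.1.2 s.16.1.1.1) s.16.1.2 s.16.1.3 s.16.1.4 s.16.1.13 s.16.1.14 (R.mk s.16.1.15.2 s.16.1.15.1) s.16.1.16 s.16.1.9 (R.mk s.16.1.10.2 s.16.1.10.1) (R.mk s.16.1.11.2 s.16.1.11.1) (R.mk s.16.1.12.2 s.16.1.12.1))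
  (@T16.mk R (R.mk s.16.2.5.2 s.16.2.5.1) (R.mk s.16.2.6.2 s.16.2.6.1) s.16.2.7 (R.mk s.16.2.8.2 s.16.2.8.1) s.16.2.1 (R.mk s.16.2.2.2 s.16.2.2.1) (R.mk s.16.2.3.2 s.16.2.3.1) (R.mk s.16.2.4.2 s.16.2.4.1) (R.mk s.16.2.13.2 s.16.2.13.1) (R.mk s.16.2.14.2 s.16.2.14.1) s.16.2.15 (R.mk s.16.2.16.2 s.16.2.16.1) (R.mk s.16.2.9.2 s.16.2.9.1) s.16.2.10 s.16.2.11 s.16.2.12)
  (@T16.mk R s.16.3.5 (R.mk s.16.3.6.2 s.16.3.6.1) (R.mk s.16.3.7.2 s.16.3.7.1) (R.mk s.16.3.8.2 s.16.3.8.1) (R.mk s.16.3.1.2 s.16.3.1.1) (R.mk s.16.3.2.2 s.16.3.2.1) s.16.3.3 (R.mk s.16.3.4.2 s.16.3.4.1) s.16.3.13 (R.mk s.16.3.14.2 s.16.3.14.1) (R.mk s.16.3.15.2 s.16.3.15.1) (R.mk s.16.3.16.2 s.16.3.16.1) s.16.3.9 s.16.3.10 (R.mk s.16.3.11.2 s.16.3.11.1) s.16.3.12)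
  (@T16.mk R s.16.4.5 s.16.4.6 s.16.4.7 (R.mk s.16.4.8.2 s.16.4.8.1) s.16.4.1 (R.mk s.16.4.2.2 s.16.4.2.1) s.16.4.3 s.16.4.4 s.16.4.13 s.16.4.14 s.16.4.15 (R.mk s.16.4.16.2 s.16.4.16.1) (R.mk s.16.4.9.2 s.16.4.9.1) s.16.4.10 (R.mk s.16.4.11.2 s.16.4.11.1) (R.mk s.16.4.12.2 s.16.4.12.1))
  (@T16.mk R s.16.5.5 (R.mk s.16.5.6.2 s.16.5.6.1) s.16.5.7 s.16.5.8 s.16.5.1 s.16.5.2 s.16.5.3 (R.mk s.16.5.4.2 s.16.5.4.1) s.16.5.13 (R.mk s.16.5.14.2 s.16.5.14.1) s.16.5.15 s.16.5.16 (R.mk s.16.5.9.2 s.16.5.9.1) (R.mk s.16.5.10.2 s.16.5.10.1) (R.mk s.16.5.11.2 s.16.5.11.1) s.16.5.12)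
  (@T16.mk R (R.mk s.15.6.5.2 s.15.6.5.1) (R.mk s.15.6.6.2 s.15.6.6.1) (R.mk s.15.6.7.2 s.15.6.7.1) s.15.6.8 (R.mk s.15.6.1.2 s.15.6.1.1) s.15.6.2 (R.mk s.15.6.3.2 s.15.6.3.1) (R.mk s.15.6.4.2 s.15.6.4.1) s.15.6.13 s.15.6.14 s.15.6.15 (R.mk s.15.6.16.2 s.15.6.16.1) (R.mk s.15.6.9.2 s.15.6.9.1) s.15.6.10 (R.mk s.15.6.11.2 s.15.6.11.1) (R.mk s.15.6.12.2 s.15.6.12.1))
  (@T16.mk R (R.mk s.15.7.5.2 s.15.7.5.1) s.15.7.6 (R.mk s.15.7.7.2 s.15.7.7.1) (R.mk s.15.7.8.2 s.15.7.8.1) (R.mk s.15.7.1.2 s.15.7.1.1) (R.mk s.15.7.2.2 s.15.7.2.1) (R.mk s.15.7.3.2 s.15.7.3.1) s.15.7.4 s.15.7.13 (R.mk s.15.7.14.2 s.15.7.14.1) s.15.7.15 s.15.7.16 (R.mk s.15.7.9.2 s.15.7.9.1) (R.mk s.15.7.10.2 s.15.7.10.1) (R.mk s.15.7.11.2 s.15.7.11.1) s.15.7.12)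
  (@T16.mk R s.15.8.5 s.15.8.6 (R.mk s.15.8.7.2 s.15.8.7.1) s.15.8.8 (R.mk s.15.8.1.2 s.15.8.1.1) s.15.8.2 s.15.8.3 s.15.8.4 (R.mk s.15.8.13.2 s.15.8.13.1) (R.mk s.15.8.14.2 s.15.8.14.1) s.15.8.15 (R.mk s.15.8.16.2 s.15.8.16.1) (R.mk s.15.8.9.2 s.15.8.9.1) s.15.8.10 s.15.8.11 s.15.8.12)
 )
 (@T16.mk (T16 R)
  (@T16.mk R (R.mk s.15.9.5.2 s.15.9.5.1) s.15.9.6 s.15.9.7 s.15.9.8 s.15.9.1 s.15.9.2 (R.mk s.15.9.3.2 s.15.9.3.1) s.15.9.4 s.15.9.13 (R.mk s.15.9.14.2 s.15.9.14.1) (R.mk s.15.9.15.2 s.15.9.15.1) (R.mk s.15.9.16.2 s.15.9.16.1) s.15.9.9 s.15.9.10 (R.mk s.15.9.11.2 s.15.9.11.1) s.15.9.12)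
  (@T16.mk R s.15.10.5 (R.mk s.15.10.6.2 s.15.10.6.1) (R.mk s.15.10.7.2 s.15.10.7.1) (R.mk s.15.10.8.2 s.15.10.8.1) (R.mk s.15.10.1.2 s.15.10.1.1) (R.mk s.15.10.2.2 s.15.10.2.1) s.15.10.3 (R.mk s.15.10.4.2 s.15.10.4.1) (R.mk s.15.10.13.2 s.15.10.13.1) s.15.10.14 s.15.10.15 s.15.10.16 (R.mk s.15.10.9.2 s.15.10.9.1) (R.mk s.15.10.10.2 s.15.10.10.1) s.15.10.11 (R.mk s.15.10.12.2 s.15.10.12.1))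
  (@T16.mk R (R.mk s.15.11.5.2 s.15.11.5.1) (R.mk s.15.11.6.2 s.15.11.6.1) s.15.11.7 (R.mk s.15.11.8.2 s.15.11.8.1) s.15.11.1 (R.mk s.15.11.2.2 s.15.11.2.1) (R.mk s.15.11.3.2 s.15.11.3.1) (R.mk s.15.11.4.2 s.15.11.4.1) s.15.11.13 s.15.11.14 (R.mk s.15.11.15.2 s.15.11.15.1) s.15.11.16 s.15.11.9 (R.mk s.15.11.10.2 s.15.11.10.1) (R.mk s.15.11.11.2 s.15.11.11.1) (R.mk s.15.11.12.2 s.15.11.12.1))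
  (@T16.mk R s.15.12.5 (R.mk s.15.12.6.2 s.15.12.6.1) s.15.12.7 s.15.12.8 s.15.12.1 s.15.12.2 s.15.12.3 (R.mk s.15.12.4.2 s.15.12.4.1) (R.mk s.15.12.13.2 s.15.12.13.1) s.15.12.14 (R.mk s.15.12.15.2 s.15.12.15.1) (R.mk s.15.12.16.2 s.15.12.16.1) s.15.12.9 s.15.12.10 s.15.12.11 (R.mk s.15.12.12.2 s.15.12.12.1))
  (@T16.mk R s.15.13.5 s.15.13.6 s.15.13.7 (R.mk s.15.13.8.2 s.15.13.8.1) s.15.13.1 (R.mk s.15.13.2.2 s.15.13.2.1) s.15.13.3 s.15.13.4 (R.mk s.15.13.13.2 s.15.13.13.1) (R.mk s.15.13.14.2 s.15.13.14.1) (R.mk s.15.13.15.2 s.15.13.15.1) s.15.13.16 s.15.13.9 (R.mk s.15.13.10.2 s.15.13.10.1) s.15.13.11 s.15.13.12)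
  (@T16.mk R (R.mk s.14.14.5.2 s.14.14.5.1) s.14.14.6 s.14.14.7 s.14.14.8 s.14.14.1 s.14.14.2 (R.mk s.14.14.3.2 s.14.14.3.1) s.14.14.4 (R.mk s.14.14.13.2 s.14.14.13.1) s.14.14.14 s.14.14.15 s.14.14.16 (R.mk s.14.14.9.2 s.14.14.9.1) (R.mk s.14.14.10.2 s.14.14.10.1) s.14.14.11 (R.mk s.14.14.12.2 s.14.14.12.1))
  (@T16.mk R s.14.15.5 s.14.15.6 (R.mk s.14.15.7.2 s.14.15.7.1) s.14.15.8 (R.mk s.14.15.1.2 s.14.15.1.1) s.14.15.2 s.14.15.3 s.14.15.4 s.14.15.13 s.14.15.14 (R.mk s.14.15.15.2 s.14.15.15.1) s.14.15.16 s.14.15.9 (R.mk s.14.15.10.2 s.14.15.10.1) (R.mk s.14.15.11.2 s.14.15.11.1) (R.mk s.14.15.12.2 s.14.15.12.1))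
  (@T16.mk R (R.mk s.14.16.5.2 s.14.16.5.1) s.14.16.6 (R.mk s.14.16.7.2 s.14.16.7.1) (R.mk s.14.16.8.2 s.14.16.8.1) (R.mk s.14.16.1.2 s.14.16.1.1) (R.mk s.14.16.2.2 s.14.16.2.1) (R.mk s.14.16.3.2 s.14.16.3.1) s.14.16.4 (R.mk s.14.16.13.2 s.14.16.13.1) s.14.16.14 (R.mk s.14.16.15.2 s.14.16.15.1) (R.mk s.14.16.16.2 s.14.16.16.1) s.14.16.9 s.14.16.10 s.14.16.11 (R.mk s.14.16.12.2 s.14.16.12.1))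
  (@T16.mk R (R.mk s.15.1.5.2 s.15.1.5.1) (R.mk s.15.1.6.2 s.15.1.6.1) (R.mk s.15.1.7.2 s.15.1.7.1) s.15.1.8 (R.mk s.15.1.1.2 s.15.1.1.1) s.15.1.2 (R.mk s.15.1.3.2 s.15.1.3.1) (R.mk s.15.1.4.2 s.15.1.4.1) (R.mk s.15.1.13.2 s.15.1.13.1) (R.mk s.15.1.14.2 s.15.1.14.1) (R.mk s.15.1.15.2 s.15.1.15.1) s.15.1.16 s.15.1.9 (R.mk s.15.1.10.2 s.15.1.10.1) s.15.1.11 s.15.1.12)
  (@T16.mk R s.15.2.5 s.15.2.6 s.15.2.7 (R.mk s.15.2.8.2 s.15.2.8.1) s.15.2.1 (R.mk s.15.2.2.2 s.15.2.2.1) s.15.2.3 s.15.2.4 s.15.2.13 s.15.2.14 s.15.2.15 (R.mk s.15.2.16.2 s.15.2.16.1) (R.mk s.15.2.9.2 s.15.2.9.1) s.15.2.10 (R.mk s.15.2.11.2 s.15.2.11.1) (R.mk s.15.2.12.2 s.15.2.12.1))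
  (@T16.mk R s.15.3.5 (R.mk s.15.3.6.2 s.15.3.6.1) s.15.3.7 s.15.3.8 s.15.3.1 s.15.3.2 s.15.3.3 (R.mk s.15.3.4.2 s.15.3.4.1) s.15.3.13 (R.mk s.15.3.14.2 s.15.3.14.1) s.15.3.15 s.15.3.16 (R.mk s.15.3.9.2 s.15.3.9.1) (R.mk s.15.3.10.2 s.15.3.10.1) (R.mk s.15.3.11.2 s.15.3.11.1) s.15.3.12)
  (@T16.mk R (R.mk s.15.4.5.2 s.15.4.5.1) (R.mk s.15.4.6.2 s.15.4.6.1) s.15.4.7 (R.mk s.15.4.8.2 s.15.4.8.1) s.15.4.1 (R.mk s.15.4.2.2 s.15.4.2.1) (R.mk s.15.4.3.2 s.15.4.3.1) (R.mk s.15.4.4.2 s.15.4.4.1) (R.mk s.15.4.13.2 s.15.4.13.1) (R.mk s.15.4.14.2 s.15.4.14.1) s.15.4.15 (R.mk s.15.4.16.2 s.15.4.16.1) (R.mk s.15.4.9.2 s.15.4.9.1) s.15.4.10 s.15.4.11 s.15.4.12)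
  (@T16.mk R s.15.5.5 (R.mk s.15.5.6.2 s.15.5.6.1) (R.mk s.15.5.7.2 s.15.5.7.1) (R.mk s.15.5.8.2 s.15.5.8.1) (R.mk s.15.5.1.2 s.15.5.1.1) (R.mk s.15.5.2.2 s.15.5.2.1) s.15.5.3 (R.mk s.15.5.4.2 s.15.5.4.1) s.15.5.13 (R.mk s.15.5.14.2 s.15.5.14.1) (R.mk s.15.5.15.2 s.15.5.15.1) (R.mk s.15.5.16.2 s.15.5.16.1) s.15.5.9 s.15.5.10 (R.mk s.15.5.11.2 s.15.5.11.1) s.15.5.12)
  (@T16.mk R (R.mk s.14.6.5.2 s.14.6.5.1) s.14.6.6 s.14.6.7 s.14.6.8 s.14.6.1 s.14.6.2 (R.mk s.14.6.3.2 s.14.6.3.1) s.14.6.4 (R.mk s.14.6.13.2 s.14.6.13.1) s.14.6.14 s.14.6.15 s.14.6.16 (R.mk s.14.6.9.2 s.14.6.9.1) (R.mk s.14.6.10.2 s.14.6.10.1) s.14.6.11 (R.mk s.14.6.12.2 s.14.6.12.1))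
  (@T16.mk R s.14.7.5 s.14.7.6 (R.mk s.14.7.7.2 s.14.7.7.1) s.14.7.8 (R.mk s.14.7.1.2 s.14.7.1.1) s.14.7.2 s.14.7.3 s.14.7.4 s.14.7.13 s.14.7.14 (R.mk s.14.7.15.2 s.14.7.15.1) s.14.7.16 s.14.7.9 (R.mk s.14.7.10.2 s.14.7.10.1) (R.mk s.14.7.11.2 s.14.7.11.1) (R.mk s.14.7.12.2 s.14.7.12.1))
  (@T16.mk R (R.mk s.14.8.5.2 s.14.8.5.1) s.14.8.6 (R.mk s.14.8.7.2 s.14.8.7.1) (R.mk s.14.8.8.2 s.14.8.8.1) (R.mk s.14.8.1.2 s.14.8.1.1) (R.mk s.14.8.2.2 s.14.8.2.1) (R.mk s.14.8.3.2 s.14.8.3.1) s.14.8.4 (R.mk s.14.8.13.2 s.14.8.13.1) s.14.8.14 (R.mk s.14.8.15.2 s.14.8.15.1) (R.mk s.14.8.16.2 s.14.8.16.1) s.14.8.9 s.14.8.10 s.14.8.11 (R.mk s.14.8.12.2 s.14.8.12.1))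
 )
 (@T16.mk (T16 R)
  (@T16.mk R (R.mk s.14.9.5.2 s.14.9.5.1) (R.mk s.14.9.6.2 s.14.9.6.1) (R.mk s.14.9.7.2 s.14.9.7.1) s.14.9.8 (R.mk s.14.9.1.2 s.14.9.1.1) s.14.9.2 (R.mk s.14.9.3.2 s.14.9.3.1) (R.mk s.14.9.4.2 s.14.9.4.1) (R.mk s.14.9.13.2 s.14.9.13.1) (R.mk s.14.9.14.2 s.14.9.14.1) (R.mk s.14.9.15.2 s.14.9.15.1) s.14.9.16 s.14.9.9 (R.mk s.14.9.10.2 s.14.9.10.1) s.14.9.11 s.14.9.12)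
  (@T16.mk R s.14.10.5 s.14.10.6 s.14.10.7 (R.mk s.14.10.8.2 s.14.10.8.1) s.14.10.1 (R.mk s.14.10.2.2 s.14.10.2.1) s.14.10.3 s.14.10.4 s.14.10.13 s.14.10.14 s.14.10.15 (R.mk s.14.10.16.2 s.14.10.16.1) (R.mk s.14.10.9.2 s.14.10.9.1) s.14.10.10 (R.mk s.14.10.11.2 s.14.10.11.1) (R.mk s.14.10.12.2 s.14.10.12.1))
  (@T16.mk R s.14.11.5 (R.mk s.14.11.6.2 s.14.11.6.1) s.14.11.7 s.14.11.8 s.14.11.1 s.14.11.2 s.14.11.3 (R.mk s.14.11.4.2 s.14.11.4.1) s.14.11.13 (R.mk s.14.11.14.2 s.14.11.14.1) s.14.11.15 s.14.11.16 (R.mk s.14.11.9.2 s.14.11.9.1) (R.mk s.14.11.10.2 s.14.11.10.1) (R.mk s.14.11.11.2 s.14.11.11.1) s.14.11.12)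
  (@T16.mk R (R.mk s.14.12.5.2 s.14.12.5.1) (R.mk s.14.12.6.2 s.14.12.6.1) s.14.12.7 (R.mk s.14.12.8.2 s.14.12.8.1) s.14.12.1 (R.mk s.14.12.2.2 s.14.12.2.1) (R.mk s.14.12.3.2 s.14.12.3.1) (R.mk s.14.12.4.2 s.14.12.4.1) (R.mk s.14.12.13.2 s.14.12.13.1) (R.mk s.14.12.14.2 s.14.12.14.1) s.14.12.15 (R.mk s.14.12.16.2 s.14.12.16.1) (R.mk s.14.12.9.2 s.14.12.9.1) s.14.12.10 s.14.12.11 s.14.12.12)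
  (@T16.mk R s.14.13.5 (R.mk s.14.13.6.2 s.14.13.6.1) (R.mk s.14.13.7.2 s.14.13.7.1) (R.mk s.14.13.8.2 s.14.13.8.1) (R.mk s.14.13.1.2 s.14.13.1.1) (R.mk s.14.13.2.2 s.14.13.2.1) s.14.13.3 (R.mk s.14.13.4.2 s.14.13.4.1) s.14.13.13 (R.mk s.14.13.14.2 s.14.13.14.1) (R.mk s.14.13.15.2 s.14.13.15.1) (R.mk s.14.13.16.2 s.14.13.16.1) s.14.13.9 s.14.13.10 (R.mk s.14.13.11.2 s.14.13.11.1) s.14.13.12)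
  (@T16.mk R s.13.14.5 s.13.14.6 s.13.14.7 (R.mk s.13.14.8.2 s.13.14.8.1) s.13.14.1 (R.mk s.13.14.2.2 s.13.14.2.1) s.13.14.3 s.13.14.4 (R.mk s.13.14.13.2 s.13.14.13.1) (R.mk s.13.14.14.2 s.13.14.14.1) (R.mk s.13.14.15.2 s.13.14.15.1) s.13.14.16 s.13.14.9 (R.mk s.13.14.10.2 s.13.14.10.1) s.13.14.11 s.13.14.12)
  (@T16.mk R s.13.15.5 (R.mk s.13.15.6.2 s.13.15.6.1) s.13.15.7 s.13.15.8 s.13.15.1 s.13.15.2 s.13.15.3 (R.mk s.13.15.4.2 s.13.15.4.1) (R.mk s.13.15.13.2 s.13.15.13.1) s.13.15.14 (R.mk s.13.15.15.2 s.13.15.15.1) (R.mk s.13.15.16.2 s.13.15.16.1) s.13.15.9 s.13.15.10 s.13.15.11 (R.mk s.13.15.12.2 s.13.15.12.1))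
  (@T16.mk R (R.mk s.13.16.5.2 s.13.16.5.1) (R.mk s.13.16.6.2 s.13.16.6.1) s.13.16.7 (R.mk s.13.16.8.2 s.13.16.8.1) s.13.16.1 (R.mk s.13.16.2.2 s.13.16.2.1) (R.mk s.13.16.3.2 s.13.16.3.1) (R.mk s.13.16.4.2 s.13.16.4.1) s.13.16.13 s.13.16.14 (R.mk s.13.16.15.2 s.13.16.15.1) s.13.16.16 s.13.16.9 (R.mk s.13.16.10.2 s.13.16.10.1) (R.mk s.13.16.11.2 s.13.16.11.1) (R.mk s.13.16.12.2 s.13.16.12.1))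
  (@T16.mk R s.14.1.5 (R.mk s.14.1.6.2 s.14.1.6.1) (R.mk s.14.1.7.2 s.14.1.7.1) (R.mk s.14.1.8.2 s.14.1.8.1) (R.mk s.14.1.1.2 s.14.1.1.1) (R.mk s.14.1.2.2 s.14.1.2.1) s.14.1.3 (R.mk s.14.1.4.2 s.14.1.4.1) (R.mk s.14.1.13.2 s.14.1.13.1) s.14.1.14 s.14.1.15 s.14.1.16 (R.mk s.14.1.9.2 s.14.1.9.1) (R.mk s.14.1.10.2 s.14.1.10.1) s.14.1.11 (R.mk s.14.1.12.2 s.14.1.12.1))
  (@T16.mk R (R.mk s.14.2.5.2 s.14.2.5.1) s.14.2.6 s.14.2.7 s.14.2.8 s.14.2.1 s.14.2.2 (R.mk s.14.2.3.2 s.14.2.3.1) s.14.2.4 s.14.2.13 (R.mk s.14.2.14.2 s.14.2.14.1) (R.mk s.14.2.15.2 s.14.2.15.1) (R.mk s.14.2.16.2 s.14.2.16.1) s.14.2.9 s.14.2.10 (R.mk s.14.2.11.2 s.14.2.11.1) s.14.2.12)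
  (@T16.mk R s.14.3.5 s.14.3.6 (R.mk s.14.3.7.2 s.14.3.7.1) s.14.3.8 (R.mk s.14.3.1.2 s.14.3.1.1) s.14.3.2 s.14.3.3 s.14.3.4 (R.mk s.14.3.13.2 s.14.3.13.1) (R.mk s.14.3.14.2 s.14.3.14.1) s.14.3.15 (R.mk s.14.3.16.2 s.14.3.16.1) (R.mk s.14.3.9.2 s.14.3.9.1) s.14.3.10 s.14.3.11 s.14.3.12)
  (@T16.mk R (R.mk s.14.4.5.2 s.14.4.5.1) s.14.4.6 (R.mk s.14.4.7.2 s.14.4.7.1) (R.mk s.14.4.8.2 s.14.4.8.1) (R.mk s.14.4.1.2 s.14.4.1.1) (R.mk s.14.4.2.2 s.14.4.2.1) (R.mk s.14.4.3.2 s.14.4.3.1) s.14.4.4 s.14.4.13 (R.mk s.14.4.14.2 s.14.4.14.1) s.14.4.15 s.14.4.16 (R.mk s.14.4.9.2 s.14.4.9.1) (R.mk s.14.4.10.2 s.14.4.10.1) (R.mk s.14.4.11.2 s.14.4.11.1) s.14.4.12)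
  (@T16.mk R (R.mk s.14.5.5.2 s.14.5.5.1) (R.mk s.14.5.6.2 s.14.5.6.1) (R.mk s.14.5.7.2 s.14.5.7.1) s.14.5.8 (R.mk s.14.5.1.2 s.14.5.1.1) s.14.5.2 (R.mk s.14.5.3.2 s.14.5.3.1) (R.mk s.14.5.4.2 s.14.5.4.1) s.14.5.13 s.14.5.14 s.14.5.15 (R.mk s.14.5.16.2 s.14.5.16.1) (R.mk s.14.5.9.2 s.14.5.9.1) s.14.5.10 (R.mk s.14.5.11.2 s.14.5.11.1) (R.mk s.14.5.12.2 s.14.5.12.1))
  (@T16.mk R s.17.14.1 s.17.14.2 (R.mk s.17.14.3.2 s.17.14.3.1) s.17.14.4 s.17.14.5 s.17.14.6 s.17.14.7 (R.mk s.17.14.8.2 s.17.14.8.1) (R.mk s.17.14.9.2 s.17.14.9.1) (R.mk s.17.14.10.2 s.17.14.10.1) s.17.14.11 s.17.14.12 s.17.14.13 s.17.14.14 s.17.14.15 (R.mk s.17.14.16.2 s.17.14.16.1))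
  (@T16.mk R s.17.15.1 s.17.15.2 (R.mk s.17.15.3.2 s.17.15.3.1) (R.mk s.17.15.4.2 s.17.15.4.1) s.17.15.5 s.17.15.6 (R.mk s.17.15.7.2 s.17.15.7.1) s.17.15.8 (R.mk s.17.16.15.2 s.17.16.15.1) s.17.15.10 s.17.15.11 s.17.15.12 s.17.15.13 (R.mk s.18.1.4.2 s.18.1.4.1) (R.mk s.18.1.5.2 s.18.1.5.1) (R.mk s.18.1.6.2 s.18.1.6.1))
  (@T16.mk R s.17.16.1 s.17.16.2 s.17.16.3 s.17.16.4 s.17.16.5 (R.mk s.18.1.12.2 s.18.1.12.1) s.17.16.7 s.17.16.8 (R.mk s.18.1.15.2 s.18.1.15.1) (R.mk s.18.1.16.2 s.18.1.16.1) s.17.16.11 s.17.16.12 (R.mk s.18.2.3.2 s.18.2.3.1) s.17.16.14 (R.mk s.17.15.9.2 s.17.15.9.1) s.17.16.16)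
 )
 (@T16.mk (T16 R)
  (@T16.mk R s.18.1.1 s.18.1.2 s.18.1.3 (R.mk s.17.15.14.2 s.17.15.14.1) (R.mk s.17.15.15.2 s.17.15.15.1) (R.mk s.17.15.16.2 s.17.15.16.1) s.18.1.7 s.18.1.8 s.18.1.9 s.18.1.10 s.18.1.11 (R.mk s.17.16.6.2 s.17.16.6.1) s.18.1.13 s.18.1.14 (R.mk s.17.16.9.2 s.17.16.9.1) (R.mk s.17.16.10.2 s.17.16.10.1))
  (@T16.mk R s.18.2.1 s.18.2.2 (R.mk s.17.16.13.2 s.17.16.13.1) s.18.2.4 s.18.2.5 s.18.2.6 s.18.2.7 s.18.2.8 s.18.2.9 s.18.2.10 s.18.2.11 s.18.2.12 s.18.2.13 s.18.2.14 s.18.2.15 s.18.2.16)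
  (@T16.mk R s.18.3.1 s.18.3.2 s.18.3.3 s.18.3.4 s.18.3.5 s.18.3.6 s.18.3.7 s.18.3.8 s.18.3.9 s.18.3.10 s.18.3.11 s.18.3.12 s.18.3.13 s.18.3.14 s.18.3.15 s.18.3.16)
  (@T16.mk R s.18.4.1 s.18.4.2 s.18.4.3 s.18.4.4 s.18.4.5 s.18.4.6 s.18.4.7 s.18.4.8 s.18.4.9 s.18.4.10 s.18.4.11 s.18.4.12 s.18.4.13 s.18.4.14 s.18.4.15 s.18.4.16)
  (@T16.mk R s.18.5.1 s.18.5.2 s.18.5.3 s.18.5.4 s.18.5.5 s.18.5.6 s.18.5.7 s.18.5.8 s.18.5.9 s.18.5.10 s.18.5.11 s.18.5.12 s.18.5.13 s.18.5.14 s.18.5.15 s.18.5.16)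
  (@T16.mk R s.18.6.1 s.18.6.2 s.18.6.3 s.18.6.4 s.18.6.5 s.18.6.6 s.18.6.7 s.18.6.8 s.18.6.9 s.18.6.10 s.18.6.11 s.18.6.12 s.18.6.13 s.18.6.14 s.18.6.15 s.18.6.16)
  (@T16.mk R s.18.7.1 s.18.7.2 s.18.7.3 s.18.7.4 s.18.7.5 s.18.7.6 s.18.7.7 s.18.7.8 s.18.7.9 s.18.7.10 s.18.7.11 s.18.7.12 s.18.7.13 s.18.7.14 s.18.7.15 s.18.7.16)
  (@T16.mk R s.18.8.1 s.18.8.2 s.18.8.3 s.18.8.4 s.18.8.5 s.18.8.6 s.18.8.7 s.18.8.8 s.18.8.9 s.18.8.10 s.18.8.11 s.18.8.12 s.18.8.13 s.18.8.14 s.18.8.15 s.18.8.16)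
  (@T16.mk R s.18.9.1 s.18.9.2 s.18.9.3 s.18.9.4 s.18.9.5 s.18.9.6 s.18.9.7 s.18.9.8 s.18.9.9 s.18.9.10 s.18.9.11 s.18.9.12 s.18.9.13 s.18.9.14 s.18.9.15 s.18.9.16)
  (@T16.mk R s.18.10.1 s.18.10.2 s.18.10.3 s.18.10.4 s.18.10.5 s.18.10.6 s.18.10.7 s.18.10.8 s.18.10.9 s.18.10.10 s.18.10.11 s.18.10.12 s.18.10.13 s.18.10.14 s.18.10.15 s.18.10.16)
  (@T16.mk R s.18.11.1 s.18.11.2 s.18.11.3 s.18.11.4 s.18.11.5 s.18.11.6 s.18.11.7 s.18.11.8 s.18.11.9 s.18.11.10 s.18.11.11 s.18.11.12 s.18.11.13 s.18.11.14 s.18.11.15 s.18.11.16)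
  (@T16.mk R s.18.12.1 s.18.12.2 s.18.12.3 s.18.12.4 s.18.12.5 s.18.12.6 s.18.12.7 s.18.12.8 s.18.12.9 s.18.12.10 s.18.12.11 s.18.12.12 s.18.12.13 s.18.12.14 s.18.12.15 s.18.12.16)
  (@T16.mk R s.18.13.1 s.18.13.2 s.18.13.3 s.18.13.4 s.18.13.5 s.18.13.6 s.18.13.7 s.18.13.8 s.18.13.9 s.18.13.10 s.18.13.11 s.18.13.12 s.18.13.13 s.18.13.14 s.18.13.15 s.18.13.16)
  (@T16.mk R s.18.14.1 s.18.14.2 s.18.14.3 s.18.14.4 s.18.14.5 s.18.14.6 s.18.14.7 s.18.14.8 s.18.14.9 s.18.14.10 s.18.14.11 s.18.14.12 s.18.14.13 s.18.14.14 s.18.14.15 s.18.14.16)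
  (@T16.mk R s.18.15.1 s.18.15.2 s.18.15.3 s.18.15.4 s.18.15.5 s.18.15.6 s.18.15.7 s.18.15.8 s.18.15.9 s.18.15.10 s.18.15.11 s.18.15.12 s.18.15.13 s.18.15.14 s.18.15.15 s.18.15.16)
  (@T16.mk R s.18.16.1 s.18.16.2 s.18.16.3 s.18.16.4 s.18.16.5 s.18.16.6 s.18.16.7 s.18.16.8 s.18.16.9 s.18.16.10 s.18.16.11 s.18.16.12 s.18.16.13 s.18.16.14 s.18.16.15 s.18.16.16)
 )
theorem cd27_eq (s : St) : cd27 s = gather tb27 s := by rfl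
end
end CfsgH5.BE
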