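import Cfsg.Agent.H5.BT0
import Cfsg.Agent.H5.BT1
import Cfsg.Agent.H5.BT2
import Cfsg.Agent.H5.BT3
import Cfsg.Agent.H5.BT4
import Cfsg.Agent.H5.BT5
import Cfsg.Agent.H5.BT6
import Cfsg.Agent.H5.BEd
/-! Baby Monster letters: the alphabet. -/
namespace CfsgH5.BE
noncomputable section
def gX : List (List Term) :=
  [[(4, true, 4305), (4, true, 4306)],
  [(2, true, 4304), (2, false, 4305), (2, true, 4306)],
  [(2, true, 4304), (2, true, 4305), (2, false, 4306)],
  [(2, false, 4307), (2, true, 4310), (2, true, 4313), (2, true, 4315)],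
  [(2, false, 4308), (2, true, 4317), (2, true, 4320), (2, true, 4326)],
  [(2, false, 4309), (2, true, 4312), (2, true, 4314), (2, true, 4325)],
  [(2, true, 4307), (2, false, 4310), (2, true, 4313), (2, true, 4315)],
  [(2, false, 4311), (2, true, 4318), (2, true, 4319), (2, true, 4322)],
  [(2, true, 4309), (2, false, 4312), (2, true, 4314), (2, true, 4325)],
  [(2, true, 4307), (2, true, 4310), (2, false, 4313), (2, true, 4315)],
  [(2, true, 4309), (2, true, 4312), (2, false, 4314), (2, true, 4325)],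
  [(2, true, 4307), (2, true, 4310), (2, true, 4313), (2, false, 4315)],
  [(2, true, 4316), (2, false, 4321), (2, false, 4323), (2, false, 4324)],
  [(2, true, 4308), (2, false, 4317), (2, true, 4320), (2, true, 4326)],
  [(2, true, 4311), (2, false, 4318), (2, true, 4319), (2, true, 4322)],
  [(2, true, 4311), (2, true, 4318), (2, false, 4319), (2, true, 4322)],
  [(2, true, 4308), (2, true, 4317), (2, false, 4320), (2, true, 4326)],
  [(2, false, 4316), (2, true, 4321), (2, false, 4323), (2, false, 4324)],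
  [(2, true, 4311), (2, true, 4318), (2, true, 4319), (2, false, 4322)],
  [(2, false, 4316), (2, false, 4321), (2, true, 4323), (2, false, 4324)],
  [(2, false, 4316), (2, false, 4321), (2, false, 4323), (2, true, 4324)],
  [(2, true, 4309), (2, true, 4312), (2, true, 4314), (2, false, 4325)],
  [(2, true, 4308), (2, true, 4317), (2, true, 4320), (2, false, 4326)],
  [],
  [],
  [],
  [],
  [],
  [],
  [],
  [],
  [],
  [],
  [],
  [],
  [],
  [],
  [],
  [],
  [],
  [],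
  [],
  [],
  [],
  [],
  [],
  [],
  [],
  [],
  [],
  [],
  [],
  [],
  [],
  [],
  [],
  [],
  [],
  [],
  [],
  [],
  [],
  [],
  [],
  [],
  [],
  [],
  [],
  [],
  [],
  [],
  [],
  [],
  [],
  [],
  [],
  [],
  [],
  [],
  []]
def gT : List (List Term) :=
  [[],
  [(2, false, 4327), (2, true, 4349)],
  [(2, false, 4328), (2, true, 4350)],
  [(2, false, 4329), (2, true, 4351)],
  [(2, false, 4330), (2, true, 4352)],
  [(2, false, 4331), (2, true, 4353)],
  [(2, false, 4332), (2, true, 4354)],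
  [(2, false, 4333), (2, true, 4355)],
  [(2, false, 4334), (2, true, 4356)],
  [(2, false, 4335), (2, true, 4357)],
  [(2, false, 4336), (2, true, 4358)],
  [(2, false, 4337), (2, true, 4359)],
  [(2, false, 4338), (2, true, 4360)],
  [(2, false, 4339), (2, true, 4361)],
  [(2, false, 4340), (2, true, 4362)],
  [(2, false, 4341), (2, true, 4363)],
  [(2, false, 4342), (2, true, 4364)],
  [(2, false, 4343), (2, true, 4365)],
  [(2, false, 4344), (2, true, 4366)],
  [(2, false, 4345), (2, true, 4367)],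
  [(2, false, 4346), (2, true, 4368)],
  [(2, false, 4347), (2, true, 4369)],
  [(2, false, 4348), (2, true, 4370)],
  [(4, false, 4305), (2, false, 4327), (2, false, 4349)],
  [(4, false, 4306), (2, false, 4328), (2, false, 4350)],
  [(4, false, 4307), (2, false, 4329), (2, false, 4351)],
  [(4, false, 4308), (2, false, 4330), (2, false, 4352)],
  [(4, false, 4309), (2, false, 4331), (2, false, 4353)],
  [(4, false, 4310), (2, false, 4332), (2, false, 4354)],
  [(4, false, 4311), (2, false, 4333), (2, false, 4355)],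
  [(4, false, 4312), (2, false, 4334), (2, false, 4356)],
  [(4, false, 4313), (2, false, 4335), (2, false, 4357)],
  [(4, false, 4314), (2, false, 4336), (2, false, 4358)],
  [(4, false, 4315), (2, false, 4337), (2, false, 4359)],
  [(4, false, 4316), (2, false, 4338), (2, false, 4360)],
  [(4, false, 4317), (2, false, 4339), (2, false, 4361)],
  [(4, false, 4318), (2, false, 4340), (2, false, 4362)],
  [(4, false, 4319), (2, false, 4341), (2, false, 4363)],
  [(4, false, 4320), (2, false, 4342), (2, false, 4364)],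
  [(4, false, 4321), (2, false, 4343), (2, false, 4365)],
  [(4, false, 4322), (2, false, 4344), (2, false, 4366)],
  [(4, false, 4323), (2, false, 4345), (2, false, 4367)],
  [(4, false, 4324), (2, false, 4346), (2, false, 4368)],
  [(4, false, 4325), (2, false, 4347), (2, false, 4369)],
  [(4, false, 4326), (2, false, 4348), (2, false, 4370)],
  [(4, true, 4305), (2, false, 4327), (2, false, 4349)],
  [(4, true, 4306), (2, false, 4328), (2, false, 4350)],
  [(4, true, 4307), (2, false, 4329), (2, false, 4351)],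
  [(4, true, 4308), (2, false, 4330), (2, false, 4352)],
  [(4, true, 4309), (2, false, 4331), (2, false, 4353)],
  [(4, true, 4310), (2, false, 4332), (2, false, 4354)],
  [(4, true, 4311), (2, false, 4333), (2, false, 4355)],
  [(4, true, 4312), (2, false, 4334), (2, false, 4356)],
  [(4, true, 4313), (2, false, 4335), (2, false, 4357)],
  [(4, true, 4314), (2, false, 4336), (2, false, 4358)],
  [(4, true, 4315), (2, false, 4337), (2, false, 4359)],
  [(4, true, 4316), (2, false, 4338), (2, false, 4360)],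
  [(4, true, 4317), (2, false, 4339), (2, false, 4361)],
  [(4, true, 4318), (2, false, 4340), (2, false, 4362)],
  [(4, true, 4319), (2, false, 4341), (2, false, 4363)],
  [(4, true, 4320), (2, false, 4342), (2, false, 4364)],
  [(4, true, 4321), (2, false, 4343), (2, false, 4365)],
  [(4, true, 4322), (2, false, 4344), (2, false, 4366)],
  [(4, true, 4323), (2, false, 4345), (2, false, 4367)],
  [(4, true, 4324), (2, false, 4346), (2, false, 4368)],
  [(4, true, 4325), (2, false, 4347), (2, false, 4369)],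
  [(4, true, 4326), (2, false, 4348), (2, false, 4370)],
  [],
  [],
  [],
  [],
  [],
  [],
  [],
  [],
  [],
  [],
  [],
  [],
  []]
def nth {α : Type} (a : α) (l : List α) : ℕ → α :=
  List.rec (fun _ => a) (fun x _ ih k => Nat.rec x (fun m _ => ih m) k) l
theorem nth_all {α : Type} {P : α → Prop} {a : α} (ha : P a) : ∀ l : List α, (∀ x ∈ l, P x) → ∀ k, P (nth a l k) := by
  intro l
  induction l with
  | nil => intro _ k; exact ha
  | cons x l ih =>
    intro h k
    cases k with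
    | zero => exact h x List.mem_cons_self
    | succ k => exact ih (fun y hy => h y (List.mem_cons_of_mem _ hy)) k
def dX : Dn := ⟨0, 128, fun i => nth [] gX (Nat.sub i 4304)⟩
def dT : Dn := ⟨128, 205, fun i => nth [] gT (Nat.sub i 4304)⟩
def tabs : List (Tab × (St → St)) := [(tb0, cd0), (tb1, cd1), (tb2, cd2), (tb3, cd3), (tb4, cd4), (tb5, cd5), (tb6, cd6), (tb7, cd7), (tb8, cd8), (tb9, cd9), (tb10, cd10), (tb11, cd11), (tb12, cd12), (tb13, cd13), (tb14, cd14), (tb15, cd15), (tb16, cd16), (tb17, cd17), (tb18, cd18), (tb19, cd19), (tb20, cd20), (tb21, cd21), (tb22, cd22), (tb23, cd23), (tb24, cd24), (tb25, cd25), (tb26, cd26), (tb27, cd27), (tb28, cd28), (tb29, cd29), (tb30, cd30), (tb31, cd31), (tb32, cd32), (tb33, cd33), (tb34, cd34), (tb35, cd35), (tb36, cd36), (tb37, cd37), (tb38, cd38), (tb39, cd39), (tb40, cd40), (tb41, cd41), (tb42, cd42), (tb43, cd43), (tb44, cd44), (tb45, cd45), (tb46, cd46), (tb47, cd47), (tb48, cd48)]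
def AB : Al := ⟨fun k => (nth (tb0, cd0) tabs k).1, fun k => Bool.rec dX dT (Nat.ble 44 k), fun k => (nth (tb0, cd0) tabs k).2⟩
theorem dX_ok : okD dX = true := by decide +kernel
theorem dT_ok : okD dT = true := by decide +kernel
theorem AB_ok : AB.ok := fun k => by
  have h := nth_all (P := fun t : Tab × (St → St) => okTab t.1 = true ∧ ∀ s, t.2 s = gather t.1 s)
    (a := (tb0, cd0)) ⟨tb0_ok, cd0_eq⟩ tabs (by
    simp only [tabs, List.forall_mem_cons]
    exact ⟨⟨tb0_ok, cd0_eq⟩, ⟨tb1_ok, cd1_eq⟩, ⟨tb2_ok, cd2_eq⟩, ⟨tb3_ok, cd3_eq⟩, ⟨tb4_ok, cd4_eq⟩, ⟨tb5_ok, cd5_eq⟩, ⟨tb6_ok, cd6_eq⟩, ⟨tb7_ok, cd7_eq⟩, ⟨tb8_ok, cd8_eq⟩, ⟨tb9_ok, cd9_eq⟩, ⟨tb10_ok, cd10_eq⟩, ⟨tb11_ok, cd11_eq⟩, ⟨tb12_ok, cd12_eq⟩, ⟨tb13_ok, cd13_eq⟩, ⟨tb14_ok, cd14_eq⟩, ⟨tb15_ok, cd15_eq⟩, ⟨tb16_ok, cd16_eq⟩, ⟨tb17_ok, cd17_eq⟩, ⟨tb18_ok, cd18_eq⟩, ⟨tb19_ok, cd19_eq⟩, ⟨tb20_ok, cd20_eq⟩, ⟨tb21_ok, cd21_eq⟩, ⟨tb22_ok, cd22_eq⟩, ⟨tb23_ok, cd23_eq⟩, ⟨tb24_ok, cd24_eq⟩, ⟨tb25_ok,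 cd25_eq⟩, ⟨tb26_ok, cd26_eq⟩, ⟨tb27_ok, cd27_eq⟩, ⟨tb28_ok, cd28_eq⟩, ⟨tb29_ok, cd29_eq⟩, ⟨tb30_ok, cd30_eq⟩, ⟨tb31_ok, cd31_eq⟩, ⟨tb32_ok, cd32_eq⟩, ⟨tb33_ok, cd33_eq⟩, ⟨tb34_ok, cd34_eq⟩, ⟨tb35_ok, cd35_eq⟩, ⟨tb36_ok, cd36_eq⟩, ⟨tb37_ok, cd37_eq⟩, ⟨tb38_ok, cd38_eq⟩, ⟨tb39_ok, cd39_eq⟩, ⟨tb40_ok, cd40_eq⟩, ⟨tb41_ok, cd41_eq⟩, ⟨tb42_ok, cd42_eq⟩, ⟨tb43_ok, cd43_eq⟩, ⟨tb44_ok, cd44_eq⟩, ⟨tb45_ok, cd45_eq⟩, ⟨tb46_ok, cd46_eq⟩, ⟨tb47_ok, cd47_eq⟩, ⟨tb48_ok, cd48_eq⟩, by simp⟩) k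
  refine ⟨h.1, ?_, h.2⟩
  show okD (Bool.rec dX dT (Nat.ble 44 k)) = true
  cases Nat.ble 44 k
  · exact dX_ok
  · exact dT_ok
end
end CfsgH5.BE
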