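import Cfsg.Agent.H5.BZg
/-! Baby Monster (helper5): relations (generated). -/
set_option Elab.async false
set_option linter.all false
namespace CfsgH5.BE
noncomputable section
theorem do4_2_0 : cO 4 (List.append (List.reverse [43, 38]) (gD 4)) = true := by decide +kernel
theorem do4_0_0 : cO 4 (List.append (List.reverse []) (gD 4)) = true := by decide +kernel
theorem dr4_2_0 : cD [37, 43, 33, 43] (gD 4) [25, 33, 41, 38, 24, 43, 33, 43, 35, 40, 38, 37, 33, 34, 27, 28, 29, 31, 1, 4, 5, 6, 8, 9, 11, 12, 17] (gD 4) = true := by decide +kernel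
theorem do3_1_1 : cO 4 (List.append (List.reverse ([35] ++ [18])) (gD 3)) = true := by decide +kernel
theorem do3_0_0 : cO 4 (List.append (List.reverse []) (gD 3)) = true := by decide +kernel
theorem dr3_3_0 : cD [35, 43, 33, 43] (gD 3) [38, 42, 35, 33, 43, 35, 33, 36, 42, 41, 39, 23, 25, 27, 28, 29, 30, 31, 32, 1, 2, 4, 5, 11, 12, 17, 18, 19, 20, 22, 0] (gD 4) = true := by decide +kernel
theorem do3_2_1 : cO 3 (List.append (List.reverse ([43, 39] ++ [18])) (gD 3)) = true := by decide +kernel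
theorem do3_2_0 : cO 3 (List.append (List.reverse [43, 39]) (gD 3)) = true := by decide +kernel
theorem dr4_0_1 : cD ([] ++ [1]) (gD 4) [36, 40, 34, 42, 33, 36, 37, 23, 24, 25, 26, 28, 32, 1, 3, 5, 7, 10, 11, 14, 16, 18, 20, 22] (gD 4) = true := by decide +kernel
theorem do2_1_1 : cO 4 (List.append (List.reverse ([43, 38] ++ [18])) (gD 2)) = true := by decide +kernel
theorem do2_1_0 : cO 4 (List.append (List.reverse [43, 38]) (gD 2)) = true := by decide +kernel
theorem dr3_2_0 : cD [35, 43] (gD 3) [40, 33, 25, 43, 34, 35, 33, 39, 38, 33, 35, 23, 25, 28, 29, 1, 6, 7, 10, 11, 12, 13, 14, 15, 17, 18, 19, 20, 22, 0] (gD 3) = true := by decide +kernel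
theorem do2_2_1 : cO 3 (List.append (List.reverse ([43, 38, 43, 40] ++ [18])) (gD 2)) = true := by decide +kernel
theorem dt3_1 : cS [34, 33, 34, 33, 43, 35, 43, 34, 42, 40, 38, 35, 42, 38, 23, 24, 25, 26, 27, 30, 31, 32, 1, 3, 5, 7, 8, 13, 14, 15, 16, 18, 19, 21, 22] (gD 3) = true := by decide +kernel
theorem dr4_0_0 : cD [] (gD 4) [26, 25, 38, 32, 43, 37, 43, 33, 43, 35, 39, 42, 41, 38, 36, 37, 25, 1, 2, 3, 4, 5, 9, 10, 11, 12, 14, 15, 16, 19, 21, 22, 0] (gD 2) = true := by decide +kernel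
theorem dr3_1_1 : cD ([43] ++ [1]) (gD 3) [41, 42, 36, 31, 43, 33, 43, 38, 42, 35, 37, 33, 38, 36, 24, 27, 28, 30, 32, 3, 4, 9, 12, 16, 17, 18, 19, 21, 22] (gD 2) = true := by decide +kernel
theorem do4_1_0 : cO 2 (List.append (List.reverse [35]) (gD 4)) = true := by decide +kernel
theorem dr3_0_1 : cD ([] ++ [1]) (gD 3) [37, 35, 41, 36, 39, 37, 35, 33, 24, 29, 31, 1, 4, 5, 6, 10, 11, 12, 14, 17, 19, 20, 21] (gD 3) = true := by decide +kernel
theorem dr1_3_1 : cD ([33, 43, 33, 43] ++ [1]) (gD 1) [35, 40, 39, 37, 34, 42, 37, 24, 26, 27, 29, 30, 31, 32, 3, 5, 6, 7, 10, 11, 12, 14, 15, 17, 19, 20, 22, 0] (gD 3) = true := by decide +kernel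
theorem dr1_3_0 : cD [33, 43, 33, 43] (gD 1) [42, 37, 40, 36, 35, 37, 35, 23, 27, 28, 30, 31, 2, 3, 6, 10, 11, 12, 14, 15, 17, 18, 19, 21] (gD 3) = true := by decide +kernel
theorem dr2_1_0 : cD [43] (gD 2) [36, 39, 33, 36, 43, 37, 36, 35, 38, 33, 36, 38, 23, 24, 26, 29, 31, 32, 1, 2, 3, 4, 5, 6, 7, 8, 9, 10, 13, 16, 17, 18, 19] (gD 2) = true := by decide +kernel
theorem dr1_1_0 : cD [33, 43] (gD 1) [34, 37, 35, 25, 43, 42, 35, 34, 33, 42, 37, 25, 27, 29, 30, 32, 1, 2, 3, 4, 6, 9, 10, 11, 12, 13, 17, 18, 19] (gD 2) = true := by decide +kernel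
theorem dr3_0_0 : cD [] (gD 3) [38, 40, 39, 36, 23, 43, 33, 43, 33, 35, 40, 39, 38, 35, 23, 24, 28, 29, 30, 6, 7, 11, 15, 16, 17, 21, 0] (gD 1) = true := by decide +kernel
theorem dr1_2_0 : cD [36, 43] (gD 1) [38, 35, 33, 35, 43, 35, 33, 36, 41, 36, 33, 35, 23, 24, 27, 28, 29, 5, 6, 10, 13, 15, 18, 20, 21, 22, 0] (gD 1) = true := by decide +kernel
theorem dr1_2_1 : cD ([36, 43] ++ [1]) (gD 1) [40, 36, 25, 43, 37, 34, 36, 35, 38, 34, 36, 33, 24, 28, 29, 30, 32, 3, 8, 10, 12, 13, 14, 20, 21, 0] (gD 1) = true := by decide +kernel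
theorem do1_1_1 : cO 4 (List.append (List.reverse ([38] ++ [18])) (gD 1)) = true := by decide +kernel
theorem dr1_0_1 : cD ([] ++ [1]) (gD 1) [40, 35, 41, 40, 39, 36, 24, 25, 26, 31, 32, 1, 2, 5, 9, 12, 15, 16, 18, 19, 20, 21, 22] (gD 1) = true := by decide +kernel
theorem dt1_1 : cS [35, 38, 25, 43, 35, 40, 35, 34, 38, 41, 34, 24, 26, 27, 28, 30, 3, 5, 7, 11, 12, 16, 19, 22] (gD 1) = true := by decide +kernel
theorem dr0_1_0 : cD [33, 43] (gD 0) [40, 35, 41, 40, 39, 36, 23, 24, 25, 26, 27, 28, 30, 31, 5, 6, 7, 8, 9, 12, 14, 16, 19, 21, 22, 0] (gD 1) = true := by decide +kernel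
theorem do1_2_1 : cO 2 (List.append (List.reverse ([37, 43, 38] ++ [18])) (gD 1)) = true := by decide +kernel
theorem dt1_0 : cS [42, 38, 35, 37, 36, 33, 35, 23, 24, 27, 29, 30, 31, 32, 12, 13, 15, 18, 20, 21, 22, 0] (gD 1) = true := by decide +kernel
theorem do0_2_0 : cO 4 (List.append (List.reverse [33, 43, 37]) (gD 0)) = true := by decide +kernel
theorem dr0_2_1 : cD ([33, 43, 33, 43] ++ [1]) (gD 0) [] (gD 2) = true := by decide +kernel
theorem do1_0_0 : cO 2 (List.append (List.reverse []) (gD 1)) = true := by decide +kernel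
theorem da0 : chkT 4304 23 17664 (cjw (gD 0) 2) = true := by decide +kernel
theorem da1 : chkT 4304 23 9472 (cjw (gD 1) 2) = true := by decide +kernel
theorem da3 : chkT 4304 23 10880 (cjw (gD 3) 2) = true := by decide +kernel
theorem dr0_0_1 : cD ([] ++ [1]) (gD 0) [] (gD 0) = true := by decide +kernel
theorem do0_1_1 : cO 2 (List.append (List.reverse ([38] ++ [18])) (gD 0)) = true := by decide +kernel
theorem do0_0_0 : cO 1 (List.append (List.reverse []) (gD 0)) = true := by decide +kernel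
theorem do0_1_0 : cO 2 (List.append (List.reverse [38]) (gD 0)) = true := by decide +kernel
theorem dr2_0_0 : cD [] (gD 2) [33, 43, 33, 43] (gD 0) = true := by decide +kernel
end
end CfsgH5.BE
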