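import Cfsg.Agent.H5.BM
/-! Baby Monster (helper5): stabiliser chain data (generated). -/
set_option Elab.async false
set_option linter.all false
namespace CfsgH5.BE
noncomputable section
noncomputable def WS : List (List ℕ) := [[37, 40, 37], [40, 37, 35, 40, 35, 37, 40]]
noncomputable def W3 : List (List ℕ) := [[42, 38, 37, 38, 42], [37, 40, 37], [40, 37, 35, 40, 35, 37, 40]]
noncomputable def W2 : List (List ℕ) := [[41, 36, 33, 34, 33, 36, 41], [42, 38, 37, 38, 42], [37, 40, 37], [40, 37, 35, 40, 35, 37, 40]]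
noncomputable def W1 : List (List ℕ) := [[36, 34, 36], [41, 36, 33, 34, 33, 36, 41], [42, 38, 37, 38, 42], [37, 40, 37], [40, 37, 35, 40, 35, 37, 40]]
noncomputable def W0 : List (List ℕ) := [[33, 34, 33], [36, 34, 36], [41, 36, 33, 34, 33, 36, 41], [42, 38, 37, 38, 42], [37, 40, 37], [40, 37, 35, 40, 35, 37, 40]]
noncomputable def cmL : List (List ℕ) := [[0, 0, 0, 0, 0, 4096, 4096, 4096, 4096, 4096], [0, 0, 4096, 0, 4096, 4096, 4096, 4096, 4096, 4096], [0, 4096, 0, 4096, 0, 4096, 4096, 0, 4096, 4096], [0, 0, 4096, 0, 4096, 4096, 4096, 0, 4096, 0], [0, 4096, 0, 4096, 0, 4096, 4096, 0, 0, 4096], [4096, 4096, 4096, 4096, 4096, 0, 4096, 4096, 0, 0], [4096, 4096, 4096, 4096, 4096, 4096, 0, 4096, 0, 4096], [4096, 4096, 0, 0, 0, 4096, 4096, 0, 4096, 4096], [4096, 4096, 4096, 4096, 0, 0, 0, 4096, 0, 4096], [4096, 4096, 4096, 0, 4096, 0, 4096, 4096, 4096, 0]]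
theorem ycm : allN (fun i => allN (fun j => chkm [Nat.add 23 i, Nat.add 23 j, Nat.add 23 i, Nat.add 23 j] (bitsL 0 23 (nth 0 (nth [] cmL i) j))) 10) 10 = true := by decide +kernel
theorem yinj : allN2 (fun f => bor (Nat.beq f 0) (!Nat.beq (cw (bitsL 23 10 f) 1) 1)) 32 32 = true := by decide +kernel
noncomputable def RS : List (List ℕ) := [[], [0], [1], [1, 0], [0, 1], [0, 1, 0]]
theorem lvS : okLv WS [] 4 RS = true := by decide +kernel
theorem exS_0 : okExt WS [] RS 0 [(1, [], 0), (0, [], 0), (4, [], 0), (5, [], 0), (2, [], 0), (3, [], 0)] = true := by decide +kernel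
theorem exS_1 : okExt WS [] RS 1 [(2, [], 0), (3, [], 0), (0, [], 0), (1, [], 0), (5, [], 2992), (4, [], 2992)] = true := by decide +kernel
noncomputable def RH3 : List (List ℕ) := [[], [0], [1, 0], [2, 0], [0, 1, 0], [2, 1, 0], [0, 2, 0], [1, 2, 0], [2, 0, 1, 0], [1, 2, 1, 0], [1, 0, 2, 0], [0, 2, 0, 1, 0], [1, 2, 0, 1, 0], [0, 1, 2, 1, 0], [0, 1, 0, 2, 0], [2, 1, 0, 2, 0]]
theorem lvH3 : okLv W3 WS 2 RH3 = true := by decide +kernel
theorem exH3_0 : okExt W3 WS RH3 0 [(1, [], 0), (0, [], 0), (4, [], 0), (6, [], 0), (2, [], 0), (7, [0, 1], 696), (3, [], 0), (5, [1, 0], 2304), (11, [], 0), (13, [], 0), (14, [], 0), (8, [], 0), (15, [], 2560), (9, [], 0), (10, [], 0), (12, [], 2560)] = true := by decide +kernel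
theorem exH3_1 : okExt W3 WS RH3 1 [(0, [0], 0), (2, [], 0), (1, [], 0), (7, [], 0), (4, [0], 2268), (9, [], 0), (10, [], 0), (3, [], 0), (12, [], 0), (5, [], 0), (6, [], 0), (11, [1], 2008), (8, [], 0), (14, [0, 1], 400), (13, [1, 0], 3828), (15, [1], 2868)] = true := by decide +kernel
theorem exH3_2 : okExt W3 WS RH3 2 [(0, [1], 0), (3, [], 0), (5, [], 0), (1, [], 0), (8, [], 0), (2, [], 0), (6, [1], 0), (9, [], 3004), (4, [], 0), (7, [], 3004), (15, [], 0), (13, [0, 1], 2060), (12, [0], 2644), (11, [1, 0], 700), (14, [0], 1056), (10, [], 0)] = true := by decide +kernel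
end
end CfsgH5.BE
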