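import Cfsg.Agent.H5.BN0
/-! Baby Monster (helper5): stabiliser chain data (generated). -/
set_option Elab.async false
set_option linter.all false
namespace CfsgH5.BE
noncomputable section
noncomputable def RH2 : List (List ℕ) := [[], [0], [1, 0], [2, 1, 0], [3, 1, 0], [1, 2, 1, 0], [3, 2, 1, 0], [0, 3, 1, 0], [1, 3, 1, 0], [2, 3, 1, 0], [0, 1, 2, 1, 0], [3, 1, 2, 1, 0], [1, 0, 3, 1, 0], [0, 1, 3, 1, 0], [3, 0, 1, 2, 1, 0], [0, 3, 1, 2, 1, 0], [1, 3, 1, 2, 1, 0], [2, 3, 1, 2, 1, 0], [0, 1, 0, 3, 1, 0], [3, 0, 1, 3, 1, 0]]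
noncomputable def GH2 : List (List ℕ) := [[], [41, 36, 33, 34, 33, 36, 41], [41, 36, 33, 34, 33, 36, 41, 42, 38, 37, 38, 42, 37, 40, 37, 42, 38, 37, 38, 42, 41, 36, 33, 34, 33, 36, 41]]
theorem lvH2 : okLv ([41, 36, 33, 34, 33, 36, 41] :: W3) W3 986 RH2 = true := by decide +kernel
theorem clH2 : clO ([41, 36, 33, 34, 33, 36, 41] :: W3) 986 RH2 = true := by decide +kernel
theorem stH2 : okSt W3 WS [41, 36, 33, 34, 33, 36, 41] GH2 986 [([1], 1620), ([1, 2, 1], 3572)] = true := by decide +kernel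
theorem tdH2_0 : okTD W3 [41, 36, 33, 34, 33, 36, 41] GH2 RH3 2 (nth [] GH2 0) ⟨[[42, 38, 37, 38, 42], [37, 40, 37], [40, 37, 35, 40, 35, 37, 40]], [([0], 0), ([1], 0), ([2], 0)], [([0], 0), ([1], 0), ([2], 0)], [[]], [([], 0), ([0], 0), ([1, 0], 0), ([2, 0], 0), ([0, 1, 0], 0), ([2, 1, 0], 0), ([0, 2, 0], 0), ([1, 2, 0], 0), ([2, 0, 1, 0], 0), ([1, 2, 1, 0], 0), ([1, 0, 2, 0], 0), ([0, 2, 0, 1, 0], 0), ([1, 2, 0, 1, 0], 0), ([0, 1, 2, 1, 0], 0), ([0, 1, 0, 2, 0], 0), ([2, 1, 0, 2, 0], 0)], [(1, [], [], 0)]⟩ = true := by decide +kernel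
theorem tdH2_1 : okTD W3 [41, 36, 33, 34, 33, 36, 41] GH2 RH3 2 (nth [] GH2 1) ⟨[[37, 40, 37], [40, 37, 35, 40, 35, 37, 40]], [([1], 0), ([2], 0)], [([1], 1620), ([1, 2, 1], 3572)], [[], [0], [0, 1, 0], [0, 2, 0], [0, 2, 0, 1, 0]], [([], 0), ([], 1), ([0], 1), ([1], 1), ([], 2), ([1, 0], 1), ([], 3), ([0, 1], 1), ([1], 2), ([0, 1, 0], 1), ([0], 3), ([], 4), ([0, 1], 2), ([1], 4), ([0, 1], 4), ([1, 0], 3)], [(0, [], [], 0), (1, [0], [0], 952), (2, [], [], 0), (1, [1, 0, 2, 0], [1, 0, 2, 0, 1], 1652), (1, [0, 1, 2, 1, 0], [2, 0, 1, 0, 2, 0], 600)]⟩ = true := by decide +kernel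
theorem tdH2_2 : okTD W3 [41, 36, 33, 34, 33, 36, 41] GH2 RH3 2 (nth [] GH2 2) ⟨[[37, 40, 37], [42, 38, 37, 38, 42], [40, 37, 35, 40, 35, 37, 40, 42, 38, 37, 38, 42, 40, 37, 35, 40, 35, 37, 40]], [([1], 0), ([0], 0), ([2, 0, 2], 0)], [([1], 484), ([0], 12), ([2, 0, 2, 0], 1048)], [[]], [([], 0), ([1], 0), ([0, 1], 0), ([2], 0), ([1, 0, 1], 0), ([1, 0, 2], 0), ([2, 1], 0), ([0, 2], 0), ([2, 1, 0, 2], 0), ([2, 0, 1], 0), ([0, 2, 1], 0), ([2, 0, 2], 0), ([2, 0, 2, 1], 0), ([2, 1, 0, 1], 0), ([1, 0, 2, 1], 0), ([2, 1, 0, 2, 1], 0)], [(1, [0, 1, 0], [], 0)]⟩ = true := by decide +kernel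
noncomputable def RH1 : List (List ℕ) := [[], [0], [1, 0], [0, 1, 0], [2, 1, 0], [1, 0, 1, 0], [2, 0, 1, 0], [3, 0, 1, 0], [4, 0, 1, 0], [0, 2, 1, 0], [3, 2, 1, 0], [2, 1, 0, 1, 0], [1, 2, 0, 1, 0], [4, 2, 0, 1, 0], [0, 3, 0, 1, 0], [1, 0, 2, 1, 0], [3, 0, 2, 1, 0], [2, 3, 2, 1, 0], [1, 2, 1, 0, 1, 0], [0, 1, 0, 2, 1, 0], [4, 1, 0, 2, 1, 0]]
noncomputable def GH1 : List (List ℕ) := [[], [36, 34, 36]]
theorem lvH1 : okLv ([36, 34, 36] :: W2) W2 1024 RH1 = true := by decide +kernel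
theorem clH1 : clO ([36, 34, 36] :: W2) 1024 RH1 = true := by decide +kernel
theorem stH1 : okSt W2 W3 [36, 34, 36] GH1 1024 [([2, 3, 1, 3, 2], 2204), ([3, 2, 1, 3, 1, 2, 3], 3164), ([1, 0, 3, 0, 1], 2056)] = true := by decide +kernel
theorem tdH1_0 : okTD W2 [36, 34, 36] GH1 RH2 986 (nth [] GH1 0) ⟨[[41, 36, 33, 34, 33, 36, 41], [42, 38, 37, 38, 42], [37, 40, 37], [40, 37, 35, 40, 35, 37, 40]], [([0], 0), ([1], 0), ([2], 0), ([3], 0)], [([0], 0), ([1], 0), ([2], 0), ([3], 0)], [[]], [([], 0), ([0], 0), ([1, 0], 0), ([2, 1, 0], 0), ([3, 1, 0], 0), ([1, 2, 1, 0], 0), ([3, 2, 1, 0], 0), ([0, 3, 1, 0], 0), ([1, 3, 1, 0], 0), ([2, 3, 1, 0], 0), ([0, 1, 2, 1, 0], 0), ([3, 1, 2, 1, 0], 0), ([1, 0, 3, 1, 0], 0), ([0, 1, 3, 1, 0], 0), ([3, 0, 1, 2, 1, 0], 0), ([0, 3, 1, 2, 1, 0], 0), ([1, 3, 1, 2, 1, 0], 0), ([2,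 3, 1, 2, 1, 0], 0), ([0, 1, 0, 3, 1, 0], 0), ([3, 0, 1, 3, 1, 0], 0)], [(1, [], [], 0)]⟩ = true := by decide +kernel
theorem tdH1_1 : okTD W2 [36, 34, 36] GH1 RH2 986 (nth [] GH1 1) ⟨[[42, 38, 37, 38, 42], [37, 40, 37], [40, 37, 35, 40, 35, 37, 40]], [([1], 0), ([2], 0), ([3], 0)], [([2, 3, 1, 3, 2], 2204), ([3, 2, 1, 3, 1, 2, 3], 3164), ([1, 0, 3, 0, 1], 2056)], [[], [0], [0, 1, 2, 1, 0]], [([], 0), ([], 1), ([0], 1), ([1, 0], 1), ([2, 0], 1), ([0, 1, 0], 1), ([2, 1, 0], 1), ([1, 2, 1, 0], 1), ([0, 2, 0], 1), ([1, 2, 0], 1), ([], 2), ([2, 0, 1, 0], 1), ([0, 1, 2, 1, 0], 1), ([1, 0, 2, 0], 1), ([2], 2), ([1, 2], 2), ([0, 2, 0, 1, 0], 1), ([1, 2, 0, 1, 0], 1), ([0, 1, 0, 2, 0], 1), ([2, 1, 0, 2, 0], 1)], [(0, [], [], 0), (1, [0, 3, 1, 0, 3], [3, 0, 1, 3, 0], 1144), (1, [0, 1, 2, 1, 0], [1, 2, 0, 1, 2, 0,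 1, 0], 3936)]⟩ = true := by decide +kernel
noncomputable def RH0 : List (List ℕ) := [[], [0], [1, 0], [0, 1, 0], [2, 1, 0], [2, 0, 1, 0], [3, 0, 1, 0], [0, 2, 1, 0], [1, 2, 1, 0], [3, 2, 1, 0], [0, 2, 0, 1, 0], [1, 2, 0, 1, 0], [5, 2, 0, 1, 0], [1, 3, 0, 1, 0], [2, 3, 0, 1, 0], [5, 3, 0, 1, 0], [2, 0, 2, 1, 0], [4, 0, 2, 1, 0], [4, 1, 2, 1, 0], [4, 3, 2, 1, 0], [0, 1, 2, 0, 1, 0], [0, 2, 3, 0, 1, 0]]
noncomputable def GH0 : List (List ℕ) := [[], [33, 34, 33]]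
theorem lvH0 : okLv ([33, 34, 33] :: W1) W1 512 RH0 = true := by decide +kernel
theorem clH0 : clO ([33, 34, 33] :: W1) 512 RH0 = true := by decide +kernel
theorem stH0 : okSt W1 W2 [33, 34, 33] GH0 512 [([4, 2, 1, 0, 2, 0, 3], 2464), ([1, 2, 4, 2, 1, 0, 3, 0], 1392), ([4, 2, 3, 1, 2, 4], 676), ([4], 2288)] = true := by decide +kernel
theorem tdH0_0 : okTD W1 [33, 34, 33] GH0 RH1 1024 (nth [] GH0 0) ⟨[[36, 34, 36], [41, 36, 33, 34, 33, 36, 41], [42, 38, 37, 38, 42], [37, 40, 37], [40, 37, 35, 40, 35, 37, 40]], [([0], 0), ([1], 0), ([2], 0), ([3], 0), ([4], 0)], [([0], 0), ([1], 0), ([2], 0), ([3], 0), ([4], 0)], [[]], [([], 0), ([0], 0), ([1, 0], 0), ([0, 1, 0], 0), ([2, 1, 0], 0), ([1, 0, 1, 0], 0), ([2, 0, 1, 0], 0), ([3, 0, 1, 0], 0), ([4, 0, 1, 0], 0), ([0, 2, 1, 0], 0), ([3, 2, 1, 0], 0), ([2, 1,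 0, 1, 0], 0), ([1, 2, 0, 1, 0], 0), ([4, 2, 0, 1, 0], 0), ([0, 3, 0, 1, 0], 0), ([1, 0, 2, 1, 0], 0), ([3, 0, 2, 1, 0], 0), ([2, 3, 2, 1, 0], 0), ([1, 2, 1, 0, 1, 0], 0), ([0, 1, 0, 2, 1, 0], 0), ([4, 1, 0, 2, 1, 0], 0)], [(1, [], [], 0)]⟩ = true := by decide +kernel
theorem tdH0_1 : okTD W1 [33, 34, 33] GH0 RH1 1024 (nth [] GH0 1) ⟨[[41, 36, 33, 34, 33, 36, 41], [42, 38, 37, 38, 42], [37, 40, 37], [40, 37, 35, 40, 35, 37, 40]], [([1], 0), ([2], 0), ([3], 0), ([4], 0)], [([4, 2, 1, 0, 2, 0, 3], 2464), ([1, 2, 4, 2, 1, 0, 3, 0], 1392), ([4, 2, 3, 1, 2, 4], 676), ([4], 2288)], [[], [0]], [([], 0), ([], 1), ([0], 1), ([0, 3, 1, 0], 1), ([1, 0], 1), ([3, 1, 0], 1), ([1, 0, 3, 1, 0], 1), ([3, 2, 1, 0], 1), ([2, 3, 1, 0], 1), ([2, 3, 1, 2, 1, 0], 1), ([2, 1, 0], 1), ([1, 3, 1, 0], 1), ([0, 1, 0, 3, 1, 0], 1),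 ([1, 3, 1, 2, 1, 0], 1), ([3, 0, 1, 3, 1, 0], 1), ([3, 0, 1, 2, 1, 0], 1), ([3, 1, 2, 1, 0], 1), ([1, 2, 1, 0], 1), ([0, 1, 3, 1, 0], 1), ([0, 3, 1, 2, 1, 0], 1), ([0, 1, 2, 1, 0], 1)], [(0, [], [], 0), (1, [3, 2, 0, 1, 0, 2], [0, 1, 0, 3, 1, 0, 1], 2016)]⟩ = true := by decide +kernel
theorem mem33 : inK W0 [33] ([4, 5, 3, 1, 2, 1, 2, 1, 3, 1, 2], 2164) = true := by decide +kernel
theorem mem34 : inK W0 [34] ([5, 3, 1, 4, 2, 1, 0, 1, 2, 1, 5, 1, 5, 2], 2332) = true := by decide +kernel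
theorem mem35 : inK W0 [35] ([4, 3, 2, 1, 2, 1, 0, 3, 1, 2, 3, 4, 1, 3, 1], 684) = true := by decide +kernel
theorem mem36 : inK W0 [36] ([3, 4, 2, 3, 2, 1, 0, 1, 2, 3, 4, 2, 3], 4072) = true := by decide +kernel
theorem mem37 : inK W0 [37] ([3, 1, 3, 2, 1, 4, 0, 4, 1, 2, 3, 1, 3], 4088) = true := by decide +kernel
theorem mem38 : inK W0 [38] ([4, 1, 4, 1, 2, 3, 1, 0, 2, 3, 1, 2, 3, 1, 3], 1300) = true := by decide +kernel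
theorem mem39 : inK W0 [39] ([1, 3, 4, 1, 2, 1, 2, 1, 0, 3, 1, 2, 1, 4, 1], 3012) = true := by decide +kernel
theorem mem40 : inK W0 [40] ([4, 3, 4, 2, 3, 4, 2, 3], 3276) = true := by decide +kernel
theorem mem41 : inK W0 [41] ([1, 4, 1, 2, 3, 1, 0, 1, 2, 3, 1, 3, 2], 3580) = true := by decide +kernel
theorem mem42 : inK W0 [42] ([4, 3, 2, 1, 2, 1, 4, 0, 4, 1, 2, 1, 2, 3, 2], 2884) = true := by decide +kernel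
end
end CfsgH5.BE
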