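import Cfsg.Agent.H5.BM
/-! Baby Monster (helper5): stabiliser chain data (generated). -/
set_option Elab.async false
set_option linter.all false
namespace CfsgH5.BE
noncomputable section
noncomputable def tcL : List (List ℕ) := [[12], [], [2], [3], [4], [5], [6], [7], [8], [9], [10], [11], [0], [23], [24], [25, 12], [26], [27, 12], [28, 12], [29], [30], [31, 12], [32], [13], [14], [15, 0], [16], [17, 0], [18, 0], [19], [20], [21, 0], [22], [33, 3, 5], [34], [35], [36, 3, 5, 6, 7, 9, 10], [37, 2, 5, 6, 7, 8], [38], [39, 3, 11], [40, 2, 5, 6, 7, 8], [41, 3, 11], [42, 3, 5, 6, 7, 9, 10]]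
theorem tc0 : allN (fun i => cV tcL (Nat.add 0 i)) 11 = true := by decide +kernel
theorem tc1 : allN (fun i => cV tcL (Nat.add 11 i)) 11 = true := by decide +kernel
theorem tc2 : allN (fun i => cV tcL (Nat.add 22 i)) 11 = true := by decide +kernel
theorem tc3 : allN (fun i => cV tcL (Nat.add 33 i)) 10 = true := by decide +kernel
theorem tu3 : chk [44, 1, 44] [1, 44, 1] = true := by decide +kernel
noncomputable def LVl : List (List ℕ × ℕ × List (List ℕ)) := [([40, 41, 34, 36, 39, 42, 24], 1928, [[], [0], [0, 0], [1, 0], [2, 0], [5, 0], [0, 0, 0], [1, 0, 0], [3, 0, 0], [4, 0, 0], [0, 1, 0], [1, 1, 0], [2, 1, 0], [4, 1, 0], [0, 2, 0], [1, 2, 0], [2, 2, 0], [3, 2, 0], [6, 2, 0], [0, 0, 0, 0], [4, 0, 0, 0], [0, 1, 0, 0], [1, 1, 0, 0], [2, 1, 0, 0], [3, 1, 0, 0], [6, 1, 0, 0], [0, 3, 0, 0], [3, 4, 0, 0], [0, 1, 1, 0], [0, 2, 1, 0], [2, 2, 1, 0], [5, 0, 2, 0], [2, 1, 2, 0], [5, 1, 2, 0], [0, 0,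 0, 0, 0], [1, 0, 0, 0, 0], [0, 3, 1, 0, 0], [7, 0, 3, 0, 0], [0, 0, 1, 1, 0], [2, 0, 1, 1, 0]]), ([36, 33, 34, 35, 37, 35, 28], 1182, [[], [0], [0, 0], [1, 0], [0, 0, 0], [1, 0, 0], [2, 0, 0], [3, 0, 0], [0, 1, 0], [1, 1, 0], [3, 1, 0], [0, 0, 0, 0], [0, 1, 0, 0], [5, 1, 0, 0], [1, 2, 0, 0], [0, 0, 1, 0], [1, 0, 1, 0], [4, 0, 1, 0], [1, 1, 1, 0], [0, 0, 1, 0, 0], [1, 0, 1, 0, 0], [2, 0, 1, 0, 0], [3, 0, 1, 0, 0], [2, 0, 0, 1, 0], [3, 0, 0, 1, 0], [1, 1, 0, 1, 0], [2, 1, 0, 1, 0], [5, 1, 0, 1, 0], [0, 1, 1, 1, 0], [2, 0, 0, 1, 0, 0], [3, 0, 0, 1, 0, 0], [0, 1, 0, 1, 0, 0]]), ([39, 36, 40, 37, 34, 35, 23, 29], 1594, [[], [0], [0, 0], [1, 0], [2, 0], [0, 0, 0], [1, 0, 0], [3, 0, 0], [0, 1, 0], [4, 1, 0], [0, 0, 0, 0], [3, 0, 0, 0]]), ([33, 35, 37, 40, 37, 35, 33, 28], 32, [[], [0], [0, 0], [1, 0]]), ([28], 2, [[], [0]]), ([24, 26, 27, 31], 1372, [[], [0]]), ([32], 880, [[], [0]]), ([29, 30,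 31, 32], 1972, [[], [0]]), ([25, 28, 29, 31], 512, [[], [0]])]
theorem lowL : okLow LVl = true := by decide +kernel
theorem fixL : ((LVl.map Prod.fst).all fun w => Nat.beq (cw w 2054) 2054) = true := by decide +kernel
noncomputable def gNl : List (List ℕ) := [[], [43], [43, 33, 43], [43, 35, 43], [43, 37, 43, 33, 43]]
noncomputable def gN (i : ℕ) : List ℕ := nth [] gNl i
theorem gNne : allN (fun j => band (okW 43 (gN j)) (bor (Nat.beq j 0) (!Nat.beq (cw (gN j) 2048) 2048))) 5 = true := by decide +kernel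
noncomputable def qbW : List (List ℕ) := [[], [43], [33, 43], [35, 43], [36, 43], [37, 43], [38, 43], [39, 43], [40, 43], [42, 43], [36, 33, 43], [43, 33, 43], [43, 35, 43], [33, 43, 33, 43], [35, 43, 33, 43], [36, 43, 33, 43], [37, 43, 33, 43], [38, 43, 33, 43], [40, 43, 33, 43], [41, 43, 33, 43], [36, 43, 35, 43], [43, 37, 43, 33, 43]]
noncomputable def qbC : List ℕ := [2335476, 1799, 1796, 180, 450, 1861, 605, 1320, 1711, 420, 848, 1, 675577, 542446, 1832623, 584710, 2052628, 51447, 10247, 648258, 510202, 62744]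
theorem qbOk : band (okWs 43 qbW) (allN (fun i => Nat.beq (linS (fun j => cw (nth [] qbW j) 2048) 22 (nth 0 qbC i)) (Nat.pow 2 i)) 22) = true := by decide +kernel
end
end CfsgH5.BE
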