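import Cfsg.Agent.H5.BN3
/-! Baby Monster (helper5): stabiliser chain data (generated). -/
set_option Elab.async false
set_option linter.all false
namespace CfsgH5.BE
noncomputable section
theorem lx0a : cT 42 [40, 41, 34, 36, 39, 42, 24] [43] [34, 33, 35, 37, 40, 35, 33, 24, 25, 27, 28, 30, 31, 2, 3, 5, 6, 8, 9, 11, 13, 16, 17, 18, 19, 21, 0] = true := by decide +kernel
theorem lx0 : TZ 42 [40, 41, 34, 36, 39, 42, 24] [43] := tz1 lx0a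
theorem lx1a : cT 42 [36, 33, 34, 35, 37, 35, 28] [43] [36, 34, 41, 35, 37, 35, 25, 27, 28, 29, 30, 31, 32, 2, 5, 6, 7, 8, 9, 10, 13, 17, 19, 20] = true := by decide +kernel
theorem lx1 : TZ 42 [36, 33, 34, 35, 37, 35, 28] [43] := tz1 lx1a
theorem lx2a : cT 42 [39, 36, 40, 37, 34, 35, 23, 29] [43] [37, 36, 34, 33, 34, 37, 34, 25, 27, 28, 29, 30, 31, 4, 5, 8, 10, 11, 12, 13, 15, 17, 22] = true := by decide +kernel
theorem lx2 : TZ 42 [39, 36, 40, 37, 34, 35, 23, 29] [43] := tz1 lx2a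
theorem lx3a : cT 42 [33, 35, 37, 40, 37, 35, 33, 28] [43] [40, 35, 40, 23, 25, 26, 27, 30, 31, 2, 5, 6, 9, 13, 19, 20, 21, 0] = true := by decide +kernel
theorem lx3 : TZ 42 [33, 35, 37, 40, 37, 35, 33, 28] [43] := tz1 lx3a
theorem lx4a : cT 42 [28] [43] [36, 37, 35, 40, 39, 36, 33, 23, 25, 26, 27, 30, 31, 2, 4, 5, 8, 11, 12, 15, 16, 17, 19, 20, 21, 22, 0] = true := by decide +kernel
theorem lx4 : TZ 42 [28] [43] := tz1 lx4a
theorem lx5a : cT 42 [24, 26, 27, 31] [43] [33, 35, 39, 38, 35, 33, 23, 24, 25, 29, 30, 32, 2, 4, 5, 6, 7, 10, 16, 0] = true := by decide +kernel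
theorem lx5 : TZ 42 [24, 26, 27, 31] [43] := tz1 lx5a
theorem lx6a : cT 42 [32] [43] [34, 39, 42, 38, 42, 39, 34, 23, 25, 26, 27, 29, 30, 31, 4, 5, 10, 11, 12, 13, 16, 18, 19, 22, 0] = true := by decide +kernel
theorem lx6 : TZ 42 [32] [43] := tz1 lx6a
theorem lx7a : cT 42 [29, 30, 31, 32] [43] [41, 36, 42, 36, 34, 33, 34, 26, 28, 30, 31, 7, 9, 10, 13, 15, 17, 19, 20, 21, 22] = true := by decide +kernel
theorem lx7 : TZ 42 [29, 30, 31, 32] [43] := tz1 lx7a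
theorem lx8a : cT 42 [25, 28, 29, 31] [43] [39, 34, 37, 41, 36, 40, 33, 25, 26, 31, 32, 2, 6, 7, 8, 9, 11, 15, 16, 17, 19, 20, 21, 22, 0] = true := by decide +kernel
theorem lx8 : TZ 42 [25, 28, 29, 31] [43] := tz1 lx8a
theorem pw33a : cT 32 [33] [38, 36, 33, 25, 43] [23, 24, 26, 27, 29, 30, 32, 7, 8, 9, 10, 11, 12, 0] = true := by decide +kernel
theorem pw33 : TZ 32 [33] [38, 36, 33, 25, 43] := tz1 pw33a
theorem pw34a : cT 32 [34] [33, 42, 35, 25, 43] [25, 26, 27, 28, 30, 31, 32, 5, 6, 9, 11, 13, 15, 16, 17, 19, 20, 21, 22, 0] = true := by decide +kernel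
theorem pw34 : TZ 32 [34] [33, 42, 35, 25, 43] := tz1 pw34a
theorem pw35a : cT 32 [35] [37, 38, 33, 25, 43] [23, 24, 26, 27, 29, 30, 32, 4, 6, 7, 8, 13, 16, 0] = true := by decide +kernel
theorem pw35 : TZ 32 [35] [37, 38, 33, 25, 43] := tz1 pw35a
theorem pw36a : cT 32 [36] [35, 37, 25, 43] [23, 25, 28, 30, 3, 5, 7, 8, 11, 12, 0] = true := by decide +kernel
theorem pw36 : TZ 32 [36] [35, 37, 25, 43] := tz1 pw36a
theorem pw37a : cT 32 [37] [34, 35, 33, 25, 43] [23, 25, 28, 30, 4, 5, 8, 9, 10, 15, 16, 17, 19, 20, 21, 22] = true := by decide +kernel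
theorem pw37 : TZ 32 [37] [34, 35, 33, 25, 43] := tz1 pw37a
theorem pw38a : cT 32 [38] [42, 39, 25, 43] [24, 29, 30, 31, 4, 8, 12] = true := by decide +kernel
theorem pw38 : TZ 32 [38] [42, 39, 25, 43] := tz1 pw38a
theorem pw39a : cT 32 [39] [35, 38, 33, 25, 43] [24, 25, 28, 30, 7, 8, 10, 0] = true := by decide +kernel
theorem pw39 : TZ 32 [39] [35, 38, 33, 25, 43] := tz1 pw39a
theorem pw40a : cT 32 [40] [36, 41, 33, 25, 43] [25, 28, 31, 2, 3, 4, 6, 7, 8, 9, 15, 17, 18, 20, 21, 0] = true := by decide +kernel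
theorem pw40 : TZ 32 [40] [36, 41, 33, 25, 43] := tz1 pw40a
theorem pw41a : cT 32 [41] [37, 35, 38, 25, 43] [23, 24, 25, 28, 31, 6, 8, 10, 11, 12, 0] = true := by decide +kernel
theorem pw41 : TZ 32 [41] [37, 35, 38, 25, 43] := tz1 pw41a
theorem pw42a : cT 32 [42] [39, 33, 25, 43] [23, 26, 27, 29, 31, 32, 6, 8, 10, 11, 16, 18, 19, 22, 0] = true := by decide +kernel
theorem pw42 : TZ 32 [42] [39, 33, 25, 43] := tz1 pw42a
theorem pw43a : cT 32 [43] [25, 43] [26, 27, 28, 30, 31, 2, 6, 7, 8, 10, 13, 14, 15, 16, 17, 18, 20, 21, 22] = true := by decide +kernel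
theorem pw43 : TZ 32 [43] [25, 43] := tz1 pw43a
theorem nt0_0a : cTt 42 [35, 41, 40, 35, 34, 23, 25, 30] (gN 0) [35, 41, 40, 35, 34, 23, 25, 30] = true := by decide +kernel
theorem nt0_0 : TZ 42 [35, 41, 40, 35, 34, 23, 25, 30] (gN 0) := tzt nt0_0a
theorem nt0_1a : cTt 42 [34, 37, 35, 39, 40, 35, 34, 25] (gN 0) [34, 37, 35, 39, 40, 35, 34, 25] = true := by decide +kernel
theorem nt0_1 : TZ 42 [34, 37, 35, 39, 40, 35, 34, 25] (gN 0) := tzt nt0_1a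
theorem nr0_0a : cZt 42 [] (gN 0) [] (gN 1) [] = true := by decide +kernel
theorem nr0_0 : DZ 42 [] (gN 0) (gN 1) := dzt nr0_0a
theorem nt1_0a : cT 42 [36, 38, 40, 36, 41, 24, 26, 32] (gN 1) [33, 39, 35, 36, 41, 40, 38, 24, 25, 27, 29, 30, 31, 4, 5, 6, 7, 8, 9, 12, 13, 14, 15, 16, 18, 20, 22] = true := by decide +kernel
theorem nt1_0 : TZ 42 [36, 38, 40, 36, 41, 24, 26, 32] (gN 1) := tz1 nt1_0a
theorem nt1_1a : cT 42 [40, 33, 42, 38, 34, 25, 28, 29, 31] (gN 1) [41, 36, 38, 40, 34, 39, 36, 23, 25, 28, 29, 31, 4, 6, 11, 13, 15, 16, 17, 18, 20, 21, 22, 0] = true := by decide +kernel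
theorem nt1_1 : TZ 42 [40, 33, 42, 38, 34, 25, 28, 29, 31] (gN 1) := tz1 nt1_1a
theorem nr1_0a : cZt 42 [] (gN 1) [] (gN 0) [] = true := by decide +kernel
theorem nr1_0 : DZ 42 [] (gN 1) (gN 0) := dzt nr1_0a
theorem nr1_1a : cZ 42 [25] (gN 1) [25] (gN 1) [26, 27, 28, 30, 31, 2, 6, 7, 8, 10, 13, 14, 15, 16, 17, 18, 20, 21, 22] = true := by decide +kernel
theorem nr1_1 : DZ 42 [25] (gN 1) (gN 1) := dz1 nr1_1a
theorem nr1_2a : cZt 42 [33] (gN 1) [] (gN 2) [] = true := by decide +kernel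
theorem nr1_2 : DZ 42 [33] (gN 1) (gN 2) := dzt nr1_2a
theorem nr1_3a : cZt 42 [35] (gN 1) [] (gN 3) [] = true := by decide +kernel
theorem nr1_3 : DZ 42 [35] (gN 1) (gN 3) := dzt nr1_3a
theorem nr1_4a : cZ 42 [36] (gN 1) [33, 38] (gN 1) [33, 42, 37, 33, 38, 33, 23, 27, 28, 29, 31, 1, 3, 4, 5, 6, 7, 8, 9, 10, 16, 18, 20, 21, 0] = true := by decide +kernel
theorem nr1_4 : DZ 42 [36] (gN 1) (gN 1) := dz1 nr1_4a
theorem nt2_0a : cT 42 [33, 38, 34, 41, 34, 23, 26, 31] (gN 2) [42, 36, 38, 37, 40, 37, 34, 23, 24, 26, 28, 31, 32, 1, 3, 4, 6, 11, 13, 14, 15, 16, 18, 20, 21, 22] = true := by decide +kernel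
theorem nt2_0 : TZ 42 [33, 38, 34, 41, 34, 23, 26, 31] (gN 2) := tz1 nt2_0a
theorem nt2_1a : cT 42 [41, 37, 35, 37, 34, 35, 33, 31] (gN 2) [39, 35, 41, 42, 40, 36, 33, 24, 25, 26, 27, 30, 32, 3, 4, 6, 8, 9, 11, 13, 19, 20, 21, 0] = true := by decide +kernel
theorem nt2_1 : TZ 42 [41, 37, 35, 37, 34, 35, 33, 31] (gN 2) := tz1 nt2_1a
theorem nr2_0a : cZt 42 [] (gN 2) [33] (gN 1) [] = true := by decide +kernel
theorem nr2_0 : DZ 42 [] (gN 2) (gN 1) := dzt nr2_0a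
theorem nr2_1a : cZ 42 [25] (gN 2) [25] (gN 2) [39, 36, 42, 39, 42, 37, 23, 24, 26, 1, 5, 6, 7, 8, 10, 11, 13, 15, 20, 21, 22] = true := by decide +kernel
theorem nr2_1 : DZ 42 [25] (gN 2) (gN 2) := dz1 nr2_1a
theorem nr2_2a : cZ 42 [33] (gN 2) [38, 41, 36, 24] (gN 3) [40, 37, 35, 42, 33, 41, 33, 23, 25, 26, 30, 2, 7, 8, 10, 13, 14, 15, 16, 18, 19, 21, 22, 0] = true := by decide +kernel
theorem nr2_2 : DZ 42 [33] (gN 2) (gN 3) := dz1 nr2_2a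
theorem nr2_3a : cZ 42 [35] (gN 2) [33, 28, 34, 42] (gN 2) [36, 39, 42, 33, 34, 35, 33, 23, 24, 26, 27, 28, 1, 2, 3, 6, 9, 10, 12, 13, 17, 18, 22] = true := by decide +kernel
theorem nr2_3 : DZ 42 [35] (gN 2) (gN 2) := dz1 nr2_3a
theorem nr2_4a : cZt 42 [37] (gN 2) [] (gN 4) [] = true := by decide +kernel
theorem nr2_4 : DZ 42 [37] (gN 2) (gN 4) := dzt nr2_4a
theorem nr2_5a : cZ 42 [33, 25] (gN 2) [26, 33, 23] (gN 2) [38, 34, 41, 36, 37, 36, 34, 27, 28, 30, 31, 1, 2, 3, 6, 10, 11, 12, 14, 22] = true := by decide +kernel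
theorem nr2_5 : DZ 42 [33, 25] (gN 2) (gN 2) := dz1 nr2_5a
theorem nt3_0a : cT 42 [37, 39, 42, 34, 33, 25, 27, 30] (gN 3) [41, 33, 38, 35, 36, 35, 23, 27, 28, 29, 30, 31, 32, 3, 4, 6, 9, 12, 15, 16, 17, 20, 21, 22, 0] = true := by decide +kernel
theorem nt3_0 : TZ 42 [37, 39, 42, 34, 33, 25, 27, 30] (gN 3) := tz1 nt3_0a
theorem nt3_1a : cT 42 [42, 36, 37, 39, 36, 23, 24, 26, 28, 29, 30, 31, 32] (gN 3) [33, 42, 41, 35, 41, 39, 33, 28, 29, 30, 31, 3, 4, 5, 6, 7, 8, 9, 13, 17, 18, 19, 20, 21, 22, 0] = true := by decide +kernel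
theorem nt3_1 : TZ 42 [42, 36, 37, 39, 36, 23, 24, 26, 28, 29, 30, 31, 32] (gN 3) := tz1 nt3_1a
theorem nr3_0a : cZt 42 [] (gN 3) [35] (gN 1) [] = true := by decide +kernel
theorem nr3_0 : DZ 42 [] (gN 3) (gN 1) := dzt nr3_0a
theorem nr3_1a : cZ 42 [25] (gN 3) [25] (gN 3) [36, 41, 34, 37, 41, 40, 36, 23, 30, 31, 3, 4, 5, 6, 8, 10, 11, 13, 15, 16, 17, 18, 20, 21] = true := by decide +kernel
theorem nr3_1 : DZ 42 [25] (gN 3) (gN 3) := dz1 nr3_1a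
theorem nr3_2a : cZ 42 [33] (gN 3) [36, 37, 36, 23] (gN 2) [36, 34, 39, 33, 39, 24, 26, 27, 28, 29, 30, 31, 32, 2, 3, 9, 10, 13, 17, 18, 19, 20, 21] = true := by decide +kernel
theorem nr3_2 : DZ 42 [33] (gN 3) (gN 2) := dz1 nr3_2a
theorem nr3_3a : cZ 42 [37] (gN 3) [28, 36, 38] (gN 4) [41, 38, 41, 35, 40, 36, 34, 23, 24, 26, 27, 28, 29, 31, 1, 7, 8, 9, 10, 12, 18, 19, 21, 22] = true := by decide +kernel
theorem nr3_3 : DZ 42 [37] (gN 3) (gN 4) := dz1 nr3_3a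
theorem nt4_0a : cT 42 [39, 34, 36, 39, 40, 36, 27, 30, 31] (gN 4) [38, 41, 34, 42, 39, 40, 35, 25, 27, 30, 32, 3, 4, 5, 8, 10, 12, 20, 21] = true := by decide +kernel
theorem nt4_0 : TZ 42 [39, 34, 36, 39, 40, 36, 27, 30, 31] (gN 4) := tz1 nt4_0a
theorem nt4_1a : cT 42 [40, 38, 35, 33, 34, 38, 37, 26, 28] (gN 4) [34, 42, 39, 33, 38, 35, 33, 24, 25, 26, 27, 28, 31, 2, 4, 5, 6, 8, 10, 12, 13, 17, 18, 20, 0] = true := by decide +kernel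
theorem nt4_1 : TZ 42 [40, 38, 35, 33, 34, 38, 37, 26, 28] (gN 4) := tz1 nt4_1a
theorem nr4_0a : cZt 42 [] (gN 4) [37] (gN 2) [] = true := by decide +kernel
theorem nr4_0 : DZ 42 [] (gN 4) (gN 2) := dzt nr4_0a
theorem nr4_1a : cZ 42 [25] (gN 4) [25, 36, 41] (gN 4) [38, 36, 37, 39, 34, 42, 33, 23, 24, 25, 29, 30, 32, 1, 3, 4, 5, 6, 8, 10, 11, 12, 13, 14, 18, 19] = true := by decide +kernel
theorem nr4_1 : DZ 42 [25] (gN 4) (gN 4) := dz1 nr4_1a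
theorem nr4_2a : cZ 42 [37, 35] (gN 4) [39, 40, 30, 36] (gN 4) [33, 36, 42, 33, 38, 36, 41, 23, 28, 30, 31, 32, 3, 4, 8, 9, 10, 11, 12, 13, 14, 15, 16, 18, 20, 22] = true := by decide +kernel
theorem nr4_2 : DZ 42 [37, 35] (gN 4) (gN 4) := dz1 nr4_2a
theorem nr4_3a : cZ 42 [38, 36] (gN 4) [29, 41, 38, 24] (gN 3) [38, 33, 40, 36, 37, 34, 33, 23, 27, 30, 32, 1, 2, 3, 4, 5, 7, 8, 9, 11, 14, 15, 16, 18, 19, 20, 21, 0] = true := by decide +kernel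
theorem nr4_3 : DZ 42 [38, 36] (gN 4) (gN 3) := dz1 nr4_3a
end
end CfsgH5.BE
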