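import Cfsg.Agent.H5.BZg
/-! Baby Monster (helper5): relations (generated). -/
set_option Elab.async false
set_option linter.all false
namespace CfsgH5.BE
noncomputable section
theorem zr8_2_1a : cZa 43 ([37, 43, 33, 43] ++ [1]) (gZ 8) [40, 36, 43, 35, 43, 38, 36, 37, 38, 36, 33, 34, 23, 27, 29, 30, 31, 2, 3, 4, 8, 9, 11, 12, 15, 17, 20] (gZ 9) [33, 41, 37, 25, 43, 42, 33, 42, 36, 34, 42, 33, 23, 24, 25, 26, 27, 28, 29, 30, 31, 1, 2, 3, 6, 7, 9, 10, 13, 15, 19, 0] = true := by decide +kernel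
theorem zr8_2_1b : cZb 43 ([37, 43, 33, 43] ++ [1]) (gZ 8) [40, 36, 43, 35, 43, 38, 36, 37, 38, 36, 33, 34, 23, 27, 29, 30, 31, 2, 3, 4, 8, 9, 11, 12, 15, 17, 20] (gZ 9) [33, 41, 37, 25, 43, 42, 33, 42, 36, 34, 42, 33, 23, 24, 25, 26, 27, 28, 29, 30, 31, 1, 2, 3, 6, 7, 9, 10, 13, 15, 19, 0] = true := by decide +kernel
theorem zr8_2_1 : DZ 43 ([37, 43, 33, 43] ++ [1]) (gZ 8) (gZ 9) := dz2 zr8_2_1a zr8_2_1b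
theorem zr6_11_0a : cZa 43 [36, 43, 35, 43] (gZ 6) [40, 25, 43, 38, 34, 41, 40, 35, 34, 37, 23, 25, 26, 27, 30, 2, 4, 5, 6, 8, 11, 13, 14, 15, 16, 17, 19, 0] (gZ 7) [35, 38, 25, 43, 33, 42, 38, 33, 34, 37, 33, 23, 26, 27, 28, 29, 30, 31, 32, 2, 5, 6, 7, 12, 13, 16, 17, 22] = true := by decide +kernel
theorem zr6_11_0b : cZb 43 [36, 43, 35, 43] (gZ 6) [40, 25, 43, 38, 34, 41, 40, 35, 34, 37, 23, 25, 26, 27, 30, 2, 4, 5, 6, 8, 11, 13, 14, 15, 16, 17, 19, 0] (gZ 7) [35, 38, 25, 43, 33, 42, 38, 33, 34, 37, 33, 23, 26, 27, 28, 29, 30, 31, 32, 2, 5, 6, 7, 12, 13, 16, 17, 22] = true := by decide +kernel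
theorem zr6_11_0 : DZ 43 [36, 43, 35, 43] (gZ 6) (gZ 7) := dz2 zr6_11_0a zr6_11_0b
theorem zr7_1_1a : cZa 43 ([43] ++ [1]) (gZ 7) [30, 27, 43, 35, 43, 34, 37, 35, 42, 39, 36, 38, 24, 25, 26, 27, 29, 30, 32, 2, 3, 4, 6, 7, 8, 9, 12, 14, 15, 19, 21, 22, 0] (gZ 5) [35, 37, 36, 42, 39, 38, 33, 23, 25, 26, 27, 28, 32, 3, 4, 5, 6, 8, 9, 12, 17, 18, 19, 21, 22] = true := by decide +kernel
theorem zr7_1_1b : cZb 43 ([43] ++ [1]) (gZ 7) [30, 27, 43, 35, 43, 34, 37, 35, 42, 39, 36, 38, 24, 25, 26, 27, 29, 30, 32, 2, 3, 4, 6, 7, 8, 9, 12, 14, 15, 19, 21, 22, 0] (gZ 5) [35, 37, 36, 42, 39, 38, 33, 23, 25, 26, 27, 28, 32, 3, 4, 5, 6, 8, 9, 12, 17, 18, 19, 21, 22] = true := by decide +kernel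
theorem zr7_1_1 : DZ 43 ([43] ++ [1]) (gZ 7) (gZ 5) := dz2 zr7_1_1a zr7_1_1b
theorem zt8_0a : cTa 43 [38, 41, 36, 43, 35, 36, 33, 40, 35, 42, 34, 25, 28, 32, 1, 3, 5, 7, 10, 11, 13, 16, 17, 18, 22] (gZ 8) [39, 42, 40, 43, 42, 37, 39, 42, 33, 34, 33, 24, 26, 27, 29, 30, 31, 1, 2, 3, 6, 8, 11, 12, 13, 14, 16] = true := by decide +kernel
theorem zt8_0b : cTb [38, 41, 36, 43, 35, 36, 33, 40, 35, 42, 34, 25, 28, 32, 1, 3, 5, 7, 10, 11, 13, 16, 17, 18, 22] (gZ 8) [39, 42, 40, 43, 42, 37, 39, 42, 33, 34, 33, 24, 26, 27, 29, 30, 31, 1, 2, 3, 6, 8, 11, 12, 13, 14, 16] = true := by decide +kernel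
theorem zt8_0 : TZ 43 [38, 41, 36, 43, 35, 36, 33, 40, 35, 42, 34, 25, 28, 32, 1, 3, 5, 7, 10, 11, 13, 16, 17, 18, 22] (gZ 8) := tz2 zt8_0a zt8_0b
theorem zr4_8_1a : cZa 43 ([37, 43, 37, 43, 33, 43] ++ [1]) (gZ 4) [35, 41, 36, 37, 35, 37, 35, 24, 25, 26, 28, 30, 31, 2, 3, 6, 7, 10, 11, 12, 13, 15, 18, 21, 22, 0] (gZ 8) [34, 42, 38, 40, 36, 33, 40, 23, 26, 27, 29, 30, 5, 6, 8, 12, 13, 14, 17, 19, 21, 22, 0] = true := by decide +kernel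
theorem zr4_8_1b : cZb 43 ([37, 43, 37, 43, 33, 43] ++ [1]) (gZ 4) [35, 41, 36, 37, 35, 37, 35, 24, 25, 26, 28, 30, 31, 2, 3, 6, 7, 10, 11, 12, 13, 15, 18, 21, 22, 0] (gZ 8) [34, 42, 38, 40, 36, 33, 40, 23, 26, 27, 29, 30, 5, 6, 8, 12, 13, 14, 17, 19, 21, 22, 0] = true := by decide +kernel
theorem zr4_8_1 : DZ 43 ([37, 43, 37, 43, 33, 43] ++ [1]) (gZ 4) (gZ 8) := dz2 zr4_8_1a zr4_8_1b
theorem zr4_6_0a : cZa 43 [36, 43, 35, 43] (gZ 4) [40, 35, 43, 33, 39, 34, 35, 42, 26, 27, 30, 31, 4, 5, 8, 9, 10, 16, 17, 18, 19, 21] (gZ 6) [39, 37, 43, 41, 34, 38, 41, 40, 42, 34, 23, 24, 27, 28, 29, 30, 31, 2, 4, 5, 9, 11, 13, 14, 15, 20, 21] = true := by decide +kernel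
theorem zr4_6_0b : cZb 43 [36, 43, 35, 43] (gZ 4) [40, 35, 43, 33, 39, 34, 35, 42, 26, 27, 30, 31, 4, 5, 8, 9, 10, 16, 17, 18, 19, 21] (gZ 6) [39, 37, 43, 41, 34, 38, 41, 40, 42, 34, 23, 24, 27, 28, 29, 30, 31, 2, 4, 5, 9, 11, 13, 14, 15, 20, 21] = true := by decide +kernel
theorem zr4_6_0 : DZ 43 [36, 43, 35, 43] (gZ 4) (gZ 6) := dz2 zr4_6_0a zr4_6_0b
theorem zr3_3_0a : cZa 43 [36, 43, 33, 43] (gZ 3) [37, 39, 43, 36, 42, 35, 40, 39, 36, 33, 23, 24, 25, 26, 27, 28, 29, 32, 1, 2, 3, 4, 5, 6, 10, 11, 13, 15, 18, 19, 21, 22, 0] (gZ 6) [42, 35, 34, 33, 39, 33, 23, 24, 26, 27, 28, 30, 32, 2, 4, 5, 6, 9, 13, 15, 18, 19, 20, 21, 22, 0] = true := by decide +kernel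
theorem zr3_3_0b : cZb 43 [36, 43, 33, 43] (gZ 3) [37, 39, 43, 36, 42, 35, 40, 39, 36, 33, 23, 24, 25, 26, 27, 28, 29, 32, 1, 2, 3, 4, 5, 6, 10, 11, 13, 15, 18, 19, 21, 22, 0] (gZ 6) [42, 35, 34, 33, 39, 33, 23, 24, 26, 27, 28, 30, 32, 2, 4, 5, 6, 9, 13, 15, 18, 19, 20, 21, 22, 0] = true := by decide +kernel
theorem zr3_3_0 : DZ 43 [36, 43, 33, 43] (gZ 3) (gZ 6) := dz2 zr3_3_0a zr3_3_0b
theorem zt6_0a : cT 43 [35, 41, 37, 41, 34, 35, 34, 23, 27, 32, 4, 5, 10, 11, 15, 17, 18, 19] (gZ 6) [34, 39, 36, 34, 37, 40, 34, 23, 25, 26, 27, 28, 29, 32, 2, 3, 4, 5, 6, 7, 10, 12, 13, 14, 16, 18, 19, 20, 21, 22, 0] = true := by decide +kernel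
theorem zt6_0 : TZ 43 [35, 41, 37, 41, 34, 35, 34, 23, 27, 32, 4, 5, 10, 11, 15, 17, 18, 19] (gZ 6) := tz1 zt6_0a
theorem zr5_0_0a : cZ 43 [] (gZ 5) [43, 33, 43, 37, 41, 35, 34, 36, 35, 24, 26, 28, 29, 30, 32, 4, 7, 8, 10, 11, 12, 13, 14, 16, 17, 19, 20, 0] (gZ 2) [36, 40, 36, 34, 35, 37, 33, 24, 31, 3, 7, 11, 12, 22, 0] = true := by decide +kernel
theorem zr5_0_0 : DZ 43 [] (gZ 5) (gZ 2) := dz1 zr5_0_0a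
theorem zr2_1_1a : cZ 43 ([33, 43] ++ [1]) (gZ 2) [43, 34, 38, 33, 37, 36, 40, 33, 23, 24, 29, 31, 1, 3, 5, 8, 11, 14, 19, 22] (gZ 3) [37, 35, 37, 41, 37, 34, 26, 27, 31, 32, 3, 4, 5, 8, 9, 10, 12, 14, 15, 18, 19] = true := by decide +kernel
theorem zr2_1_1 : DZ 43 ([33, 43] ++ [1]) (gZ 2) (gZ 3) := dz1 zr2_1_1a
theorem zr4_0_0a : cZ 43 [] (gZ 4) [38, 33, 41, 23, 43, 37, 43, 33, 43] (gZ 1) [37, 34, 35, 42, 36, 35, 23, 24, 25, 26, 28, 6, 8, 12, 14, 15, 19, 20, 22, 0] = true := by decide +kernel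
theorem zr4_0_0 : DZ 43 [] (gZ 4) (gZ 1) := dz1 zr4_0_0a
theorem za8 : chkT 4304 23 11184 (cjw (gZ 8) 0) = true := by decide +kernel
theorem za0 : chkT 4304 23 17664 (cjw (gZ 0) 0) = true := by decide +kernel
end
end CfsgH5.BE
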