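import Cfsg.Agent.H5.BZg
/-! Baby Monster (helper5): relations (generated). -/
set_option Elab.async false
set_option linter.all false
namespace CfsgH5.BE
noncomputable section
theorem zr8_2_0a : cZa 43 [37, 43, 33, 43] (gZ 8) [33, 31, 38, 43, 33, 43, 37, 36, 42, 39, 42, 37, 34, 25, 28, 29, 31, 32, 3, 5, 6, 7, 8, 9, 11, 12, 14, 17, 19, 20] (gZ 9) [38, 35, 33, 35, 43, 33, 40, 34, 33, 35, 36, 23, 26, 30, 1, 2, 4, 6, 7, 8, 9, 10, 12, 14, 15, 16, 22] = true := by decide +kernel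
theorem zr8_2_0b : cZb 43 [37, 43, 33, 43] (gZ 8) [33, 31, 38, 43, 33, 43, 37, 36, 42, 39, 42, 37, 34, 25, 28, 29, 31, 32, 3, 5, 6, 7, 8, 9, 11, 12, 14, 17, 19, 20] (gZ 9) [38, 35, 33, 35, 43, 33, 40, 34, 33, 35, 36, 23, 26, 30, 1, 2, 4, 6, 7, 8, 9, 10, 12, 14, 15, 16, 22] = true := by decide +kernel
theorem zr8_2_0 : DZ 43 [37, 43, 33, 43] (gZ 8) (gZ 9) := dz2 zr8_2_0a zr8_2_0b
theorem zr7_4_1a : cZa 43 ([36, 41, 43] ++ [1]) (gZ 7) [43, 37, 38, 41, 36, 41, 35, 33, 23, 25, 27, 28, 30, 31, 1, 3, 5, 6, 8, 9, 10, 13, 16, 17, 21, 22] (gZ 8) [35, 40, 39, 34, 38, 35, 40, 23, 25, 27, 30, 32, 2, 3, 5, 6, 7, 8, 10, 11, 16, 17, 18, 19, 21, 22, 0] = true := by decide +kernel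
theorem zr7_4_1b : cZb 43 ([36, 41, 43] ++ [1]) (gZ 7) [43, 37, 38, 41, 36, 41, 35, 33, 23, 25, 27, 28, 30, 31, 1, 3, 5, 6, 8, 9, 10, 13, 16, 17, 21, 22] (gZ 8) [35, 40, 39, 34, 38, 35, 40, 23, 25, 27, 30, 32, 2, 3, 5, 6, 7, 8, 10, 11, 16, 17, 18, 19, 21, 22, 0] = true := by decide +kernel
theorem zr7_4_1 : DZ 43 ([36, 41, 43] ++ [1]) (gZ 7) (gZ 8) := dz2 zr7_4_1a zr7_4_1b
theorem zr8_1_0a : cZa 43 [43] (gZ 8) [25, 43, 36, 38, 35, 38, 35, 33, 34, 25, 29, 30, 31, 32, 1, 2, 7, 9, 10, 11, 12, 13, 18, 19] (gZ 7) [37, 39, 37, 35, 40, 38, 36, 34, 24, 26, 27, 28, 29, 2, 3, 8, 11, 14, 15, 16, 18, 19] = true := by decide +kernel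
theorem zr8_1_0b : cZb 43 [43] (gZ 8) [25, 43, 36, 38, 35, 38, 35, 33, 34, 25, 29, 30, 31, 32, 1, 2, 7, 9, 10, 11, 12, 13, 18, 19] (gZ 7) [37, 39, 37, 35, 40, 38, 36, 34, 24, 26, 27, 28, 29, 2, 3, 8, 11, 14, 15, 16, 18, 19] = true := by decide +kernel
theorem zr8_1_0 : DZ 43 [43] (gZ 8) (gZ 7) := dz2 zr8_1_0a zr8_1_0b
theorem zr6_7_0a : cZa 43 [36, 43, 33, 43] (gZ 6) [39, 35, 37, 25, 43, 40, 38, 35, 41, 35, 34, 24, 26, 27, 28, 29, 31, 2, 3, 4, 6, 7, 9, 11, 13, 15, 16, 17, 20, 21, 22] (gZ 7) [36, 35, 38, 33, 40, 36, 38, 23, 24, 25, 28, 29, 30, 31, 2, 3, 4, 6, 9, 11, 17, 22] = true := by decide +kernel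
theorem zr6_7_0b : cZb 43 [36, 43, 33, 43] (gZ 6) [39, 35, 37, 25, 43, 40, 38, 35, 41, 35, 34, 24, 26, 27, 28, 29, 31, 2, 3, 4, 6, 7, 9, 11, 13, 15, 16, 17, 20, 21, 22] (gZ 7) [36, 35, 38, 33, 40, 36, 38, 23, 24, 25, 28, 29, 30, 31, 2, 3, 4, 6, 9, 11, 17, 22] = true := by decide +kernel
theorem zr6_7_0 : DZ 43 [36, 43, 33, 43] (gZ 6) (gZ 7) := dz2 zr6_7_0a zr6_7_0b
theorem zr4_7_0a : cZa 43 [43, 37, 43, 33, 43] (gZ 4) [39, 34, 39, 37, 35, 42, 35, 24, 26, 28, 30, 3, 4, 5, 6, 8, 9, 10, 11, 13, 15, 20, 21, 22, 0] (gZ 7) [42, 35, 37, 41, 36, 41, 23, 24, 25, 31, 32, 4, 5, 6, 10, 11, 12, 13, 14, 21, 22] = true := by decide +kernel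
theorem zr4_7_0b : cZb 43 [43, 37, 43, 33, 43] (gZ 4) [39, 34, 39, 37, 35, 42, 35, 24, 26, 28, 30, 3, 4, 5, 6, 8, 9, 10, 11, 13, 15, 20, 21, 22, 0] (gZ 7) [42, 35, 37, 41, 36, 41, 23, 24, 25, 31, 32, 4, 5, 6, 10, 11, 12, 13, 14, 21, 22] = true := by decide +kernel
theorem zr4_7_0 : DZ 43 [43, 37, 43, 33, 43] (gZ 4) (gZ 7) := dz2 zr4_7_0a zr4_7_0b
theorem zr5_2_1a : cZa 43 ([38, 43] ++ [1]) (gZ 5) [43, 34, 35, 37, 33, 38, 34, 27, 30, 1, 2, 4, 5, 6, 7, 8, 12, 15, 16, 18, 21, 22, 0] (gZ 5) [37, 39, 33, 39, 42, 39, 33, 23, 24, 25, 26, 27, 28, 32, 2, 3, 5, 7, 8, 9, 10, 16, 19, 20, 21, 22] = true := by decide +kernel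
theorem zr5_2_1b : cZb 43 ([38, 43] ++ [1]) (gZ 5) [43, 34, 35, 37, 33, 38, 34, 27, 30, 1, 2, 4, 5, 6, 7, 8, 12, 15, 16, 18, 21, 22, 0] (gZ 5) [37, 39, 33, 39, 42, 39, 33, 23, 24, 25, 26, 27, 28, 32, 2, 3, 5, 7, 8, 9, 10, 16, 19, 20, 21, 22] = true := by decide +kernel
theorem zr5_2_1 : DZ 43 ([38, 43] ++ [1]) (gZ 5) (gZ 5) := dz2 zr5_2_1a zr5_2_1b
theorem zt5_1a : cTa 43 [35, 40, 35, 25, 43, 39, 40, 42, 40, 41, 39, 34, 23, 25, 26, 27, 32, 1, 2, 6, 8, 10, 11, 14, 15, 16, 19, 20, 21, 0] (gZ 5) [42, 35, 33, 35, 25, 43, 36, 34, 42, 39, 35, 40, 25, 26, 27, 29, 1, 4, 5, 6, 7, 8, 10, 11, 13, 15, 16, 19, 21] = true := by decide +kernel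
theorem zt5_1b : cTb [35, 40, 35, 25, 43, 39, 40, 42, 40, 41, 39, 34, 23, 25, 26, 27, 32, 1, 2, 6, 8, 10, 11, 14, 15, 16, 19, 20, 21, 0] (gZ 5) [42, 35, 33, 35, 25, 43, 36, 34, 42, 39, 35, 40, 25, 26, 27, 29, 1, 4, 5, 6, 7, 8, 10, 11, 13, 15, 16, 19, 21] = true := by decide +kernel
theorem zt5_1 : TZ 43 [35, 40, 35, 25, 43, 39, 40, 42, 40, 41, 39, 34, 23, 25, 26, 27, 32, 1, 2, 6, 8, 10, 11, 14, 15, 16, 19, 20, 21, 0] (gZ 5) := tz2 zt5_1a zt5_1b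
theorem zr4_1_0a : cZ 43 [43] (gZ 4) [25, 43, 39, 34, 42, 33, 42, 35, 33, 24, 26, 27, 29, 32, 1, 2, 6, 8, 10, 11, 13, 14, 16, 17, 18, 19, 21, 0] (gZ 4) [36, 33, 36, 33, 41, 37, 34, 23, 28, 29, 31, 2, 3, 5, 8, 13, 14, 15, 19, 21, 22, 0] = true := by decide +kernel
theorem zr4_1_0 : DZ 43 [43] (gZ 4) (gZ 4) := dz1 zr4_1_0a
theorem zr2_3_0a : cZ 43 [37, 43] (gZ 2) [25, 43, 36, 42, 35, 34, 37, 33, 24, 26, 27, 29, 32, 1, 2, 4, 5, 7, 8, 11, 13, 14, 15, 20] (gZ 4) [36, 42, 41, 36, 42, 37, 23, 25, 27, 28, 29, 30, 32, 2, 4, 6, 7, 8, 10, 14, 15, 16, 17, 19, 20, 22] = true := by decide +kernel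
theorem zr2_3_0 : DZ 43 [37, 43] (gZ 2) (gZ 4) := dz1 zr2_3_0a
theorem zt4_0a : cT 43 [38, 33, 38, 42, 39, 24, 25, 26, 28, 29, 32, 2, 3, 5, 10, 11, 12, 13, 14, 15, 16, 18, 19, 0] (gZ 4) [42, 39, 42, 41, 33, 38, 36, 24, 26, 29, 31, 32, 2, 3, 4, 5, 8, 9, 10, 11, 12, 13, 14, 17, 20, 22] = true := by decide +kernel
theorem zt4_0 : TZ 43 [38, 33, 38, 42, 39, 24, 25, 26, 28, 29, 32, 2, 3, 5, 10, 11, 12, 13, 14, 15, 16, 18, 19, 0] (gZ 4) := tz1 zt4_0a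
theorem zr1_2_1a : cZ 43 ([43, 33, 43] ++ [1]) (gZ 1) [41, 42, 36, 38, 36, 42, 41, 26, 27, 29, 3, 6, 7, 8, 10, 11, 12, 14, 17, 20, 21] (gZ 2) [38, 33, 39, 35, 37, 34, 23, 26, 32, 5, 9, 12, 13, 14, 15, 16, 22, 0] = true := by decide +kernel
theorem zr1_2_1 : DZ 43 ([43, 33, 43] ++ [1]) (gZ 1) (gZ 2) := dz1 zr1_2_1a
theorem za5 : chkT 4304 23 11776 (cjw (gZ 5) 0) = true := by decide +kernel
theorem zr0_0_1a : cZt 43 ([] ++ [1]) (gZ 0) [] (gZ 1) [1] = true := by decide +kernel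
theorem zr0_0_1 : DZ 43 ([] ++ [1]) (gZ 0) (gZ 1) := dzt zr0_0_1a
theorem zr2_0_0a : cZt 43 [] (gZ 2) [43, 33, 43] (gZ 1) [] = true := by decide +kernel
theorem zr2_0_0 : DZ 43 [] (gZ 2) (gZ 1) := dzt zr2_0_0a
end
end CfsgH5.BE
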