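import Cfsg.Agent.H5.BZg
/-! Baby Monster (helper5): relations (generated). -/
set_option Elab.async false
set_option linter.all false
namespace CfsgH5.BE
noncomputable section
theorem zr9_3_0a : cZa 43 [38, 43] (gZ 9) [34, 36, 25, 43, 42, 39, 35, 37, 38, 34, 36, 24, 28, 29, 30, 1, 2, 4, 5, 7, 8, 9, 10, 14, 16, 18, 0] (gZ 9) [38, 40, 33, 25, 43, 37, 39, 33, 41, 36, 40, 36, 23, 24, 25, 27, 28, 29, 30, 31, 1, 3, 4, 13, 16, 18, 19, 20, 21] = true := by decide +kernel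
theorem zr9_3_0b : cZb 43 [38, 43] (gZ 9) [34, 36, 25, 43, 42, 39, 35, 37, 38, 34, 36, 24, 28, 29, 30, 1, 2, 4, 5, 7, 8, 9, 10, 14, 16, 18, 0] (gZ 9) [38, 40, 33, 25, 43, 37, 39, 33, 41, 36, 40, 36, 23, 24, 25, 27, 28, 29, 30, 31, 1, 3, 4, 13, 16, 18, 19, 20, 21] = true := by decide +kernel
theorem zr9_3_0 : DZ 43 [38, 43] (gZ 9) (gZ 9) := dz2 zr9_3_0a zr9_3_0b
theorem zr9_0_1a : cZa 43 ([] ++ [1]) (gZ 9) [40, 39, 43, 35, 38, 33, 40, 35, 38, 33, 25, 26, 27, 29, 32, 1, 4, 8, 9, 11, 13, 14, 15, 17, 18, 22, 0] (gZ 9) [41, 33, 43, 34, 35, 41, 42, 37, 25, 26, 30, 31, 32, 1, 2, 3, 4, 6, 7, 8, 9, 12, 16, 18, 20, 22] = true := by decide +kernel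
theorem zr9_0_1b : cZb 43 ([] ++ [1]) (gZ 9) [40, 39, 43, 35, 38, 33, 40, 35, 38, 33, 25, 26, 27, 29, 32, 1, 4, 8, 9, 11, 13, 14, 15, 17, 18, 22, 0] (gZ 9) [41, 33, 43, 34, 35, 41, 42, 37, 25, 26, 30, 31, 32, 1, 2, 3, 4, 6, 7, 8, 9, 12, 16, 18, 20, 22] = true := by decide +kernel
theorem zr9_0_1 : DZ 43 ([] ++ [1]) (gZ 9) (gZ 9) := dz2 zr9_0_1a zr9_0_1b
theorem zr6_9_1a : cZa 43 ([38, 43, 33, 43] ++ [1]) (gZ 6) [39, 35, 37, 25, 43, 42, 34, 38, 33, 40, 35, 33, 23, 24, 27, 29, 30, 32, 2, 3, 5, 6, 8, 9, 10, 11, 12, 13, 15, 16, 18, 20, 22, 0] (gZ 8) [42, 41, 35, 42, 38, 35, 34, 23, 24, 26, 28, 10, 11, 12, 13, 14, 15, 16, 20] = true := by decide +kernel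
theorem zr6_9_1b : cZb 43 ([38, 43, 33, 43] ++ [1]) (gZ 6) [39, 35, 37, 25, 43, 42, 34, 38, 33, 40, 35, 33, 23, 24, 27, 29, 30, 32, 2, 3, 5, 6, 8, 9, 10, 11, 12, 13, 15, 16, 18, 20, 22, 0] (gZ 8) [42, 41, 35, 42, 38, 35, 34, 23, 24, 26, 28, 10, 11, 12, 13, 14, 15, 16, 20] = true := by decide +kernel
theorem zr6_9_1 : DZ 43 ([38, 43, 33, 43] ++ [1]) (gZ 6) (gZ 8) := dz2 zr6_9_1a zr6_9_1b
theorem zr6_9_0a : cZa 43 [38, 43, 33, 43] (gZ 6) [39, 35, 37, 25, 43, 37, 39, 38, 40, 42, 36, 34, 24, 26, 29, 30, 32, 2, 4, 13, 14, 16, 17, 18, 19, 20] (gZ 7) [35, 42, 36, 33, 41, 33, 35, 23, 24, 26, 27, 31, 32, 2, 7, 8, 9, 16, 19, 21, 22] = true := by decide +kernel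
theorem zr6_9_0b : cZb 43 [38, 43, 33, 43] (gZ 6) [39, 35, 37, 25, 43, 37, 39, 38, 40, 42, 36, 34, 24, 26, 29, 30, 32, 2, 4, 13, 14, 16, 17, 18, 19, 20] (gZ 7) [35, 42, 36, 33, 41, 33, 35, 23, 24, 26, 27, 31, 32, 2, 7, 8, 9, 16, 19, 21, 22] = true := by decide +kernel
theorem zr6_9_0 : DZ 43 [38, 43, 33, 43] (gZ 6) (gZ 7) := dz2 zr6_9_0a zr6_9_0b
theorem zr4_6_1a : cZa 43 ([36, 43, 35, 43] ++ [1]) (gZ 4) [33, 42, 35, 43, 36, 42, 37, 40, 35, 37, 36, 23, 25, 26, 27, 28, 29, 30, 31, 1, 3, 6, 7, 10, 11, 12, 13, 14, 15, 19, 20, 21] (gZ 6) [39, 37, 43, 39, 36, 33, 34, 38, 40, 25, 27, 28, 29, 30, 31, 32, 2, 3, 4, 5, 6, 7, 9, 12, 14, 17, 19, 21, 22] = true := by decide +kernel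
theorem zr4_6_1b : cZb 43 ([36, 43, 35, 43] ++ [1]) (gZ 4) [33, 42, 35, 43, 36, 42, 37, 40, 35, 37, 36, 23, 25, 26, 27, 28, 29, 30, 31, 1, 3, 6, 7, 10, 11, 12, 13, 14, 15, 19, 20, 21] (gZ 6) [39, 37, 43, 39, 36, 33, 34, 38, 40, 25, 27, 28, 29, 30, 31, 32, 2, 3, 4, 5, 6, 7, 9, 12, 14, 17, 19, 21, 22] = true := by decide +kernel
theorem zr4_6_1 : DZ 43 ([36, 43, 35, 43] ++ [1]) (gZ 4) (gZ 6) := dz2 zr4_6_1a zr4_6_1b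
theorem zr6_2_1a : cZa 43 ([35, 43] ++ [1]) (gZ 6) [25, 40, 43, 35, 43, 38, 34, 42, 36, 33, 39, 34, 24, 26, 27, 29, 32, 1, 5, 7, 10, 12, 18, 19, 21, 0] (gZ 4) [33, 39, 33, 43, 36, 37, 33, 38, 42, 23, 24, 26, 27, 32, 1, 2, 3, 5, 6, 8, 10, 11, 12, 13, 16, 21] = true := by decide +kernel
theorem zr6_2_1b : cZb 43 ([35, 43] ++ [1]) (gZ 6) [25, 40, 43, 35, 43, 38, 34, 42, 36, 33, 39, 34, 24, 26, 27, 29, 32, 1, 5, 7, 10, 12, 18, 19, 21, 0] (gZ 4) [33, 39, 33, 43, 36, 37, 33, 38, 42, 23, 24, 26, 27, 32, 1, 2, 3, 5, 6, 8, 10, 11, 12, 13, 16, 21] = true := by decide +kernel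
theorem zr6_2_1 : DZ 43 ([35, 43] ++ [1]) (gZ 6) (gZ 4) := dz2 zr6_2_1a zr6_2_1b
theorem zr6_6_1a : cZa 43 ([39, 37, 43] ++ [1]) (gZ 6) [25, 43, 37, 36, 42, 39, 42, 37, 26, 27, 28, 4, 6, 7, 13, 15, 16, 17, 18, 21, 22] (gZ 6) [40, 34, 37, 34, 36, 39, 25, 29, 32, 3, 5, 6, 11, 12, 13, 19, 22, 0] = true := by decide +kernel
theorem zr6_6_1b : cZb 43 ([39, 37, 43] ++ [1]) (gZ 6) [25, 43, 37, 36, 42, 39, 42, 37, 26, 27, 28, 4, 6, 7, 13, 15, 16, 17, 18, 21, 22] (gZ 6) [40, 34, 37, 34, 36, 39, 25, 29, 32, 3, 5, 6, 11, 12, 13, 19, 22, 0] = true := by decide +kernel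
theorem zr6_6_1 : DZ 43 ([39, 37, 43] ++ [1]) (gZ 6) (gZ 6) := dz2 zr6_6_1a zr6_6_1b
theorem zr2_5_1a : cZ 43 ([41, 43, 33, 43] ++ [1]) (gZ 2) [35, 34, 35, 34, 24, 25, 27, 28, 4, 5, 6, 9, 10, 11, 13, 18, 20, 21, 22] (gZ 6) [39, 38, 42, 39, 38, 24, 26, 12, 13, 14, 16, 19, 20, 21, 0] = true := by decide +kernel
theorem zr2_5_1 : DZ 43 ([41, 43, 33, 43] ++ [1]) (gZ 2) (gZ 6) := dz1 zr2_5_1a
theorem zr4_2_1a : cZ 43 ([35, 43] ++ [1]) (gZ 4) [43, 39, 38, 35, 38, 36, 40, 37, 23, 25, 26, 29, 32, 1, 2, 4, 5, 7, 9, 10, 11, 12, 13, 19, 21] (gZ 3) [42, 41, 40, 33, 41, 38, 23, 24, 25, 27, 29, 30, 31, 32, 3, 4, 5, 11, 12, 14, 16, 19, 20, 21, 0] = true := by decide +kernel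
theorem zr4_2_1 : DZ 43 ([35, 43] ++ [1]) (gZ 4) (gZ 3) := dz1 zr4_2_1a
theorem zt2_1a : cT 43 [38, 33, 43, 37, 35, 38, 36, 39, 33, 36, 23, 27, 28, 29, 32, 3, 5, 6, 7, 8, 10, 12, 13, 15, 16, 17, 22, 0] (gZ 2) [38, 33, 43, 41, 37, 36, 37, 35, 36, 34, 24, 25, 26, 32, 4, 5, 6, 8, 9, 10, 12, 14, 16, 18, 22, 0] = true := by decide +kernel
theorem zt2_1 : TZ 43 [38, 33, 43, 37, 35, 38, 36, 39, 33, 36, 23, 27, 28, 29, 32, 3, 5, 6, 7, 8, 10, 12, 13, 15, 16, 17, 22, 0] (gZ 2) := tz1 zt2_1a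
theorem zr1_3_0a : cZ 43 [43, 35, 43] (gZ 1) [42, 33, 42, 40, 35, 40, 23, 24, 27, 28, 30, 31, 4, 5, 7, 9, 13, 18, 19, 20, 0] (gZ 3) [33, 42, 34, 35, 42, 39, 23, 26, 27, 28, 30, 31, 3, 10, 11, 12, 13, 18, 19, 20] = true := by decide +kernel
theorem zr1_3_0 : DZ 43 [43, 35, 43] (gZ 1) (gZ 3) := dz1 zr1_3_0a
theorem za7 : chkT 4304 23 12208 (cjw (gZ 7) 0) = true := by decide +kernel
end
end CfsgH5.BE
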