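import Cfsg.Agent.H5.BZg
/-! Baby Monster (helper5): relations (generated). -/
set_option Elab.async false
set_option linter.all false
namespace CfsgH5.BE
noncomputable section
theorem zr7_5_1a : cZa 43 ([43, 33, 43] ++ [1]) (gZ 7) [27, 34, 43, 33, 43, 36, 33, 35, 34, 41, 35, 40, 24, 25, 26, 29, 30, 2, 4, 5, 6, 7, 8, 10, 15, 16, 17, 20, 21, 22] (gZ 7) [37, 35, 38, 43, 41, 39, 35, 34, 38, 41, 33, 23, 26, 27, 31, 1, 3, 6, 7, 8, 10, 12, 18, 19, 20, 21] = true := by decide +kernel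
theorem zr7_5_1b : cZb 43 ([43, 33, 43] ++ [1]) (gZ 7) [27, 34, 43, 33, 43, 36, 33, 35, 34, 41, 35, 40, 24, 25, 26, 29, 30, 2, 4, 5, 6, 7, 8, 10, 15, 16, 17, 20, 21, 22] (gZ 7) [37, 35, 38, 43, 41, 39, 35, 34, 38, 41, 33, 23, 26, 27, 31, 1, 3, 6, 7, 8, 10, 12, 18, 19, 20, 21] = true := by decide +kernel
theorem zr7_5_1 : DZ 43 ([43, 33, 43] ++ [1]) (gZ 7) (gZ 7) := dz2 zr7_5_1a zr7_5_1b
theorem zr9_2_1a : cZa 43 ([33, 43] ++ [1]) (gZ 9) [28, 36, 38, 43, 33, 43, 41, 42, 40, 38, 41, 40, 23, 25, 26, 28, 32, 3, 4, 8, 9, 11, 13, 14, 18, 19, 22] (gZ 7) [40, 33, 40, 33, 43, 40, 35, 33, 40, 33, 37, 33, 23, 24, 26, 28, 29, 30, 1, 4, 10, 13, 14, 15, 18, 21, 22] = true := by decide +kernel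
theorem zr9_2_1b : cZb 43 ([33, 43] ++ [1]) (gZ 9) [28, 36, 38, 43, 33, 43, 41, 42, 40, 38, 41, 40, 23, 25, 26, 28, 32, 3, 4, 8, 9, 11, 13, 14, 18, 19, 22] (gZ 7) [40, 33, 40, 33, 43, 40, 35, 33, 40, 33, 37, 33, 23, 24, 26, 28, 29, 30, 1, 4, 10, 13, 14, 15, 18, 21, 22] = true := by decide +kernel
theorem zr9_2_1 : DZ 43 ([33, 43] ++ [1]) (gZ 9) (gZ 7) := dz2 zr9_2_1a zr9_2_1b
theorem zr6_10_1a : cZa 43 ([33, 43, 35, 43] ++ [1]) (gZ 6) [36, 35, 33, 43, 35, 43, 36, 37, 41, 37, 36, 35, 25, 26, 27, 29, 32, 1, 3, 4, 6, 11, 12, 14, 15, 18, 19, 20, 22, 0] (gZ 6) [40, 35, 25, 43, 37, 40, 36, 33, 37, 38, 37, 23, 24, 25, 27, 28, 29, 32, 1, 6, 9, 11, 12, 14, 15, 16, 20] = true := by decide +kernel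
theorem zr6_10_1b : cZb 43 ([33, 43, 35, 43] ++ [1]) (gZ 6) [36, 35, 33, 43, 35, 43, 36, 37, 41, 37, 36, 35, 25, 26, 27, 29, 32, 1, 3, 4, 6, 11, 12, 14, 15, 18, 19, 20, 22, 0] (gZ 6) [40, 35, 25, 43, 37, 40, 36, 33, 37, 38, 37, 23, 24, 25, 27, 28, 29, 32, 1, 6, 9, 11, 12, 14, 15, 16, 20] = true := by decide +kernel
theorem zr6_10_1 : DZ 43 ([33, 43, 35, 43] ++ [1]) (gZ 6) (gZ 6) := dz2 zr6_10_1a zr6_10_1b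
theorem zr7_4_0a : cZa 43 [36, 41, 43] (gZ 7) [34, 33, 30, 38, 43, 33, 43, 35, 38, 41, 35, 34, 33, 41, 23, 24, 28, 29, 30, 31, 2, 5, 6, 8, 9, 11, 14, 17] (gZ 6) [42, 37, 41, 35, 34, 36, 33, 23, 26, 29, 2, 3, 4, 9, 12, 14, 16, 20, 0] = true := by decide +kernel
theorem zr7_4_0b : cZb 43 [36, 41, 43] (gZ 7) [34, 33, 30, 38, 43, 33, 43, 35, 38, 41, 35, 34, 33, 41, 23, 24, 28, 29, 30, 31, 2, 5, 6, 8, 9, 11, 14, 17] (gZ 6) [42, 37, 41, 35, 34, 36, 33, 23, 26, 29, 2, 3, 4, 9, 12, 14, 16, 20, 0] = true := by decide +kernel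
theorem zr7_4_0 : DZ 43 [36, 41, 43] (gZ 7) (gZ 6) := dz2 zr7_4_0a zr7_4_0b
theorem zr6_1_1a : cZa 43 ([33, 43] ++ [1]) (gZ 6) [24, 34, 43, 33, 43, 38, 35, 34, 33, 41, 39, 35, 23, 25, 27, 28, 30, 32, 1, 2, 4, 6, 7, 9, 12, 13, 16, 17, 22] (gZ 4) [36, 40, 41, 25, 43, 36, 34, 39, 34, 42, 36, 34, 23, 26, 27, 30, 31, 32, 2, 5, 6, 11, 12, 13, 16, 17, 18, 20, 22] = true := by decide +kernel
theorem zr6_1_1b : cZb 43 ([33, 43] ++ [1]) (gZ 6) [24, 34, 43, 33, 43, 38, 35, 34, 33, 41, 39, 35, 23, 25, 27, 28, 30, 32, 1, 2, 4, 6, 7, 9, 12, 13, 16, 17, 22] (gZ 4) [36, 40, 41, 25, 43, 36, 34, 39, 34, 42, 36, 34, 23, 26, 27, 30, 31, 32, 2, 5, 6, 11, 12, 13, 16, 17, 18, 20, 22] = true := by decide +kernel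
theorem zr6_1_1 : DZ 43 ([33, 43] ++ [1]) (gZ 6) (gZ 4) := dz2 zr6_1_1a zr6_1_1b
theorem zr5_3_0a : cZa 43 [41, 43] (gZ 5) [34, 30, 24, 43, 33, 43, 39, 36, 37, 39, 42, 39, 23, 25, 27, 28, 30, 32, 1, 2, 3, 7, 10, 12, 13, 16, 19, 22] (gZ 4) [35, 37, 33, 43, 33, 37, 39, 37, 36, 42, 34, 25, 26, 29, 30, 4, 5, 8, 9, 10, 15, 16, 20, 21] = true := by decide +kernel
theorem zr5_3_0b : cZb 43 [41, 43] (gZ 5) [34, 30, 24, 43, 33, 43, 39, 36, 37, 39, 42, 39, 23, 25, 27, 28, 30, 32, 1, 2, 3, 7, 10, 12, 13, 16, 19, 22] (gZ 4) [35, 37, 33, 43, 33, 37, 39, 37, 36, 42, 34, 25, 26, 29, 30, 4, 5, 8, 9, 10, 15, 16, 20, 21] = true := by decide +kernel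
theorem zr5_3_0 : DZ 43 [41, 43] (gZ 5) (gZ 4) := dz2 zr5_3_0a zr5_3_0b
theorem zr4_3_0a : cZa 43 [43, 33, 43] (gZ 4) [39, 35, 37, 25, 43, 40, 42, 34, 41, 38, 33, 38, 23, 24, 27, 30, 31, 4, 5, 7, 12, 14, 16, 21, 0] (gZ 6) [36, 41, 42, 41, 37, 34, 26, 28, 29, 31, 10, 15, 17, 18, 19, 20, 22] = true := by decide +kernel
theorem zr4_3_0b : cZb 43 [43, 33, 43] (gZ 4) [39, 35, 37, 25, 43, 40, 42, 34, 41, 38, 33, 38, 23, 24, 27, 30, 31, 4, 5, 7, 12, 14, 16, 21, 0] (gZ 6) [36, 41, 42, 41, 37, 34, 26, 28, 29, 31, 10, 15, 17, 18, 19, 20, 22] = true := by decide +kernel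
theorem zr4_3_0 : DZ 43 [43, 33, 43] (gZ 4) (gZ 6) := dz2 zr4_3_0a zr4_3_0b
theorem zr6_6_0a : cZa 43 [39, 37, 43] (gZ 6) [31, 24, 43, 33, 43, 38, 36, 41, 40, 35, 37, 34, 23, 24, 27, 28, 29, 30, 31, 32, 1, 2, 3, 4, 5, 6, 7, 9, 11, 12, 13, 15, 21, 22, 0] (gZ 3) [33, 36, 38, 41, 36, 33, 23, 28, 30, 31, 2, 5, 9, 16, 17, 20, 0] = true := by decide +kernel
theorem zr6_6_0b : cZb 43 [39, 37, 43] (gZ 6) [31, 24, 43, 33, 43, 38, 36, 41, 40, 35, 37, 34, 23, 24, 27, 28, 29, 30, 31, 32, 1, 2, 3, 4, 5, 6, 7, 9, 11, 12, 13, 15, 21, 22, 0] (gZ 3) [33, 36, 38, 41, 36, 33, 23, 28, 30, 31, 2, 5, 9, 16, 17, 20, 0] = true := by decide +kernel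
theorem zr6_6_0 : DZ 43 [39, 37, 43] (gZ 6) (gZ 3) := dz2 zr6_6_0a zr6_6_0b
theorem zr2_1_0a : cZ 43 [33, 43] (gZ 2) [25, 43, 38, 40, 34, 42, 36, 35, 23, 26, 28, 30, 32, 1, 2, 6, 7, 8, 9, 15, 18, 19, 20, 22, 0] (gZ 2) [35, 38, 33, 41, 38, 34, 33, 24, 25, 26, 27, 28, 29, 31, 2, 3, 4, 7, 8, 9, 11, 13, 17, 19, 20, 22] = true := by decide +kernel
theorem zr2_1_0 : DZ 43 [33, 43] (gZ 2) (gZ 2) := dz1 zr2_1_0a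
theorem zr1_2_0a : cZ 43 [43, 33, 43] (gZ 1) [40, 33, 35, 40, 33, 40, 33, 23, 24, 25, 26, 28, 30, 31, 2, 4, 5, 6, 9, 10, 13, 14, 15, 16, 20, 21, 22, 0] (gZ 2) [39, 42, 33, 36, 42, 37, 38, 23, 27, 28, 29, 30, 31, 32, 4, 6, 7, 9, 10, 12, 13, 14, 15, 16, 20, 21, 22, 0] = true := by decide +kernel
theorem zr1_2_0 : DZ 43 [43, 33, 43] (gZ 1) (gZ 2) := dz1 zr1_2_0a
theorem zb0 : chkT 0 2048 524288 (cjw (gZ 0) 0) = true := by decide +kernel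
end
end CfsgH5.BE
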