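import Cfsg.Agent.H5.BZg
/-! Baby Monster (helper5): relations (generated). -/
set_option Elab.async false
set_option linter.all false
namespace CfsgH5.BE
noncomputable section
theorem zr9_2_0a : cZa 43 [33, 43] (gZ 9) [37, 25, 41, 23, 43, 33, 43, 37, 33, 40, 41, 35, 37, 33, 23, 25, 27, 28, 2, 3, 4, 5, 6, 7, 9, 11, 13, 14, 20, 0] (gZ 7) [40, 39, 25, 43, 36, 39, 38, 33, 36, 40, 33, 23, 24, 25, 27, 28, 29, 30, 32, 1, 2, 5, 6, 9, 11, 12, 14, 16, 17, 18, 20, 21, 22, 0] = true := by decide +kernel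
theorem zr9_2_0b : cZb 43 [33, 43] (gZ 9) [37, 25, 41, 23, 43, 33, 43, 37, 33, 40, 41, 35, 37, 33, 23, 25, 27, 28, 2, 3, 4, 5, 6, 7, 9, 11, 13, 14, 20, 0] (gZ 7) [40, 39, 25, 43, 36, 39, 38, 33, 36, 40, 33, 23, 24, 25, 27, 28, 29, 30, 32, 1, 2, 5, 6, 9, 11, 12, 14, 16, 17, 18, 20, 21, 22, 0] = true := by decide +kernel
theorem zr9_2_0 : DZ 43 [33, 43] (gZ 9) (gZ 7) := dz2 zr9_2_0a zr9_2_0b
theorem zr6_8_0a : cZa 43 [37, 43, 33, 43] (gZ 6) [38, 35, 38, 43, 33, 34, 38, 36, 40, 33, 42, 23, 24, 26, 28, 29, 31, 1, 4, 9, 12, 14, 15, 17, 20, 21, 22] (gZ 9) [38, 35, 36, 35, 43, 34, 42, 40, 38, 33, 41, 36, 24, 26, 28, 31, 1, 5, 11, 13, 15, 20, 22] = true := by decide +kernel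
theorem zr6_8_0b : cZb 43 [37, 43, 33, 43] (gZ 6) [38, 35, 38, 43, 33, 34, 38, 36, 40, 33, 42, 23, 24, 26, 28, 29, 31, 1, 4, 9, 12, 14, 15, 17, 20, 21, 22] (gZ 9) [38, 35, 36, 35, 43, 34, 42, 40, 38, 33, 41, 36, 24, 26, 28, 31, 1, 5, 11, 13, 15, 20, 22] = true := by decide +kernel
theorem zr6_8_0 : DZ 43 [37, 43, 33, 43] (gZ 6) (gZ 9) := dz2 zr6_8_0a zr6_8_0b
theorem zr9_1_1a : cZa 43 ([43] ++ [1]) (gZ 9) [42, 39, 40, 23, 43, 33, 43, 39, 38, 33, 40, 41, 35, 33, 23, 24, 25, 26, 28, 29, 31, 1, 2, 7, 12, 13, 14, 15, 16, 17, 18, 19, 21, 22] (gZ 6) [36, 41, 38, 42, 37, 36, 24, 25, 31, 4, 6, 8, 9, 10, 12, 14, 15, 17, 21, 0] = true := by decide +kernel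
theorem zr9_1_1b : cZb 43 ([43] ++ [1]) (gZ 9) [42, 39, 40, 23, 43, 33, 43, 39, 38, 33, 40, 41, 35, 33, 23, 24, 25, 26, 28, 29, 31, 1, 2, 7, 12, 13, 14, 15, 16, 17, 18, 19, 21, 22] (gZ 6) [36, 41, 38, 42, 37, 36, 24, 25, 31, 4, 6, 8, 9, 10, 12, 14, 15, 17, 21, 0] = true := by decide +kernel
theorem zr9_1_1 : DZ 43 ([43] ++ [1]) (gZ 9) (gZ 6) := dz2 zr9_1_1a zr9_1_1b
theorem zr4_8_0a : cZa 43 [37, 43, 37, 43, 33, 43] (gZ 4) [33, 42, 35, 43, 34, 42, 37, 38, 35, 25, 29, 31, 32, 2, 4, 5, 8, 11, 13, 17, 20, 22] (gZ 8) [34, 41, 33, 43, 41, 39, 35, 42, 41, 42, 36, 23, 26, 28, 30, 31, 32, 1, 2, 9, 10, 11, 18, 22, 0] = true := by decide +kernel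
theorem zr4_8_0b : cZb 43 [37, 43, 37, 43, 33, 43] (gZ 4) [33, 42, 35, 43, 34, 42, 37, 38, 35, 25, 29, 31, 32, 2, 4, 5, 8, 11, 13, 17, 20, 22] (gZ 8) [34, 41, 33, 43, 41, 39, 35, 42, 41, 42, 36, 23, 26, 28, 30, 31, 32, 1, 2, 9, 10, 11, 18, 22, 0] = true := by decide +kernel
theorem zr4_8_0 : DZ 43 [37, 43, 37, 43, 33, 43] (gZ 4) (gZ 8) := dz2 zr4_8_0a zr4_8_0b
theorem zr6_4_1a : cZa 43 ([37, 43] ++ [1]) (gZ 6) [43, 42, 39, 36, 34, 38, 40, 23, 24, 27, 28, 29, 32, 1, 2, 3, 9, 11, 15, 17, 19, 22] (gZ 5) [35, 39, 35, 43, 36, 41, 40, 41, 33, 36, 23, 24, 28, 29, 30, 32, 1, 2, 4, 6, 7, 8, 9, 11, 13, 15, 16, 17, 18, 19, 20, 0] = true := by decide +kernel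
theorem zr6_4_1b : cZb 43 ([37, 43] ++ [1]) (gZ 6) [43, 42, 39, 36, 34, 38, 40, 23, 24, 27, 28, 29, 32, 1, 2, 3, 9, 11, 15, 17, 19, 22] (gZ 5) [35, 39, 35, 43, 36, 41, 40, 41, 33, 36, 23, 24, 28, 29, 30, 32, 1, 2, 4, 6, 7, 8, 9, 11, 13, 15, 16, 17, 18, 19, 20, 0] = true := by decide +kernel
theorem zr6_4_1 : DZ 43 ([37, 43] ++ [1]) (gZ 6) (gZ 5) := dz2 zr6_4_1a zr6_4_1b
theorem zr5_3_1a : cZa 43 ([41, 43] ++ [1]) (gZ 5) [43, 42, 35, 36, 35, 34, 33, 26, 27, 28, 29, 30, 32, 1, 4, 7, 8, 10, 14, 15, 17, 22, 0] (gZ 5) [42, 35, 36, 41, 34, 35, 33, 25, 26, 27, 31, 2, 4, 5, 6, 8, 10, 12, 15, 16, 18, 20] = true := by decide +kernel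
theorem zr5_3_1b : cZb 43 ([41, 43] ++ [1]) (gZ 5) [43, 42, 35, 36, 35, 34, 33, 26, 27, 28, 29, 30, 32, 1, 4, 7, 8, 10, 14, 15, 17, 22, 0] (gZ 5) [42, 35, 36, 41, 34, 35, 33, 25, 26, 27, 31, 2, 4, 5, 6, 8, 10, 12, 15, 16, 18, 20] = true := by decide +kernel
theorem zr5_3_1 : DZ 43 ([41, 43] ++ [1]) (gZ 5) (gZ 5) := dz2 zr5_3_1a zr5_3_1b
theorem zr4_3_1a : cZa 43 ([43, 33, 43] ++ [1]) (gZ 4) [25, 43, 35, 40, 38, 34, 42, 40, 36, 24, 28, 29, 30, 1, 2, 5, 7, 9, 12, 15, 17, 19, 20, 22] (gZ 6) [36, 41, 34, 33, 39, 36, 33, 23, 25, 26, 27, 29, 2, 4, 6, 7, 8, 9, 10, 12, 16, 17, 18, 19, 20, 21, 22, 0] = true := by decide +kernel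
theorem zr4_3_1b : cZb 43 ([43, 33, 43] ++ [1]) (gZ 4) [25, 43, 35, 40, 38, 34, 42, 40, 36, 24, 28, 29, 30, 1, 2, 5, 7, 9, 12, 15, 17, 19, 20, 22] (gZ 6) [36, 41, 34, 33, 39, 36, 33, 23, 25, 26, 27, 29, 2, 4, 6, 7, 8, 9, 10, 12, 16, 17, 18, 19, 20, 21, 22, 0] = true := by decide +kernel
theorem zr4_3_1 : DZ 43 ([43, 33, 43] ++ [1]) (gZ 4) (gZ 6) := dz2 zr4_3_1a zr4_3_1b
theorem zr2_4_0a : cZ 43 [35, 43, 33, 43] (gZ 2) [38, 40, 36, 34, 35, 42, 23, 24, 26, 27, 32, 6, 8, 9, 10, 11, 12, 15, 16, 17, 20, 0] (gZ 5) [37, 38, 33, 35, 40, 42, 36, 23, 24, 25, 27, 28, 29, 30, 3, 4, 10, 14, 21] = true := by decide +kernel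
theorem zr2_4_0 : DZ 43 [35, 43, 33, 43] (gZ 2) (gZ 5) := dz1 zr2_4_0a
theorem zr4_1_1a : cZ 43 ([43] ++ [1]) (gZ 4) [43, 40, 42, 38, 42, 34, 41, 24, 28, 29, 30, 1, 2, 5, 7, 8, 9, 10, 11, 13, 15, 19, 20, 21] (gZ 2) [33, 36, 40, 36, 41, 40, 23, 24, 25, 26, 28, 29, 30, 32, 2, 3, 5, 8, 9, 16, 17, 19, 22, 0] = true := by decide +kernel
theorem zr4_1_1 : DZ 43 ([43] ++ [1]) (gZ 4) (gZ 2) := dz1 zr4_1_1a
theorem zt3_1a : cT 43 [40, 25, 43, 42, 39, 38, 33, 42, 23, 24, 27, 28, 30, 2, 5, 7, 8, 11, 12, 13, 14, 17, 19, 21, 22] (gZ 3) [40, 25, 43, 36, 33, 42, 40, 39, 33, 36, 23, 27, 28, 30, 2, 3, 5, 9, 10, 11, 12, 13, 14, 16, 19, 21] = true := by decide +kernel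
theorem zt3_1 : TZ 43 [40, 25, 43, 42, 39, 38, 33, 42, 23, 24, 27, 28, 30, 2, 5, 7, 8, 11, 12, 13, 14, 17, 19, 21, 22] (gZ 3) := tz1 zt3_1a
theorem zt2_0a : cT 43 [33, 34, 41, 42, 34, 42, 35, 24, 27, 29, 30, 2, 5, 7, 9, 11, 12, 14, 16, 18, 20, 0] (gZ 2) [36, 37, 35, 36, 40, 39, 24, 27, 28, 29, 30, 32, 2, 9, 11, 12, 13, 14, 16, 18, 20, 0] = true := by decide +kernel
theorem zt2_0 : TZ 43 [33, 34, 41, 42, 34, 42, 35, 24, 27, 29, 30, 2, 5, 7, 9, 11, 12, 14, 16, 18, 20, 0] (gZ 2) := tz1 zt2_0a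
theorem za6 : chkT 4304 23 12416 (cjw (gZ 6) 0) = true := by decide +kernel
end
end CfsgH5.BE
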