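import Cfsg.Agent.H5.BZg
/-! Baby Monster (helper5): relations (generated). -/
set_option Elab.async false
set_option linter.all false
namespace CfsgH5.BE
noncomputable section
theorem zr9_4_0a : cZa 43 [34, 25, 43, 33, 43] (gZ 9) [27, 25, 43, 33, 43, 34, 35, 37, 39, 42, 33, 37, 25, 27, 28, 29, 30, 31, 2, 5, 6, 10, 11, 12, 16, 18, 22, 0] (gZ 9) [38, 34, 35, 39, 37, 41, 23, 24, 27, 28, 30, 31, 32, 3, 4, 7, 8, 14, 16, 19, 22] = true := by decide +kernel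
theorem zr9_4_0b : cZb 43 [34, 25, 43, 33, 43] (gZ 9) [27, 25, 43, 33, 43, 34, 35, 37, 39, 42, 33, 37, 25, 27, 28, 29, 30, 31, 2, 5, 6, 10, 11, 12, 16, 18, 22, 0] (gZ 9) [38, 34, 35, 39, 37, 41, 23, 24, 27, 28, 30, 31, 32, 3, 4, 7, 8, 14, 16, 19, 22] = true := by decide +kernel
theorem zr9_4_0 : DZ 43 [34, 25, 43, 33, 43] (gZ 9) (gZ 9) := dz2 zr9_4_0a zr9_4_0b
theorem zr6_11_1a : cZa 43 ([36, 43, 35, 43] ++ [1]) (gZ 6) [40, 25, 43, 33, 39, 42, 35, 41, 37, 36, 24, 25, 30, 2, 3, 4, 5, 7, 8, 9, 10, 11, 13, 17, 18, 19, 22] (gZ 7) [41, 39, 25, 43, 37, 40, 34, 35, 38, 37, 23, 24, 25, 26, 27, 29, 30, 31, 32, 2, 3, 9, 10, 11, 13, 15, 16, 17, 19, 22] = true := by decide +kernel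
theorem zr6_11_1b : cZb 43 ([36, 43, 35, 43] ++ [1]) (gZ 6) [40, 25, 43, 33, 39, 42, 35, 41, 37, 36, 24, 25, 30, 2, 3, 4, 5, 7, 8, 9, 10, 11, 13, 17, 18, 19, 22] (gZ 7) [41, 39, 25, 43, 37, 40, 34, 35, 38, 37, 23, 24, 25, 26, 27, 29, 30, 31, 32, 2, 3, 9, 10, 11, 13, 15, 16, 17, 19, 22] = true := by decide +kernel
theorem zr6_11_1 : DZ 43 ([36, 43, 35, 43] ++ [1]) (gZ 6) (gZ 7) := dz2 zr6_11_1a zr6_11_1b
theorem zr7_1_0a : cZa 43 [43] (gZ 7) [25, 43, 42, 39, 36, 35, 41, 35, 36, 23, 24, 26, 28, 29, 32, 1, 4, 8, 9, 10, 11, 13, 14, 15, 16, 18, 20, 22] (gZ 7) [36, 39, 38, 33, 42, 33, 34, 23, 24, 25, 26, 27, 28, 29, 30, 31, 32, 2, 5, 6, 9, 10, 11, 12, 13, 19, 22, 0] = true := by decide +kernel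
theorem zr7_1_0b : cZb 43 [43] (gZ 7) [25, 43, 42, 39, 36, 35, 41, 35, 36, 23, 24, 26, 28, 29, 32, 1, 4, 8, 9, 10, 11, 13, 14, 15, 16, 18, 20, 22] (gZ 7) [36, 39, 38, 33, 42, 33, 34, 23, 24, 25, 26, 27, 28, 29, 30, 31, 32, 2, 5, 6, 9, 10, 11, 12, 13, 19, 22, 0] = true := by decide +kernel
theorem zr7_1_0 : DZ 43 [43] (gZ 7) (gZ 7) := dz2 zr7_1_0a zr7_1_0b
theorem zr5_4_0a : cZa 43 [35, 43, 33, 43] (gZ 5) [38, 37, 41, 34, 42, 37, 23, 25, 27, 28, 2, 4, 5, 9, 10, 11, 12, 13, 15, 21, 22, 0] (gZ 9) [42, 37, 34, 41, 37, 38, 26, 28, 30, 31, 32, 2, 6, 7, 8, 10, 11, 12, 13, 14, 18, 19, 20, 21, 0] = true := by decide +kernel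
theorem zr5_4_0b : cZb 43 [35, 43, 33, 43] (gZ 5) [38, 37, 41, 34, 42, 37, 23, 25, 27, 28, 2, 4, 5, 9, 10, 11, 12, 13, 15, 21, 22, 0] (gZ 9) [42, 37, 34, 41, 37, 38, 26, 28, 30, 31, 32, 2, 6, 7, 8, 10, 11, 12, 13, 14, 18, 19, 20, 21, 0] = true := by decide +kernel
theorem zr5_4_0 : DZ 43 [35, 43, 33, 43] (gZ 5) (gZ 9) := dz2 zr5_4_0a zr5_4_0b
theorem zr5_1_1a : cZa 43 ([33, 43] ++ [1]) (gZ 5) [35, 40, 35, 43, 38, 42, 35, 34, 33, 40, 23, 24, 26, 27, 28, 31, 32, 1, 3, 4, 5, 6, 9, 10, 14, 18, 20, 0] (gZ 6) [39, 37, 43, 42, 40, 36, 35, 42, 36, 23, 25, 27, 29, 32, 3, 4, 5, 7, 11, 14, 17, 18, 22, 0] = true := by decide +kernel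
theorem zr5_1_1b : cZb 43 ([33, 43] ++ [1]) (gZ 5) [35, 40, 35, 43, 38, 42, 35, 34, 33, 40, 23, 24, 26, 27, 28, 31, 32, 1, 3, 4, 5, 6, 9, 10, 14, 18, 20, 0] (gZ 6) [39, 37, 43, 42, 40, 36, 35, 42, 36, 23, 25, 27, 29, 32, 3, 4, 5, 7, 11, 14, 17, 18, 22, 0] = true := by decide +kernel
theorem zr5_1_1 : DZ 43 ([33, 43] ++ [1]) (gZ 5) (gZ 6) := dz2 zr5_1_1a zr5_1_1b
theorem zr5_1_0a : cZa 43 [33, 43] (gZ 5) [25, 43, 35, 40, 41, 38, 42, 34, 26, 28, 32, 1, 2, 3, 6, 11, 12, 15, 18, 19, 20, 21, 22, 0] (gZ 6) [37, 36, 42, 33, 38, 36, 23, 24, 25, 27, 29, 31, 32, 5, 6, 7, 10, 11, 13, 14, 16, 17, 18, 22, 0] = true := by decide +kernel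
theorem zr5_1_0b : cZb 43 [33, 43] (gZ 5) [25, 43, 35, 40, 41, 38, 42, 34, 26, 28, 32, 1, 2, 3, 6, 11, 12, 15, 18, 19, 20, 21, 22, 0] (gZ 6) [37, 36, 42, 33, 38, 36, 23, 24, 25, 27, 29, 31, 32, 5, 6, 7, 10, 11, 13, 14, 16, 17, 18, 22, 0] = true := by decide +kernel
theorem zr5_1_0 : DZ 43 [33, 43] (gZ 5) (gZ 6) := dz2 zr5_1_0a zr5_1_0b
theorem zr4_5_1a : cZa 43 ([37, 43, 33, 43] ++ [1]) (gZ 4) [35, 40, 35, 43, 34, 42, 41, 39, 35, 34, 25, 27, 29, 30, 1, 4, 6, 7, 8, 9, 10, 11, 12, 14, 16, 19] (gZ 5) [39, 42, 33, 34, 35, 41, 33, 24, 28, 30, 31, 32, 2, 3, 6, 9, 10, 11, 13, 14, 15, 17, 20] = true := by decide +kernel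
theorem zr4_5_1b : cZb 43 ([37, 43, 33, 43] ++ [1]) (gZ 4) [35, 40, 35, 43, 34, 42, 41, 39, 35, 34, 25, 27, 29, 30, 1, 4, 6, 7, 8, 9, 10, 11, 12, 14, 16, 19] (gZ 5) [39, 42, 33, 34, 35, 41, 33, 24, 28, 30, 31, 32, 2, 3, 6, 9, 10, 11, 13, 14, 15, 17, 20] = true := by decide +kernel
theorem zr4_5_1 : DZ 43 ([37, 43, 33, 43] ++ [1]) (gZ 4) (gZ 5) := dz2 zr4_5_1a zr4_5_1b
theorem zt5_0a : cT 43 [37, 39, 36, 33, 36, 39, 37, 25, 28, 29, 31, 2, 3, 5, 10, 11, 14, 17, 19, 20] (gZ 5) [40, 41, 39, 40, 37, 38, 23, 24, 26, 29, 31, 32, 2, 3, 4, 5, 6, 7, 10, 11, 16, 18, 21, 0] = true := by decide +kernel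
theorem zt5_0 : TZ 43 [37, 39, 36, 33, 36, 39, 37, 25, 28, 29, 31, 2, 3, 5, 10, 11, 14, 17, 19, 20] (gZ 5) := tz1 zt5_0a
theorem zr6_0_0a : cZ 43 [] (gZ 6) [43, 33, 43, 35, 42, 35, 39, 40, 39, 33, 23, 24, 25, 26, 31, 3, 5, 6, 8, 9, 10, 11, 12, 16, 18, 19, 21, 22, 0] (gZ 2) [38, 35, 36, 42, 40, 36, 25, 26, 28, 32, 5, 6, 8, 10, 14, 16, 19, 20, 22, 0] = true := by decide +kernel
theorem zr6_0_0 : DZ 43 [] (gZ 6) (gZ 2) := dz1 zr6_0_0a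
theorem zt4_1a : cT 43 [35, 38, 41, 37, 39, 38, 34, 23, 24, 28, 29, 31, 2, 6, 7, 8, 17, 20, 21, 22] (gZ 4) [36, 37, 38, 40, 35, 36, 33, 23, 26, 27, 28, 30, 31, 3, 5, 7, 8, 9, 11, 13, 14, 17, 18, 19, 0] = true := by decide +kernel
theorem zt4_1 : TZ 43 [35, 38, 41, 37, 39, 38, 34, 23, 24, 28, 29, 31, 2, 6, 7, 8, 17, 20, 21, 22] (gZ 4) := tz1 zt4_1a
theorem zt3_0a : cT 43 [35, 37, 38, 37, 34, 36, 26, 29, 30, 3, 4, 5, 7, 11, 13, 14, 17, 19, 21, 22] (gZ 3) [38, 33, 36, 35, 38, 33, 36, 24, 25, 26, 28, 29, 30, 2, 4, 6, 7, 8, 9, 12, 14, 15, 18, 21, 22] = true := by decide +kernel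
theorem zt3_0 : TZ 43 [35, 37, 38, 37, 34, 36, 26, 29, 30, 3, 4, 5, 7, 11, 13, 14, 17, 19, 21, 22] (gZ 3) := tz1 zt3_0a
theorem za4 : chkT 4304 23 12032 (cjw (gZ 4) 0) = true := by decide +kernel
theorem zt0_0a : cTt 43 [43, 33, 24] (gZ 0) [43, 33, 24] = true := by decide +kernel
theorem zt0_0 : TZ 43 [43, 33, 24] (gZ 0) := tzt zt0_0a
theorem zt0_1a : cTt 43 [34, 35, 41] (gZ 0) [34, 35, 41] = true := by decide +kernel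
theorem zt0_1 : TZ 43 [34, 35, 41] (gZ 0) := tzt zt0_1a
theorem zt0_2a : cTt 43 [36, 43, 25, 40] (gZ 0) [36, 43, 25, 40] = true := by decide +kernel
theorem zt0_2 : TZ 43 [36, 43, 25, 40] (gZ 0) := tzt zt0_2a
theorem zr0_0_0a : cZt 43 [] (gZ 0) [] (gZ 1) [] = true := by decide +kernel
theorem zr0_0_0 : DZ 43 [] (gZ 0) (gZ 1) := dzt zr0_0_0a
theorem zr1_0_0a : cZt 43 [] (gZ 1) [] (gZ 0) [] = true := by decide +kernel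
theorem zr1_0_0 : DZ 43 [] (gZ 1) (gZ 0) := dzt zr1_0_0a
theorem zr3_0_0a : cZt 43 [] (gZ 3) [43, 35, 43] (gZ 1) [] = true := by decide +kernel
theorem zr3_0_0 : DZ 43 [] (gZ 3) (gZ 1) := dzt zr3_0_0a
end
end CfsgH5.BE
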