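import Cfsg.Agent.H5.BZg
/-! Baby Monster (helper5): relations (generated). -/
set_option Elab.async false
set_option linter.all false
namespace CfsgH5.BE
noncomputable section
theorem zr9_4_1a : cZa 43 ([34, 25, 43, 33, 43] ++ [1]) (gZ 9) [33, 27, 33, 43, 33, 43, 39, 42, 34, 42, 33, 40, 39, 23, 26, 28, 29, 30, 31, 1, 2, 4, 5, 6, 9, 13, 14, 15, 21, 22, 0] (gZ 8) [40, 37, 39, 42, 36, 35, 33, 25, 27, 28, 30, 31, 32, 6, 10, 11, 13, 14, 15, 16, 17, 18, 20, 22, 0] = true := by decide +kernel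
theorem zr9_4_1b : cZb 43 ([34, 25, 43, 33, 43] ++ [1]) (gZ 9) [33, 27, 33, 43, 33, 43, 39, 42, 34, 42, 33, 40, 39, 23, 26, 28, 29, 30, 31, 1, 2, 4, 5, 6, 9, 13, 14, 15, 21, 22, 0] (gZ 8) [40, 37, 39, 42, 36, 35, 33, 25, 27, 28, 30, 31, 32, 6, 10, 11, 13, 14, 15, 16, 17, 18, 20, 22, 0] = true := by decide +kernel
theorem zr9_4_1 : DZ 43 ([34, 25, 43, 33, 43] ++ [1]) (gZ 9) (gZ 8) := dz2 zr9_4_1a zr9_4_1b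
theorem zt9_1a : cTa 43 [40, 39, 43, 42, 37, 36, 42, 38, 37, 34, 23, 28, 29, 30, 31, 32, 4, 5, 7, 9, 11, 12, 13, 16, 17, 21, 22] (gZ 9) [40, 39, 43, 42, 37, 36, 42, 38, 37, 34, 23, 28, 29, 30, 31, 32, 4, 5, 7, 9, 11, 12, 13, 16, 17, 21, 22] = true := by decide +kernel
theorem zt9_1b : cTb [40, 39, 43, 42, 37, 36, 42, 38, 37, 34, 23, 28, 29, 30, 31, 32, 4, 5, 7, 9, 11, 12, 13, 16, 17, 21, 22] (gZ 9) [40, 39, 43, 42, 37, 36, 42, 38, 37, 34, 23, 28, 29, 30, 31, 32, 4, 5, 7, 9, 11, 12, 13, 16, 17, 21, 22] = true := by decide +kernel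
theorem zt9_1 : TZ 43 [40, 39, 43, 42, 37, 36, 42, 38, 37, 34, 23, 28, 29, 30, 31, 32, 4, 5, 7, 9, 11, 12, 13, 16, 17, 21, 22] (gZ 9) := tz2 zt9_1a zt9_1b
theorem zr7_3_1a : cZa 43 ([35, 43] ++ [1]) (gZ 7) [39, 36, 27, 41, 43, 33, 43, 41, 39, 35, 37, 34, 35, 33, 24, 30, 31, 1, 3, 4, 6, 7, 10, 11, 13, 15, 16, 18, 20, 22] (gZ 6) [39, 37, 43, 42, 39, 35, 33, 41, 37, 27, 30, 31, 4, 5, 7, 8, 10, 11, 13, 14, 15, 20] = true := by decide +kernel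
theorem zr7_3_1b : cZb 43 ([35, 43] ++ [1]) (gZ 7) [39, 36, 27, 41, 43, 33, 43, 41, 39, 35, 37, 34, 35, 33, 24, 30, 31, 1, 3, 4, 6, 7, 10, 11, 13, 15, 16, 18, 20, 22] (gZ 6) [39, 37, 43, 42, 39, 35, 33, 41, 37, 27, 30, 31, 4, 5, 7, 8, 10, 11, 13, 14, 15, 20] = true := by decide +kernel
theorem zr7_3_1 : DZ 43 ([35, 43] ++ [1]) (gZ 7) (gZ 6) := dz2 zr7_3_1a zr7_3_1b
theorem zt7_1a : cTa 43 [41, 39, 36, 43, 41, 37, 36, 35, 37, 34, 25, 27, 28, 29, 30, 32, 2, 3, 4, 5, 9, 13, 14, 15, 16, 18, 19, 21, 22, 0] (gZ 7) [36, 41, 43, 39, 36, 40, 35, 37, 34, 35, 25, 27, 29, 31, 6, 7, 13, 18, 19, 22] = true := by decide +kernel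
theorem zt7_1b : cTb [41, 39, 36, 43, 41, 37, 36, 35, 37, 34, 25, 27, 28, 29, 30, 32, 2, 3, 4, 5, 9, 13, 14, 15, 16, 18, 19, 21, 22, 0] (gZ 7) [36, 41, 43, 39, 36, 40, 35, 37, 34, 35, 25, 27, 29, 31, 6, 7, 13, 18, 19, 22] = true := by decide +kernel
theorem zt7_1 : TZ 43 [41, 39, 36, 43, 41, 37, 36, 35, 37, 34, 25, 27, 28, 29, 30, 32, 2, 3, 4, 5, 9, 13, 14, 15, 16, 18, 19, 21, 22, 0] (gZ 7) := tz2 zt7_1a zt7_1b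
theorem zr7_0_1a : cZa 43 ([] ++ [1]) (gZ 7) [34, 36, 35, 37, 41, 38, 24, 25, 26, 27, 30, 1, 2, 4, 5, 6, 9, 12, 14, 15, 16, 19, 20] (gZ 7) [35, 37, 39, 38, 40, 39, 33, 25, 26, 27, 28, 29, 7, 8, 9, 10, 12, 13, 17, 0] = true := by decide +kernel
theorem zr7_0_1b : cZb 43 ([] ++ [1]) (gZ 7) [34, 36, 35, 37, 41, 38, 24, 25, 26, 27, 30, 1, 2, 4, 5, 6, 9, 12, 14, 15, 16, 19, 20] (gZ 7) [35, 37, 39, 38, 40, 39, 33, 25, 26, 27, 28, 29, 7, 8, 9, 10, 12, 13, 17, 0] = true := by decide +kernel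
theorem zr7_0_1 : DZ 43 ([] ++ [1]) (gZ 7) (gZ 7) := dz2 zr7_0_1a zr7_0_1b
theorem zr6_2_0a : cZa 43 [35, 43] (gZ 6) [33, 42, 35, 43, 40, 38, 37, 35, 38, 34, 25, 27, 28, 30, 1, 2, 5, 6, 10, 11, 13, 14, 16, 17, 18, 19, 21] (gZ 6) [35, 38, 35, 37, 35, 42, 23, 24, 28, 32, 5, 6, 8, 9, 13, 15, 17, 19, 0] = true := by decide +kernel
theorem zr6_2_0b : cZb 43 [35, 43] (gZ 6) [33, 42, 35, 43, 40, 38, 37, 35, 38, 34, 25, 27, 28, 30, 1, 2, 5, 6, 10, 11, 13, 14, 16, 17, 18, 19, 21] (gZ 6) [35, 38, 35, 37, 35, 42, 23, 24, 28, 32, 5, 6, 8, 9, 13, 15, 17, 19, 0] = true := by decide +kernel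
theorem zr6_2_0 : DZ 43 [35, 43] (gZ 6) (gZ 6) := dz2 zr6_2_0a zr6_2_0b
theorem zr7_0_0a : cZa 43 [] (gZ 7) [38, 33, 41, 23, 43, 37, 43, 33, 43, 42, 35, 34, 37, 33, 23, 25, 27, 28, 30, 32, 2, 5, 7, 8, 9, 13, 22] (gZ 4) [40, 33, 35, 36, 40, 38, 34, 24, 25, 28, 31, 32, 3, 4, 5, 7, 11, 15, 16, 17, 19, 22] = true := by decide +kernel
theorem zr7_0_0b : cZb 43 [] (gZ 7) [38, 33, 41, 23, 43, 37, 43, 33, 43, 42, 35, 34, 37, 33, 23, 25, 27, 28, 30, 32, 2, 5, 7, 8, 9, 13, 22] (gZ 4) [40, 33, 35, 36, 40, 38, 34, 24, 25, 28, 31, 32, 3, 4, 5, 7, 11, 15, 16, 17, 19, 22] = true := by decide +kernel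
theorem zr7_0_0 : DZ 43 [] (gZ 7) (gZ 4) := dz2 zr7_0_0a zr7_0_0b
theorem zr6_0_1a : cZa 43 ([] ++ [1]) (gZ 6) [34, 35, 36, 35, 38, 41, 34, 23, 24, 27, 29, 1, 3, 5, 7, 11, 12, 16, 17, 18, 19, 20, 21, 22] (gZ 6) [35, 34, 39, 33, 34, 36, 35, 23, 27, 30, 31, 32, 3, 6, 7, 8, 12, 13, 18, 19, 20, 21] = true := by decide +kernel
theorem zr6_0_1b : cZb 43 ([] ++ [1]) (gZ 6) [34, 35, 36, 35, 38, 41, 34, 23, 24, 27, 29, 1, 3, 5, 7, 11, 12, 16, 17, 18, 19, 20, 21, 22] (gZ 6) [35, 34, 39, 33, 34, 36, 35, 23, 27, 30, 31, 32, 3, 6, 7, 8, 12, 13, 18, 19, 20, 21] = true := by decide +kernel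
theorem zr6_0_1 : DZ 43 ([] ++ [1]) (gZ 6) (gZ 6) := dz2 zr6_0_1a zr6_0_1b
theorem zr3_1_0a : cZ 43 [33, 43] (gZ 3) [25, 43, 39, 37, 36, 37, 35, 37, 24, 26, 30, 31, 1, 2, 3, 4, 6, 9, 10, 11, 13, 14, 15, 16, 19, 22] (gZ 2) [34, 33, 42, 38, 37, 34, 36, 23, 24, 25, 32, 5, 7, 11, 14, 17, 20, 21, 22, 0] = true := by decide +kernel
theorem zr3_1_0 : DZ 43 [33, 43] (gZ 3) (gZ 2) := dz1 zr3_1_0a
theorem zr1_4_0a : cZ 43 [43, 37, 43, 33, 43] (gZ 1) [38, 41, 40, 36, 37, 35, 38, 24, 26, 27, 29, 32, 2, 4, 6, 7, 8, 10, 13, 15, 17, 19, 20, 21, 22] (gZ 4) [33, 38, 33, 34, 35, 37, 36, 23, 24, 25, 26, 28, 4, 5, 6, 16, 17, 19] = true := by decide +kernel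
theorem zr1_4_0 : DZ 43 [43, 37, 43, 33, 43] (gZ 1) (gZ 4) := dz1 zr1_4_0a
theorem za9 : chkT 4304 23 12064 (cjw (gZ 9) 0) = true := by decide +kernel
theorem za3 : chkT 4304 23 9472 (cjw (gZ 3) 0) = true := by decide +kernel
end
end CfsgH5.BE
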