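import Cfsg.Agent.H5.BZg
/-! Baby Monster (helper5): relations (generated). -/
set_option Elab.async false
set_option linter.all false
namespace CfsgH5.BE
noncomputable section
theorem zr7_6_0a : cZa 43 [37, 43, 33, 43] (gZ 7) [30, 25, 24, 43, 33, 43, 40, 42, 34, 36, 39, 40, 33, 23, 29, 30, 1, 2, 3, 8, 9, 10, 11, 15, 16, 17, 19, 20, 0] (gZ 7) [41, 42, 40, 33, 25, 43, 35, 38, 36, 41, 34, 42, 34, 25, 26, 27, 28, 30, 32, 2, 4, 5, 7, 10, 11, 12, 13, 14, 15, 22] = true := by decide +kernel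
theorem zr7_6_0b : cZb 43 [37, 43, 33, 43] (gZ 7) [30, 25, 24, 43, 33, 43, 40, 42, 34, 36, 39, 40, 33, 23, 29, 30, 1, 2, 3, 8, 9, 10, 11, 15, 16, 17, 19, 20, 0] (gZ 7) [41, 42, 40, 33, 25, 43, 35, 38, 36, 41, 34, 42, 34, 25, 26, 27, 28, 30, 32, 2, 4, 5, 7, 10, 11, 12, 13, 14, 15, 22] = true := by decide +kernel
theorem zr7_6_0 : DZ 43 [37, 43, 33, 43] (gZ 7) (gZ 7) := dz2 zr7_6_0a zr7_6_0b
theorem zt9_0a : cTa 43 [34, 33, 38, 25, 43, 36, 35, 41, 34, 33, 41, 35, 33, 28, 30, 32, 1, 2, 7, 8, 9, 10, 11, 12, 13, 15, 20, 21, 22, 0] (gZ 9) [34, 33, 38, 25, 43, 36, 35, 41, 34, 33, 41, 35, 33, 28, 30, 32, 1, 2, 7, 8, 9, 10, 11, 12, 13, 15, 20, 21, 22, 0] = true := by decide +kernel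
theorem zt9_0b : cTb [34, 33, 38, 25, 43, 36, 35, 41, 34, 33, 41, 35, 33, 28, 30, 32, 1, 2, 7, 8, 9, 10, 11, 12, 13, 15, 20, 21, 22, 0] (gZ 9) [34, 33, 38, 25, 43, 36, 35, 41, 34, 33, 41, 35, 33, 28, 30, 32, 1, 2, 7, 8, 9, 10, 11, 12, 13, 15, 20, 21, 22, 0] = true := by decide +kernel
theorem zt9_0 : TZ 43 [34, 33, 38, 25, 43, 36, 35, 41, 34, 33, 41, 35, 33, 28, 30, 32, 1, 2, 7, 8, 9, 10, 11, 12, 13, 15, 20, 21, 22, 0] (gZ 9) := tz2 zt9_0a zt9_0b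
theorem zt8_1a : cTa 43 [36, 41, 33, 25, 43, 34, 36, 41, 35, 38, 35, 37, 23, 24, 28, 1, 2, 4, 7, 8, 11, 15, 16, 17, 18, 19, 21, 22, 0] (gZ 8) [34, 35, 41, 43, 42, 38, 36, 42, 36, 41, 39, 27, 28, 30, 32, 1, 2, 3, 5, 9, 10, 11, 14, 16, 18, 19, 0] = true := by decide +kernel
theorem zt8_1b : cTb [36, 41, 33, 25, 43, 34, 36, 41, 35, 38, 35, 37, 23, 24, 28, 1, 2, 4, 7, 8, 11, 15, 16, 17, 18, 19, 21, 22, 0] (gZ 8) [34, 35, 41, 43, 42, 38, 36, 42, 36, 41, 39, 27, 28, 30, 32, 1, 2, 3, 5, 9, 10, 11, 14, 16, 18, 19, 0] = true := by decide +kernel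
theorem zt8_1 : TZ 43 [36, 41, 33, 25, 43, 34, 36, 41, 35, 38, 35, 37, 23, 24, 28, 1, 2, 4, 7, 8, 11, 15, 16, 17, 18, 19, 21, 22, 0] (gZ 8) := tz2 zt8_1a zt8_1b
theorem zr6_7_1a : cZa 43 ([36, 43, 33, 43] ++ [1]) (gZ 6) [39, 35, 37, 25, 43, 36, 37, 41, 33, 40, 34, 36, 23, 24, 28, 30, 3, 5, 6, 7, 9, 10, 11, 12, 15, 16, 17, 18, 0] (gZ 7) [34, 37, 38, 42, 37, 39, 35, 33, 25, 27, 2, 3, 5, 6, 7, 10, 12, 15, 21, 0] = true := by decide +kernel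
theorem zr6_7_1b : cZb 43 ([36, 43, 33, 43] ++ [1]) (gZ 6) [39, 35, 37, 25, 43, 36, 37, 41, 33, 40, 34, 36, 23, 24, 28, 30, 3, 5, 6, 7, 9, 10, 11, 12, 15, 16, 17, 18, 0] (gZ 7) [34, 37, 38, 42, 37, 39, 35, 33, 25, 27, 2, 3, 5, 6, 7, 10, 12, 15, 21, 0] = true := by decide +kernel
theorem zr6_7_1 : DZ 43 ([36, 43, 33, 43] ++ [1]) (gZ 6) (gZ 7) := dz2 zr6_7_1a zr6_7_1b
theorem zr9_0_0a : cZa 43 [] (gZ 9) [43, 33, 43, 34, 39, 36, 40, 34, 37, 26, 27, 29, 30, 3, 4, 5, 6, 9, 11, 12, 13, 14, 15, 16, 17, 18, 21, 22] (gZ 5) [33, 35, 34, 37, 35, 34, 33, 23, 24, 25, 26, 2, 3, 7, 8, 9, 11, 12, 15, 17, 18, 20, 0] = true := by decide +kernel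
theorem zr9_0_0b : cZb 43 [] (gZ 9) [43, 33, 43, 34, 39, 36, 40, 34, 37, 26, 27, 29, 30, 3, 4, 5, 6, 9, 11, 12, 13, 14, 15, 16, 17, 18, 21, 22] (gZ 5) [33, 35, 34, 37, 35, 34, 33, 23, 24, 25, 26, 2, 3, 7, 8, 9, 11, 12, 15, 17, 18, 20, 0] = true := by decide +kernel
theorem zr9_0_0 : DZ 43 [] (gZ 9) (gZ 5) := dz2 zr9_0_0a zr9_0_0b
theorem zr6_5_1a : cZa 43 ([38, 43] ++ [1]) (gZ 6) [43, 40, 42, 35, 33, 37, 38, 35, 23, 25, 26, 27, 32, 1, 3, 4, 5, 7, 8, 11, 13, 15, 16, 17, 22, 0] (gZ 6) [33, 42, 35, 42, 33, 23, 24, 25, 27, 28, 29, 2, 5, 6, 8, 10, 12, 13, 14, 16, 19, 21, 0] = true := by decide +kernel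
theorem zr6_5_1b : cZb 43 ([38, 43] ++ [1]) (gZ 6) [43, 40, 42, 35, 33, 37, 38, 35, 23, 25, 26, 27, 32, 1, 3, 4, 5, 7, 8, 11, 13, 15, 16, 17, 22, 0] (gZ 6) [33, 42, 35, 42, 33, 23, 24, 25, 27, 28, 29, 2, 5, 6, 8, 10, 12, 13, 14, 16, 19, 21, 0] = true := by decide +kernel
theorem zr6_5_1 : DZ 43 ([38, 43] ++ [1]) (gZ 6) (gZ 6) := dz2 zr6_5_1a zr6_5_1b
theorem zr4_4_0a : cZa 43 [43, 35, 43] (gZ 4) [30, 27, 43, 35, 43, 35, 36, 41, 36, 39, 33, 42, 24, 26, 27, 29, 32, 3, 5, 6, 7, 8, 11, 12, 15] (gZ 4) [38, 36, 43, 34, 33, 42, 39, 40, 39, 35, 23, 25, 28, 30, 32, 1, 4, 5, 7, 9, 13, 14, 16, 17, 18, 20, 21, 0] = true := by decide +kernel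
theorem zr4_4_0b : cZb 43 [43, 35, 43] (gZ 4) [30, 27, 43, 35, 43, 35, 36, 41, 36, 39, 33, 42, 24, 26, 27, 29, 32, 3, 5, 6, 7, 8, 11, 12, 15] (gZ 4) [38, 36, 43, 34, 33, 42, 39, 40, 39, 35, 23, 25, 28, 30, 32, 1, 4, 5, 7, 9, 13, 14, 16, 17, 18, 20, 21, 0] = true := by decide +kernel
theorem zr4_4_0 : DZ 43 [43, 35, 43] (gZ 4) (gZ 4) := dz2 zr4_4_0a zr4_4_0b
theorem zr2_4_1a : cZ 43 ([35, 43, 33, 43] ++ [1]) (gZ 2) [36, 33, 42, 37, 36, 24, 25, 28, 31, 32, 4, 5, 10, 14, 15, 16, 17, 19, 20, 22, 0] (gZ 5) [37, 35, 42, 41, 33, 41, 36, 24, 26, 27, 29, 30, 31, 32, 2, 4, 5, 7, 12, 14, 18, 19, 21, 22, 0] = true := by decide +kernel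
theorem zr2_4_1 : DZ 43 ([35, 43, 33, 43] ++ [1]) (gZ 2) (gZ 5) := dz1 zr2_4_1a
theorem zr3_2_1a : cZ 43 ([37, 43] ++ [1]) (gZ 3) [43, 38, 33, 42, 41, 36, 39, 24, 26, 27, 29, 32, 1, 6, 8, 17, 18, 21, 0] (gZ 4) [36, 39, 37, 35, 34, 41, 39, 28, 30, 31, 32, 2, 3, 4, 7, 9, 10, 11, 14, 15, 16, 20] = true := by decide +kernel
theorem zr3_2_1 : DZ 43 ([37, 43] ++ [1]) (gZ 3) (gZ 4) := dz1 zr3_2_1a
theorem zr3_1_1a : cZ 43 ([33, 43] ++ [1]) (gZ 3) [43, 42, 38, 41, 40, 38, 40, 33, 32, 1, 2, 4, 5, 7, 9, 12, 13, 14, 15, 17, 18, 22] (gZ 2) [38, 40, 41, 35, 36, 33, 34, 33, 23, 24, 27, 28, 31, 32, 4, 8, 9, 10, 14, 15, 17, 18] = true := by decide +kernel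
theorem zr3_1_1 : DZ 43 ([33, 43] ++ [1]) (gZ 3) (gZ 2) := dz1 zr3_1_1a
theorem zr1_1_1a : cZ 43 ([43] ++ [1]) (gZ 1) [43, 1] (gZ 1) [43, 42, 39, 35, 36, 33, 41, 33, 28, 29, 32, 1, 3, 6, 7, 0] = true := by decide +kernel
theorem zr1_1_1 : DZ 43 ([43] ++ [1]) (gZ 1) (gZ 1) := dz1 zr1_1_1a
theorem zt1_1a : cT 43 [35, 37, 40, 42, 38, 37, 39, 23, 24, 27, 28, 29, 30, 31, 2, 3, 4, 7, 10, 12, 17, 20, 22, 0] (gZ 1) [35, 37, 40, 42, 38, 37, 39, 27, 30, 32, 2, 3, 6, 7, 10, 13, 14, 17, 18, 19, 20, 21] = true := by decide +kernel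
theorem zt1_1 : TZ 43 [35, 37, 40, 42, 38, 37, 39, 23, 24, 27, 28, 29, 30, 31, 2, 3, 4, 7, 10, 12, 17, 20, 22, 0] (gZ 1) := tz1 zt1_1a
end
end CfsgH5.BE
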