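import Cfsg.Agent.H5.BZg
/-! Baby Monster (helper5): relations (generated). -/
set_option Elab.async false
set_option linter.all false
namespace CfsgH5.BE
noncomputable section
theorem zr7_7_0a : cZa 43 [37, 43, 35, 43] (gZ 7) [41, 40, 36, 43, 34, 42, 38, 42, 36, 33, 34, 25, 27, 31, 32, 1, 2, 3, 5, 8, 9, 10, 11, 12, 13, 14, 17, 18, 20, 22, 0] (gZ 9) [33, 41, 43, 36, 42, 36, 35, 34, 38, 25, 27, 29, 30, 31, 32, 1, 2, 3, 7, 9, 12, 15, 16, 17, 19, 20] = true := by decide +kernel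
theorem zr7_7_0b : cZb 43 [37, 43, 35, 43] (gZ 7) [41, 40, 36, 43, 34, 42, 38, 42, 36, 33, 34, 25, 27, 31, 32, 1, 2, 3, 5, 8, 9, 10, 11, 12, 13, 14, 17, 18, 20, 22, 0] (gZ 9) [33, 41, 43, 36, 42, 36, 35, 34, 38, 25, 27, 29, 30, 31, 32, 1, 2, 3, 7, 9, 12, 15, 16, 17, 19, 20] = true := by decide +kernel
theorem zr7_7_0 : DZ 43 [37, 43, 35, 43] (gZ 7) (gZ 9) := dz2 zr7_7_0a zr7_7_0b
theorem zr9_1_0a : cZa 43 [43] (gZ 9) [25, 43, 40, 42, 35, 33, 42, 34, 28, 29, 32, 1, 2, 6, 7, 11, 12, 16, 17, 18, 20, 21] (gZ 9) [42, 35, 33, 40, 37, 39, 33, 23, 24, 29, 30, 31, 32, 3, 4, 6, 8, 9, 16, 18, 19, 20, 22] = true := by decide +kernel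
theorem zr9_1_0b : cZb 43 [43] (gZ 9) [25, 43, 40, 42, 35, 33, 42, 34, 28, 29, 32, 1, 2, 6, 7, 11, 12, 16, 17, 18, 20, 21] (gZ 9) [42, 35, 33, 40, 37, 39, 33, 23, 24, 29, 30, 31, 32, 3, 4, 6, 8, 9, 16, 18, 19, 20, 22] = true := by decide +kernel
theorem zr9_1_0 : DZ 43 [43] (gZ 9) (gZ 9) := dz2 zr9_1_0a zr9_1_0b
theorem zr5_5_1a : cZa 43 ([36, 43, 33, 43] ++ [1]) (gZ 5) [39, 35, 37, 25, 43, 33, 37, 34, 33, 38, 33, 36, 23, 24, 25, 27, 28, 29, 30, 31, 2, 6, 7, 9, 11, 13, 15, 16, 17, 19, 21] (gZ 7) [38, 41, 36, 34, 41, 36, 34, 26, 27, 28, 30, 31, 4, 5, 6, 7, 11, 12, 13, 16, 17, 18, 21, 22] = true := by decide +kernel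
theorem zr5_5_1b : cZb 43 ([36, 43, 33, 43] ++ [1]) (gZ 5) [39, 35, 37, 25, 43, 33, 37, 34, 33, 38, 33, 36, 23, 24, 25, 27, 28, 29, 30, 31, 2, 6, 7, 9, 11, 13, 15, 16, 17, 19, 21] (gZ 7) [38, 41, 36, 34, 41, 36, 34, 26, 27, 28, 30, 31, 4, 5, 6, 7, 11, 12, 13, 16, 17, 18, 21, 22] = true := by decide +kernel
theorem zr5_5_1 : DZ 43 ([36, 43, 33, 43] ++ [1]) (gZ 5) (gZ 7) := dz2 zr5_5_1a zr5_5_1b
theorem zr7_2_0a : cZa 43 [33, 43] (gZ 7) [25, 41, 42, 41, 43, 33, 43, 38, 36, 34, 33, 37, 33, 35, 23, 24, 25, 27, 31, 1, 2, 3, 4, 9, 10, 11, 12, 13, 14, 15, 18, 20, 21, 22] (gZ 6) [38, 42, 34, 39, 37, 33, 34, 24, 25, 26, 30, 31, 32, 5, 6, 9, 11, 15, 16, 18, 20, 21] = true := by decide +kernel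
theorem zr7_2_0b : cZb 43 [33, 43] (gZ 7) [25, 41, 42, 41, 43, 33, 43, 38, 36, 34, 33, 37, 33, 35, 23, 24, 25, 27, 31, 1, 2, 3, 4, 9, 10, 11, 12, 13, 14, 15, 18, 20, 21, 22] (gZ 6) [38, 42, 34, 39, 37, 33, 34, 24, 25, 26, 30, 31, 32, 5, 6, 9, 11, 15, 16, 18, 20, 21] = true := by decide +kernel
theorem zr7_2_0 : DZ 43 [33, 43] (gZ 7) (gZ 6) := dz2 zr7_2_0a zr7_2_0b
theorem zr4_7_1a : cZa 43 ([43, 37, 43, 33, 43] ++ [1]) (gZ 4) [42, 33, 38, 42, 35, 34, 33, 27, 32, 2, 6, 7, 9, 12, 18, 20, 21, 22] (gZ 7) [38, 37, 39, 33, 39, 33, 23, 25, 26, 28, 30, 31, 32, 3, 4, 9, 11, 12, 13, 16, 17, 19, 20, 21] = true := by decide +kernel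
theorem zr4_7_1b : cZb 43 ([43, 37, 43, 33, 43] ++ [1]) (gZ 4) [42, 33, 38, 42, 35, 34, 33, 27, 32, 2, 6, 7, 9, 12, 18, 20, 21, 22] (gZ 7) [38, 37, 39, 33, 39, 33, 23, 25, 26, 28, 30, 31, 32, 3, 4, 9, 11, 12, 13, 16, 17, 19, 20, 21] = true := by decide +kernel
theorem zr4_7_1 : DZ 43 ([43, 37, 43, 33, 43] ++ [1]) (gZ 4) (gZ 7) := dz2 zr4_7_1a zr4_7_1b
theorem zr6_3_1a : cZa 43 ([36, 43] ++ [1]) (gZ 6) [36, 25, 43, 35, 39, 42, 41, 39, 33, 23, 25, 28, 29, 2, 3, 4, 5, 6, 13, 15, 16, 17, 20] (gZ 6) [39, 37, 43, 35, 42, 36, 42, 40, 26, 28, 30, 32, 5, 6, 11, 13, 14, 18, 19, 20, 21] = true := by decide +kernel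
theorem zr6_3_1b : cZb 43 ([36, 43] ++ [1]) (gZ 6) [36, 25, 43, 35, 39, 42, 41, 39, 33, 23, 25, 28, 29, 2, 3, 4, 5, 6, 13, 15, 16, 17, 20] (gZ 6) [39, 37, 43, 35, 42, 36, 42, 40, 26, 28, 30, 32, 5, 6, 11, 13, 14, 18, 19, 20, 21] = true := by decide +kernel
theorem zr6_3_1 : DZ 43 ([36, 43] ++ [1]) (gZ 6) (gZ 6) := dz2 zr6_3_1a zr6_3_1b
theorem zr4_5_0a : cZa 43 [37, 43, 33, 43] (gZ 4) [39, 35, 37, 25, 43, 34, 35, 36, 34, 33, 40, 35, 25, 29, 30, 32, 3, 8, 9, 12, 14, 15, 17] (gZ 5) [40, 42, 34, 41, 40, 34, 33, 24, 25, 26, 27, 31, 2, 4, 5, 6, 8, 11, 14, 15, 16, 18, 20, 22] = true := by decide +kernel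
theorem zr4_5_0b : cZb 43 [37, 43, 33, 43] (gZ 4) [39, 35, 37, 25, 43, 34, 35, 36, 34, 33, 40, 35, 25, 29, 30, 32, 3, 8, 9, 12, 14, 15, 17] (gZ 5) [40, 42, 34, 41, 40, 34, 33, 24, 25, 26, 27, 31, 2, 4, 5, 6, 8, 11, 14, 15, 16, 18, 20, 22] = true := by decide +kernel
theorem zr4_5_0 : DZ 43 [37, 43, 33, 43] (gZ 4) (gZ 5) := dz2 zr4_5_0a zr4_5_0b
theorem zr3_3_1a : cZa 43 ([36, 43, 33, 43] ++ [1]) (gZ 3) [37, 39, 43, 38, 36, 35, 33, 41, 33, 35, 26, 32, 1, 2, 4, 5, 7, 8, 13, 14, 15, 20, 22] (gZ 6) [33, 36, 37, 35, 42, 36, 23, 24, 25, 29, 30, 3, 5, 6, 8, 9, 10, 11, 12, 15, 18, 22, 0] = true := by decide +kernel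
theorem zr3_3_1b : cZb 43 ([36, 43, 33, 43] ++ [1]) (gZ 3) [37, 39, 43, 38, 36, 35, 33, 41, 33, 35, 26, 32, 1, 2, 4, 5, 7, 8, 13, 14, 15, 20, 22] (gZ 6) [33, 36, 37, 35, 42, 36, 23, 24, 25, 29, 30, 3, 5, 6, 8, 9, 10, 11, 12, 15, 18, 22, 0] = true := by decide +kernel
theorem zr3_3_1 : DZ 43 ([36, 43, 33, 43] ++ [1]) (gZ 3) (gZ 6) := dz2 zr3_3_1a zr3_3_1b
theorem zr4_0_1a : cZ 43 ([] ++ [1]) (gZ 4) [38, 41, 40, 36, 37, 35, 38, 24, 26, 27, 29, 32, 1, 3, 4, 6, 8, 10, 12, 13, 14, 15, 16, 20, 21, 0] (gZ 4) [33, 38, 33, 34, 35, 37, 36, 23, 24, 25, 26, 28, 31, 5, 6, 8, 16, 17, 19] = true := by decide +kernel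
theorem zr4_0_1 : DZ 43 ([] ++ [1]) (gZ 4) (gZ 4) := dz1 zr4_0_1a
theorem zr3_0_1a : cZ 43 ([] ++ [1]) (gZ 3) [35, 40, 42, 41, 36, 42, 39, 23, 24, 26, 29, 30, 31, 1, 2, 3, 4, 7, 9, 10, 11, 12, 13, 15, 16, 19, 20, 22] (gZ 3) [41, 39, 42, 33, 35, 37, 35, 23, 25, 27, 30, 2, 3, 9, 10, 11, 12, 13, 15, 16, 21, 22, 0] = true := by decide +kernel
theorem zr3_0_1 : DZ 43 ([] ++ [1]) (gZ 3) (gZ 3) := dz1 zr3_0_1a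
theorem zr1_0_1a : cZ 43 ([] ++ [1]) (gZ 1) [1] (gZ 1) [1] = true := by decide +kernel
theorem zr1_0_1 : DZ 43 ([] ++ [1]) (gZ 1) (gZ 1) := dz1 zr1_0_1a
end
end CfsgH5.BE
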