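import Cfsg.Agent.H5.BZg
/-! Baby Monster (helper5): relations (generated). -/
set_option Elab.async false
set_option linter.all false
namespace CfsgH5.BE
noncomputable section
theorem zr7_5_0a : cZa 43 [43, 33, 43] (gZ 7) [39, 38, 37, 43, 35, 38, 40, 38, 42, 23, 28, 30, 31, 1, 3, 4, 5, 6, 7, 8, 9, 11, 13, 15, 16, 17, 18, 19, 21, 22] (gZ 9) [40, 37, 33, 25, 43, 38, 34, 33, 36, 38, 37, 34, 24, 26, 27, 28, 3, 10, 12, 15, 16, 17, 18, 19, 20, 21, 0] = true := by decide +kernel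
theorem zr7_5_0b : cZb 43 [43, 33, 43] (gZ 7) [39, 38, 37, 43, 35, 38, 40, 38, 42, 23, 28, 30, 31, 1, 3, 4, 5, 6, 7, 8, 9, 11, 13, 15, 16, 17, 18, 19, 21, 22] (gZ 9) [40, 37, 33, 25, 43, 38, 34, 33, 36, 38, 37, 34, 24, 26, 27, 28, 3, 10, 12, 15, 16, 17, 18, 19, 20, 21, 0] = true := by decide +kernel
theorem zr7_5_0 : DZ 43 [43, 33, 43] (gZ 7) (gZ 9) := dz2 zr7_5_0a zr7_5_0b
theorem zr7_7_1a : cZa 43 ([37, 43, 35, 43] ++ [1]) (gZ 7) [25, 43, 35, 33, 38, 35, 36, 23, 26, 30, 32, 1, 4, 5, 6, 8, 10, 12, 13, 14, 15, 17, 18, 19, 20, 0] (gZ 9) [33, 41, 25, 43, 34, 36, 40, 35, 38, 23, 25, 26, 27, 28, 1, 2, 3, 5, 10, 12, 13, 15, 18, 21, 22] = true := by decide +kernel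
theorem zr7_7_1b : cZb 43 ([37, 43, 35, 43] ++ [1]) (gZ 7) [25, 43, 35, 33, 38, 35, 36, 23, 26, 30, 32, 1, 4, 5, 6, 8, 10, 12, 13, 14, 15, 17, 18, 19, 20, 0] (gZ 9) [33, 41, 25, 43, 34, 36, 40, 35, 38, 23, 25, 26, 27, 28, 1, 2, 3, 5, 10, 12, 13, 15, 18, 21, 22] = true := by decide +kernel
theorem zr7_7_1 : DZ 43 ([37, 43, 35, 43] ++ [1]) (gZ 7) (gZ 9) := dz2 zr7_7_1a zr7_7_1b
theorem zr6_10_0a : cZa 43 [33, 43, 35, 43] (gZ 6) [41, 36, 42, 25, 43, 35, 43, 41, 35, 40, 33, 35, 24, 25, 27, 31, 32, 2, 3, 6, 7, 8, 9, 10, 12, 13, 14, 15, 17, 18, 21, 0] (gZ 6) [39, 42, 25, 43, 33, 34, 42, 41, 40, 36, 35, 23, 24, 25, 29, 5, 6, 7, 9, 10, 12, 13, 15, 17, 22] = true := by decide +kernel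
theorem zr6_10_0b : cZb 43 [33, 43, 35, 43] (gZ 6) [41, 36, 42, 25, 43, 35, 43, 41, 35, 40, 33, 35, 24, 25, 27, 31, 32, 2, 3, 6, 7, 8, 9, 10, 12, 13, 14, 15, 17, 18, 21, 0] (gZ 6) [39, 42, 25, 43, 33, 34, 42, 41, 40, 36, 35, 23, 24, 25, 29, 5, 6, 7, 9, 10, 12, 13, 15, 17, 22] = true := by decide +kernel
theorem zr6_10_0 : DZ 43 [33, 43, 35, 43] (gZ 6) (gZ 6) := dz2 zr6_10_0a zr6_10_0b
theorem zr6_4_0a : cZa 43 [37, 43] (gZ 6) [25, 43, 41, 42, 33, 35, 39, 38, 36, 26, 28, 29, 31, 1, 3, 4, 5, 8, 10, 11, 13, 14, 15, 17, 18, 21, 22] (gZ 5) [39, 35, 37, 43, 37, 39, 33, 39, 42, 39, 33, 25, 26, 27, 28, 30, 31, 32, 2, 3, 5, 6, 8, 10, 11, 12, 13, 14, 16, 17, 18, 19, 22] = true := by decide +kernel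
theorem zr6_4_0b : cZb 43 [37, 43] (gZ 6) [25, 43, 41, 42, 33, 35, 39, 38, 36, 26, 28, 29, 31, 1, 3, 4, 5, 8, 10, 11, 13, 14, 15, 17, 18, 21, 22] (gZ 5) [39, 35, 37, 43, 37, 39, 33, 39, 42, 39, 33, 25, 26, 27, 28, 30, 31, 32, 2, 3, 5, 6, 8, 10, 11, 12, 13, 14, 16, 17, 18, 19, 22] = true := by decide +kernel
theorem zr6_4_0 : DZ 43 [37, 43] (gZ 6) (gZ 5) := dz2 zr6_4_0a zr6_4_0b
theorem zr8_0_1a : cZa 43 ([] ++ [1]) (gZ 8) [42, 35, 36, 41, 38, 42, 23, 25, 27, 28, 31, 32, 1, 2, 3, 4, 8, 9, 14, 15, 16, 19, 20, 0] (gZ 8) [37, 39, 34, 35, 38, 42, 35, 27, 28, 30, 3, 4, 9, 13, 14, 17, 20, 22, 0] = true := by decide +kernel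
theorem zr8_0_1b : cZb 43 ([] ++ [1]) (gZ 8) [42, 35, 36, 41, 38, 42, 23, 25, 27, 28, 31, 32, 1, 2, 3, 4, 8, 9, 14, 15, 16, 19, 20, 0] (gZ 8) [37, 39, 34, 35, 38, 42, 35, 27, 28, 30, 3, 4, 9, 13, 14, 17, 20, 22, 0] = true := by decide +kernel
theorem zr8_0_1 : DZ 43 ([] ++ [1]) (gZ 8) (gZ 8) := dz2 zr8_0_1a zr8_0_1b
theorem zr6_3_0a : cZa 43 [36, 43] (gZ 6) [25, 43, 37, 35, 37, 41, 38, 40, 24, 27, 28, 29, 32, 1, 5, 7, 8, 9, 11, 12, 20, 22, 0] (gZ 5) [37, 33, 42, 35, 33, 36, 37, 24, 27, 29, 31, 3, 6, 8, 9, 10, 14, 15, 18, 19, 21, 22, 0] = true := by decide +kernel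
theorem zr6_3_0b : cZb 43 [36, 43] (gZ 6) [25, 43, 37, 35, 37, 41, 38, 40, 24, 27, 28, 29, 32, 1, 5, 7, 8, 9, 11, 12, 20, 22, 0] (gZ 5) [37, 33, 42, 35, 33, 36, 37, 24, 27, 29, 31, 3, 6, 8, 9, 10, 14, 15, 18, 19, 21, 22, 0] = true := by decide +kernel
theorem zr6_3_0 : DZ 43 [36, 43] (gZ 6) (gZ 5) := dz2 zr6_3_0a zr6_3_0b
theorem zr8_0_0a : cZa 43 [] (gZ 8) [38, 33, 41, 23, 43, 37, 43, 33, 43, 39, 34, 36, 34, 41, 38, 23, 25, 27, 28, 30, 32, 3, 5, 9, 18, 19, 0] (gZ 4) [39, 34, 38, 33, 39, 33, 25, 30, 32, 5, 6, 9, 10, 12, 14, 17, 21, 22] = true := by decide +kernel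
theorem zr8_0_0b : cZb 43 [] (gZ 8) [38, 33, 41, 23, 43, 37, 43, 33, 43, 39, 34, 36, 34, 41, 38, 23, 25, 27, 28, 30, 32, 3, 5, 9, 18, 19, 0] (gZ 4) [39, 34, 38, 33, 39, 33, 25, 30, 32, 5, 6, 9, 10, 12, 14, 17, 21, 22] = true := by decide +kernel
theorem zr8_0_0 : DZ 43 [] (gZ 8) (gZ 4) := dz2 zr8_0_0a zr8_0_0b
theorem zr5_0_1a : cZa 43 ([] ++ [1]) (gZ 5) [33, 41, 38, 42, 40, 36, 38, 23, 26, 1, 2, 4, 5, 6, 7, 10, 15, 17, 18, 20, 0] (gZ 5) [35, 36, 33, 40, 35, 40, 39, 23, 25, 26, 31, 2, 3, 4, 5, 6, 10, 11, 13, 15, 17, 18, 19, 20, 22, 0] = true := by decide +kernel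
theorem zr5_0_1b : cZb 43 ([] ++ [1]) (gZ 5) [33, 41, 38, 42, 40, 36, 38, 23, 26, 1, 2, 4, 5, 6, 7, 10, 15, 17, 18, 20, 0] (gZ 5) [35, 36, 33, 40, 35, 40, 39, 23, 25, 26, 31, 2, 3, 4, 5, 6, 10, 11, 13, 15, 17, 18, 19, 20, 22, 0] = true := by decide +kernel
theorem zr5_0_1 : DZ 43 ([] ++ [1]) (gZ 5) (gZ 5) := dz2 zr5_0_1a zr5_0_1b
theorem zr2_2_0a : cZ 43 [35, 43] (gZ 2) [25, 43, 36, 40, 35, 39, 37, 40, 37, 24, 25, 26, 30, 1, 4, 5, 6, 7, 9, 12, 13, 14, 16, 17, 22, 0] (gZ 2) [33, 39, 34, 35, 33, 41, 34, 25, 26, 27, 29, 30, 3, 4, 5, 6, 9, 10, 12, 13, 15, 17, 18, 21, 22, 0] = true := by decide +kernel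
theorem zr2_2_0 : DZ 43 [35, 43] (gZ 2) (gZ 2) := dz1 zr2_2_0a
theorem zr2_0_1a : cZ 43 ([] ++ [1]) (gZ 2) [24, 26, 27, 28, 30, 31, 1, 3, 6, 7, 9, 10, 14, 16, 17, 18, 20, 21, 0] (gZ 2) [25, 26, 27, 29, 32, 2, 3, 4, 5, 8, 10, 11, 12] = true := by decide +kernel
theorem zr2_0_1 : DZ 43 ([] ++ [1]) (gZ 2) (gZ 2) := dz1 zr2_0_1a
theorem zt1_0a : cT 43 [42, 33, 38, 23, 25, 26, 27, 28, 29, 30, 31, 32, 5, 6, 9, 13, 14, 15, 16, 17, 18, 19, 20] (gZ 1) [42, 33, 38, 23, 24, 25, 26, 27, 28, 29, 30, 2, 3, 7, 8, 9, 10, 12, 13, 15, 16, 17, 18, 19, 20, 21, 22, 0] = true := by decide +kernel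
theorem zt1_0 : TZ 43 [42, 33, 38, 23, 25, 26, 27, 28, 29, 30, 31, 32, 5, 6, 9, 13, 14, 15, 16, 17, 18, 19, 20] (gZ 1) := tz1 zt1_0a
end
end CfsgH5.BE
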