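/-
Extensions of permutation groups on the 24 points by binary modules: calculus of tails.
-/
import Cfsg.Agent.H5.Fam

set_option autoImplicit false
set_option linter.unusedSimpArgs false
set_option linter.unusedSectionVars false
set_option linter.unusedVariables false
set_option linter.style.haveILetI false

namespace CfsgH5

open Cfsg
open scoped Pointwise
open MulAction

noncomputable section

/-! ### The theorem of Gaschütz for elementary abelian 2-groups -/

theorem gaschutz_two {E : Type*} [Group E] [Finite E] (N : Subgroup E) [hN : N.Normal]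
    (hc : ∀ a ∈ N, ∀ b ∈ N, a * b = b * a) (h2 : ∀ a ∈ N, a * a = 1) {P K : Subgroup E}
    (hNP : N ≤ P) (hKP : K ≤ P) (hodd : Odd P.index) (hK : ∀ k ∈ K, k ∈ N → k = 1)
    (hP : ∀ p ∈ P, ∃ n ∈ N, n⁻¹ * p ∈ K) : ∃ H : Subgroup E, H ⊓ N = ⊥ ∧ H ⊔ N = ⊤ := by
  classical
  letI : CommGroup N :=
    { (inferInstance : Group N) with mul_comm := fun a b => Subtype.ext (hc a a.2 b b.2) }
  have : Fintype (E ⧸ P) := Fintype.ofFinite _
  have hP' : ∀ p : E, ∃ n : N, p ∈ P → (n : E)⁻¹ * p ∈ K := fun p => by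
    by_cases h : p ∈ P
    · obtain ⟨n, hn, h'⟩ := hP p h
      exact ⟨⟨n, hn⟩, fun _ => h'⟩
    · exact ⟨1, fun h' => absurd h' h⟩
  choose d hd using hP'
  have huniq : ∀ p ∈ P, ∀ n : N, (n : E)⁻¹ * p ∈ K → d p = n := fun p hp n hn => by
    have h1 := K.mul_mem hn (K.inv_mem (hd p hp))
    have h2 : (n : E)⁻¹ * p * ((d p : E)⁻¹ * p)⁻¹ = (n⁻¹ * d p : N) := by simp [mul_assoc]
    rw [h2] at h1
    exact (inv_mul_eq_one.1 (Subtype.ext (hK _ h1 (n⁻¹ * d p).2))).symm
  have hmul : ∀ p ∈ P, ∀ q ∈ P, d (p * q) = d p * MulAut.conjNormal p (d q) := fun p hp q hq => by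
    apply huniq _ (P.mul_mem hp hq)
    have e : MulAut.conjNormal p (d q) = MulAut.conjNormal ((d p : E)⁻¹ * p) (d q) := by
      apply Subtype.ext
      have := hc _ (d p).2 _ (hN.conj_mem _ (d q).2 ((d p : E)⁻¹ * p))
      simp only [MulAut.conjNormal_apply]
      calc p * d q * p⁻¹ = d p * ((d p : E)⁻¹ * p * d q * ((d p : E)⁻¹ * p)⁻¹) * (d p : E)⁻¹ := by group
        _ = _ := by rw [this, mul_inv_cancel_right]
    have := K.mul_mem (hd p hp) (hd q hq)
    convert this using 1
    rw [e]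
    simp only [Subgroup.coe_mul, MulAut.conjNormal_apply]
    group
  have hq : ∀ (h : E) (q : E ⧸ P), (h • q).out⁻¹ * h * q.out ∈ P := by
    intro h q
    rw [mul_assoc, ← QuotientGroup.eq, QuotientGroup.out_eq']
    show _ = h • (q.out : E ⧸ P)
    rw [QuotientGroup.out_eq']
  let cor : E → N := fun x =>
    ∏ q : E ⧸ P, MulAut.conjNormal (x • q).out (d ((x • q).out⁻¹ * x * q.out))
  have hcor : ∀ x y, cor (x * y) = cor x * MulAut.conjNormal x (cor y) := by
    intro x y
    simp only [cor, map_prod]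
    rw [← Equiv.prod_comp (MulAction.toPerm y) fun q : E ⧸ P =>
      MulAut.conjNormal (x • q).out (d ((x • q).out⁻¹ * x * q.out)), ← Finset.prod_mul_distrib]
    refine Finset.prod_congr rfl fun q _ => ?_
    have e : ((x * y) • q).out⁻¹ * (x * y) * q.out =
        ((x • y • q).out⁻¹ * x * (y • q).out) * ((y • q).out⁻¹ * y * q.out) := by
      rw [mul_smul]; group
    rw [e, hmul _ (hq _ _) _ (hq _ _), map_mul, mul_smul, MulAction.toPerm_apply]
    congr 1
    apply Subtype.ext
    simp only [MulAut.conjNormal_apply]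
    group
  have hcN : ∀ n : N, cor n = n := by
    intro n
    have h1 : ∀ q : E ⧸ P, (n : E) • q = q := fun q => by
      induction q using QuotientGroup.induction_on with
      | H z =>
        show ((n * z : E) : E ⧸ P) = z
        rw [QuotientGroup.eq]
        have := hN.conj_mem _ (N.inv_mem n.2) z⁻¹
        exact hNP (by simpa [mul_assoc] using this)
    have h3 : ∀ q : E ⧸ P, MulAut.conjNormal ((n : E) • q).out
        (d (((n : E) • q).out⁻¹ * n * q.out)) = n := fun q => by
      have := huniq _ (hq n q) (MulAut.conjNormal q.out⁻¹ n) (by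
        rw [h1]; simp [mul_assoc, K.one_mem])
      rw [this, h1]
      apply Subtype.ext
      simp [mul_assoc]
    simp only [cor, h3, Finset.prod_const, Finset.card_univ]
    rw [← Nat.card_eq_fintype_card]
    obtain ⟨k, hk⟩ := hodd
    have : n ^ 2 = 1 := Subtype.ext (by simpa [pow_two] using h2 n n.2)
    rw [show Nat.card (E ⧸ P) = 2 * k + 1 from hk, pow_succ, pow_mul, this, one_pow, one_mul]
  have h1 : cor 1 = 1 := hcN 1
  let H : Subgroup E :=
    { carrier := {x | cor x = 1}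
      one_mem' := h1
      mul_mem' := fun {a b} ha hb => by
        show cor (a * b) = 1
        rw [hcor, ha, hb, map_one, one_mul]
      inv_mem' := fun {a} ha => by
        have := hcor a⁻¹ a
        rw [inv_mul_cancel, h1, ha, map_one, mul_one] at this
        exact this.symm }
  refine ⟨H, eq_bot_iff.2 fun x hx => ?_, eq_top_iff.2 fun x _ => ?_⟩
  · have : (⟨x, hx.2⟩ : N) = 1 := (hcN ⟨x, hx.2⟩).symm.trans hx.1
    exact congrArg Subtype.val this
  · have : ((cor x)⁻¹ : N) * x ∈ H := by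
      show cor _ = 1
      rw [hcor, hcN]
      apply Subtype.ext
      have := hc _ (cor x).2 _ (cor x)⁻¹.2
      simp
    have h3 := Subgroup.mul_mem _ (Subgroup.mem_sup_right (S := H) (cor x).2)
      (Subgroup.mem_sup_left (T := N) this)
    simpa using h3

/-! ### Words -/

/-- value of a word -/
def ev {E : Type*} [Group E] (x : ℕ → E) (w : List ℕ) : E := (w.map x).prod

theorem ev_nil {E : Type*} [Group E] (x : ℕ → E) : ev x [] = 1 := rfl
theorem ev_cons {E : Type*} [Group E] (x : ℕ → E) (a : ℕ) (w : List ℕ) :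
    ev x (a :: w) = x a * ev x w := by simp [ev]
theorem ev_append {E : Type*} [Group E] (x : ℕ → E) (u w : List ℕ) :
    ev x (u ++ w) = ev x u * ev x w := by simp [ev]
theorem map_ev {E F : Type*} [Group E] [Group F] (f : E →* F) (x : ℕ → E) (w : List ℕ) :
    f (ev x w) = ev (fun i => f (x i)) w := by
  simp only [ev, map_list_prod, List.map_map]; rfl

/-- code of the value of a word -/
def evP (O : Ops) (Xc : ℕ → ℕ) (w : List ℕ) : ℕ :=
  List.rec (motive := fun _ => ℕ) O.one
    (fun a _ ih => force (Xc a) fun p => force ih fun q => O.mul p q) w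

theorem Codes.code_ev {O : Ops} {G : Type*} [Group G] {α : Type*} [MulAction G α] (C : Codes O G α)
    {Xc : ℕ → ℕ} {x : ℕ → G} (hx : ∀ i, C.code (x i) = Xc i) (w : List ℕ) :
    C.code (ev x w) = evP O Xc w := by
  induction w with
  | nil => exact C.code_one
  | cons a w ih =>
    show _ = force (Xc a) fun p => force (evP O Xc w) fun q => O.mul p q
    rw [force_eq, force_eq, ev_cons, C.code_mul, ih, hx]

theorem code_ev {E : Type*} [Group E] (π : E →* Equiv.Perm GolayPt) {Xc : ℕ → ℕ} {x : ℕ → E}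
    (hx : ∀ i, C24.code (π (x i)) = Xc i) (w : List ℕ) : C24.code (π (ev x w)) = evP ops24 Xc w := by
  rw [map_ev]; exact C24.code_ev hx w

/-- test that the rules numbered `8 j + i` form a polycyclic presentation on a list of letters -/
def pcChk (lw rw : ℕ → List ℕ) (PC : List ℕ) (L : List ℕ) : Bool :=
  List.rec (motive := fun _ => Bool) true (fun i L ih => band ih (band
    (band (decide (8 * i + i ∈ PC)) (band (decide (lw (8 * i + i) = [i, i]))
      (allL (rw (8 * i + i)) fun a => decide (a ∈ L))))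
    (allL L fun j => band (decide (8 * j + i ∈ PC)) (band (decide (lw (8 * j + i) = [j, i]))
      (band (decide (rw (8 * j + i) = i :: (rw (8 * j + i)).tail))
        (allL (rw (8 * j + i)).tail fun a => decide (a ∈ L))))))) L

theorem ev_mem_closure {E : Type*} [Group E] (x : ℕ → E) {L w : List ℕ} (h : ∀ a ∈ w, a ∈ L) :
    ev x w ∈ Subgroup.closure (x '' {a | a ∈ L}) := by
  apply Subgroup.list_prod_mem
  intro y hy
  obtain ⟨a, ha, rfl⟩ := List.mem_map.1 hy
  exact Subgroup.subset_closure ⟨a, h a ha, rfl⟩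

theorem pc_normal_form {E : Type*} [Group E] [Finite E] (x : ℕ → E) {lw rw : ℕ → List ℕ}
    {PC : List ℕ} (hr : ∀ s ∈ PC, ev x (lw s) = ev x (rw s)) {L : List ℕ}
    (h : pcChk lw rw PC L = true) :
    ∀ g ∈ Subgroup.closure (x '' {a | a ∈ L}), ∃ w, w.Sublist L ∧ g = ev x w := by
  induction L with
  | nil =>
    intro g hg
    simp only [List.not_mem_nil, Set.ofPred_false, Set.image_empty, Subgroup.closure_empty,
      Subgroup.mem_bot] at hg
    exact ⟨[], List.Sublist.refl _, hg⟩
  | cons i L ih =>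
    change band (pcChk lw rw PC L) _ = true at h
    simp only [band_eq, Bool.and_eq_true, allL_iff, decide_eq_true_eq] at h
    obtain ⟨h0, ⟨a1, a2, a3⟩, h2⟩ := h
    set K := Subgroup.closure (x '' {a | a ∈ L})
    have key : ∀ g ∈ Subgroup.closure (x '' {a | a ∈ i :: L}), g ∈ K ∨ (x i)⁻¹ * g ∈ K := by
      intro g hg
      have hg' : g ∈ Submonoid.closure (x '' {a | a ∈ i :: L}) := by
        rw [← Subgroup.closure_toSubmonoid_of_finite]; exact hg
      clear hg
      induction hg' using Submonoid.closure_induction_left with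
      | one => exact Or.inl K.one_mem
      | mul_left s hs g _ ih =>
        obtain ⟨j, hj, rfl⟩ := hs
        rcases List.mem_cons.1 hj with rfl | hj
        · rcases ih with ih | ih
          · right; simpa using ih
          · left
            have e := hr _ a1
            rw [a2, ev_cons, ev_cons, ev_nil, mul_one] at e
            have := K.mul_mem (e ▸ ev_mem_closure x a3) ih
            simpa [mul_assoc] using this
        · have hjK : x j ∈ K := Subgroup.subset_closure ⟨j, hj, rfl⟩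
          rcases ih with ih | ih
          · exact Or.inl (K.mul_mem hjK ih)
          · right
            obtain ⟨b1, b2, b3, b4⟩ := h2 j hj
            have e := hr _ b1
            rw [b2, b3, ev_cons, ev_cons, ev_nil, mul_one, ev_cons] at e
            have := K.mul_mem (ev_mem_closure x b4) ih
            rw [← inv_mul_eq_iff_eq_mul.2 e] at this
            simpa [mul_assoc] using this
    intro g hg
    rcases key g hg with h | h
    · obtain ⟨w, hw, e⟩ := ih h0 g h
      exact ⟨w, hw.cons _, e⟩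
    · obtain ⟨w, hw, e⟩ := ih h0 _ h
      exact ⟨i :: w, hw.cons_cons _, by rw [ev_cons, ← e, mul_inv_cancel_left]⟩

/-- an extension splits when lifts of a polycyclic sequence of a Sylow 2-subgroup satisfy the
polycyclic relations -/
theorem split_of_lifts {E : Type*} [Group E] [Finite E] (π : E →* Equiv.Perm GolayPt)
    (hc : ∀ a ∈ π.ker, ∀ b ∈ π.ker, a * b = b * a) (h2 : ∀ a ∈ π.ker, a * a = 1)
    {Xc : ℕ → ℕ} {x : ℕ → E} (hx : ∀ i, C24.code (π (x i)) = Xc i) {lw rw : ℕ → List ℕ}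
    {PC : List ℕ} (hr : ∀ s ∈ PC, ev x (lw s) = ev x (rw s)) {L : List ℕ}
    (h : pcChk lw rw PC L = true)
    (hL : ∀ w ∈ L.sublists, evP ops24 Xc w = ops24.one → w = [])
    {k : ℕ} (hk : Odd k) (hcard : Nat.card π.range = Nat.card (C24.grp (L.map Xc)) * k) :
    ∃ H : Subgroup E, H ⊓ π.ker = ⊥ ∧ H ⊔ π.ker = ⊤ := by
  set K := Subgroup.closure (x '' {a | a ∈ L})
  have hmap : K.map π = C24.grp (L.map Xc) := by
    rw [MonoidHom.map_closure, Codes.grp]
    congr 1
    ext g
    simp only [Set.mem_image, Set.mem_ofPred_eq, List.mem_map]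
    exact ⟨fun ⟨_, ⟨a, ha, rfl⟩, e⟩ => ⟨a, ha, by rw [← hx, e]⟩,
      fun ⟨a, ha, e⟩ => ⟨_, ⟨a, ha, rfl⟩, C24.code_inj (by rw [hx, e])⟩⟩
  refine gaschutz_two π.ker hc h2 (P := (K.map π).comap π) (K := K) (Subgroup.ker_le_comap _ _)
    (Subgroup.le_comap_map _ _) ?_ (fun g hg h1 => ?_) fun p ⟨q, hq, e⟩ => ?_
  · rw [Subgroup.index_comap]
    have := ((K.map π).subgroupOf π.range).card_mul_index
    rw [Nat.card_congr (Subgroup.subgroupOfEquivOfLe (Subgroup.map_le_range π K)).toEquiv, hcard,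
      ← hmap] at this
    rw [Subgroup.relIndex, Nat.eq_of_mul_eq_mul_left Nat.card_pos this]
    exact hk
  · obtain ⟨w, hw, rfl⟩ := pc_normal_form x hr h g hg
    rw [hL w (List.mem_sublists.2 hw) (by rw [← code_ev π hx, MonoidHom.mem_ker.1 h1, C24.code_one]),
      ev_nil]
  · exact ⟨p * q⁻¹, by rw [MonoidHom.mem_ker, map_mul, map_inv, e, mul_inv_cancel], by simpa using hq⟩

/-! ### Linear forms -/

/-- binary words on the 24 points -/
abbrev W24 : Type := GolayPt → ZMod 2

/-- sum of the coordinates in a set -/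
def dt (b : ℕ) (v : W24) : ZMod 2 := ∑ a ∈ ts b, v a

theorem dt_zero (b : ℕ) : dt b 0 = 0 := by simp [dt]
theorem dt_add (b : ℕ) (v w : W24) : dt b (v + w) = dt b v + dt b w := by
  simp [dt, Finset.sum_add_distrib]
theorem dt_smul (b : ℕ) (t : ZMod 2) (v : W24) : dt b (t • v) = t * dt b v := by
  simp [dt, Finset.mul_sum]

theorem act_inv_eq (g : Equiv.Perm GolayPt) {b : ℕ} (hb : b < 16777216) :
    act24 (inv24 (C24.code g)) b = mk (g⁻¹ • ts b) := by
  rw [mk_smul, mk_ts hb, C24.code_inv]; rfl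

theorem dt_comp (g : Equiv.Perm GolayPt) {b : ℕ} (hb : b < 16777216) (v : W24) :
    dt b (v ∘ ⇑g⁻¹) = dt (act24 (inv24 (C24.code g)) b) v := by
  rw [act_inv_eq g hb, dt, dt, ts_mk, Finset.smul_finset_def,
    Finset.sum_image fun a _ c _ h => smul_left_cancel _ h]
  rfl

theorem dt_word {b : ℕ} (hb : b < 16777216) (c : ℕ) :
    dt b (word c) = (pop24 (Nat.land b c) : ZMod 2) := by
  have h : Nat.land b c < 16777216 := lt_of_le_of_lt Nat.and_le_left hb
  rw [← card_ts h, dt]
  simp only [word]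
  rw [Finset.sum_boole]
  congr 2
  ext a
  simp [Nat.testBit_and]

/-- an additive function of bit masks -/
def IsVal (D : ℕ → ZMod 2) : Prop := ∀ a b, D (a ^^^ b) = D a + D b

theorem IsVal.zero {D : ℕ → ZMod 2} (h : IsVal D) : D 0 = 0 := by
  have := h 0 0
  rw [Nat.xor_self] at this
  exact left_eq_add.1 this

theorem IsVal.mul {D : ℕ → ZMod 2} (h : IsVal D) (k f : ℕ) :
    D (Nat.mul (Nat.land k 1) f) = (k : ZMod 2) * D f := by
  show D ((k &&& 1) * f) = _
  rw [Nat.and_one_is_mod, ← ZMod.natCast_mod k 2]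
  rcases Nat.mod_two_eq_zero_or_one k with e | e <;> simp [e, h.zero]

/-- the additive function with given values at the powers of two -/
def valOf (β : ℕ → ZMod 2) (m : ℕ) : ZMod 2 := ∑ i ∈ Finset.range m, if m.testBit i then β i else 0

theorem valOf_eq (β : ℕ → ZMod 2) {m L : ℕ} (h : m ≤ L) :
    valOf β m = ∑ i ∈ Finset.range L, if m.testBit i then β i else 0 := by
  apply Finset.sum_subset (Finset.range_mono h)
  intro i _ hi
  rw [Finset.mem_range, not_lt] at hi
  rw [Nat.testBit_lt_two_pow (lt_of_le_of_lt hi Nat.lt_two_pow_self)]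
  rfl

theorem isVal_valOf (β : ℕ → ZMod 2) : IsVal (valOf β) := by
  intro a b
  rw [valOf_eq β (L := a + b + (a ^^^ b)) (by omega), valOf_eq β (m := a) (L := a + b + (a ^^^ b)) (by omega),
    valOf_eq β (m := b) (L := a + b + (a ^^^ b)) (by omega), ← Finset.sum_add_distrib]
  refine Finset.sum_congr rfl fun i _ => ?_
  rw [Nat.testBit_xor]
  cases a.testBit i <;> cases b.testBit i <;> simp [CharTwo.add_self_eq_zero]

theorem valOf_pow (β : ℕ → ZMod 2) (i : ℕ) : valOf β (Nat.shiftLeft 1 i) = β i := by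
  show valOf β (1 <<< i) = _
  rw [Nat.one_shiftLeft, valOf, Finset.sum_eq_single i]
  · simp
  · intro j _ hj; simp [Nat.testBit_two_pow_of_ne hj.symm]
  · intro h; exact absurd (Finset.mem_range.2 Nat.lt_two_pow_self) h

/-- the linear form of a slot -/
def comb (L : List (ℕ × ℕ)) (b : ℕ) : ℕ :=
  List.rec (motive := fun _ => ℕ) 0
    (fun x _ ih => Nat.xor (Nat.mul (Nat.land (pop24 (Nat.land b x.1)) 1) x.2) ih) L

/-- the vector of a slot -/
def vec (D : ℕ → ZMod 2) (L : List (ℕ × ℕ)) : W24 := (L.map fun x => D x.2 • word x.1).sum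

theorem vec_cons (D : ℕ → ZMod 2) (x : ℕ × ℕ) (L : List (ℕ × ℕ)) :
    vec D (x :: L) = D x.2 • word x.1 + vec D L := by simp [vec]

theorem IsVal.comb {D : ℕ → ZMod 2} (h : IsVal D) (L : List (ℕ × ℕ)) {b : ℕ} (hb : b < 16777216) :
    D (comb L b) = dt b (vec D L) := by
  induction L with
  | nil => exact h.zero.trans (dt_zero b).symm
  | cons x L ih =>
    show D (_ ^^^ CfsgH5.comb L b) = _
    rw [h, ih, h.mul, vec_cons, dt_add, dt_smul, dt_word hb, mul_comm]

/-- irrelevant low bits that keep the masks of different coordinates far apart -/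
def salt (e : ℕ) : ℕ := Nat.land (Nat.shiftRight 0x9266ef64311275fc39c0d03234795347783bea5c88b224f042a68fecc75a23c48d0d866b165195371e07ea63524ca98f54dc77a72ed0d50a63783933d5f00510ff6af8af81df638330f47f35d0380cfbcadd40e92c34bf1c7f453a0ef5097b4fd5de6e91074206e247aa2dbad9e2ec8d009f001680289e32a93f32a9a17251028e4edc90253d9e303ce1268c9c8052e3ffec3fee8ed2305df3faa8e879eaa7234ad5cfbc1d74bd1cf08db22fd293056a3170fab23d90fbac32833106536e95df40b2d002cc92d33d e) 0xffffffffffffffff

theorem valOf_salt {β : ℕ → ZMod 2} (h0 : ∀ i < 64, β i = 0) (e : ℕ) : valOf β (salt e) = 0 := by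
  refine Finset.sum_eq_zero fun i _ => ?_
  split_ifs with h
  · refine h0 i (lt_of_not_ge fun hi => ?_)
    have : salt e < 2 ^ 64 := Nat.and_lt_two_pow _ (by norm_num)
    rw [Nat.testBit_lt_two_pow (this.trans_le (Nat.pow_le_pow_right (by norm_num) hi))] at h
    exact absurd h (by decide)
  · rfl

/-- the slot of the coordinates numbered from `e` -/
def basL (cs : List ℕ) : ℕ → List (ℕ × ℕ) :=
  List.rec (motive := fun _ => ℕ → List (ℕ × ℕ)) (fun _ => [])
    (fun c _ ih e => (c, Nat.xor (Nat.shiftLeft 1 (Nat.add e 64)) (salt e)) :: force (Nat.succ e) ih) cs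

theorem mem_basL {cs : List ℕ} {e : ℕ} {x : ℕ × ℕ} (h : x ∈ basL cs e) : x.1 ∈ cs := by
  induction cs generalizing e with
  | nil => exact absurd h List.not_mem_nil
  | cons c cs ih =>
    rcases List.mem_cons.1 h with rfl | h
    · exact List.mem_cons_self
    · exact List.mem_cons_of_mem _ (ih (force_eq _ _ ▸ h))

theorem vec_basL {β : ℕ → ZMod 2} (h0 : ∀ i < 64, β i = 0) (cs : List ℕ) (e k : ℕ)
    (h : ∀ j < cs.length, β (e + j + 64) = if k.testBit j then 1 else 0) :
    vec (valOf β) (basL cs e) = word (lin cs k) := by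
  induction cs generalizing e k with
  | nil => exact word_zero.symm
  | cons c cs ih =>
    show vec _ ((c, Nat.shiftLeft 1 (e + 64) ^^^ salt e) :: force (e + 1) (basL cs)) = _
    rw [force_eq, vec_cons, isVal_valOf, valOf_salt h0, add_zero, valOf_pow, lin_cons, word_xor,
      ih (e + 1) (k >>> 1) fun j hj => by
      rw [add_assoc e, add_comm 1 j, h (j + 1) (by simpa using hj), Nat.testBit_shiftRight, add_comm]]
    congr 1
    have := h 0 (by simp)
    rw [add_zero] at this
    rw [this, Nat.and_one_is_mod, Nat.testBit_zero]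
    rcases Nat.mod_two_eq_zero_or_one k with e | e <;> simp [e, word_zero]

/-- the linear form of a list of tails -/
def maskOf (Ls : ℕ → List (ℕ × ℕ)) (b : ℕ) (f : List (ℕ × ℕ)) : ℕ :=
  List.rec (motive := fun _ => ℕ) 0
    (fun x _ ih => Nat.xor (force (inv24 x.1) fun q => force (act24 q b) (comb (Ls x.2))) ih) f

/-- a list of tails represents a vector -/
def Rep (D : ℕ → ZMod 2) (Ls : ℕ → List (ℕ × ℕ)) (f : List (ℕ × ℕ)) (v : W24) : Prop :=
  ∀ b < 16777216, D (maskOf Ls b f) = dt b v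

variable {D : ℕ → ZMod 2} {Ls : ℕ → List (ℕ × ℕ)}

theorem Rep.nil (h : IsVal D) : Rep D Ls [] 0 := fun b _ => h.zero.trans (dt_zero b).symm

theorem Rep.cons (h : IsVal D) {f : List (ℕ × ℕ)} {v : W24} (hf : Rep D Ls f v)
    (g : Equiv.Perm GolayPt) (s : ℕ) :
    Rep D Ls ((C24.code g, s) :: f) (vec D (Ls s) ∘ ⇑g⁻¹ + v) := by
  intro b hb
  show D (force _ _ ^^^ maskOf Ls b f) = _
  rw [h, hf b hb, force_eq, force_eq, dt_add, dt_comp g hb, h.comb]
  rw [act_inv_eq g hb]; exact mk_lt _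

theorem Rep.append (h : IsVal D) {f f' : List (ℕ × ℕ)} {v v' : W24} (hf : Rep D Ls f v)
    (hf' : Rep D Ls f' v') : Rep D Ls (f ++ f') (v + v') := by
  intro b hb
  rw [dt_add, ← hf b hb, ← hf' b hb, ← h]
  congr 1
  clear hf
  induction f with
  | nil => exact (Nat.zero_xor _).symm
  | cons x f ih =>
    show _ ^^^ maskOf Ls b (f ++ f') = (_ ^^^ maskOf Ls b f) ^^^ _
    rw [ih, Nat.xor_assoc]

/-- strict evaluation of a list -/
def forceL {β : Type} (l : List ℕ) : (List ℕ → β) → β :=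
  List.rec (motive := fun _ => (List ℕ → β) → β) (fun k => k [])
    (fun a _ ih k => force a fun a' => ih fun l' => k (a' :: l')) l

theorem forceL_eq {β : Type} (l : List ℕ) (k : List ℕ → β) : forceL l k = k l := by
  induction l generalizing k with
  | nil => rfl
  | cons a l ih =>
    show force a (fun a' => forceL l fun l' => k (a' :: l')) = _
    rw [force_eq, ih]

/-- the exclusive or of the members of a list selected by the bits of `k` -/
def linF (l : List ℕ) : ℕ → ℕ → ℕ :=
  List.rec (motive := fun _ => ℕ → ℕ → ℕ) (fun _ acc => acc)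
    (fun b _ ih k acc => force (Nat.shiftRight k 1) fun k' =>
      force (bif' (tb k 0) (Nat.xor acc b) acc) (ih k')) l

theorem IsVal.linF (h : IsVal D) {l : List ℕ} (hl : ∀ r ∈ l, D r = 0) (k acc : ℕ) :
    D (linF l k acc) = D acc := by
  induction l generalizing k acc with
  | nil => rfl
  | cons b l ih =>
    show D (force (Nat.shiftRight k 1) fun k' =>
      force (bif' (tb k 0) (Nat.xor acc b) acc) (CfsgH5.linF l k')) = _
    rw [force_eq, force_eq, ih fun r hr => hl r (List.mem_cons_of_mem _ hr), bif'_eq]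
    split_ifs
    · exact (h _ _).trans (by rw [hl b List.mem_cons_self, add_zero])
    · rfl

/-- every form of a list of tails is a combination of the rows -/
def spanChk (rows : List ℕ) (R m : ℕ) (mask : ℕ → ℕ) (B : List ℕ) : ℕ → Bool :=
  List.rec (motive := fun _ => ℕ → Bool) (fun _ => true)
    (fun b _ ih e => band (Nat.beq (force (Nat.land e m) fun k => linF rows k 0) (mask b))
      (force (Nat.shiftRight e R) ih)) B

theorem IsVal.spanChk (h : IsVal D) {rows : List ℕ} (hl : ∀ r ∈ rows, D r = 0) {R m : ℕ}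
    {mask : ℕ → ℕ} {B : List ℕ} {e : ℕ} (hc : spanChk rows R m mask B e = true) :
    ∀ b ∈ B, D (mask b) = 0 := by
  induction B generalizing e with
  | nil => simp
  | cons b B ih =>
    change band _ (force _ (CfsgH5.spanChk rows R m mask B)) = true at hc
    rw [band_eq, Bool.and_eq_true, force_eq, force_eq, beq_true_iff] at hc
    intro c hc'
    rcases List.mem_cons.1 hc' with rfl | hc'
    · rw [← hc.1, h.linF hl, h.zero]
    · exact ih hc.2 c hc'

/-! ### Extensions -/

/-- a group over the symmetric group whose kernel is described by binary words -/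
structure Ext (E : Type*) [Group E] (cs B : List ℕ) (okc : ℕ → Bool) where
  π : E →* Equiv.Perm GolayPt
  T : E → W24 → Prop
  one : T 1 0
  mul : ∀ {e e' v v'}, T e v → T e' v' → T (e * e') (v + v')
  conj : ∀ {e v} (g : E), T e v → T (g * e * g⁻¹) (v ∘ ⇑(π g)⁻¹)
  ker : ∀ {e}, π e = 1 → ∃ k, T e (word (lin cs k))
  ex : ∀ c, okc c = true → ∃ e, T e (word c)
  zero : ∀ {v}, T 1 v → ∀ b ∈ B, dt b v = 0
  eq_one : ∀ {e v}, T e v → (∀ b ∈ B, dt b v = 0) → e = 1
  pi : ∀ {e v}, T e v → π e = 1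

namespace Ext

variable {E : Type*} [Group E] {cs B : List ℕ} {okc : ℕ → Bool} (X : Ext E cs B okc)

theorem sq {e : E} {v : W24} (h : X.T e v) : e * e = 1 :=
  X.eq_one (X.mul h h) fun b _ => by rw [dt_add, CharTwo.add_self_eq_zero]

theorem uniq {e e' : E} {v : W24} (h : X.T e v) (h' : X.T e' v) : e = e' := by
  have h1 : e * e' = 1 := X.eq_one (X.mul h h') fun b _ => by rw [dt_add, CharTwo.add_self_eq_zero]
  exact mul_left_cancel ((X.sq h).trans h1.symm)

theorem ker_sq : ∀ a ∈ X.π.ker, a * a = 1 := fun a ha => (X.ker ha).elim fun _ h => X.sq h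

theorem ker_comm : ∀ a ∈ X.π.ker, ∀ b ∈ X.π.ker, a * b = b * a := fun a ha b hb => by
  obtain ⟨_, h⟩ := X.ker ha
  obtain ⟨_, h'⟩ := X.ker hb
  exact X.uniq (X.mul h h') (by rw [add_comm]; exact X.mul h' h)

theorem ex_vec (D : ℕ → ZMod 2) {L : List (ℕ × ℕ)} (h : ∀ x ∈ L, okc x.1 = true) :
    ∃ e, X.T e (vec D L) := by
  induction L with
  | nil => exact ⟨1, X.one⟩
  | cons x L ih =>
    obtain ⟨e, he⟩ := ih fun y hy => h y (List.mem_cons_of_mem _ hy)
    obtain ⟨e', he'⟩ := X.ex _ (h x List.mem_cons_self)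
    rw [vec_cons]
    have : ∀ t : ZMod 2, t = 0 ∨ t = 1 := by decide
    rcases this (D x.2) with h0 | h0
    · exact ⟨e, by rwa [h0, zero_smul, zero_add]⟩
    · exact ⟨_, by rw [h0, one_smul]; exact X.mul he' he⟩

/-- two elements differ by the element of the kernel given by a list of tails -/
def Eqv (D : ℕ → ZMod 2) (Ls : ℕ → List (ℕ × ℕ)) (a b : E) (f : List (ℕ × ℕ)) : Prop :=
  ∃ e v, X.T e v ∧ Rep D Ls f v ∧ a = e * b

theorem Eqv.refl (h : IsVal D) (a : E) : X.Eqv D Ls a a [] :=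
  ⟨1, 0, X.one, Rep.nil h, (one_mul a).symm⟩

variable {X} in
theorem Eqv.symm {a b : E} {f : List (ℕ × ℕ)} (h : X.Eqv D Ls a b f) : X.Eqv D Ls b a f := by
  obtain ⟨e, v, h1, h2, rfl⟩ := h
  exact ⟨e, v, h1, h2, by rw [← mul_assoc, X.sq h1, one_mul]⟩

variable {X} in
theorem Eqv.trans (hD : IsVal D) {a b c : E} {f f' : List (ℕ × ℕ)} (h : X.Eqv D Ls a b f)
    (h' : X.Eqv D Ls b c f') : X.Eqv D Ls a c (f ++ f') := by
  obtain ⟨e, v, h1, h2, rfl⟩ := h
  obtain ⟨e', v', h1', h2', rfl⟩ := h'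
  exact ⟨_, _, X.mul h1 h1', h2.append hD h2', (mul_assoc _ _ _).symm⟩

variable {X} in
theorem Eqv.zero {a : E} {f : List (ℕ × ℕ)} (h : X.Eqv D Ls a a f) (hB : ∀ b ∈ B, b < 16777216) :
    ∀ b ∈ B, D (maskOf Ls b f) = 0 := by
  obtain ⟨e, v, h1, h2, h3⟩ := h
  obtain rfl : e = 1 := (right_eq_mul.1 h3)
  intro b hb
  rw [h2 b (hB b hb), X.zero h1 b hb]

variable {X} in
theorem Eqv.eq {a b : E} {f : List (ℕ × ℕ)} (h : X.Eqv D Ls a b f) (hB : ∀ b ∈ B, b < 16777216)
    (h0 : ∀ b ∈ B, D (maskOf Ls b f) = 0) : a = b := by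
  obtain ⟨e, v, h1, h2, h3⟩ := h
  rw [h3, X.eq_one h1 fun b hb => by rw [← h2 b (hB b hb), h0 b hb], one_mul]

theorem eqv_conj (hD : IsVal D) {e : E} {s : ℕ} (he : X.T e (vec D (Ls s))) (g a : E) :
    X.Eqv D Ls (g * e * a) (g * a) [(C24.code (X.π g), s)] :=
  ⟨g * e * g⁻¹, _, by rw [add_zero]; exact X.conj g he, (Rep.nil hD).cons hD _ _, by group⟩

end Ext

/-- running a list of rewriting steps -/
def runW (Xc : ℕ → ℕ) (lw rw : ℕ → List ℕ) (NS : ℕ) (K : List ℕ → List (ℕ × ℕ) → List ℕ)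
    (st : List ℕ) : List ℕ → List (ℕ × ℕ) → List ℕ :=
  List.rec (motive := fun _ => List ℕ → List (ℕ × ℕ) → List ℕ) K (fun c _ ih w f =>
    force (Nat.shiftRight c 6) fun s => force (Nat.land (Nat.shiftRight c 1) 31) fun pos =>
    forceL (bif' (tb c 0) (rw s) (lw s)) fun l => forceL (bif' (tb c 0) (lw s) (rw s)) fun r =>
    forceL (w.take pos) fun u => forceL (w.drop (pos + l.length)) fun t =>
    bif' (band (Nat.blt s NS) (decide (w = u ++ (l ++ t))))
      (forceL (u ++ (r ++ t)) fun w' => force (evP ops24 Xc u) fun p => ih w' ((p, s) :: f)) []) st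

/-- the linear conditions given by a closed list of rewriting steps -/
def idRows (Xc : ℕ → ℕ) (lw rw : ℕ → List ℕ) (NS : ℕ) (Ls : ℕ → List (ℕ × ℕ)) (B : List ℕ)
    (d : List ℕ × List ℕ) : List ℕ :=
  runW Xc lw rw NS (fun w f => bif' (decide (w = d.1)) (B.map fun b => maskOf Ls b f) []) d.2 d.1 []

/-- the tails caused by changing the lifts -/
def fox (Xc : ℕ → ℕ) (w : List ℕ) : ℕ → List (ℕ × ℕ) :=
  List.rec (motive := fun _ => ℕ → List (ℕ × ℕ)) (fun _ => [])
    (fun a _ ih p => (p, Nat.add 128 a) :: force (Xc a) fun q => force (mul24 p q) ih) w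

/-- the slots -/
def slots (cs : List ℕ) (F : ℕ → List ℕ) (α : ℕ → ℕ) (lam : ℕ) (s : ℕ) : List (ℕ × ℕ) :=
  bif' (Nat.blt s 128) (basL cs (Nat.mul 11 s))
    (bif' (Nat.blt s 192) (cs.zip (F (Nat.sub s 128))) [(α (Nat.sub s 192), lam)])

/-- the final test -/
def mainChk (Xc : ℕ → ℕ) (lw rw : ℕ → List ℕ) (NS : ℕ) (Ls : ℕ → List (ℕ × ℕ)) (B : List ℕ)
    (ids : List (List ℕ × List ℕ)) (PC : List ℕ) (R m : ℕ) (KK : ℕ → ℕ) : Bool :=
  forceL (ids.flatMap (idRows Xc lw rw NS Ls B)) fun rows =>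
    allL PC fun s => band (Nat.blt s NS) (spanChk rows R m (fun b => maskOf Ls b
      (fox Xc (lw s) ops24.one ++ ([(ops24.one, s)] ++ (fox Xc (rw s) ops24.one ++
        [(ops24.one, Nat.add 192 s)])))) B (KK s))

namespace Ext

variable {E : Type*} [Group E] {cs B : List ℕ} {okc : ℕ → Bool} (X : Ext E cs B okc)
  {Xc : ℕ → ℕ} {x : ℕ → E} {lw rw : ℕ → List ℕ} {NS : ℕ}

theorem runW_sound (hD : IsVal D) (hx : ∀ i, C24.code (X.π (x i)) = Xc i)
    (hr : ∀ s < NS, ∃ e, X.T e (vec D (Ls s)) ∧ ev x (lw s) = e * ev x (rw s))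
    {K : List ℕ → List (ℕ × ℕ) → List ℕ} {a : E}
    (hK : ∀ w f, X.Eqv D Ls (ev x w) a f → ∀ r ∈ K w f, D r = 0) (st w : List ℕ) (f : List (ℕ × ℕ))
    (h : X.Eqv D Ls (ev x w) a f) : ∀ r ∈ runW Xc lw rw NS K st w f, D r = 0 := by
  induction st generalizing w f with
  | nil => exact hK w f h
  | cons c st ih =>
    intro r hr'
    revert r
    change ∀ r ∈ force (Nat.shiftRight c 6) fun s => force (Nat.land (Nat.shiftRight c 1) 31) fun pos =>
      forceL (bif' (tb c 0) (rw s) (lw s)) fun l => forceL (bif' (tb c 0) (lw s) (rw s)) fun r =>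
      forceL (w.take pos) fun u => forceL (w.drop (pos + l.length)) fun t =>
      bif' (band (Nat.blt s NS) (decide (w = u ++ (l ++ t))))
        (forceL (u ++ (r ++ t)) fun w' => force (evP ops24 Xc u) fun p =>
          runW Xc lw rw NS K st w' ((p, s) :: f)) ([] : List ℕ), D r = 0
    simp only [force_eq, forceL_eq]
    rw [bif'_eq]
    split_ifs with h1
    · rw [band_eq, Bool.and_eq_true, blt_true_iff, decide_eq_true_eq] at h1
      obtain ⟨e, he, hs⟩ := hr _ h1.1
      apply ih
      rw [h1.2] at h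
      refine Eqv.trans hD (f := [_]) ?_ h
      rw [← code_ev X.π hx]
      simp only [ev_append]
      cases tb c 0
      · simp only [bif'_false]
        rw [hs, mul_assoc e, ← mul_assoc _ e]
        exact (X.eqv_conj hD he _ _).symm
      · simp only [bif'_true]
        rw [hs, mul_assoc e, ← mul_assoc _ e]
        exact X.eqv_conj hD he _ _
    · simp

theorem rows_sound (hD : IsVal D) (hx : ∀ i, C24.code (X.π (x i)) = Xc i)
    (hr : ∀ s < NS, ∃ e, X.T e (vec D (Ls s)) ∧ ev x (lw s) = e * ev x (rw s))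
    (hB : ∀ b ∈ B, b < 16777216) (ids : List (List ℕ × List ℕ)) :
    ∀ r ∈ ids.flatMap (idRows Xc lw rw NS Ls B), D r = 0 := by
  intro r hr'
  obtain ⟨d, -, hd⟩ := List.mem_flatMap.1 hr'
  refine X.runW_sound hD hx hr (a := ev x d.1) (fun w f h r hr => ?_) _ _ _ (Eqv.refl X hD _) r hd
  rw [bif'_eq] at hr
  split_ifs at hr with h1
  · rw [decide_eq_true_eq] at h1
    obtain ⟨b, hb, rfl⟩ := List.mem_map.1 hr
    exact (h1 ▸ h).zero hB b hb
  · simp at hr

theorem eqv_fox (hD : IsVal D) (hx : ∀ i, C24.code (X.π (x i)) = Xc i) {n : ℕ → E}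
    (hn : ∀ i, X.T (n i) (vec D (Ls (128 + i)))) (w : List ℕ) (g : E) :
    X.Eqv D Ls (g * ev (fun i => n i * x i) w) (g * ev x w) (fox Xc w (C24.code (X.π g))) := by
  induction w generalizing g with
  | nil => exact Eqv.refl X hD _
  | cons a w ih =>
    have h1 := ih (g * x a)
    rw [map_mul, C24.code_mul, hx] at h1
    have h2 := X.eqv_conj hD (hn a) g (x a * ev (fun i => n i * x i) w)
    rw [← mul_assoc g (x a)] at h2
    have := h2.trans hD h1
    rw [ev_cons, ev_cons]
    simp only [mul_assoc] at this ⊢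
    show X.Eqv D Ls _ _ (_ :: force _ fun q => force _ (fox Xc w))
    rw [force_eq, force_eq]
    exact this

theorem eqv_fox' (hD : IsVal D) (hx : ∀ i, C24.code (X.π (x i)) = Xc i) {n : ℕ → E}
    (hn : ∀ i, X.T (n i) (vec D (Ls (128 + i)))) (w : List ℕ) :
    X.Eqv D Ls (ev (fun i => n i * x i) w) (ev x w) (fox Xc w ops24.one) := by
  have := X.eqv_fox hD hx hn w 1
  rwa [one_mul, one_mul, map_one, C24.code_one] at this

theorem eqv_one (hD : IsVal D) {e : E} {s : ℕ} (he : X.T e (vec D (Ls s))) (a : E) :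
    X.Eqv D Ls (e * a) a [(ops24.one, s)] := by
  have := X.eqv_conj hD he 1 a
  rwa [one_mul, one_mul, map_one, C24.code_one] at this

theorem main (hx : ∀ i, C24.code (X.π (x i)) = Xc i) (hNS : NS ≤ 128) (hcs : cs.length ≤ 11)
    (hok : ∀ c ∈ cs, okc c = true) (hB : ∀ b ∈ B, b < 16777216)
    (hrel : allLt NS (fun s => Nat.beq (evP ops24 Xc (lw s)) (evP ops24 Xc (rw s))) = true)
    {F : ℕ → List ℕ} {α : ℕ → ℕ} {lam : ℕ} (hα : ∀ s, okc (α s) = true)
    {ids : List (List ℕ × List ℕ)} {PC : List ℕ} {R m : ℕ} {KK : ℕ → ℕ}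
    (h : mainChk Xc lw rw NS (slots cs F α lam) B ids PC R m KK = true) :
    ∃ x' : ℕ → E, (∀ i, C24.code (X.π (x' i)) = Xc i) ∧ ∃ t : ZMod 2, ∀ s ∈ PC,
      ∃ a, X.T a (t • word (α s)) ∧ ev x' (lw s) = a * ev x' (rw s) := by
  have h1 : ∀ s, ∃ k, s < NS → X.T (ev x (lw s) * (ev x (rw s))⁻¹) (word (lin cs k)) := fun s => by
    by_cases hs : s < NS
    · have := (beq_true_iff _ _).1 ((allLt_iff _ _).1 hrel s hs)
      rw [← code_ev X.π hx, ← code_ev X.π hx, C24.code_inj.eq_iff] at this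
      obtain ⟨k, hk⟩ := X.ker (e := ev x (lw s) * (ev x (rw s))⁻¹)
        (by rw [map_mul, map_inv, this, mul_inv_cancel])
      exact ⟨k, fun _ => hk⟩
    · exact ⟨0, fun h => absurd h hs⟩
  choose κ hκ using h1
  set D := valOf fun i => if 64 ≤ i ∧ (κ ((i - 64) / 11)).testBit ((i - 64) % 11) then 1 else 0
  have hD : IsVal D := isVal_valOf _
  set Ls := slots cs F α lam
  have hr : ∀ s < NS, ∃ e, X.T e (vec D (Ls s)) ∧ ev x (lw s) = e * ev x (rw s) := fun s hs => by
    refine ⟨_, ?_, (inv_mul_cancel_right _ _).symm⟩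
    have : Ls s = basL cs (11 * s) := by
      show bif' _ _ _ = _
      rw [(blt_true_iff _ _).2 (lt_of_lt_of_le hs hNS)]; rfl
    rw [this, vec_basL (fun i hi => if_neg fun h => absurd h.1 (by omega)) _ _ (κ s) fun j hj => by
      rw [show (11 * s + j + 64 - 64) / 11 = s by omega, show (11 * s + j + 64 - 64) % 11 = j by omega]
      simp]
    exact hκ s hs
  have hex : ∀ s, ∃ e, X.T e (vec D (Ls s)) := fun s => X.ex_vec D fun y hy => by
    simp only [Ls, slots, bif'_eq] at hy
    split_ifs at hy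
    · exact hok _ (mem_basL hy)
    · exact hok _ (List.of_mem_zip hy).1
    · rw [List.mem_singleton.1 hy]; exact hα _
  choose n hn using hex
  refine ⟨fun i => n (128 + i) * x i, fun i => by rw [map_mul, X.pi (hn _), one_mul, hx],
    D lam, fun s hs => ⟨n (192 + s), ?_, ?_⟩⟩
  · have : Ls (192 + s) = [(α s, lam)] := by
      simp only [Ls, slots, bif'_eq, blt_true_iff]
      rw [if_neg (by omega), if_neg (by omega), Nat.sub_eq, Nat.add_sub_cancel_left]
    have h2 := hn (192 + s)
    rwa [this, vec_cons, show vec D [] = 0 from rfl, add_zero] at h2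
  · rw [mainChk, forceL_eq, allL_iff] at h
    have h2 := h s hs
    rw [band_eq, Bool.and_eq_true, blt_true_iff] at h2
    obtain ⟨e, he, hs'⟩ := hr s h2.1
    have hn' : ∀ i, X.T (n (128 + i)) (vec D (Ls (128 + i))) := fun i => hn _
    refine Eqv.eq ((X.eqv_fox' hD hx hn' (lw s)).trans hD (Eqv.trans hD ?_
      (((X.eqv_fox' hD hx hn' (rw s)).symm).trans hD (X.eqv_one hD (hn (192 + s)) _).symm))) hB
      (hD.spanChk (X.rows_sound hD hx hr hB ids) h2.2)
    rw [hs']
    exact X.eqv_one hD he _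

end Ext

end

end CfsgH5
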