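/-
A Sylow 2-subgroup of the stabiliser of a point, with some fusion.
-/
import Cfsg.Agent.H5.Coh
import Cfsg.Prelude.Def_Spor_Mathieu

set_option autoImplicit false
set_option linter.unusedSimpArgs false
set_option linter.unusedVariables false

namespace CfsgH5

open Cfsg
open scoped Pointwise
open MulAction

noncomputable section

/-- a polycyclic sequence of a Sylow 2-subgroup and further elements -/
def xc23 : ℕ → ℕ := nthD [0xbc2954c9d6345ac41e6b53ca418440, 0xbda6aaacb048da8951ec31e2470820, 0xbd8cf3b1d0a45b24254b9d46428820, 0xb9e086be3593a6952d94b10a618820, 0xbc92655a2c3b9706cea47d0a818820, 0xbb4c93ae2453ac893e8c9d4b018820, 0xbc0ea332364b892451ebaccad18820, 0xbd947a34aca86485a5e434c50181d1, 0xbae93559d230d8d21eb04bca888041, 0xb9d96945f56a66e2920342d46a0820, 0xbd96a44ca4a45b53a5e66487070440] ops24.one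

/-- left sides -/
def lw23 (s : ℕ) : List ℕ := List.getD
  [[0, 0], [], [], [], [], [], [], [], [1, 0], [1, 1], [], [], [], [], [], [], [2, 0], [2, 1], [2, 2], [], [], [], [], [], [3, 0], [3, 1], [3, 2], [3, 3], [], [], [], [], [4, 0], [4, 1], [4, 2], [4, 3], [4, 4], [], [], [], [5, 0], [5, 1], [5, 2], [5, 3], [5, 4], [5, 5], [], [], [6, 0], [6, 1], [6, 2], [6, 3], [6, 4], [6, 5], [6, 6], [], [], [], [], [], [], [], [], [], [7, 1, 2], [7, 4], [7, 5], [7, 3], [7, 6], [], [], [], [8, 1], [8, 2], [8, 4], [8, 3], [8, 5], [8, 6], [], [], [9, 0], [9, 1], [9, 2], [9, 5], [9, 6], [], [], [], [10, 1], [10, 2], [10, 4], [10, 3], [10, 5], [10, 6], [], []] s []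

/-- right sides -/
def rw23 (s : ℕ) : List ℕ := List.getD
  [[], [], [], [], [], [], [], [], [0, 1, 2], [], [], [], [], [], [], [], [0, 2], [1, 2], [], [], [], [], [], [], [0, 3, 4, 5, 6], [1, 3, 5, 6], [2, 3, 5], [], [], [], [], [], [0, 4, 6], [1, 4, 5], [2, 4, 6], [3, 4], [], [], [], [], [0, 5, 6], [1, 5], [2, 5], [3, 5], [4, 5], [], [], [], [0, 6], [1, 6], [2, 6], [3, 6], [4, 6], [5, 6], [], [], [], [], [], [], [], [], [], [], [0, 2, 6, 7], [5, 7], [4, 7], [3, 5, 6, 7], [4, 6, 7], [], [], [], [1, 2, 5, 6, 8], [1, 5, 8], [4, 5, 8], [3, 5, 6, 8], [5, 6, 8], [5, 8], [], [], [0, 2, 4, 9], [1, 5, 6, 9], [2, 5, 9], [1, 6, 9], [2, 5, 6, 9], [], [], [], [2, 10], [1, 10], [3, 5, 10], [4, 6, 10], [5, 10], [5, 6, 10], [], []] s []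

/-- the polycyclic rules -/
def pc23 : List ℕ := [0, 8, 9, 16, 17, 18, 24, 25, 26, 27, 32, 33, 34, 35, 36, 40, 41, 42, 43, 44, 45, 48, 49, 50, 51, 52, 53, 54]

/-- chain of the Sylow 2-subgroup -/
def cP23 : List Level :=
  [⟨1, [0xbbecc6cca940e86ac967811ca88440], 0x6,
    ap 120 0xffffffffffffffffffffffffffffff 0xbbecc6cca940e86ac967811ca88440bdab49ca307b9ac5a928398a418820000000000000000000000000000000,
    ap 1 1 0x0, ap 1 1 0x4⟩,
   ⟨3, [0xbd8cf3b1d0a45b24254b9d46428820, 0xbb674ab064796d24292b31dd088820], 0x24028,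
    ap 120 0xffffffffffffffffffffffffffffff 0xbb674ab064796d24292b31dd088820000000000000000000000000000000000000000000000000000000000000bb4ef348a4a0ecc5a548ace3070820000000000000000000000000000000000000000000000000000000000000000000000000000000000000000000000000000000000000000000000000000000000000000000000000000000000000000000000000000000000000000000000000000000000000000000000000000000000000000000000000bd8cf3b1d0a45b24254b9d46428820000000000000000000000000000000bdab49ca307b9ac5a928398a418820000000000000000000000000000000000000000000000000000000000000000000000000000000000000000000,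
    ap 1 1 0x24000, ap 2 3 0x420000400⟩,
   ⟨4, [0xbd6cb22627638cfa224a834b318820, 0xba1474922b3398d85676a3cb218820, 0xbc0ea332364b892451ebaccad18820, 0xbb1f3a4232ab916218ed4a8ab18820], 0x7dbfd0,
    ap 120 0xffffffffffffffffffffffffffffff 0xb926faa22da3a0b6255231cb618820bcc8cb2a265b8f47c9096c0b518820bbd8459e29b39559b606920b418820bd6cb22627638cfa224a834b318820ba1474922b3398d85676a3cb218820000000000000000000000000000000bb4c93ae2453ac893e8c9d4b018820bd17661a2a23933ac1a7448af18820000000000000000000000000000000bc0ea332364b892451ebaccad18820bae957b6289ba44b1cd0524ac18820bb1f3a4232ab916218ed4a8ab18820ba64d4562f83a87312d362caa18820ba91094e346b9e63d8955b0a918820bc92655a2c3b9706cea47d0a818820b99b28523343aaa4b16f258a718820b9e086be3593a6952d94b10a618820000000000000000000000000000000bdab49ca307b9ac5a928398a418820000000000000000000000000000000000000000000000000000000000000000000000000000000000000000000000000000000000000000000000000,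
    ap 2 3 0x3f138af7e000, ap 3 7 0xe224260a2d2680000⟩]

/-- a basis of the words vanishing at the extra point -/
def c11 : List ℕ := [0x24f801, 0x49f002, 0x371804, 0x6e3008, 0x789810, 0x55c820, 0xf6840, 0x1ed080, 0x3da100, 0x7b4200, 0x527c00]

/-- the first eleven points -/
def s11 : List ℕ := [0x1, 0x2, 0x4, 0x8, 0x10, 0x20, 0x40, 0x80, 0x100, 0x200, 0x400]

theorem rel23 : allLt 96 (fun s => Nat.beq (evP ops24 xc23 (lw23 s)) (evP ops24 xc23 (rw23 s))) = true := by
  decide +kernel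

theorem mem_M23_iff (g : Equiv.Perm GolayPt) : g ∈ Spor.M23 ↔ g ∈ (Fix [23] []).map M24.subtype :=
  ⟨fun h => ⟨⟨g, h.1⟩, ⟨fun i hi => by rw [List.mem_singleton.1 hi]; exact h.2, by simp⟩, rfl⟩,
    fun ⟨k, hk, e⟩ => e ▸ ⟨k.2, hk.1 23 List.mem_cons_self⟩⟩

theorem card_M23 : Nat.card Spor.M23 = 10200960 := by
  rw [Subgroup.ext mem_M23_iff, Subgroup.card_map_of_injective Subtype.val_injective, card_Fix1]

theorem in_M23 {p : ℕ} (h : inFix [23] [] p = true) : C24.In Spor.M23 p := by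
  obtain ⟨g, hg, e⟩ := in_Fix h
  exact ⟨g, (mem_M23_iff _).2 ⟨g, hg, rfl⟩, e⟩

theorem xc23_in (i : ℕ) : C24.In Spor.M23 (xc23 i) :=
  C24.in_nthD (fun s hs => in_M23 (by revert s; decide +kernel)) i

theorem exists_lifts23 {E : Type*} [Group E] (π : E →* Equiv.Perm GolayPt) (hπ : π.range = Spor.M23) :
    ∃ x : ℕ → E, ∀ i, C24.code (π (x i)) = xc23 i := by
  have : ∀ i, ∃ e, C24.code (π e) = xc23 i := fun i => by
    obtain ⟨g, hg, e⟩ := xc23_in i
    obtain ⟨y, rfl⟩ := hπ.ge hg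
    exact ⟨y, e⟩
  exact ⟨_, fun i => (this i).choose_spec⟩

theorem card_P23 : Nat.card (C24.grp ([0, 1, 2, 3, 4, 5, 6].map xc23)) = 128 := by
  have hv : ∀ s ∈ gens cP23, C24.In ⊤ s := E24.valid24 (by decide +kernel)
  have hc : checkC ops24 cP23 = true := by decide +kernel
  have hv' : ∀ s ∈ [0, 1, 2, 3, 4, 5, 6].map xc23, C24.In ⊤ s := E24.valid24 (by decide +kernel)
  have hx : ∀ i, C24.In (C24.grp ([0, 1, 2, 3, 4, 5, 6].map xc23)) (nthD ([0, 1, 2, 3, 4, 5, 6].map xc23) ops24.one i) :=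
    C24.in_nthD fun s hs => C24.in_grp hv' hs
  choose x hx1 hx2 using hx
  have hw : ∀ w, C24.In (C24.grp ([0, 1, 2, 3, 4, 5, 6].map xc23))
      (evP ops24 (nthD ([0, 1, 2, 3, 4, 5, 6].map xc23) ops24.one) w) := fun w =>
    ⟨ev x w, Subgroup.list_prod_mem _ fun y hy => by
      obtain ⟨a, -, rfl⟩ := List.mem_map.1 hy; exact hx1 a, C24.code_ev hx2 w⟩
  rw [le_antisymm (C24.grp_le fun s hs => C24.in_of_memC hv hc (hv' s hs) (by revert s; decide +kernel))
    (C24.grp_le fun s hs => by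
      have : ∀ s ∈ gens cP23, ∃ w ∈ [[0, 1, 3], [2], [1, 2, 5], [3, 6], [4, 5, 6], [6], [4, 6]],
        evP ops24 (nthD ([0, 1, 2, 3, 4, 5, 6].map xc23) ops24.one) w = s := by decide +kernel
      obtain ⟨w, -, rfl⟩ := this s hs
      exact hw w), C24.card_grp hv hc]
  decide +kernel

theorem split23 {E : Type*} [Group E] [Finite E] (π : E →* Equiv.Perm GolayPt) (hπ : π.range = Spor.M23)
    (hc : ∀ a ∈ π.ker, ∀ b ∈ π.ker, a * b = b * a) (h2 : ∀ a ∈ π.ker, a * a = 1)
    {x : ℕ → E} (hx : ∀ i, C24.code (π (x i)) = xc23 i)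
    (hr : ∀ s ∈ pc23, ev x (lw23 s) = ev x (rw23 s)) :
    ∃ H : Subgroup E, H ⊓ π.ker = ⊥ ∧ H ⊔ π.ker = ⊤ :=
  split_of_lifts π hc h2 hx hr (L := [0, 1, 2, 3, 4, 5, 6]) (by decide +kernel) (by decide +kernel)
    (k := 79695) (by decide) (by rw [hπ, card_M23, card_P23])

end

end CfsgH5
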