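/-
The code module and the cocode module of the stabiliser of a point.
-/
import Cfsg.Agent.H5.Coh23

set_option autoImplicit false
set_option linter.unusedSimpArgs false
set_option linter.unusedVariables false

namespace CfsgH5

open Cfsg
open scoped Pointwise
open MulAction

noncomputable section

/-- the projection of an extension -/
def projM {E : Type*} [Group E] (N : Subgroup E) [N.Normal] (φ : E ⧸ N ≃* Spor.M23) :
    E →* Equiv.Perm GolayPt :=
  Spor.M23.subtype.comp (φ.toMonoidHom.comp (QuotientGroup.mk' N))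

theorem projM_range {E : Type*} [Group E] (N : Subgroup E) [N.Normal] (φ : E ⧸ N ≃* Spor.M23) :
    (projM N φ).range = Spor.M23 := by
  ext g
  refine ⟨fun ⟨e, he⟩ => he ▸ (φ (QuotientGroup.mk e)).2, fun hg => ?_⟩
  obtain ⟨e, he⟩ := QuotientGroup.mk_surjective (φ.symm ⟨g, hg⟩)
  exact ⟨e, by show ((φ (QuotientGroup.mk e) : Spor.M23) : Equiv.Perm GolayPt) = g; rw [he]; simp⟩

theorem projM_ker {E : Type*} [Group E] (N : Subgroup E) [N.Normal] (φ : E ⧸ N ≃* Spor.M23) :
    (projM N φ).ker = N := by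
  ext e
  show ((φ (QuotientGroup.mk e) : Spor.M23) : Equiv.Perm GolayPt) = 1 ↔ _
  rw [OneMemClass.coe_eq_one, map_eq_one_iff _ φ.injective, QuotientGroup.eq_one_iff]

theorem natCast_zero_iff (n : ℕ) : (n : ZMod 2) = 0 ↔ n % 2 = 0 := by
  rw [ZMod.natCast_eq_zero_iff, Nat.dvd_iff_mod_eq_zero]

theorem c11_lt : ∀ b ∈ c11, b < 16777216 := by decide +kernel
theorem s11_lt : ∀ b ∈ s11, b < 16777216 := by decide +kernel

/-- test for code words that vanish at the extra point -/
def okC (c : ℕ) : Bool := band (isC c) (bnot (tb c 23))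

theorem exists_cw {v : W24} (hv : v ∈ golayCode) (h0 : v none = 0) :
    ∃ j < 4096, tb (cw j) 23 = false ∧ v = word (cw j) := by
  obtain ⟨m, hm, rfl⟩ := (mem_golay_iff v).1 hv
  obtain ⟨j, hj, rfl⟩ := isC_iff.1 hm
  refine ⟨j, hj, ?_, rfl⟩
  rw [tb_eq]
  by_contra h
  rw [Bool.not_eq_false] at h
  have : word (cw j) none = 1 := if_pos h
  exact absurd (this.symm.trans h0) one_ne_zero

theorem c11_chk : allLt 4096 (fun j => force (cw j) fun c => bor (tb c 23)
    (band (Nat.beq (lin c11 j) c) (bor (Nat.beq j 0)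
      (anyL s11 fun b => Nat.beq (Nat.mod (pop24 (Nat.land b c)) 2) 1)))) = true := by decide +kernel

/-- an extension by the code module -/
def codExt {E : Type*} [Group E] (N : Subgroup E) [hN : N.Normal] (φ : E ⧸ N ≃* Spor.M23)
    (ψ : Additive N →+ W24) (hinj : Function.Injective ψ)
    (hrange : ∀ w : W24, w ∈ Set.range ψ ↔ (w ∈ golayCode ∧ w none = 0))
    (hψ : ∀ (g : E) (n : N), ψ (Additive.ofMul ⟨g * n * g⁻¹, hN.conj_mem n n.2 g⟩) =
      ψ (Additive.ofMul n) ∘ ⇑(projM N φ g)⁻¹) : Ext E c11 s11 okC where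
  π := projM N φ
  T e v := ∃ h : e ∈ N, ψ (Additive.ofMul ⟨e, h⟩) = v
  one := ⟨N.one_mem, map_zero ψ⟩
  mul := fun ⟨h, e⟩ ⟨h', e'⟩ => ⟨N.mul_mem h h', by rw [← e, ← e', ← map_add]; rfl⟩
  conj := fun g ⟨h, e⟩ => ⟨_, e ▸ hψ g ⟨_, h⟩⟩
  ker := fun {e} he => by
    have h : e ∈ N := projM_ker N φ ▸ he
    obtain ⟨h1, h2⟩ := (hrange _).1 ⟨Additive.ofMul ⟨e, h⟩, rfl⟩
    obtain ⟨j, hj, h3, h4⟩ := exists_cw h1 h2
    have := (allLt_iff _ _).1 c11_chk j hj
    rw [force_eq, h3, bor_eq, Bool.false_or, band_eq, Bool.and_eq_true, beq_true_iff] at this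
    exact ⟨j, h, by rw [this.1, h4]⟩
  ex := fun c hc => by
    rw [okC, band_eq, Bool.and_eq_true, bnot_eq, tb_eq, Bool.not_eq_true'] at hc
    obtain ⟨n, hn⟩ := (hrange (word c)).2 ⟨word_mem_of_isC hc.1, if_neg (by
      show ¬ c.testBit 23 = true
      rw [hc.2]; decide)⟩
    exact ⟨_, n.toMul.2, hn⟩
  zero := fun ⟨h, e⟩ b _ => by
    rw [← e, show ψ (Additive.ofMul ⟨1, h⟩) = 0 from map_zero ψ, dt_zero]
  eq_one := fun {e v} ⟨h, he⟩ h0 => by
    obtain ⟨h1, h2⟩ := (hrange _).1 ⟨_, he⟩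
    obtain ⟨j, hj, h3, h4⟩ := exists_cw h1 h2
    have := (allLt_iff _ _).1 c11_chk j hj
    rw [force_eq, h3, bor_eq, Bool.false_or, band_eq, Bool.and_eq_true, bor_eq, Bool.or_eq_true,
      beq_true_iff j, anyL_iff] at this
    rcases this.2 with rfl | ⟨b, hb, h5⟩
    · rw [h4, show cw 0 = 0 by decide +kernel, word_zero, ← map_zero ψ] at he
      exact congrArg (fun n : Additive N => (n.toMul : E)) (hinj he)
    · have := h0 b hb
      rw [h4, dt_word (s11_lt b hb), natCast_zero_iff] at this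
      rw [beq_true_iff] at h5
      exact absurd (this.symm.trans h5) (by decide)
  pi := fun ⟨h, _⟩ => (projM_ker N φ).ge h

theorem single_none : (Pi.single none 1 : W24) = word 0x800000 := by
  funext a; revert a; decide +kernel

theorem dt_c11 {u : W24} (hu : u ∈ golayCode ∨ u + Pi.single none 1 ∈ golayCode) :
    ∀ b ∈ c11, dt b u = 0 := by
  intro b hb
  have h1 : ∀ v ∈ golayCode, dt b v = 0 := fun v hv => by
    obtain ⟨m, hm, rfl⟩ := (mem_golay_iff v).1 hv
    refine isC_induction (P := fun m => dt b (word m) = 0) (by rw [word_zero, dt_zero])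
      (fun a c ha hc => by rw [word_xor, dt_add, ha, hc, add_zero]) (fun c hc => ?_) hm
    rw [dt_word (c11_lt b hb), natCast_zero_iff]
    revert c b
    decide +kernel
  rcases hu with hu | hu
  · exact h1 u hu
  · have := h1 _ hu
    rwa [dt_add, single_none, dt_word (c11_lt b hb), (natCast_zero_iff _).2
      ((by decide +kernel : ∀ b ∈ c11, pop24 (Nat.land b 0x800000) % 2 = 0) b hb), add_zero] at this

theorem exists_s11 {A : Type*} [AddGroup A] (θ : W24 →+ A)
    (hker : ∀ w : W24, θ w = 0 ↔ (w ∈ golayCode ∨ w + Pi.single none 1 ∈ golayCode)) (w : W24) :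
    ∃ k, θ (word (lin s11 k)) = θ w := by
  have h0 : word (lin s11 0) = 0 := by rw [show lin s11 0 = 0 by decide +kernel, word_zero]
  induction w using Pi.single_induction with
  | zero => exact ⟨0, by rw [h0]⟩
  | add f g hf hg =>
    obtain ⟨j, hj⟩ := hf
    obtain ⟨k, hk⟩ := hg
    exact ⟨j ^^^ k, by rw [lin_xor, word_xor, map_add, map_add, hj, hk]⟩
  | single a t =>
    have ht : ∀ t : ZMod 2, t = 0 ∨ t = 1 := by decide
    rcases ht t with rfl | rfl
    · exact ⟨0, by rw [h0, Pi.single_zero]⟩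
    · have h1 : ∀ a : GolayPt, (Pi.single a 1 : W24) = word (2 ^ pn a) := by
        intro a; funext b; revert a b; decide +kernel
      have h2 : ∀ a : GolayPt, ∃ k ∈ [1, 2, 4, 8, 16, 32, 64, 128, 256, 512, 1024, 1141, 1183, 1355, 1763, 435, 870, 1740, 493, 986, 1972, 797, 1594, 0], isC (lin s11 k ^^^ 2 ^ pn a) = true ∨
          isC (lin s11 k ^^^ 2 ^ pn a ^^^ 0x800000) = true := by decide +kernel
      obtain ⟨k, -, hk⟩ := h2 a
      refine ⟨k, ?_⟩
      rw [← sub_eq_zero, ← map_sub, CharTwo.sub_eq_add, hker, h1, single_none, ← word_xor, ← word_xor]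
      exact hk.imp word_mem_of_isC word_mem_of_isC

theorem s11_chk : allLt 2048 (fun j => bor (Nat.beq j 0)
    (anyL c11 fun b => Nat.beq (Nat.mod (pop24 (Nat.land b j)) 2) 1)) = true := by decide +kernel

theorem theta_eq_zero {A : Type*} [AddGroup A] (θ : W24 →+ A)
    (hker : ∀ w : W24, θ w = 0 ↔ (w ∈ golayCode ∨ w + Pi.single none 1 ∈ golayCode)) {w : W24}
    (h0 : ∀ b ∈ c11, dt b w = 0) : θ w = 0 := by
  obtain ⟨k, hk⟩ := exists_s11 θ hker w
  have h1 := dt_c11 ((hker _).1 (show θ (word (lin s11 k) - w) = 0 by rw [map_sub, hk, sub_self]))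
  have h2 : lin s11 k < 2048 := lin_induction (P := fun m => m < 2048) (by norm_num)
    (fun a b ha hb => Nat.xor_lt_two_pow (n := 11) ha hb) s11 (by decide +kernel) k
  have := (allLt_iff _ _).1 s11_chk _ h2
  rw [bor_eq, Bool.or_eq_true, beq_true_iff, anyL_iff] at this
  rcases this with h | ⟨b, hb, h⟩
  · rw [← hk, h, word_zero, map_zero]
  · have h3 := h1 b hb
    rw [CharTwo.sub_eq_add, dt_add, h0 b hb, add_zero, dt_word (c11_lt b hb), natCast_zero_iff] at h3
    rw [beq_true_iff] at h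
    exact absurd (h3.symm.trans h) (by decide)

/-- an extension by the cocode module -/
def cocExt {E : Type*} [Group E] (N : Subgroup E) (π : E →* Equiv.Perm GolayPt) (hπ : π.ker = N)
    (θ : W24 →+ Additive N) (hsurj : Function.Surjective θ)
    (hker : ∀ w : W24, θ w = 0 ↔ (w ∈ golayCode ∨ w + Pi.single none 1 ∈ golayCode))
    (hθ : ∀ (g : E) (w : W24), ((θ (w ∘ ⇑(π g)⁻¹)).toMul : E) = g * ((θ w).toMul : E) * g⁻¹) :
    Ext E s11 c11 fun _ => true where
  π := π
  T e v := ((θ v).toMul : E) = e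
  one := by rw [map_zero]; rfl
  mul := fun h h' => by rw [← h, ← h', map_add]; rfl
  conj := fun g h => h ▸ hθ g _
  ker := fun {e} he => by
    obtain ⟨w, hw⟩ := hsurj (Additive.ofMul ⟨e, hπ.le he⟩)
    obtain ⟨k, hk⟩ := exists_s11 θ hker w
    exact ⟨k, by rw [hk, hw]; rfl⟩
  ex := fun c _ => ⟨_, rfl⟩
  zero := fun {v} h => dt_c11 ((hker v).1 (Additive.toMul.injective (Subtype.ext h)))
  eq_one := fun h h0 => by rw [← h, theta_eq_zero θ hker h0]; rfl
  pi := fun {e v} h => h ▸ hπ.ge (θ v).toMul.2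

end

end CfsgH5
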