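/-
Fi23: checks of the small levels (generated).
-/
import Cfsg.Agent.H5.F23B

set_option autoImplicit false
set_option maxRecDepth 100000
set_option linter.all false

namespace CfsgH5.F23

open KT

noncomputable section

theorem k4_0 : allIco 0 120 c4 = true := by decide +kernel
theorem all4 : ∀ p, p < 120 → c4 p = true := (all_of_blocks all_zero k4_0)
theorem k5_0 : allIco 0 16 c5 = true := by decide +kernel
theorem all5 : ∀ p, p < 16 → c5 p = true := (all_of_blocks all_zero k5_0)
theorem k6_0 : allIco 0 27 c6 = true := by decide +kernel
theorem all6 : ∀ p, p < 27 → c6 p = true := (all_of_blocks all_zero k6_0)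
theorem k7_0 : allIco 0 1000 c7 = true := by decide +kernel
theorem k7_1000 : allIco 1000 1550 c7 = true := by decide +kernel
theorem all7 : ∀ p, p < 1550 → c7 p = true := (all_of_blocks (all_of_blocks all_zero k7_0) k7_1000)
theorem k8_0 : allIco 0 1000 c8 = true := by decide +kernel
theorem k8_1000 : allIco 1000 2000 c8 = true := by decide +kernel
theorem k8_2000 : allIco 2000 2179 c8 = true := by decide +kernel
theorem all8 : ∀ p, p < 2179 → c8 p = true := (all_of_blocks (all_of_blocks (all_of_blocks all_zero k8_0) k8_1000) k8_2000)
theorem k9_0 : allIco 0 1000 c9 = true := by decide +kernel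
theorem k9_1000 : allIco 1000 2000 c9 = true := by decide +kernel
theorem k9_2000 : allIco 2000 3000 c9 = true := by decide +kernel
theorem k9_3000 : allIco 3000 4000 c9 = true := by decide +kernel
theorem k9_4000 : allIco 4000 5000 c9 = true := by decide +kernel
theorem k9_5000 : allIco 5000 6000 c9 = true := by decide +kernel
theorem k9_6000 : allIco 6000 7000 c9 = true := by decide +kernel
theorem k9_7000 : allIco 7000 8000 c9 = true := by decide +kernel
theorem k9_8000 : allIco 8000 9000 c9 = true := by decide +kernel
theorem k9_9000 : allIco 9000 10000 c9 = true := by decide +kernel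
theorem k9_10000 : allIco 10000 11000 c9 = true := by decide +kernel
theorem k9_11000 : allIco 11000 12000 c9 = true := by decide +kernel
theorem k9_12000 : allIco 12000 13000 c9 = true := by decide +kernel
theorem k9_13000 : allIco 13000 14000 c9 = true := by decide +kernel
theorem k9_14000 : allIco 14000 15000 c9 = true := by decide +kernel
theorem k9_15000 : allIco 15000 15280 c9 = true := by decide +kernel
theorem all9 : ∀ p, p < 15280 → c9 p = true := (all_of_blocks (all_of_blocks (all_of_blocks (all_of_blocks (all_of_blocks (all_of_blocks (all_of_blocks (all_of_blocks (all_of_blocks (all_of_blocks (all_of_blocks (all_of_blocks (all_of_blocks (all_of_blocks (all_of_blocks (all_of_blocks all_zero k9_0) k9_1000) k9_2000) k9_3000) k9_4000) k9_5000) k9_6000) k9_7000) k9_8000) k9_9000) k9_10000) k9_11000) k9_12000) k9_13000) k9_14000) k9_15000)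

end

end CfsgH5.F23
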