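/-
Fi23: check of the coset table (generated).
-/
import Cfsg.Agent.H5.F23D

set_option autoImplicit false
set_option maxRecDepth 100000
set_option linter.all false

namespace CfsgH5.F23

open KT

noncomputable section

theorem k10_0 : allIco 0 1000 c10 = true := by decide +kernel
theorem k10_1000 : allIco 1000 2000 c10 = true := by decide +kernel
theorem k10_2000 : allIco 2000 3000 c10 = true := by decide +kernel
theorem k10_3000 : allIco 3000 4000 c10 = true := by decide +kernel
theorem k10_4000 : allIco 4000 5000 c10 = true := by decide +kernel
theorem k10_5000 : allIco 5000 6000 c10 = true := by decide +kernel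
theorem k10_6000 : allIco 6000 7000 c10 = true := by decide +kernel
theorem k10_7000 : allIco 7000 8000 c10 = true := by decide +kernel
theorem k10_8000 : allIco 8000 9000 c10 = true := by decide +kernel
theorem k10_9000 : allIco 9000 10000 c10 = true := by decide +kernel
theorem k10_10000 : allIco 10000 11000 c10 = true := by decide +kernel
theorem k10_11000 : allIco 11000 12000 c10 = true := by decide +kernel
theorem k10_12000 : allIco 12000 13000 c10 = true := by decide +kernel
theorem k10_13000 : allIco 13000 14000 c10 = true := by decide +kernel
theorem k10_14000 : allIco 14000 15000 c10 = true := by decide +kernel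
theorem k10_15000 : allIco 15000 16000 c10 = true := by decide +kernel
theorem k10_16000 : allIco 16000 17000 c10 = true := by decide +kernel
theorem k10_17000 : allIco 17000 18000 c10 = true := by decide +kernel
theorem k10_18000 : allIco 18000 19000 c10 = true := by decide +kernel
theorem k10_19000 : allIco 19000 20000 c10 = true := by decide +kernel
theorem k10_20000 : allIco 20000 21000 c10 = true := by decide +kernel
theorem k10_21000 : allIco 21000 22000 c10 = true := by decide +kernel
theorem k10_22000 : allIco 22000 23000 c10 = true := by decide +kernel
theorem k10_23000 : allIco 23000 24000 c10 = true := by decide +kernel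
theorem k10_24000 : allIco 24000 25000 c10 = true := by decide +kernel
theorem k10_25000 : allIco 25000 26000 c10 = true := by decide +kernel
theorem k10_26000 : allIco 26000 27000 c10 = true := by decide +kernel
theorem k10_27000 : allIco 27000 28000 c10 = true := by decide +kernel
theorem k10_28000 : allIco 28000 29000 c10 = true := by decide +kernel
theorem k10_29000 : allIco 29000 30000 c10 = true := by decide +kernel
theorem k10_30000 : allIco 30000 31000 c10 = true := by decide +kernel
theorem k10_31000 : allIco 31000 31902 c10 = true := by decide +kernel
theorem all10 : ∀ p, p < 31902 → c10 p = true := (all_of_blocks (all_of_blocks (all_of_blocks (all_of_blocks (all_of_blocks (all_of_blocks (all_of_blocks (all_of_blocks (all_of_blocks (all_of_blocks (all_of_blocks (all_of_blocks (all_of_blocks (all_of_blocks (all_of_blocks (all_of_blocks (all_of_blocks (all_of_blocks (all_of_blocks (all_of_blocks (all_of_blocks (all_of_blocks (all_of_blocks (all_of_blocks (all_of_blocks (all_of_blocks (all_of_blocks (all_of_blocks (all_of_blocks (all_of_blocks (all_of_blocks (all_of_blocks all_zero k10_0) k10_1000) k10_2000) k10_3000) k10_4000) k10_5000) k10_6000) k10_7000) k10_8000) k10_9000)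 k10_10000) k10_11000) k10_12000) k10_13000) k10_14000) k10_15000) k10_16000) k10_17000) k10_18000) k10_19000) k10_20000) k10_21000) k10_22000) k10_23000) k10_24000) k10_25000) k10_26000) k10_27000) k10_28000) k10_29000) k10_30000) k10_31000)

end

end CfsgH5.F23
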