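/-
Fi23: checks of the model (generated).
-/
import Cfsg.Agent.H5.F23M

set_option autoImplicit false
set_option maxRecDepth 100000
set_option linter.all false

namespace CfsgH5.F23

open KT

noncomputable section

theorem km_0 : allIco 0 1000 cm = true := by decide +kernel
theorem km_1000 : allIco 1000 2000 cm = true := by decide +kernel
theorem km_2000 : allIco 2000 3000 cm = true := by decide +kernel
theorem km_3000 : allIco 3000 4000 cm = true := by decide +kernel
theorem km_4000 : allIco 4000 5000 cm = true := by decide +kernel
theorem km_5000 : allIco 5000 6000 cm = true := by decide +kernel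
theorem km_6000 : allIco 6000 7000 cm = true := by decide +kernel
theorem km_7000 : allIco 7000 8000 cm = true := by decide +kernel
theorem km_8000 : allIco 8000 9000 cm = true := by decide +kernel
theorem km_9000 : allIco 9000 10000 cm = true := by decide +kernel
theorem km_10000 : allIco 10000 11000 cm = true := by decide +kernel
theorem km_11000 : allIco 11000 12000 cm = true := by decide +kernel
theorem km_12000 : allIco 12000 13000 cm = true := by decide +kernel
theorem km_13000 : allIco 13000 14000 cm = true := by decide +kernel
theorem km_14000 : allIco 14000 15000 cm = true := by decide +kernel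
theorem km_15000 : allIco 15000 16000 cm = true := by decide +kernel
theorem km_16000 : allIco 16000 17000 cm = true := by decide +kernel
theorem km_17000 : allIco 17000 18000 cm = true := by decide +kernel
theorem km_18000 : allIco 18000 19000 cm = true := by decide +kernel
theorem km_19000 : allIco 19000 20000 cm = true := by decide +kernel
theorem km_20000 : allIco 20000 21000 cm = true := by decide +kernel
theorem km_21000 : allIco 21000 22000 cm = true := by decide +kernel
theorem km_22000 : allIco 22000 23000 cm = true := by decide +kernel
theorem km_23000 : allIco 23000 24000 cm = true := by decide +kernel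
theorem km_24000 : allIco 24000 25000 cm = true := by decide +kernel
theorem km_25000 : allIco 25000 26000 cm = true := by decide +kernel
theorem km_26000 : allIco 26000 27000 cm = true := by decide +kernel
theorem km_27000 : allIco 27000 28000 cm = true := by decide +kernel
theorem km_28000 : allIco 28000 29000 cm = true := by decide +kernel
theorem km_29000 : allIco 29000 30000 cm = true := by decide +kernel
theorem km_30000 : allIco 30000 31000 cm = true := by decide +kernel
theorem km_31000 : allIco 31000 31671 cm = true := by decide +kernel
theorem allm : ∀ p, p < 31671 → cm p = true := (all_of_blocks (all_of_blocks (all_of_blocks (all_of_blocks (all_of_blocks (all_of_blocks (all_of_blocks (all_of_blocks (all_of_blocks (all_of_blocks (all_of_blocks (all_of_blocks (all_of_blocks (all_of_blocks (all_of_blocks (all_of_blocks (all_of_blocks (all_of_blocks (all_of_blocks (all_of_blocks (all_of_blocks (all_of_blocks (all_of_blocks (all_of_blocks (all_of_blocks (all_of_blocks (all_of_blocks (all_of_blocks (all_of_blocks (all_of_blocks (all_of_blocks (all_of_blocks all_zero km_0) km_1000) km_2000) km_3000) km_4000) km_5000) km_6000) km_7000) km_8000) km_9000) km_10000) km_11000)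 km_12000) km_13000) km_14000) km_15000) km_16000) km_17000) km_18000) km_19000) km_20000) km_21000) km_22000) km_23000) km_24000) km_25000) km_26000) km_27000) km_28000) km_29000) km_30000) km_31000)
theorem kd_1 : allIco 1 2 (dchk R 15 32767 W kk 2048 0) = true := by decide +kernel
theorem kd_2 : allIco 2 3 (dchk R 15 32767 W kk 4096 1) = true := by decide +kernel
theorem kd_3 : allIco 3 4 (dchk R 15 32767 W kk 8192 2) = true := by decide +kernel
theorem kd_4 : allIco 4 5 (dchk R 15 32767 W kk 16384 3) = true := by decide +kernel
theorem kd_5 : allIco 5 52 (dchk R 15 32767 W kk 491680 4) = true := by decide +kernel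
theorem kd_52 : allIco 52 53 (dchk R 15 32767 W kk 524288 3) = true := by decide +kernel
theorem kd_53 : allIco 53 55 (dchk R 15 32767 W kk 3145728 52) = true := by decide +kernel
theorem kd_55 : allIco 55 183 (dchk R 15 32767 W kk 33208 3) = true := by decide +kernel
theorem kd_183 : allIco 183 695 (dchk R 15 32767 W kk 446 2) = true := by decide +kernel
theorem kd_695 : allIco 695 696 (dchk R 15 32767 W kk 64 1) = true := by decide +kernel
theorem kd_696 : allIco 696 1719 (dchk R 15 32767 W kk 4686634 695) = true := by decide +kernel
theorem kd_1719 : allIco 1719 3511 (dchk R 15 32767 W kk 190 695) = true := by decide +kernel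
theorem kd_3511 : allIco 3511 3512 (dchk R 15 32767 W kk 1024 0) = true := by decide +kernel
theorem kd_3512 : allIco 3512 7512 (dchk R 15 32767 W kk 1022 3511) = true := by decide +kernel
theorem kd_7512 : allIco 7512 11512 (dchk R 15 32767 W kk 1022 3511) = true := by decide +kernel
theorem kd_11512 : allIco 11512 15512 (dchk R 15 32767 W kk 1022 3511) = true := by decide +kernel
theorem kd_15512 : allIco 15512 19512 (dchk R 15 32767 W kk 1022 3511) = true := by decide +kernel
theorem kd_19512 : allIco 19512 23512 (dchk R 15 32767 W kk 1022 3511) = true := by decide +kernel
theorem kd_23512 : allIco 23512 27512 (dchk R 15 32767 W kk 1022 3511) = true := by decide +kernel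
theorem kd_27512 : allIco 27512 31512 (dchk R 15 32767 W kk 1022 3511) = true := by decide +kernel
theorem kd_31512 : allIco 31512 31671 (dchk R 15 32767 W kk 1022 3511) = true := by decide +kernel

end

end CfsgH5.F23
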