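/-
Fi23: the long relators in the model (generated).
-/
import Cfsg.Agent.H5.F23M

set_option autoImplicit false
set_option maxRecDepth 100000
set_option linter.all false

namespace CfsgH5.F23

open KT

noncomputable section

theorem ks_0 : allIco 0 1000 cs = true := by decide +kernel
theorem ks_1000 : allIco 1000 2000 cs = true := by decide +kernel
theorem ks_2000 : allIco 2000 3000 cs = true := by decide +kernel
theorem ks_3000 : allIco 3000 4000 cs = true := by decide +kernel
theorem ks_4000 : allIco 4000 5000 cs = true := by decide +kernel
theorem ks_5000 : allIco 5000 6000 cs = true := by decide +kernel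
theorem ks_6000 : allIco 6000 7000 cs = true := by decide +kernel
theorem ks_7000 : allIco 7000 8000 cs = true := by decide +kernel
theorem ks_8000 : allIco 8000 9000 cs = true := by decide +kernel
theorem ks_9000 : allIco 9000 10000 cs = true := by decide +kernel
theorem ks_10000 : allIco 10000 11000 cs = true := by decide +kernel
theorem ks_11000 : allIco 11000 12000 cs = true := by decide +kernel
theorem ks_12000 : allIco 12000 13000 cs = true := by decide +kernel
theorem ks_13000 : allIco 13000 14000 cs = true := by decide +kernel
theorem ks_14000 : allIco 14000 15000 cs = true := by decide +kernel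
theorem ks_15000 : allIco 15000 16000 cs = true := by decide +kernel
theorem ks_16000 : allIco 16000 17000 cs = true := by decide +kernel
theorem ks_17000 : allIco 17000 18000 cs = true := by decide +kernel
theorem ks_18000 : allIco 18000 19000 cs = true := by decide +kernel
theorem ks_19000 : allIco 19000 20000 cs = true := by decide +kernel
theorem ks_20000 : allIco 20000 21000 cs = true := by decide +kernel
theorem ks_21000 : allIco 21000 22000 cs = true := by decide +kernel
theorem ks_22000 : allIco 22000 23000 cs = true := by decide +kernel
theorem ks_23000 : allIco 23000 24000 cs = true := by decide +kernel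
theorem ks_24000 : allIco 24000 25000 cs = true := by decide +kernel
theorem ks_25000 : allIco 25000 26000 cs = true := by decide +kernel
theorem ks_26000 : allIco 26000 27000 cs = true := by decide +kernel
theorem ks_27000 : allIco 27000 28000 cs = true := by decide +kernel
theorem ks_28000 : allIco 28000 29000 cs = true := by decide +kernel
theorem ks_29000 : allIco 29000 30000 cs = true := by decide +kernel
theorem ks_30000 : allIco 30000 31000 cs = true := by decide +kernel
theorem ks_31000 : allIco 31000 31671 cs = true := by decide +kernel
theorem alls : ∀ p, p < 31671 → cs p = true := (all_of_blocks (all_of_blocks (all_of_blocks (all_of_blocks (all_of_blocks (all_of_blocks (all_of_blocks (all_of_blocks (all_of_blocks (all_of_blocks (all_of_blocks (all_of_blocks (all_of_blocks (all_of_blocks (all_of_blocks (all_of_blocks (all_of_blocks (all_of_blocks (all_of_blocks (all_of_blocks (all_of_blocks (all_of_blocks (all_of_blocks (all_of_blocks (all_of_blocks (all_of_blocks (all_of_blocks (all_of_blocks (all_of_blocks (all_of_blocks (all_of_blocks (all_of_blocks all_zero ks_0) ks_1000) ks_2000) ks_3000) ks_4000) ks_5000) ks_6000) ks_7000) ks_8000) ks_9000) ks_10000) ks_11000)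 ks_12000) ks_13000) ks_14000) ks_15000) ks_16000) ks_17000) ks_18000) ks_19000) ks_20000) ks_21000) ks_22000) ks_23000) ks_24000) ks_25000) ks_26000) ks_27000) ks_28000) ks_29000) ks_30000) ks_31000)
theorem ke_0 : allIco 0 1000 ce = true := by decide +kernel
theorem ke_1000 : allIco 1000 2000 ce = true := by decide +kernel
theorem ke_2000 : allIco 2000 3000 ce = true := by decide +kernel
theorem ke_3000 : allIco 3000 4000 ce = true := by decide +kernel
theorem ke_4000 : allIco 4000 5000 ce = true := by decide +kernel
theorem ke_5000 : allIco 5000 6000 ce = true := by decide +kernel
theorem ke_6000 : allIco 6000 7000 ce = true := by decide +kernel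
theorem ke_7000 : allIco 7000 8000 ce = true := by decide +kernel
theorem ke_8000 : allIco 8000 9000 ce = true := by decide +kernel
theorem ke_9000 : allIco 9000 10000 ce = true := by decide +kernel
theorem ke_10000 : allIco 10000 11000 ce = true := by decide +kernel
theorem ke_11000 : allIco 11000 12000 ce = true := by decide +kernel
theorem ke_12000 : allIco 12000 13000 ce = true := by decide +kernel
theorem ke_13000 : allIco 13000 14000 ce = true := by decide +kernel
theorem ke_14000 : allIco 14000 15000 ce = true := by decide +kernel
theorem ke_15000 : allIco 15000 16000 ce = true := by decide +kernel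
theorem ke_16000 : allIco 16000 17000 ce = true := by decide +kernel
theorem ke_17000 : allIco 17000 18000 ce = true := by decide +kernel
theorem ke_18000 : allIco 18000 19000 ce = true := by decide +kernel
theorem ke_19000 : allIco 19000 20000 ce = true := by decide +kernel
theorem ke_20000 : allIco 20000 21000 ce = true := by decide +kernel
theorem ke_21000 : allIco 21000 22000 ce = true := by decide +kernel
theorem ke_22000 : allIco 22000 23000 ce = true := by decide +kernel
theorem ke_23000 : allIco 23000 24000 ce = true := by decide +kernel
theorem ke_24000 : allIco 24000 25000 ce = true := by decide +kernel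
theorem ke_25000 : allIco 25000 26000 ce = true := by decide +kernel
theorem ke_26000 : allIco 26000 27000 ce = true := by decide +kernel
theorem ke_27000 : allIco 27000 28000 ce = true := by decide +kernel
theorem ke_28000 : allIco 28000 29000 ce = true := by decide +kernel
theorem ke_29000 : allIco 29000 30000 ce = true := by decide +kernel
theorem ke_30000 : allIco 30000 31000 ce = true := by decide +kernel
theorem ke_31000 : allIco 31000 31671 ce = true := by decide +kernel
theorem alle : ∀ p, p < 31671 → ce p = true := (all_of_blocks (all_of_blocks (all_of_blocks (all_of_blocks (all_of_blocks (all_of_blocks (all_of_blocks (all_of_blocks (all_of_blocks (all_of_blocks (all_of_blocks (all_of_blocks (all_of_blocks (all_of_blocks (all_of_blocks (all_of_blocks (all_of_blocks (all_of_blocks (all_of_blocks (all_of_blocks (all_of_blocks (all_of_blocks (all_of_blocks (all_of_blocks (all_of_blocks (all_of_blocks (all_of_blocks (all_of_blocks (all_of_blocks (all_of_blocks (all_of_blocks (all_of_blocks all_zero ke_0) ke_1000) ke_2000) ke_3000) ke_4000) ke_5000) ke_6000) ke_7000) ke_8000) ke_9000) ke_10000) ke_11000) ke_12000) ke_13000) ke_14000) ke_15000) ke_16000) ke_17000) ke_18000)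 ke_19000) ke_20000) ke_21000) ke_22000) ke_23000) ke_24000) ke_25000) ke_26000) ke_27000) ke_28000) ke_29000) ke_30000) ke_31000)

end

end CfsgH5.F23
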