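/-
Keyed coset enumeration certificates for groups generated by involutions.
Letters are numbers `1, …, L` below 16, words are lists of letters (the first letter acts first).
Every point has a row; the field `x` of the row of `p` holds a target, a certificate and a time.
-/
import Cfsg.Agent.H5.Bits

set_option autoImplicit false

namespace CfsgH5.KT

open scoped Pointwise

noncomputable section

/-- search trees of packed tables -/
inductive Tr where
  | leaf (n : ℕ) : Tr
  | node (m : ℕ) (l r : Tr) : Tr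

/-- a block of 64 rows -/
def Tr.get (t : Tr) : ℕ → ℕ :=
  Tr.rec (motive := fun _ => ℕ → ℕ) (fun n _ => n)
    (fun m _ _ l r p => Bool.rec (motive := fun _ => ℕ) (l p) (r p) (Nat.ble m p)) t

/-- the row of a point -/
def row (T : Tr) (w m p : ℕ) : ℕ :=
  Nat.rec (motive := fun _ => ℕ) 0
    (fun q _ => Nat.land (Nat.shiftRight (T.get q) (Nat.mul w (Nat.land p 63))) m)
    (Nat.add (Nat.shiftRight p 6) 1)

/-- field `x` of a row -/
def fld (R : ℕ → ℕ) (p x : ℕ) : ℕ := Nat.land (Nat.shiftRight (R p) (Nat.mul 36 x)) 68719476735 - 1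
/-- the identification entry -/
def ep (EP : ℕ → ℕ) (p : ℕ) : ℕ := Nat.land (EP p) 68719476735 - 1
/-- target -/
def tg (e : ℕ) : ℕ := Nat.land e 1048575 - 1
/-- the defining letter -/
def dx (r : ℕ) : ℕ := Nat.land (Nat.shiftRight r 32) 15
/-- `a < b` -/
def lt (a b : ℕ) : Bool := Nat.ble (Nat.succ a) b

theorem lt_iff (a b : ℕ) : lt a b = true ↔ a < b := ble_true_iff _ _

theorem nrec {x : ℕ} {f : ℕ → Bool} :
    Nat.rec (motive := fun _ => Bool) false (fun n _ => f n) x = true ↔ x ≠ 0 ∧ f (x - 1) = true := by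
  cases x <;> simp

theorem brec {a b c : Bool} : Bool.rec (motive := fun _ => Bool) a b c = true ↔
    (c = false ∧ a = true) ∨ (c = true ∧ b = true) := by
  cases c <;> simp

theorem ble_false_iff (a b : ℕ) : Nat.ble a b = false ↔ b < a := by
  rw [← Bool.not_eq_true, ble_true_iff, not_le]

/-- follow the identifications older than `t` -/
def nrm (EP : ℕ → ℕ) (NF t : ℕ) (k : ℕ → Bool) (f : ℕ) : ℕ → Bool :=
  Nat.rec (motive := fun _ => ℕ → Bool) (fun _ => false)
    (fun _ ih j => Bool.rec (motive := fun _ => Bool) (k j)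
      (Nat.rec (motive := fun _ => Bool) false (fun e _ => Bool.rec (motive := fun _ => Bool)
        (Nat.rec (motive := fun _ => Bool) false (fun i _ => ih i) (Nat.land e 1048575)) (k j)
        (Nat.ble t e)) (Nat.land (EP j) 68719476735)) (Nat.ble NF j)) f

/-- walk along a word, using entries older than `t` -/
def walk (R EP : ℕ → ℕ) (NF t fin : ℕ) (l : List ℕ) : ℕ → Bool :=
  List.rec (motive := fun _ => ℕ → Bool) (fun p => Nat.beq p fin)
    (fun x _ ih p => Nat.rec (motive := fun _ => Bool) false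
      (fun e _ => Bool.rec (motive := fun _ => Bool)
        (Nat.rec (motive := fun _ => Bool) false
          (fun j _ => Bool.rec (motive := fun _ => Bool) (ih j) (nrm EP NF t ih 64 j) (Nat.ble NF j))
          (Nat.land e 1048575)) false (Nat.ble t e))
      (Nat.land (Nat.shiftRight (R p) (Nat.mul 36 x)) 68719476735)) l

/-- check of a defining entry -/
def dfn (R : ℕ → ℕ) (SUB p x e j : ℕ) : Bool :=
  bif' (Nat.beq p 0) (band (Nat.beq j 0) (tb SUB x))
    (band (Nat.beq x (dx (R p))) (bor (Nat.beq j 0) (lt (fld R j (dx (R j))) e)))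

/-- check of a target that is not final -/
def far (EP : ℕ → ℕ) (NF NP p j : ℕ) : Bool :=
  band (lt j NP) (bor (Nat.ble NF p) (nrm EP NF 68652367872 (fun i => lt i NF) 64 j))

/-- check of the entry `x` of the point `p` -/
def ent (R EP : ℕ → ℕ) (RT : ℕ → ℕ → List ℕ) (NF NP SUB p x : ℕ) : Bool :=
  Nat.rec (motive := fun _ => Bool) false (fun e _ => Bool.rec (motive := fun _ => Bool)
    (Nat.rec (motive := fun _ => Bool) false (fun j _ => Bool.rec (motive := fun _ => Bool) false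
      (Nat.rec (motive := fun _ => Bool) (dfn R SUB p x e j)
        (fun c _ => walk R EP NF e p (RT x c) j) (Nat.land (Nat.shiftRight e 20) 63))
      (Bool.rec (motive := fun _ => Bool) true (far EP NF NP p j) (Nat.ble NF j)))
      (Nat.land e 1048575))
    (Nat.ble NF p) (Nat.ble 68652367872 e))
    (Nat.land (Nat.shiftRight (R p) (Nat.mul 36 x)) 68719476735)

/-- check of the identification of the point `p` -/
def idn (R EP : ℕ → ℕ) (RT : ℕ → ℕ → List ℕ) (NF NP L p : ℕ) : Bool :=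
  force (ep EP p) fun e => force (tg e) fun j =>
    bor (Nat.ble 68652367872 e) <| band (lt j NP) <|
      force (Nat.land (Nat.shiftRight (EP p) 36) 15) fun x => band (lt 0 x) <| band (Nat.ble x L) <|
      force (Nat.sub (Nat.land (Nat.shiftRight e 20) 63) 1) fun c => walk R EP NF e p (x :: RT x c) j

/-- check of a point; `X` is the list of the letters in use -/
def chk (R EP : ℕ → ℕ) (RT : ℕ → ℕ → List ℕ) (NF NP L SUB : ℕ) (X : List ℕ) (p : ℕ) : Bool :=
  Nat.rec (motive := fun _ => Bool) false (fun p _ => band (List.rec (motive := fun _ => Bool) true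
      (fun x _ ih => Bool.rec (motive := fun _ => Bool) false ih (ent R EP RT NF NP SUB p x)) X)
    (bor (lt p NF) (idn R EP RT NF NP L p))) (Nat.add p 1)

variable {G : Type*} [Group G]

/-- value of a list of letters, the first letter acting first -/
def wl (g : ℕ → G) (l : List ℕ) : G := (l.reverse.map g).prod

theorem wl_nil (g : ℕ → G) : wl g [] = 1 := rfl

theorem wl_cons (g : ℕ → G) (x : ℕ) (l : List ℕ) : wl g (x :: l) = wl g l * g x := by simp [wl]

theorem wl_append (g : ℕ → G) (l m : List ℕ) : wl g (l ++ m) = wl g m * wl g l := by simp [wl]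

/-- all letters of the word are in use -/
def Wd (L : ℕ) (l : List ℕ) : Prop := ∀ x ∈ l, 0 < x ∧ x ≤ L

variable {Ω : Type*} [MulAction G Ω]

/-- the time of the definition of a point -/
def tdf (R : ℕ → ℕ) (p : ℕ) : ℕ := if p = 0 then 0 else fld R p (dx (R p)) + 1

/-- the points -/
def pt (R : ℕ → ℕ) (g : ℕ → G) (ω : Ω) (p : ℕ) : Ω :=
  if _h : tdf R (tg (fld R p (dx (R p)))) < tdf R p then
    g (dx (R p)) • pt R g ω (tg (fld R p (dx (R p)))) else ω
termination_by tdf R p
decreasing_by exact _h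

theorem pt_zero (R : ℕ → ℕ) (g : ℕ → G) (ω : Ω) : pt R g ω 0 = ω := by
  rw [pt, dif_neg (by simp [tdf])]

/-- the hypotheses on the letters and the table of relators -/
structure Let (g : ℕ → G) (RT : ℕ → ℕ → List ℕ) (L : ℕ) : Prop where
  sq : ∀ x, g x * g x = 1
  rel : ∀ x c, 0 < x → x ≤ L → Wd L (RT x c) ∧ wl g (RT x c) * g x = 1

variable {R EP : ℕ → ℕ} {RT : ℕ → ℕ → List ℕ} {NF NP L SUB : ℕ} {X : List ℕ} {g : ℕ → G} {ω : Ω}

/-- the facts older than `t` hold -/
def Holds (R EP : ℕ → ℕ) (NF NP L : ℕ) (g : ℕ → G) (ω : Ω) (t : ℕ) : Prop :=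
  ∀ p, p < NP → (∀ x, 0 < x → x ≤ L → fld R p x < t →
      tg (fld R p x) < NP ∧ pt R g ω (tg (fld R p x)) = g x • pt R g ω p) ∧
    (NF ≤ p → ep EP p < t → tg (ep EP p) < NP ∧ pt R g ω (tg (ep EP p)) = pt R g ω p)

theorem nrm_sound {t : ℕ} (H : Holds R EP NF NP L g ω t) {k : ℕ → Bool} (f : ℕ) :
    ∀ j, j < NP → nrm EP NF t k f j = true → ∃ i, i < NP ∧ pt R g ω i = pt R g ω j ∧ k i = true := by
  induction f with
  | zero => intro j _ h; cases h
  | succ f ih =>
    intro j hj h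
    rcases brec.1 h with ⟨-, h⟩ | ⟨h1, h⟩
    · exact ⟨j, hj, rfl, h⟩
    rcases brec.1 (nrec.1 h).2 with ⟨h2, h⟩ | ⟨-, h⟩
    · obtain ⟨h3, h4⟩ := (H j hj).2 ((ble_true_iff _ _).1 h1) ((ble_false_iff _ _).1 h2)
      obtain ⟨i, k1, k2, k3⟩ := ih _ h3 (nrec.1 h).2
      exact ⟨i, k1, k2.trans h4, k3⟩
    · exact ⟨j, hj, rfl, h⟩

theorem walk_sound {t fin : ℕ} (H : Holds R EP NF NP L g ω t) (l : List ℕ) :
    ∀ p, Wd L l → p < NP → walk R EP NF t fin l p = true → pt R g ω fin = wl g l • pt R g ω p := by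
  induction l with
  | nil => intro p _ _ h; rw [wl_nil, one_smul, (beq_true_iff _ _).1 h]
  | cons x l ih =>
    intro p hw hp h
    obtain ⟨h2, h3⟩ := List.forall_mem_cons.1 hw
    rcases brec.1 (nrec.1 h).2 with ⟨h1, h⟩ | ⟨-, h⟩
    · obtain ⟨h4, h5⟩ := (H p hp).1 _ h2.1 h2.2 ((ble_false_iff _ _).1 h1)
      rcases brec.1 (nrec.1 h).2 with ⟨-, h⟩ | ⟨-, h⟩
      · rw [ih _ h3 h4 h, h5, wl_cons, mul_smul]
      · obtain ⟨i, k1, k2, k3⟩ := nrm_sound H _ _ h4 h
        rw [ih i h3 k1 k3, k2, h5, wl_cons, mul_smul]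
    · cases h

theorem chk_spec {p : ℕ} (h : chk R EP RT NF NP L SUB X p = true) :
    (∀ x ∈ X, ent R EP RT NF NP SUB p x = true) ∧ (p < NF ∨ idn R EP RT NF NP L p = true) := by
  have : band (allL X (ent R EP RT NF NP SUB p)) (bor (lt p NF) (idn R EP RT NF NP L p)) = true := h
  rw [band_eq, bor_eq, Bool.and_eq_true, Bool.or_eq_true, lt_iff] at this
  exact ⟨(allL_iff X _).1 this.1, this.2⟩

theorem ent_spec {p x : ℕ} (h : ent R EP RT NF NP SUB p x = true) :
    (68652367872 ≤ fld R p x ∧ NF ≤ p) ∨ (fld R p x < 68652367872 ∧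
      (tg (fld R p x) < NF ∨ far EP NF NP p (tg (fld R p x)) = true) ∧
      (dfn R SUB p x (fld R p x) (tg (fld R p x)) = true ∨
        ∃ c, walk R EP NF (fld R p x) p (RT x c) (tg (fld R p x)) = true)) := by
  rcases brec.1 (nrec.1 h).2 with ⟨h1, h⟩ | ⟨h1, h⟩
  · rcases brec.1 (nrec.1 h).2 with ⟨-, h⟩ | ⟨h2, h⟩
    · cases h
    refine Or.inr ⟨(ble_false_iff _ _).1 h1, ?_, ?_⟩
    · rcases brec.1 h2 with ⟨h2, -⟩ | ⟨-, h2⟩
      · exact Or.inl ((ble_false_iff _ _).1 h2)
      · exact Or.inr h2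
    · generalize Nat.land (Nat.shiftRight _ 20) 63 = c at h
      cases c with
      | zero => exact Or.inl h
      | succ c => exact Or.inr ⟨c, h⟩
  · exact Or.inl ⟨(ble_true_iff _ _).1 h1, (ble_true_iff _ _).1 h⟩

theorem holds (hl : Let g RT L) (hs : ∀ x, tb SUB x = true → g x • ω = ω) (hN : NF ≤ NP)
    (hX : ∀ x, 0 < x → x ≤ L → x ∈ X)
    (h : ∀ p, p < NP → chk R EP RT NF NP L SUB X p = true) {t : ℕ} (ht : t ≤ 68652367872) :
    Holds R EP NF NP L g ω t := by
  induction t with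
  | zero => exact fun p _ => ⟨fun x _ _ h => absurd h (Nat.not_lt_zero _),
      fun _ h => absurd h (Nat.not_lt_zero _)⟩
  | succ t ih =>
    have H := ih (by omega)
    intro p hp
    have h0 := chk_spec (h p hp)
    refine ⟨fun x h1 h2 h3 => ?_, fun h1 h3 => ?_⟩
    · rcases Nat.lt_succ_iff_lt_or_eq.1 h3 with h3 | h3
      · exact (H p hp).1 x h1 h2 h3
      obtain ⟨-, h4, h5⟩ := (ent_spec (h0.1 x (hX x h1 h2))).resolve_left (by omega)
      have h6 : tg (fld R p x) < NP := h4.elim (fun h => h.trans_le hN) fun h => by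
        rw [far, band_eq, Bool.and_eq_true, lt_iff] at h; exact h.1
      refine ⟨h6, ?_⟩
      rcases h5 with h5 | ⟨c, h5⟩
      · simp only [dfn, bif'_eq, band_eq, bor_eq, beq_true_iff] at h5
        split_ifs at h5 with h7
        · rw [Bool.and_eq_true, beq_true_iff] at h5
          rw [h5.1, h7, pt_zero, hs x h5.2]
        · rw [Bool.and_eq_true, Bool.or_eq_true, beq_true_iff, beq_true_iff, lt_iff] at h5
          obtain ⟨rfl, h5⟩ := h5
          have : tdf R (tg (fld R p (dx (R p)))) < tdf R p := by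
            unfold tdf; rw [if_neg h7]; split_ifs <;> omega
          conv_rhs => rw [pt, dif_pos this, ← mul_smul, hl.sq, one_smul]
      · obtain ⟨k1, k2⟩ := hl.rel x c h1 h2
        rw [walk_sound (h3 ▸ H) _ _ k1 h6 h5, ← mul_smul, mul_eq_one_comm.1 k2, one_smul]
    · rcases Nat.lt_succ_iff_lt_or_eq.1 h3 with h3 | h3
      · exact (H p hp).2 h1 h3
      have h4 := h0.2.resolve_left (by omega)
      simp only [idn, force_eq, band_eq, bor_eq, Bool.or_eq_true, Bool.and_eq_true,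
        lt_iff, ble_true_iff] at h4
      obtain ⟨k1, k2, k3, k4⟩ := h4.resolve_left (by omega)
      obtain ⟨l1, l2⟩ := hl.rel _ (Nat.sub (Nat.land (Nat.shiftRight (ep EP p) 20) 63) 1) k2 k3
      refine ⟨k1, ?_⟩
      rw [walk_sound (h3 ▸ H) _ _ (List.forall_mem_cons.2 ⟨⟨k2, k3⟩, l1⟩) k1 k4, wl_cons, l2, one_smul]

theorem closed (hl : Let g RT L) (hs : ∀ x, tb SUB x = true → g x • ω = ω) (hN : NF ≤ NP)
    (hX : ∀ x, 0 < x → x ≤ L → x ∈ X)
    (h : ∀ p, p < NP → chk R EP RT NF NP L SUB X p = true) {x : ℕ} (h1 : 0 < x) (h2 : x ≤ L) {p : ℕ}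
    (hp : p < NF) : ∃ q, q < NF ∧ pt R g ω q = g x • pt R g ω p := by
  have H := holds hl hs hN hX h le_rfl
  obtain ⟨h3, h4, -⟩ := (ent_spec ((chk_spec (h p (hp.trans_le hN))).1 x (hX x h1 h2))).resolve_left
    (by omega)
  obtain ⟨h5, h6⟩ := (H p (hp.trans_le hN)).1 x h1 h2 h3
  rcases h4 with k | k
  · exact ⟨_, k, h6⟩
  · rw [far, band_eq, bor_eq, Bool.and_eq_true, Bool.or_eq_true, ble_true_iff] at k
    obtain ⟨i, -, k2, k3⟩ := nrm_sound H _ _ h5 (k.2.resolve_left (by omega))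
    exact ⟨i, (lt_iff _ _).1 k3, k2.trans h6⟩

/-- the subgroup generated by the first `L` letters -/
def grp (g : ℕ → G) (L : ℕ) : Subgroup G := Subgroup.closure (g '' {x | 0 < x ∧ x ≤ L})

theorem mem_grp (g : ℕ → G) {x : ℕ} (h1 : 0 < x) (h2 : x ≤ L) : g x ∈ grp g L :=
  Subgroup.subset_closure ⟨x, ⟨h1, h2⟩, rfl⟩

theorem grp_zero (g : ℕ → G) : grp g 0 = ⊥ := by
  rw [grp, Subgroup.closure_eq_bot_iff]
  rintro _ ⟨x, hx, rfl⟩
  exact absurd (hx.1.trans_le hx.2) (lt_irrefl _)

theorem grp_induction (hg : ∀ x, g x * g x = 1) {P : G → Prop} (h1 : P 1)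
    (hs : ∀ x a, 0 < x → x ≤ L → P a → P (g x * a)) {a : G} (ha : a ∈ grp g L) : P a := by
  induction ha using Subgroup.closure_induction_left with
  | one => exact h1
  | mul_left a ha b _ ih => obtain ⟨x, hx, rfl⟩ := ha; exact hs x b hx.1 hx.2 ih
  | inv_mul_cancel a ha b _ ih =>
    obtain ⟨x, hx, rfl⟩ := ha
    rw [inv_eq_of_mul_eq_one_right (hg x)]; exact hs x b hx.1 hx.2 ih

/-- the bound given by a complete enumeration -/
theorem card_le (hl : Let g RT L) (hN : NF ≤ NP) (h0 : 0 < NF) (hX : ∀ x, 0 < x → x ≤ L → x ∈ X)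
    (h : ∀ p, p < NP → chk R EP RT NF NP L SUB X p = true)
    {H : Subgroup G} (hH : ∀ x, tb SUB x = true → g x ∈ H)
    [Finite H] : Finite (grp g L) ∧ Nat.card (grp g L) ≤ NF * Nat.card H := by
  have e : ∀ a : G, a • ((1 : G) : G ⧸ H) = ((1 : G) : G ⧸ H) ↔ a ∈ H := fun a => by
    rw [MulAction.Quotient.smul_mk, QuotientGroup.eq]; simp
  have h1 : ∀ a ∈ grp g L, ∀ p, p < NF → ∃ q, q < NF ∧
      pt R g ((1 : G) : G ⧸ H) q = a • pt R g ((1 : G) : G ⧸ H) p := by
    intro a ha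
    refine grp_induction hl.sq (P := fun a => ∀ p, p < NF → ∃ q, q < NF ∧
      pt R g ((1 : G) : G ⧸ H) q = a • pt R g ((1 : G) : G ⧸ H) p)
      (fun p hp => ⟨p, hp, (one_smul _ _).symm⟩) (fun x a x1 x2 ih p hp => ?_) ha
    obtain ⟨q, k1, k2⟩ := ih p hp
    obtain ⟨r, k3, k4⟩ := closed hl (fun x hx => (e _).2 (hH x hx)) hN hX h x1 x2 k1
    exact ⟨r, k3, by rw [k4, k2, mul_smul]⟩
  have h2 : ∀ a : grp g L, ∃ q : Fin NF, pt R g ((1 : G) : G ⧸ H) q = (a.1 : G ⧸ H) := fun a => by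
    obtain ⟨q, k1, k2⟩ := h1 a a.2 0 h0
    refine ⟨⟨q, k1⟩, k2.trans ?_⟩
    rw [pt_zero, MulAction.Quotient.smul_mk]; simp
  choose q hq using h2
  have h3 : Function.Injective fun a : grp g L => (q a, (⟨(Quotient.out (a.1 : G ⧸ H))⁻¹ * a.1,
      QuotientGroup.eq.1 (Quotient.out_eq _)⟩ : H)) := fun a b hab => by
    obtain ⟨k1, k2⟩ := Prod.mk.inj hab
    have k3 := Subtype.mk.inj k2
    rw [← hq a, k1, hq b] at k3
    exact Subtype.ext (mul_left_cancel k3)
  refine ⟨Finite.of_injective _ h3, (Nat.card_le_card_of_injective _ h3).trans_eq ?_⟩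
  simp

theorem wl_reverse (hg : ∀ x, g x * g x = 1) (l : List ℕ) : wl g l.reverse = (wl g l)⁻¹ := by
  induction l with
  | nil => simp [wl]
  | cons x l ih =>
    rw [List.reverse_cons, wl_append, ih, wl_cons, wl_cons, mul_inv_rev,
      inv_eq_of_mul_eq_one_right (hg x)]
    simp [wl]

theorem wl_rotate {l : List ℕ} (h : wl g l = 1) (k : ℕ) : wl g (l.rotate k) = 1 := by
  rw [List.rotate_eq_drop_append_take_mod, wl_append, mul_eq_one_comm, ← wl_append,
    List.take_append_drop, h]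

/-- a power of a word -/
def rep (u : List ℕ) (k : ℕ) : List ℕ := Nat.rec (motive := fun _ => List ℕ) [] (fun _ ih => u ++ ih) k

theorem wl_rep (g : ℕ → G) (u : List ℕ) (k : ℕ) : wl g (rep u k) = wl g u ^ k := by
  induction k with
  | zero => simp [rep, wl]
  | succ k ih => rw [show rep u (k + 1) = u ++ rep u k from rfl, wl_append, ih, pow_succ]

/-- a rotation of a relator or of its reverse -/
def rotL (rels : List (List ℕ)) (d : ℕ) : List ℕ :=
  (if d % 2 = 0 then rels.getD (d / 2 % 8) [] else (rels.getD (d / 2 % 8) []).reverse).rotate (d / 16)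

/-- the rest of a list starting with `x` -/
def tailX (x : ℕ) (l : List ℕ) : List ℕ :=
  List.rec (motive := fun _ => List ℕ) [x] (fun y t _ => bif' (Nat.beq y x) t [x]) l

/-- the relator table: Coxeter relators from the matrix `E`, further ones from `rels` -/
def rt (E L : ℕ) (rels D : List (List ℕ)) (x c : ℕ) : List ℕ :=
  bif' (Nat.ble 15 c) (tailX x (rotL rels (nthD (D.getD x []) 0 (Nat.sub c 15)))) <|
    force (Nat.add c 1) fun y => force (ap 2 3 E (Nat.add y (Nat.mul 16 x))) fun k =>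
      bif' (Nat.ble y L) (bif' (Nat.beq k 1) [y, x, y] (bif' (Nat.beq k 2) [y, x, y, x, y] [x])) [x]

/-- the Coxeter relations given by the matrix `E` -/
def Cox (g : ℕ → G) (E : ℕ) : Prop :=
  (∀ x, g x * g x = 1) ∧ ∀ x c, x < 16 → c < 16 → (ap 2 3 E (c + 16 * x) = 1 → (g c * g x) ^ 2 = 1) ∧
    (ap 2 3 E (c + 16 * x) = 2 → (g c * g x) ^ 3 = 1)

theorem let_rt {E : ℕ} {rels : List (List ℕ)} (D : List (List ℕ)) (hL : L < 16) (hc : Cox g E)
    (hr : ∀ l ∈ rels, wl g l = 1) (hw : ∀ l ∈ rels, Wd L l) :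
    Let g (rt E L rels D) L := by
  refine ⟨hc.1, fun x c h1 h2 => ?_⟩
  have h0 : Wd L [x] ∧ wl g [x] * g x = 1 :=
    ⟨by simpa [Wd] using ⟨h1, h2⟩, by simpa [wl] using hc.1 x⟩
  simp only [rt, force_eq, bif'_eq, ble_true_iff, beq_true_iff, Nat.add_eq, Nat.mul_eq]
  split_ifs with k1 k2 k3 k4
  · generalize nthD _ _ _ = d
    have e1 : wl g (rels.getD (d / 2 % 8) []) = 1 ∧ Wd L (rels.getD (d / 2 % 8) []) := by
      rcases h : rels[d / 2 % 8]? with _ | l
      · simp [List.getD, h, wl, Wd]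
      · simp only [List.getD, h, Option.getD_some]
        exact ⟨hr l (List.mem_of_getElem? h), hw l (List.mem_of_getElem? h)⟩
    have e2 : wl g (rotL rels d) = 1 ∧ Wd L (rotL rels d) := by
      unfold rotL
      split_ifs
      · exact ⟨wl_rotate e1.1 _, fun y hy => e1.2 y (List.mem_rotate.1 hy)⟩
      · exact ⟨wl_rotate (by rw [wl_reverse hc.1, e1.1, inv_one]) _,
          fun y hy => e1.2 y (List.mem_reverse.1 (List.mem_rotate.1 hy))⟩
    generalize rotL rels d = l at e2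
    rcases l with _ | ⟨y, l⟩
    · exact h0
    · show Wd L (bif' (Nat.beq y x) l [x]) ∧ wl g (bif' (Nat.beq y x) l [x]) * g x = 1
      rw [bif'_eq]
      split_ifs with k
      · exact ⟨fun z hz => e2.2 z (List.mem_cons_of_mem _ hz),
          by rw [← (beq_true_iff _ _).1 k, ← wl_cons, e2.1]⟩
      · exact h0
  · exact ⟨by simp [Wd]; omega, by
      simpa [wl, pow_succ, mul_assoc] using (hc.2 x (c + 1) (by omega) (by omega)).1 k3⟩
  · exact ⟨by simp [Wd]; omega, by
      simpa [wl, pow_succ, mul_assoc] using (hc.2 x (c + 1) (by omega) (by omega)).2 k4⟩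
  · exact h0
  · exact h0

theorem all_of_blocks {f : ℕ → Bool} {a b : ℕ} (h1 : ∀ p, p < a → f p = true)
    (h2 : allIco a b f = true) : ∀ p, p < b → f p = true := fun p hp =>
  (Nat.lt_or_ge p a).elim (h1 p) fun h => (allIco_iff _ _ _).1 h2 p h hp

theorem all_zero {f : ℕ → Bool} : ∀ p, p < 0 → f p = true := fun _ h => absurd h (Nat.not_lt_zero _)

end

end CfsgH5.KT
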