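/-
Permutation models of groups generated by involutions, given by packed tables on an interval.
-/
import Cfsg.Agent.H5.KT

set_option autoImplicit false

namespace CfsgH5.KT

open Equiv

noncomputable section

/-- the image of `p` under the letter `x` -/
def tv (R : ℕ → ℕ) (w m x p : ℕ) : ℕ := Nat.land (Nat.shiftRight (R p) (Nat.mul w x)) m - 1

/-- evaluation of a word at a point, followed by a test -/
def evk (R : ℕ → ℕ) (w m : ℕ) (k : ℕ → Bool) (l : List ℕ) : ℕ → Bool :=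
  List.rec (motive := fun _ => ℕ → Bool) k
    (fun x _ ih p => Nat.rec (motive := fun _ => Bool) false (fun q _ => ih q)
      (Nat.land (Nat.shiftRight (R p) (Nat.mul w x)) m)) l

/-- all letters of a word are in use -/
def wdb (L : ℕ) (l : List ℕ) : Bool := allL l fun x => band (lt 0 x) (Nat.ble x L)

theorem wd_of {L : ℕ} {l : List ℕ} (h : wdb L l = true) : Wd L l := fun x hx => by
  have := (allL_iff _ _).1 h x hx
  rwa [band_eq, Bool.and_eq_true, lt_iff, ble_true_iff] at this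

theorem Wd.mono {L L' : ℕ} {l : List ℕ} (h : Wd L l) (hL : L ≤ L') : Wd L' l :=
  fun x hx => ⟨(h x hx).1, (h x hx).2.trans hL⟩

theorem Wd.mem {G : Type*} [Group G] (g : ℕ → G) {L : ℕ} {l : List ℕ} (h : Wd L l) :
    wl g l ∈ grp g L := by
  induction l with
  | nil => exact one_mem _
  | cons x l ih =>
    obtain ⟨h1, h2⟩ := List.forall_mem_cons.1 h
    rw [wl_cons]; exact mul_mem (ih h2) (mem_grp g h1.1 h1.2)

theorem map_wl {G H : Type*} [Group G] [Group H] (φ : G →* H) (g : ℕ → G) (l : List ℕ) :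
    φ (wl g l) = wl (fun x => φ (g x)) l := by
  induction l with
  | nil => exact map_one φ
  | cons x l ih => rw [wl_cons, wl_cons, map_mul, ih]

/-- the permutations `s x` are given by the table on the interval `[lo, hi)` -/
def Acts (s : ℕ → Perm ℕ) (R : ℕ → ℕ) (w m lo hi L : ℕ) : Prop :=
  ∀ x p, 0 < x → x ≤ L → lo ≤ p → p < hi → s x p = tv R w m x p ∧ lo ≤ s x p ∧ s x p < hi

variable {s : ℕ → Perm ℕ} {R : ℕ → ℕ} {w m lo hi L : ℕ}

theorem Acts.wl_mem (h : Acts s R w m lo hi L) {l : List ℕ} (hl : Wd L l) {p : ℕ} (h1 : lo ≤ p)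
    (h2 : p < hi) : lo ≤ wl s l p ∧ wl s l p < hi := by
  induction l generalizing p with
  | nil => exact ⟨h1, h2⟩
  | cons x l ih =>
    obtain ⟨k1, k2⟩ := List.forall_mem_cons.1 hl
    obtain ⟨-, k3, k4⟩ := h x p k1.1 k1.2 h1 h2
    rw [wl_cons]; exact ih k2 k3 k4

theorem Acts.ev (h : Acts s R w m lo hi L) {k : ℕ → Bool} {l : List ℕ} (hl : Wd L l) {p : ℕ}
    (h1 : lo ≤ p) (h2 : p < hi) (e : evk R w m k l p = true) : k (wl s l p) = true := by
  induction l generalizing p with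
  | nil => exact e
  | cons x l ih =>
    obtain ⟨k1, k2⟩ := List.forall_mem_cons.1 hl
    obtain ⟨k0, k3, k4⟩ := h x p k1.1 k1.2 h1 h2
    rw [wl_cons]
    exact ih k2 k3 k4 (k0 ▸ (nrec.1 e).2)

/-! ### The Coxeter relations -/

/-- the checks for the letter `x` with image `a` of `p` and the commuting letters of a list -/
def cchk (R : ℕ → ℕ) (w m p x a : ℕ) (C : List ℕ) : Bool :=
  List.rec (motive := fun _ => Bool) true (fun y _ ih => Nat.rec (motive := fun _ => Bool) false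
    (fun b _ => Bool.rec (motive := fun _ => Bool) ih (Bool.rec (motive := fun _ => Bool) false ih
      (Nat.beq (Nat.land (Nat.shiftRight (R a) (Nat.mul w y)) m)
        (Nat.land (Nat.shiftRight (R b) (Nat.mul w x)) m))) (Nat.ble p b))
    (Nat.land (Nat.shiftRight (R p) (Nat.mul w y)) m)) C

/-- the checks for the letter `x` with image `a` of `p` and the joined letters of a list -/
def bchk (R : ℕ → ℕ) (w m p x a : ℕ) (B : List ℕ) : Bool :=
  List.rec (motive := fun _ => Bool) true (fun y _ ih => Nat.rec (motive := fun _ => Bool) false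
    (fun b _ => Bool.rec (motive := fun _ => Bool) ih (Bool.rec (motive := fun _ => Bool) false ih
      (evk R w m (fun c => evk R w m (Nat.beq c) [x, y] b) [y, x] a)) (Nat.ble p b))
    (Nat.land (Nat.shiftRight (R p) (Nat.mul w y)) m)) B

/-- the checks at a point -/
def mchk (R : ℕ → ℕ) (w m lo hi : ℕ) (C B : ℕ → List ℕ) (X : List ℕ) (p : ℕ) : Bool :=
  Nat.rec (motive := fun _ => Bool) false (fun p _ => List.rec (motive := fun _ => Bool) true
    (fun x _ ih => Nat.rec (motive := fun _ => Bool) false (fun a _ =>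
      Bool.rec (motive := fun _ => Bool) (Bool.rec (motive := fun _ => Bool) false
        (Bool.rec (motive := fun _ => Bool)
          (Bool.rec (motive := fun _ => Bool) false ih (Nat.ble lo a))
          (Bool.rec (motive := fun _ => Bool) false
            (Bool.rec (motive := fun _ => Bool) false ih (bchk R w m p x a (B x)))
            (cchk R w m p x a (C x))) (Nat.ble p a))
        (Nat.beq (Nat.land (Nat.shiftRight (R a) (Nat.mul w x)) m) (Nat.succ p))) false (Nat.ble hi a))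
      (Nat.land (Nat.shiftRight (R p) (Nat.mul w x)) m)) X) (Nat.add p 1)

theorem cchk_spec {p x a : ℕ} {C : List ℕ} (h : cchk R w m p x a C = true) : ∀ y ∈ C,
    tv R w m y p < p ∨ tv R w m y a = tv R w m x (tv R w m y p) := by
  induction C with
  | nil => simp
  | cons y C ih =>
    rw [List.forall_mem_cons]
    rcases brec.1 (nrec.1 h).2 with ⟨h1, h⟩ | ⟨-, h⟩
    · exact ⟨Or.inl ((ble_false_iff _ _).1 h1), ih h⟩
    · rcases brec.1 h with ⟨-, h⟩ | ⟨h1, h⟩
      · cases h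
      · exact ⟨Or.inr (congrArg (· - 1) ((beq_true_iff _ _).1 h1)), ih h⟩

theorem bchk_spec {p x a : ℕ} {B : List ℕ} (h : bchk R w m p x a B = true) : ∀ y ∈ B,
    tv R w m y p < p ∨ tv R w m x (tv R w m y a) = tv R w m y (tv R w m x (tv R w m y p)) := by
  induction B with
  | nil => simp
  | cons y B ih =>
    rw [List.forall_mem_cons]
    rcases brec.1 (nrec.1 h).2 with ⟨h1, h⟩ | ⟨-, h⟩
    · exact ⟨Or.inl ((ble_false_iff _ _).1 h1), ih h⟩
    · rcases brec.1 h with ⟨-, h⟩ | ⟨h1, h⟩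
      · cases h
      · exact ⟨Or.inr ((beq_true_iff _ _).1
          (nrec.1 (nrec.1 (nrec.1 (nrec.1 h1).2).2).2).2), ih h⟩

theorem mchk_spec {C B : ℕ → List ℕ} {X : List ℕ} {p : ℕ} (hp : lo ≤ p)
    (h : mchk R w m lo hi C B X p = true) :
    ∀ x ∈ X, lo ≤ tv R w m x p ∧ tv R w m x p < hi ∧ tv R w m x (tv R w m x p) = p ∧
      (tv R w m x p < p ∨ (cchk R w m p x (tv R w m x p) (C x) = true ∧
        bchk R w m p x (tv R w m x p) (B x) = true)) := by
  induction X with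
  | nil => simp
  | cons x X ih =>
    rw [List.forall_mem_cons]
    rcases brec.1 (nrec.1 h).2 with ⟨h1, h⟩ | ⟨-, h⟩
    swap
    · cases h
    rcases brec.1 h with ⟨-, h⟩ | ⟨h2, h⟩
    · cases h
    have h3 := congrArg (· - 1) ((beq_true_iff _ _).1 h2)
    rw [ble_false_iff] at h1
    rcases brec.1 h with ⟨h4, h⟩ | ⟨h4, h⟩
    · rcases brec.1 h with ⟨-, h⟩ | ⟨h5, h⟩
      · cases h
      · exact ⟨⟨(ble_true_iff _ _).1 h5, h1, h3, Or.inl ((ble_false_iff _ _).1 h4)⟩, ih h⟩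
    · rcases brec.1 h with ⟨-, h⟩ | ⟨h5, h⟩
      · cases h
      rcases brec.1 h with ⟨-, h⟩ | ⟨h6, h⟩
      · cases h
      exact ⟨⟨hp.trans ((ble_true_iff _ _).1 h4), h1, h3, Or.inr ⟨h5, h6⟩⟩, ih h⟩

/-- a permutation is trivial when it fixes the points that cannot be moved down -/
theorem eq_one_of_min (r : Perm ℕ)
    (h : ∀ p, r p = p ∨ ∃ s : Perm ℕ, (s * r = r * s ∨ s * r = r⁻¹ * s) ∧ s p < p) : r = 1 := by
  ext p
  induction p using Nat.strong_induction_on with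
  | _ p ih =>
    rcases h p with h | ⟨s, h1 | h1, h2⟩
    · exact h
    · exact s.injective ((congrArg (fun f : Perm ℕ => f p) h1).trans (ih _ h2))
    · refine s.injective ((congrArg (fun f : Perm ℕ => f p) h1).trans ?_)
      exact (Perm.inv_eq_iff_eq).2 (ih _ h2).symm

/-- the function of a letter -/
def lfun (R : ℕ → ℕ) (w m lo hi L x p : ℕ) : ℕ :=
  if (0 < x ∧ x ≤ L) ∧ lo ≤ p ∧ p < hi then tv R w m x p else p

/-- the checks that make a table a permutation model -/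
structure Mod (R : ℕ → ℕ) (w m lo hi L : ℕ) (C B : ℕ → List ℕ) (X : List ℕ) : Prop where
  hX : ∀ x, 0 < x → x ≤ L → x ∈ X
  chk : ∀ p, lo ≤ p → p < hi → mchk R w m lo hi C B X p = true

namespace Mod

variable {C B : ℕ → List ℕ} {X : List ℕ} (M : Mod R w m lo hi L C B X)
include M

theorem invol (x : ℕ) : Function.Involutive (lfun R w m lo hi L x) := fun p => by
  by_cases h : (0 < x ∧ x ≤ L) ∧ lo ≤ p ∧ p < hi
  · obtain ⟨h1, h2, h3, -⟩ := mchk_spec h.2.1 (M.chk p h.2.1 h.2.2) x (M.hX x h.1.1 h.1.2)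
    rw [lfun, lfun, if_pos h, if_pos ⟨h.1, h1, h2⟩, h3]
  · rw [lfun, lfun, if_neg h, if_neg h]

/-- the permutation of a letter -/
def σ (x : ℕ) : Perm ℕ := (M.invol x).toPerm

theorem σ_apply (x p : ℕ) : M.σ x p = lfun R w m lo hi L x p := rfl

theorem acts : Acts M.σ R w m lo hi L := fun x p h1 h2 h3 h4 => by
  obtain ⟨k1, k2, -⟩ := mchk_spec h3 (M.chk p h3 h4) x (M.hX x h1 h2)
  rw [σ_apply, lfun, if_pos ⟨⟨h1, h2⟩, h3, h4⟩]
  exact ⟨rfl, k1, k2⟩

theorem sq (x : ℕ) : M.σ x * M.σ x = 1 := Equiv.ext (M.invol x)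

theorem out (x : ℕ) {p : ℕ} (h : ¬ (lo ≤ p ∧ p < hi)) : M.σ x p = p := by
  rw [σ_apply, lfun, if_neg fun k => h k.2]

theorem wl_out (l : List ℕ) {p : ℕ} (h : ¬ (lo ≤ p ∧ p < hi)) : wl M.σ l p = p := by
  induction l with
  | nil => rfl
  | cons x l ih => rw [wl_cons, Perm.mul_apply, M.out x h, ih]

theorem pair {x y : ℕ} (k : ℕ) (h : ∀ p, lo ≤ p → p < hi → M.σ x p < p ∨ M.σ y p < p ∨
    ((M.σ y * M.σ x) ^ k) p = p) : (M.σ y * M.σ x) ^ k = 1 := by
  have hx := M.sq x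
  have hy := M.sq y
  have e : ((M.σ y * M.σ x) ^ k)⁻¹ = (M.σ x * M.σ y) ^ k := by
    rw [← inv_pow, mul_inv_rev, inv_eq_of_mul_eq_one_right hx, inv_eq_of_mul_eq_one_right hy]
  refine eq_one_of_min _ fun p => ?_
  by_cases hp : lo ≤ p ∧ p < hi
  · rcases h p hp.1 hp.2 with h | h | h
    · refine Or.inr ⟨_, Or.inr ?_, h⟩
      rw [e]; exact (SemiconjBy.pow_right (by simp [SemiconjBy, mul_assoc]) k).eq
    · refine Or.inr ⟨_, Or.inr ?_, h⟩
      rw [e]
      exact (SemiconjBy.pow_right (by rw [SemiconjBy, ← mul_assoc, hy, mul_assoc, hy]; simp) k).eq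
    · exact Or.inl h
  · exact Or.inl (Perm.pow_apply_eq_self_of_apply_eq_self
      (by rw [Perm.mul_apply, M.out x hp, M.out y hp]) k)

theorem comm {x y : ℕ} (hx : 0 < x ∧ x ≤ L) (hy : 0 < y ∧ y ≤ L) (h : y ∈ C x) :
    (M.σ y * M.σ x) ^ 2 = 1 := M.pair 2 fun p h1 h2 => by
  obtain ⟨a1, a2, a3⟩ := M.acts x p hx.1 hx.2 h1 h2
  obtain ⟨b1, b2, b3⟩ := M.acts y p hy.1 hy.2 h1 h2
  rcases (mchk_spec h1 (M.chk p h1 h2) x (M.hX x hx.1 hx.2)).2.2.2 with k | k
  · exact Or.inl (a1 ▸ k)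
  rcases cchk_spec k.1 y h with k | k
  · exact Or.inr (Or.inl (b1 ▸ k))
  rw [← a1, ← b1, ← (M.acts y _ hy.1 hy.2 a2 a3).1, ← (M.acts x _ hx.1 hx.2 b2 b3).1] at k
  refine Or.inr (Or.inr ?_)
  simp only [pow_succ, pow_zero, one_mul, Perm.mul_apply]
  rw [k]
  exact (congrArg (M.σ y) (M.invol x _)).trans (M.invol y p)

theorem braid {x y : ℕ} (hx : 0 < x ∧ x ≤ L) (hy : 0 < y ∧ y ≤ L) (h : y ∈ B x) :
    (M.σ y * M.σ x) ^ 3 = 1 := M.pair 3 fun p h1 h2 => by
  obtain ⟨a1, a2, a3⟩ := M.acts x p hx.1 hx.2 h1 h2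
  obtain ⟨b1, b2, b3⟩ := M.acts y p hy.1 hy.2 h1 h2
  rcases (mchk_spec h1 (M.chk p h1 h2) x (M.hX x hx.1 hx.2)).2.2.2 with k | k
  · exact Or.inl (a1 ▸ k)
  rcases bchk_spec k.2 y h with k | k
  · exact Or.inr (Or.inl (b1 ▸ k))
  obtain ⟨c1, c2, c3⟩ := M.acts y _ hy.1 hy.2 a2 a3
  obtain ⟨d1, d2, d3⟩ := M.acts x _ hx.1 hx.2 b2 b3
  rw [← a1, ← b1, ← c1, ← d1, ← (M.acts y _ hy.1 hy.2 d2 d3).1, ← (M.acts x _ hx.1 hx.2 c2 c3).1] at k
  refine Or.inr (Or.inr ?_)
  simp only [pow_succ, pow_zero, one_mul, Perm.mul_apply]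
  rw [k]
  exact (congrArg (fun q => M.σ y (M.σ x q)) (M.invol y _)).trans
    ((congrArg (M.σ y) (M.invol x _)).trans (M.invol y p))

end Mod

theorem pow_swap {G : Type*} [Group G] {a b : G} {k : ℕ} (h : (a * b) ^ k = 1) : (b * a) ^ k = 1 := by
  have : (b * a) ^ k = a⁻¹ * (a * b) ^ k * a⁻¹⁻¹ := by rw [← conj_pow]; group
  rw [this, h]; simp

/-- the lists cover the matrix -/
def covE (E L : ℕ) (C B : ℕ → List ℕ) : Bool :=
  allLt 16 fun x => allLt 16 fun c => force (ap 2 3 E (Nat.add c (Nat.mul 16 x))) fun k =>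
    bor (Nat.beq k 0) (band (wdb L [x, c]) (bif' (Nat.beq k 1)
      (bor (anyL (C x) (Nat.beq c)) (anyL (C c) (Nat.beq x)))
      (bor (anyL (B x) (Nat.beq c)) (anyL (B c) (Nat.beq x)))))

theorem Mod.cox {C B : ℕ → List ℕ} {X : List ℕ} (M : Mod R w m lo hi L C B X) {E : ℕ}
    (h : covE E L C B = true) : Cox M.σ E := by
  refine ⟨M.sq, fun x c hx hc => ?_⟩
  have := (allLt_iff _ _).1 ((allLt_iff _ _).1 h x hx) c hc
  simp only [force_eq, bor_eq, band_eq, bif'_eq, Bool.or_eq_true, Bool.and_eq_true, beq_true_iff,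
    Nat.add_eq, Nat.mul_eq] at this
  constructor <;> intro e <;> rw [e] at this <;> obtain ⟨k1, k2⟩ := this.resolve_left (by omega) <;>
    have k3 := wd_of k1 x (by simp) <;> have k4 := wd_of k1 c (by simp)
  · simp only [if_true, Bool.or_eq_true, anyL_iff, beq_true_iff, exists_eq_right'] at k2
    exact k2.elim (M.comm k3 k4) fun k => pow_swap (M.comm k4 k3 k)
  · simp only [OfNat.ofNat_ne_one, if_false, Bool.or_eq_true, anyL_iff, beq_true_iff,
      exists_eq_right'] at k2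
    exact k2.elim (M.braid k3 k4) fun k => pow_swap (M.braid k4 k3 k)

/-! ### Long relators -/

/-- the letter `z` commutes with the letters of a word -/
def cmb (E z : ℕ) (l : List ℕ) : Bool :=
  band (lt z 16) (allL l fun x => bor (Nat.beq x z)
    (band (lt x 16) (Nat.beq (ap 2 3 E (Nat.add x (Nat.mul 16 z))) 1)))

theorem Cox.comm_wl {G : Type*} [Group G] {g : ℕ → G} {E z : ℕ} (hc : Cox g E) {l : List ℕ}
    (h : cmb E z l = true) : Commute (g z) (wl g l) := by
  simp only [cmb, band_eq, bor_eq, Bool.and_eq_true, Bool.or_eq_true, lt_iff, allL_iff, beq_true_iff,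
    Nat.add_eq, Nat.mul_eq] at h
  obtain ⟨h0, h⟩ := h
  induction l with
  | nil => exact Commute.one_right _
  | cons x l ih =>
    rw [List.forall_mem_cons] at h
    rw [wl_cons]
    refine (ih h.2).mul_right ?_
    rcases h.1 with rfl | k
    · exact Commute.refl _
    · have := (hc.2 z x h0 k.1).1 k.2
      rw [pow_two, mul_eq_one_iff_eq_inv, mul_inv_rev, inv_eq_of_mul_eq_one_right (hc.1 z),
        inv_eq_of_mul_eq_one_right (hc.1 x)] at this
      exact this.symm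

/-- the walk along `u ^ k` and then `v`, stopped at a point below `p` -/
def lrel (R : ℕ → ℕ) (w m : ℕ) (u v : List ℕ) (p k : ℕ) : ℕ → Bool :=
  Nat.rec (motive := fun _ => ℕ → Bool) (evk R w m (Nat.beq p) v)
    (fun _ ih => evk R w m (fun r => Bool.rec (motive := fun _ => Bool) true (ih r) (Nat.ble p r)) u) k

/-- the check of a long relator at a point -/
def lchk (R : ℕ → ℕ) (w m : ℕ) (u v Z : List ℕ) (k p : ℕ) : Bool :=
  Nat.rec (motive := fun _ => Bool) false (fun p _ =>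
    List.rec (motive := fun _ => Bool) (lrel R w m u v p k p)
      (fun z _ ih => Nat.rec (motive := fun _ => Bool) false
        (fun q _ => Bool.rec (motive := fun _ => Bool) true ih (Nat.ble p q))
        (Nat.land (Nat.shiftRight (R p) (Nat.mul w z)) m)) Z) (Nat.add p 1)

theorem Acts.lrel (h : Acts s R w m lo hi L) {u v : List ℕ} (hu : Wd L u) (hv : Wd L v) {p : ℕ}
    (k : ℕ) : ∀ q, lo ≤ q → q < hi → lrel R w m u v p k q = true →
      (wl s v * wl s u ^ k) q = p ∨ ∃ j, (wl s u ^ j) q < p := by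
  induction k with
  | zero => exact fun q h1 h2 e => Or.inl (by
      rw [pow_zero, mul_one]; exact ((beq_true_iff _ _).1 (h.ev hv h1 h2 e)).symm)
  | succ k ih =>
    intro q h1 h2 e
    rcases brec.1 (h.ev hu h1 h2 e) with ⟨e, -⟩ | ⟨-, e⟩
    · exact Or.inr ⟨1, by rw [pow_one]; exact (ble_false_iff _ _).1 e⟩
    · rcases ih _ (h.wl_mem hu h1 h2).1 (h.wl_mem hu h1 h2).2 e with e | ⟨j, e⟩
      · exact Or.inl (by rw [pow_succ, ← mul_assoc]; exact e)
      · exact Or.inr ⟨j + 1, by rw [pow_succ]; exact e⟩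

theorem Mod.long {C B : ℕ → List ℕ} {X : List ℕ} (M : Mod R w m lo hi L C B X) {u v Z : List ℕ}
    {k : ℕ} (hw' : wdb L (u ++ v ++ Z) = true) (huv : Commute (wl M.σ u) (wl M.σ v))
    (hZ : ∀ z ∈ Z, Commute (M.σ z) (wl M.σ u) ∧ Commute (M.σ z) (wl M.σ v))
    (h : ∀ p, lo ≤ p → p < hi → lchk R w m u v Z k p = true) : wl M.σ v * wl M.σ u ^ k = 1 := by
  have hw := wd_of hw'
  have hu : Wd L u := fun x hx => hw x (by simp [hx])
  have hv : Wd L v := fun x hx => hw x (by simp [hx])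
  have hz : Wd L Z := fun x hx => hw x (by simp [hx])
  refine eq_one_of_min _ fun p => ?_
  by_cases hp : lo ≤ p ∧ p < hi
  swap
  · exact Or.inl (by
      rw [Perm.mul_apply, Perm.pow_apply_eq_self_of_apply_eq_self (M.wl_out u hp), M.wl_out v hp])
  replace h := h p hp.1 hp.2
  clear hw hw'
  induction Z with
  | nil =>
    rcases M.acts.lrel hu hv k p hp.1 hp.2 h with e | ⟨j, e⟩
    · exact Or.inl e
    · exact Or.inr ⟨_, Or.inl ((huv.pow_left j).mul_right (Commute.pow_pow_self _ j k)).eq, e⟩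
  | cons z Z ih =>
    rw [List.forall_mem_cons] at hZ
    obtain ⟨k1, k2⟩ := List.forall_mem_cons.1 hz
    rcases brec.1 (nrec.1 h).2 with ⟨e, -⟩ | ⟨-, e⟩
    · refine Or.inr ⟨M.σ z, Or.inl (hZ.1.2.mul_right (hZ.1.1.pow_right k)).eq, ?_⟩
      rw [(M.acts z p k1.1 k1.2 hp.1 hp.2).1]
      exact (ble_false_iff _ _).1 e
    · exact ih hZ.2 k2 e

/-! ### Stabiliser chains -/

variable {G : Type*} [Group G]

/-- the pointwise stabiliser of a list of points -/
def Fx (φ : G →* Perm ℕ) (l : List ℕ) : Subgroup G where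
  carrier := {g | ∀ b ∈ l, φ g b = b}
  one_mem' b _ := by rw [map_one]; rfl
  mul_mem' {g h} hg hh b hb := by rw [map_mul, Perm.mul_apply, hh b hb, hg b hb]
  inv_mem' {g} hg b hb := by rw [map_inv]; exact Perm.inv_eq_iff_eq.2 (hg b hb).symm

theorem mem_Fx {φ : G →* Perm ℕ} {l : List ℕ} {g : G} : g ∈ Fx φ l ↔ ∀ b ∈ l, φ g b = b := Iff.rfl

theorem Fx_nil (φ : G →* Perm ℕ) : Fx φ [] = ⊤ := eq_top_iff.2 fun _ _ => by simp [mem_Fx]

theorem Fx_cons (φ : G →* Perm ℕ) (a : ℕ) (l : List ℕ) : Fx φ (a :: l) = Fx φ l ⊓ Fx φ [a] := by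
  ext g; simp [mem_Fx, and_comm]

theorem Fx_mono (φ : G →* Perm ℕ) {l l' : List ℕ} (h : l ⊆ l') : Fx φ l' ≤ Fx φ l :=
  fun _ hg b hb => hg b (h hb)

/-- the points of `[lo, hi)` are moved down into `[a, hi)` by elements of `K` -/
def Down (φ : G →* Perm ℕ) (K : Subgroup G) (a lo hi : ℕ) : Prop :=
  ∀ p, lo ≤ p → p < hi → ∃ k ∈ K, a ≤ φ k p ∧ φ k p < p

variable {φ : G →* Perm ℕ} {K K' : Subgroup G} {a a' b c : ℕ}

theorem Down.mono (h : Down φ K a lo hi) (hK : K ≤ K') (ha : a' ≤ a) : Down φ K' a' lo hi :=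
  fun p h1 h2 => (h p h1 h2).imp fun _ hk => ⟨hK hk.1, ha.trans hk.2.1, hk.2.2⟩

theorem Down.cat (h : Down φ K a lo b) (h' : Down φ K a b hi) : Down φ K a lo hi :=
  fun p h1 h2 => (Nat.lt_or_ge p b).elim (h p h1) fun h3 => h' p h3 h2

theorem Down.orb (h : Down φ K a (a + 1) b) : ∀ p, a ≤ p → p < b → ∃ k ∈ K, φ k a = p := by
  intro p
  induction p using Nat.strong_induction_on with
  | _ p ih =>
    intro h1 h2
    rcases h1.eq_or_lt with rfl | h1
    · exact ⟨1, one_mem _, by rw [map_one]; rfl⟩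
    obtain ⟨k, hk, h3, h4⟩ := h p h1 h2
    obtain ⟨j, hj, e⟩ := ih _ h4 h3 (h4.trans h2)
    exact ⟨k⁻¹ * j, mul_mem (inv_mem hk) hj, by
      rw [map_mul, map_inv, Perm.mul_apply, e]; exact (φ k).symm_apply_apply p⟩

theorem card_of_orb [Finite G] (S : Finset ℕ) (h : ∀ p ∈ S, ∃ k ∈ K, φ k a = p) :
    S.card * Nat.card (K ⊓ Fx φ [a] : Subgroup G) ≤ Nat.card K := by
  choose! k hk e using h
  have : Function.Injective fun x : S × (K ⊓ Fx φ [a] : Subgroup G) =>
      (⟨k x.1 * x.2, mul_mem (hk _ x.1.2) x.2.2.1⟩ : K) := by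
    rintro ⟨p, x⟩ ⟨q, y⟩ hxy
    have h1 : k p * x = k q * y := congrArg Subtype.val hxy
    have h2 := congrArg (fun g => φ g a) h1
    simp only [map_mul, Perm.mul_apply] at h2
    rw [x.2.2 a (by simp), y.2.2 a (by simp), e _ p.2, e _ q.2] at h2
    obtain rfl : p = q := Subtype.ext h2
    rw [Subtype.ext (mul_left_cancel h1) (p := fun g => g ∈ K ⊓ Fx φ [a]) (a1 := x) (a2 := y)]
  simpa using Nat.card_le_card_of_injective _ this

theorem Down.card [Finite G] (h : Down φ K a (a + 1) b) :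
    (b - a) * Nat.card (K ⊓ Fx φ [a] : Subgroup G) ≤ Nat.card K := by
  simpa using card_of_orb (Finset.Ico a b) fun p hp =>
    h.orb p (Finset.mem_Ico.1 hp).1 (Finset.mem_Ico.1 hp).2

theorem Down.card_Fx [Finite G] {l : List ℕ} (h : Down φ (Fx φ l) a (a + 1) b) :
    (b - a) * Nat.card (Fx φ (a :: l)) ≤ Nat.card (Fx φ l) := Fx_cons φ a l ▸ h.card

/-- the check that a point is moved down by the word with the number `kk p`, taken from a mask -/
def dchk (R : ℕ → ℕ) (w m : ℕ) (W : ℕ → List ℕ) (kk : ℕ → ℕ) (M a p : ℕ) : Bool :=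
  Nat.rec (motive := fun _ => Bool) false (fun p _ => Nat.rec (motive := fun _ => Bool) false
    (fun k _ => Bool.rec (motive := fun _ => Bool) false
      (evk R w m (fun q => Bool.rec (motive := fun _ => Bool) (Nat.ble a q) false (Nat.ble p q))
        (W k) p) (tb M k)) (kk p)) (Nat.add p 1)

/-- a group acting through a table -/
structure Act (g : ℕ → G) (φ : G →* Perm ℕ) (R : ℕ → ℕ) (w m lo hi L : ℕ) : Prop where
  sq : ∀ x, g x * g x = 1
  acts : Acts (fun x => φ (g x)) R w m lo hi L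

namespace Act

variable {g : ℕ → G} (A : Act g φ R w m lo hi L)
include A

theorem ev {k : ℕ → Bool} {l : List ℕ} (hl : wdb L l = true) {p : ℕ}
    (h1 : lo ≤ p) (h2 : p < hi) (e : evk R w m k l p = true) : k (φ (wl g l) p) = true := by
  rw [map_wl]; exact A.acts.ev (wd_of hl) h1 h2 e

theorem down {W : ℕ → List ℕ} {kk : ℕ → ℕ} {M : ℕ}
    (hW : ∀ k, tb M k = true → wdb L (W k) = true ∧ wl g (W k) ∈ K) (hb : lo ≤ b) (hc : c ≤ hi)
    (h : allIco b c (dchk R w m W kk M a) = true) : Down φ K a b c := fun p h1 h2 => by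
  rcases brec.1 (nrec.1 ((allIco_iff _ _ _).1 h p h1 h2)).2 with ⟨-, e⟩ | ⟨e1, e⟩
  · cases e
  rcases brec.1 (A.ev (hW _ e1).1 (hb.trans h1) (h2.trans_le hc) e) with ⟨e2, e⟩ | ⟨-, e⟩
  · exact ⟨_, (hW _ e1).2, (ble_true_iff _ _).1 e, (ble_false_iff _ _).1 e2⟩
  · cases e

end Act

/-- the word maps `p` to `q` -/
def mapb (R : ℕ → ℕ) (w m lo hi L : ℕ) (l : List ℕ) (p q : ℕ) : Bool :=
  band (wdb L l) (band (Nat.ble lo p) (band (lt p hi) (evk R w m (Nat.beq q) l p)))

/-- the word fixes the points of a list -/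
def fixb (R : ℕ → ℕ) (w m lo hi L : ℕ) (B l : List ℕ) : Bool :=
  band (wdb L l) (allL B fun p => band (Nat.ble lo p) (band (lt p hi) (evk R w m (Nat.beq p) l p)))

/-- two words agree on the points of a list -/
def eqb (R : ℕ → ℕ) (w m lo hi L : ℕ) (B l l' : List ℕ) : Bool :=
  band (wdb L l) (band (wdb L l') (allL B fun p => band (Nat.ble lo p) (band (lt p hi)
    (evk R w m (fun q => evk R w m (Nat.beq q) l' p) l p))))

/-- the words with numbers in a mask fix the points of a list -/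
def fixW (R : ℕ → ℕ) (w m lo hi L : ℕ) (B : List ℕ) (W : ℕ → List ℕ) (M : ℕ) : Bool :=
  allLt (Nat.succ (Nat.log2 M)) fun k => bimp (tb M k) (fixb R w m lo hi L B (W k))

namespace Act

variable {g : ℕ → G} (A : Act g φ R w m lo hi L)
include A

theorem map {l : List ℕ} {p q : ℕ} (h : mapb R w m lo hi L l p q = true) : φ (wl g l) p = q := by
  simp only [mapb, band_eq, Bool.and_eq_true, ble_true_iff, lt_iff] at h
  exact ((beq_true_iff _ _).1 (A.ev h.1 h.2.1 h.2.2.1 h.2.2.2)).symm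

theorem fix {B l : List ℕ} (h : fixb R w m lo hi L B l = true) : wl g l ∈ Fx φ B := fun p hp => by
  simp only [fixb, band_eq, Bool.and_eq_true, ble_true_iff, lt_iff, allL_iff] at h
  obtain ⟨h1, h2, h3⟩ := h.2 p hp
  exact ((beq_true_iff _ _).1 (A.ev h.1 h1 h2 h3)).symm

theorem eq {B l l' : List ℕ} (hB : Fx φ B = ⊥) (h : eqb R w m lo hi L B l l' = true) :
    wl g l = wl g l' := by
  simp only [eqb, band_eq, Bool.and_eq_true, ble_true_iff, lt_iff, allL_iff] at h
  rw [← inv_mul_eq_one, ← Subgroup.mem_bot, ← hB]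
  intro p hp
  obtain ⟨h1, h2, h3⟩ := h.2.2 p hp
  rw [map_mul, map_inv, Perm.mul_apply, Perm.inv_eq_iff_eq]
  exact ((beq_true_iff _ _).1 (A.ev h.2.1 h1 h2 (A.ev h.1 h1 h2 h3))).symm

theorem fixW {B : List ℕ} {W : ℕ → List ℕ} {M : ℕ} (h : fixW R w m lo hi L B W M = true) :
    ∀ k, tb M k = true → wdb L (W k) = true ∧ wl g (W k) ∈ Fx φ B := fun k hk => by
  have h1 : k < M.log2.succ := by
    rw [tb_eq] at hk
    have h2 : M ≠ 0 := by rintro rfl; simp at hk
    exact Nat.lt_succ_of_le ((Nat.le_log2 h2).2 (Nat.ge_two_pow_of_testBit hk))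
  have := (allLt_iff _ _).1 h k h1
  rw [hk] at this
  refine ⟨?_, A.fix this⟩
  have : fixb R w m lo hi L B (W k) = true := this
  rw [fixb, band_eq, Bool.and_eq_true] at this
  exact this.1

theorem mem {a : G} (ha : a ∈ grp g L) {p : ℕ} (h1 : lo ≤ p) (h2 : p < hi) :
    lo ≤ φ a p ∧ φ a p < hi :=
  grp_induction A.sq (P := fun a => lo ≤ φ a p ∧ φ a p < hi) (by rw [map_one]; exact ⟨h1, h2⟩)
    (fun x a x1 x2 ih => by rw [map_mul]; exact (A.acts x _ x1 x2 ih.1 ih.2).2) ha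

end Act

end

end CfsgH5.KT
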