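/-
Group theory on top of the permutation models: rank three actions, normal subgroups, the element
attached to a point, elementary abelian groups given by masks.
-/
import Cfsg.Agent.H5.KM

set_option autoImplicit false

namespace CfsgH5.KT

open Equiv Subgroup

noncomputable section

variable {G : Type*} [Group G]

theorem mask_all {M : ℕ} {f : ℕ → Bool}
    (h : allLt (Nat.succ (Nat.log2 M)) (fun k => bimp (tb M k) (f k)) = true) :
    ∀ k, tb M k = true → f k = true := fun k hk => by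
  have h1 : k < M.log2.succ := by
    rw [tb_eq] at hk
    have h2 : M ≠ 0 := by rintro rfl; simp at hk
    exact Nat.lt_succ_of_le ((Nat.le_log2 h2).2 (Nat.ge_two_pow_of_testBit hk))
  have := (allLt_iff _ _).1 h k h1
  rwa [hk] at this

/-- one more level of coset enumerations -/
theorem card_step {R EP : ℕ → ℕ} {RT : ℕ → ℕ → List ℕ} {NF NP L L' SUB n : ℕ} {X : List ℕ}
    {g : ℕ → G} (hl : Let g RT L) (h : ∀ p, p < NP → chk R EP RT NF NP L SUB X p = true)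
    (h0 : Finite (grp g L') ∧ Nat.card (grp g L') ≤ n)
    (hd : band (Nat.ble NF NP) (band (lt 0 NF) (band (allIco 1 (Nat.succ L) fun x => anyL X (Nat.beq x))
      (allLt (Nat.succ (Nat.log2 SUB)) fun k => bimp (tb SUB k) (wdb L' [k])))) = true) :
    Finite (grp g L) ∧ Nat.card (grp g L) ≤ NF * n := by
  simp only [band_eq, Bool.and_eq_true, ble_true_iff, lt_iff] at hd
  obtain ⟨h1, h2, h3, h4⟩ := hd
  have := h0.1
  have := card_le hl h1 h2 (fun x x1 x2 => by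
    have := (allIco_iff _ _ _).1 h3 x x1 (Nat.lt_succ_of_le x2)
    simpa only [anyL_iff, beq_true_iff, exists_eq_right'] using this) h (H := grp g L')
    fun x hx => by
      have := wd_of (mask_all h4 x hx) x (by simp)
      exact mem_grp g this.1 this.2
  exact ⟨this.1, this.2.trans (Nat.mul_le_mul_left _ h0.2)⟩

theorem card_zero (g : ℕ → G) : Finite (grp g 0) ∧ Nat.card (grp g 0) ≤ 1 := by
  rw [grp_zero]; exact ⟨inferInstance, by simp⟩

theorem grp_mono (g : ℕ → G) {L L' : ℕ} (h : L ≤ L') : grp g L ≤ grp g L' :=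
  closure_mono (Set.image_mono fun _ hx => ⟨hx.1, hx.2.trans h⟩)

theorem grp_le {g : ℕ → G} {L : ℕ} {K : Subgroup G} (h : ∀ x, 0 < x → x ≤ L → g x ∈ K) :
    grp g L ≤ K := by
  rw [grp, closure_le]; rintro _ ⟨x, hx, rfl⟩; exact h x hx.1 hx.2

theorem wl_single (g : ℕ → G) (x : ℕ) : wl g [x] = g x := by simp [wl]

theorem wl_conj {g : ℕ → G} (hg : ∀ x, g x * g x = 1) (u l : List ℕ) :
    wl g (u.reverse ++ l ++ u) = wl g u * wl g l * (wl g u)⁻¹ := by
  rw [wl_append, wl_append, wl_reverse hg, mul_assoc]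

/-! ### Rank three -/

variable {φ : G →* Perm ℕ} {K : Subgroup G} {a b c : ℕ}

theorem mem_Fx_one {x : G} : x ∈ Fx φ [a] ↔ φ x a = a := by simp [mem_Fx]

theorem mem_of_eq {M : Subgroup G} (hM : K ⊓ Fx φ [a] ≤ M) (hMK : M ≤ K) {k m : G} (hk : k ∈ K)
    (hm : m ∈ M) (e : φ m a = φ k a) : k ∈ M := by
  have : m⁻¹ * k ∈ M := hM ⟨K.mul_mem (K.inv_mem (hMK hm)) hk, mem_Fx_one.2 (by
    rw [map_mul, map_inv, Perm.mul_apply, ← e]; exact (φ m).symm_apply_apply a)⟩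
  simpa using mul_mem hm this

/-- the data of a primitive rank three action on an interval -/
structure Rank3 (φ : G →* Perm ℕ) (K : Subgroup G) (a c b : ℕ) : Prop where
  inv : ∀ k ∈ K, a ≤ φ k a ∧ φ k a < b
  d1 : Down φ (K ⊓ Fx φ [a]) (a + 1) (a + 2) c
  d2 : Down φ (K ⊓ Fx φ [a]) c (c + 1) b
  u1 : ∃ u ∈ K, a < φ u a ∧ φ u a < c ∧ ∃ q, a < q ∧ q < c ∧ c ≤ φ u q ∧ φ u q < b
  u2 : ∃ u ∈ K, c ≤ φ u a ∧ φ u a < b ∧ ∃ q, c ≤ q ∧ q < b ∧ a < φ u q ∧ φ u q < c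

theorem Down.closed {H M : Subgroup G} (hM : H ≤ M) {s t : ℕ} (h : Down φ H s (s + 1) t) {q : ℕ}
    (h1 : s ≤ q) (h2 : q < t) (hq : ∃ m ∈ M, φ m a = q) :
    ∀ p, s ≤ p → p < t → ∃ m ∈ M, φ m a = p := fun p p1 p2 => by
  obtain ⟨m, hm, e⟩ := hq
  obtain ⟨k, hk, e1⟩ := h.orb q h1 h2
  obtain ⟨l, hl, e2⟩ := h.orb p p1 p2
  refine ⟨l * k⁻¹ * m, mul_mem (mul_mem (hM hl) (inv_mem (hM hk))) hm, ?_⟩
  rw [map_mul, map_mul, map_inv, Perm.mul_apply, Perm.mul_apply, e, ← e1, ← e2]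
  exact congrArg (φ l) ((φ k).symm_apply_apply s)

theorem Rank3.trans (h : Rank3 φ K a c b) {M : Subgroup G} (hM : K ⊓ Fx φ [a] ≤ M) (hMK : M ≤ K)
    {m : G} (hm : m ∈ M) (hne : φ m a ≠ a) : ∀ p, a ≤ p → p < b → ∃ m ∈ M, φ m a = p := by
  obtain ⟨u, hu, u1, u2, q, q1, q2, q3, q4⟩ := h.u1
  obtain ⟨v, hv, v1, v2, r, r1, r2, r3, r4⟩ := h.u2
  have key : ∀ {u : G} {q : ℕ}, u ∈ K → (∃ m ∈ M, φ m a = φ u a) → (∃ m ∈ M, φ m a = q) →
      ∃ m ∈ M, φ m a = φ u q := fun hu ⟨m, hm, e⟩ ⟨n, hn, e'⟩ =>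
    ⟨_, mul_mem (mem_of_eq hM hMK hu hm e) hn, by rw [map_mul, Perm.mul_apply, e']⟩
  obtain ⟨m1, m2⟩ := h.inv m (hMK hm)
  have : (∀ p, a + 1 ≤ p → p < c → ∃ m ∈ M, φ m a = p) ∧ ∀ p, c ≤ p → p < b → ∃ m ∈ M, φ m a = p := by
    rcases Nat.lt_or_ge (φ m a) c with m3 | m3
    · have A := h.d1.closed hM (by omega) m3 ⟨m, hm, rfl⟩
      exact ⟨A, h.d2.closed hM q3 q4 (key hu (A _ u1 u2) (A _ q1 q2))⟩
    · have B := h.d2.closed hM m3 m2 ⟨m, hm, rfl⟩
      exact ⟨h.d1.closed hM r3 r4 (key hv (B _ v1 v2) (B _ r1 r2)), B⟩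
  intro p p1 p2
  rcases p1.eq_or_lt with rfl | p1
  · exact ⟨1, one_mem _, by rw [map_one]; rfl⟩
  · exact (Nat.lt_or_ge p c).elim (this.1 p p1) fun h => this.2 p h p2

theorem Rank3.orb (h : Rank3 φ K a c b) : ∀ p, a ≤ p → p < b → ∃ k ∈ K, φ k a = p :=
  let ⟨_, hu, u1, _⟩ := h.u1
  h.trans inf_le_left le_rfl hu u1.ne'

/-- the point stabiliser is maximal -/
theorem Rank3.max (h : Rank3 φ K a c b) {M : Subgroup G} (hM : K ⊓ Fx φ [a] ≤ M) (hMK : M ≤ K) :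
    M = K ⊓ Fx φ [a] ∨ M = K := by
  by_cases hf : ∀ m ∈ M, φ m a = a
  · exact Or.inl (le_antisymm (fun m hm => ⟨hMK hm, mem_Fx_one.2 (hf m hm)⟩) hM)
  push Not at hf
  obtain ⟨m, hm, hne⟩ := hf
  refine Or.inr (le_antisymm hMK fun k hk => ?_)
  obtain ⟨n, hn, e⟩ := h.trans hM hMK hm hne _ (h.inv k hk).1 (h.inv k hk).2
  exact mem_of_eq hM hMK hk hn e

/-- the orbit formula -/
theorem card_eq_of_orb [Finite G] {N : Subgroup G} (h1 : ∀ k ∈ N, a ≤ φ k a ∧ φ k a < b)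
    (h2 : ∀ p, a ≤ p → p < b → ∃ k ∈ N, φ k a = p) :
    Nat.card N = (b - a) * Nat.card (N ⊓ Fx φ [a] : Subgroup G) := by
  refine le_antisymm ?_ (by
    simpa using card_of_orb (Finset.Ico a b) fun p hp =>
      h2 p (Finset.mem_Ico.1 hp).1 (Finset.mem_Ico.1 hp).2)
  choose! k hk e using h2
  have : Function.Injective fun x : N => ((⟨φ x a, Finset.mem_Ico.2 (h1 x x.2)⟩ : Finset.Ico a b),
      (⟨(k (φ x a))⁻¹ * x, N.mul_mem (N.inv_mem (hk _ (h1 x x.2).1 (h1 x x.2).2)) x.2, mem_Fx_one.2 (by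
        rw [map_mul, map_inv, Perm.mul_apply, Perm.inv_eq_iff_eq, e _ (h1 x x.2).1 (h1 x x.2).2])⟩ :
          (N ⊓ Fx φ [a] : Subgroup G))) := fun x y hxy => by
    obtain ⟨k1, k2⟩ := Prod.mk.inj hxy
    have k3 := Subtype.mk.inj k2
    rw [Subtype.mk.inj k1] at k3
    exact Subtype.ext (mul_left_cancel k3)
  have := Nat.card_le_card_of_injective _ this
  rwa [Nat.card_prod, Nat.card_eq_finsetCard, Nat.card_Ico] at this

/-- a normal subgroup of order divisible by the full power `p` contains the elements of order `p` -/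
theorem mem_of_prime [Finite G] {N : Subgroup G} (hNK : N ≤ K)
    (hN : ∀ k ∈ K, ∀ n ∈ N, k * n * k⁻¹ ∈ N) {p : ℕ} (hp : p.Prime) (h1 : p ∣ Nat.card N)
    (h2 : ¬ p ^ 2 ∣ Nat.card K) {y : G} (hy : y ∈ K) (e : y ^ p = 1) : y ∈ N := by
  have : (N.subgroupOf K).Normal := ⟨fun n hn k => hN k k.2 n hn⟩
  have h3 : ¬ p ∣ Nat.card (K ⧸ N.subgroupOf K) := fun h => h2 (by
    rw [card_eq_card_quotient_mul_card_subgroup (N.subgroupOf K),
      Nat.card_congr (subgroupOfEquivOfLe hNK).toEquiv, pow_two]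
    exact mul_dvd_mul h h1)
  have h4 : ((⟨y, hy⟩ : K) : K ⧸ N.subgroupOf K) ^ p = 1 := by
    rw [← QuotientGroup.mk_pow, show (⟨y, hy⟩ : K) ^ p = 1 from Subtype.ext e]; rfl
  rcases (Nat.dvd_prime hp).1 (orderOf_dvd_of_pow_eq_one h4) with h | h
  · exact (QuotientGroup.eq_one_iff (⟨y, hy⟩ : K)).1 (orderOf_eq_one_iff.1 h)
  · exact absurd (h ▸ orderOf_dvd_natCard _) h3

/-- normal subgroups act trivially or contain the elements of order `p` -/
theorem Rank3.normal [Finite G] (h : Rank3 φ K a c b) {N : Subgroup G} (hNK : N ≤ K)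
    (hN : ∀ k ∈ K, ∀ n ∈ N, k * n * k⁻¹ ∈ N) {p : ℕ} (hp : p.Prime) (h1 : p ∣ b - a)
    (h2 : ¬ p ^ 2 ∣ Nat.card K) : (∀ n ∈ N, ∀ q, a ≤ q → q < b → φ n q = q) ∨
      ∀ y ∈ K, y ^ p = 1 → y ∈ N := by
  by_cases hf : ∀ n ∈ N, φ n a = a
  · refine Or.inl fun n hn q q1 q2 => ?_
    obtain ⟨k, hk, rfl⟩ := h.orb q q1 q2
    have := hf _ (hN _ (inv_mem hk) n hn)
    rwa [inv_inv, map_mul, map_mul, map_inv, Perm.mul_apply, Perm.mul_apply, Perm.inv_eq_iff_eq] at this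
  push Not at hf
  obtain ⟨m, hm, hne⟩ := hf
  let M : Subgroup G :=
    { carrier := {x | x ∈ K ∧ ∃ n ∈ N, φ n a = φ x a}
      one_mem' := ⟨one_mem _, 1, one_mem _, rfl⟩
      mul_mem' := fun {x y} ⟨hx, n, hn, e⟩ ⟨hy, n', hn', e'⟩ => ⟨mul_mem hx hy, x * n' * x⁻¹ * n,
        mul_mem (hN x hx n' hn') hn, by
          simp only [map_mul, map_inv, Perm.mul_apply, e, ← e']
          rw [show (φ x)⁻¹ (φ x a) = a from (φ x).symm_apply_apply a]⟩
      inv_mem' := fun {x} ⟨hx, n, hn, e⟩ => ⟨inv_mem hx, x⁻¹ * n⁻¹ * x⁻¹⁻¹,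
        hN _ (inv_mem hx) _ (inv_mem hn), by
          simp only [map_mul, map_inv, Perm.mul_apply, inv_inv, ← e]
          rw [show (φ n)⁻¹ (φ n a) = a from (φ n).symm_apply_apply a]⟩ }
  have ht := h.trans (M := M) (fun x hx => ⟨hx.1, 1, one_mem _, by
    rw [map_one, mem_Fx_one.1 hx.2]; rfl⟩) (fun x hx => hx.1) (m := m) ⟨hNK hm, m, hm, rfl⟩ hne
  refine Or.inr fun y hy e => mem_of_prime hNK hN hp ?_ h2 hy e
  rw [card_eq_of_orb (fun k hk => h.inv k (hNK hk)) fun q q1 q2 => by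
    obtain ⟨x, ⟨-, n, hn, e⟩, e'⟩ := ht q q1 q2
    exact ⟨n, hn, e.trans e'⟩]
  exact h1.mul_right _

theorem braid_conj {x y : G} (hx : x * x = 1) (hy : y * y = 1) (h : (x * y) ^ 3 = 1) :
    x * y * x * (x * y)⁻¹ = y := by
  rw [mul_inv_rev, inv_eq_of_mul_eq_one_right hx, inv_eq_of_mul_eq_one_right hy]
  apply mul_right_cancel (b := y)
  rw [hy, ← h]; simp only [pow_succ, pow_zero, one_mul, mul_assoc]

/-- the certificate: a power of a product of two conjugates of `y` -/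
theorem mem_of_cert {g : ℕ → G} (hg : ∀ x, g x * g x = 1) {N : Subgroup G}
    (hN : ∀ k ∈ K, ∀ n ∈ N, k * n * k⁻¹ ∈ N) {y u v t : List ℕ} {k : ℕ} (hy : wl g y ∈ N)
    (hu : wl g u ∈ K) (hv : wl g v ∈ K)
    (e : wl g (rep (y ++ (u.reverse ++ y ++ u)) k) = wl g (v.reverse ++ t ++ v)) : wl g t ∈ N := by
  rw [wl_rep, wl_append, wl_conj hg, wl_conj hg] at e
  have := hN _ (inv_mem hv) _ (e ▸ pow_mem (mul_mem (hN _ hu _ hy) hy) k)
  simpa [mul_assoc] using this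

/-! ### The element attached to a point -/

open Classical in
/-- the conjugate of `z` attached to a point of the orbit of `a` -/
def tau (φ : G →* Perm ℕ) (z : G) (a p : ℕ) : G :=
  if h : ∃ k, φ k a = p then h.choose * z * h.choose⁻¹ else 1

theorem tau_eq {z : G} (hz : Fx φ [a] ≤ centralizer {z}) (k : G) :
    tau φ z a (φ k a) = k * z * k⁻¹ := by
  have h : ∃ l, φ l a = φ k a := ⟨k, rfl⟩
  rw [tau, dif_pos h]
  have e := h.choose_spec
  generalize h.choose = l at e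
  have := mem_centralizer_singleton_iff.1 (hz (mem_Fx_one.2 (show φ (k⁻¹ * l) a = a by
    rw [map_mul, map_inv, Perm.mul_apply, e]; exact (φ k).symm_apply_apply a)))
  calc l * z * l⁻¹ = k * (k⁻¹ * l * z) * l⁻¹ := by group
    _ = k * z * k⁻¹ := by rw [this]; group

theorem tau_smul {z : G} (hz : Fx φ [a] ≤ centralizer {z}) (x : G) {p : ℕ} (hp : ∃ k, φ k a = p) :
    tau φ z a (φ x p) = x * tau φ z a p * x⁻¹ := by
  obtain ⟨k, rfl⟩ := hp
  rw [← Perm.mul_apply, ← map_mul, tau_eq hz, tau_eq hz]; group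

theorem tau_inj {z : G} (hz : Fx φ [a] = centralizer {z}) {k l : G}
    (e : k * z * k⁻¹ = l * z * l⁻¹) : φ k a = φ l a := by
  have : l⁻¹ * k ∈ Fx φ [a] := hz ▸ mem_centralizer_singleton_iff.2 (by
    calc l⁻¹ * k * z = l⁻¹ * (k * z * k⁻¹) * k := by group
      _ = z * (l⁻¹ * k) := by rw [e]; group)
  have := mem_Fx_one.1 this
  rwa [map_mul, map_inv, Perm.mul_apply, Perm.inv_eq_iff_eq] at this

/-- the size of the class -/
theorem card_class {z : G} (hz : Fx φ [0] = centralizer {z}) (h1 : ∀ k, φ k 0 < b)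
    (h2 : ∀ p, p < b → ∃ k, φ k 0 = p) : Nat.card (conjugatesOf z) = b := by
  have : conjugatesOf z = tau φ z 0 '' (Set.Iio b) := by
    ext x
    constructor
    · intro hx
      obtain ⟨k, rfl⟩ := isConj_iff.1 hx
      exact ⟨_, h1 k, tau_eq hz.le k⟩
    · rintro ⟨p, hp, rfl⟩
      obtain ⟨k, rfl⟩ := h2 p hp
      exact isConj_iff.2 ⟨k, (tau_eq hz.le k).symm⟩
  rw [this, Nat.card_coe_set_eq, Set.InjOn.ncard_image]
  · simp
  · intro p hp q hq e
    obtain ⟨k, rfl⟩ := h2 p hp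
    obtain ⟨l, rfl⟩ := h2 q hq
    rw [tau_eq hz.le, tau_eq hz.le] at e
    exact tau_inj hz e

/-- products of two members of the class in a rank three action -/
theorem Rank3.three {z : G} (h : Rank3 φ ⊤ 0 c b) (hz : Fx φ [0] ≤ centralizer {z}) (h0 : z * z = 1)
    {u v : G} (u1 : 0 < φ u 0) (u2 : φ u 0 < c) (v1 : c ≤ φ v 0) (v2 : φ v 0 < b)
    (hu : (z * (u * z * u⁻¹)) ^ 2 = 1) (hv : (z * (v * z * v⁻¹)) ^ 3 = 1) :
    ∀ x ∈ conjugatesOf z, ∀ y ∈ conjugatesOf z, (x * y) ^ 2 = 1 ∨ (x * y) ^ 3 = 1 := by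
  have key : ∀ {w k : G} {n : ℕ}, (z * (w * z * w⁻¹)) ^ n = 1 →
      (∃ m ∈ (⊤ : Subgroup G) ⊓ Fx φ [0], φ m (φ w 0) = φ k 0) → (z * (k * z * k⁻¹)) ^ n = 1 := by
    rintro w k n e ⟨m, hm, e'⟩
    have e1 := mem_centralizer_singleton_iff.1 (hz hm.2)
    rw [← tau_eq hz k, ← e', tau_smul hz m ⟨w, rfl⟩, tau_eq hz,
      show z * (m * (w * z * w⁻¹) * m⁻¹) = m * (z * (w * z * w⁻¹)) * m⁻¹ by
        simp only [← mul_assoc, e1], conj_pow, e]
    simp
  intro x hx y hy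
  obtain ⟨s, rfl⟩ := isConj_iff.1 hx
  obtain ⟨t, rfl⟩ := isConj_iff.1 hy
  rw [show s * z * s⁻¹ * (t * z * t⁻¹) = s * (z * (s⁻¹ * t * z * (s⁻¹ * t)⁻¹)) * s⁻¹ by group,
    conj_pow, conj_pow]
  generalize s⁻¹ * t = k
  suffices (z * (k * z * k⁻¹)) ^ 2 = 1 ∨ (z * (k * z * k⁻¹)) ^ 3 = 1 by
    rcases this with e | e <;> simp [e]
  rcases Nat.eq_zero_or_pos (φ k 0) with e | e
  · left
    rw [mem_centralizer_singleton_iff.1 (hz (mem_Fx_one.2 e)), mul_inv_cancel_right, h0, one_pow]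
  rcases Nat.lt_or_ge (φ k 0) c with e' | e'
  · exact Or.inl (key hu (h.d1.closed le_rfl u1 u2 ⟨1, one_mem _, by rw [map_one]; rfl⟩ _ e e'))
  · exact Or.inr (key hv (h.d2.closed le_rfl v1 v2 ⟨1, one_mem _, by rw [map_one]; rfl⟩ _ e'
      (h.inv k trivial).2))

/-! ### Products given by masks -/

/-- the word of a mask -/
def nuw (b : ℕ → List ℕ) (n m : ℕ) : List ℕ :=
  Nat.rec (motive := fun _ => List ℕ) [] (fun i ih => bif' (tb m i) (ih ++ b i) ih) n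

/-- the product of a mask -/
def nu (d : ℕ → G) (n m : ℕ) : G :=
  Nat.rec (motive := fun _ => G) 1 (fun i ih => (if m.testBit i then d i else 1) * ih) n

/-- the linear map with columns `c` -/
def lin (c : ℕ → ℕ) (n m : ℕ) : ℕ :=
  Nat.rec (motive := fun _ => ℕ) 0 (fun i ih => bif' (tb m i) (Nat.xor (c i) ih) ih) n

theorem nu_succ (d : ℕ → G) (n m : ℕ) :
    nu d (n + 1) m = (if m.testBit n then d n else 1) * nu d n m := rfl

theorem wl_nuw (g : ℕ → G) (b : ℕ → List ℕ) (n m : ℕ) :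
    wl g (nuw b n m) = nu (fun i => wl g (b i)) n m := by
  induction n with
  | zero => rfl
  | succ n ih =>
    rw [nu_succ, ← ih]
    show wl g (bif' (tb m n) (nuw b n m ++ b n) (nuw b n m)) = _
    rw [bif'_eq, tb_eq]
    split_ifs
    · rw [wl_append]
    · rw [one_mul]

theorem nu_mem {d : ℕ → G} {n : ℕ} (h : ∀ i, i < n → d i ∈ K) (m : ℕ) : nu d n m ∈ K := by
  induction n with
  | zero => exact one_mem _
  | succ n ih =>
    rw [nu_succ]
    refine mul_mem ?_ (ih fun i hi => h i (by omega))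
    split_ifs
    · exact h n (by omega)
    · exact one_mem _

theorem nu_zero (d : ℕ → G) (n : ℕ) : nu d n 0 = 1 := by
  induction n with
  | zero => rfl
  | succ n ih => rw [nu_succ, ih]; simp

theorem nu_xor {d : ℕ → G} {n : ℕ} (h1 : ∀ i, i < n → d i * d i = 1)
    (h2 : ∀ i j, i < n → j < n → Commute (d i) (d j)) (m m' : ℕ) :
    nu d n (Nat.xor m m') = nu d n m * nu d n m' := by
  induction n with
  | zero => exact (one_mul _).symm
  | succ n ih =>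
    have c : ∀ m, d n * nu d n m = nu d n m * d n := fun m =>
      (mem_centralizer_singleton_iff.1 (nu_mem (K := centralizer {d n}) (fun i hi =>
        mem_centralizer_singleton_iff.2 (h2 i n (by omega) (by omega))) m)).symm
    rw [nu_succ, nu_succ, nu_succ, ih (fun i hi => h1 i (by omega))
      fun i j hi hj => h2 i j (by omega) (by omega), show Nat.xor m m' = m ^^^ m' from rfl,
      Nat.testBit_xor]
    cases m.testBit n <;> cases m'.testBit n <;> simp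
    · rw [← mul_assoc, c, mul_assoc]
    · rw [mul_assoc]
    · rw [c, mul_assoc, ← mul_assoc (d n), h1 n (by omega), one_mul]

theorem nu_lin {d : ℕ → G} {n : ℕ} (h1 : ∀ i, i < n → d i * d i = 1)
    (h2 : ∀ i j, i < n → j < n → Commute (d i) (d j)) (f : G →* G) {c : ℕ → ℕ} {k : ℕ}
    (h : ∀ i, i < k → f (d i) = nu d n (c i)) (m : ℕ) : f (nu d k m) = nu d n (lin c k m) := by
  induction k with
  | zero => exact (map_one f).trans (nu_zero d n).symm
  | succ k ih =>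
    rw [nu_succ, map_mul, ih fun i hi => h i (by omega)]
    show _ = nu d n (bif' (tb m k) (Nat.xor (c k) (lin c k m)) (lin c k m))
    rw [bif'_eq, tb_eq]
    split_ifs
    · rw [nu_xor h1 h2, h k (by omega)]
    · rw [map_one, one_mul]

theorem lin_lt {c : ℕ → ℕ} {k n : ℕ} (h : ∀ i, i < k → c i < 2 ^ n) (m : ℕ) : lin c k m < 2 ^ n := by
  induction k with
  | zero => exact Nat.two_pow_pos n
  | succ k ih =>
    show bif' (tb m k) (Nat.xor (c k) (lin c k m)) (lin c k m) < _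
    rw [bif'_eq]
    split_ifs
    · exact Nat.xor_lt_two_pow (h k (by omega)) (ih fun i hi => h i (by omega))
    · exact ih fun i hi => h i (by omega)

end

end CfsgH5.KT
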