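/-
The presented group Fi23: its order and a faithful permutation representation on 31671 points.
-/
import Cfsg.Agent.H5.KG
import Cfsg.Agent.H5.F23C
import Cfsg.Agent.H5.F23E
import Cfsg.Agent.H5.F23N
import Cfsg.Agent.H5.F23O
import Cfsg.Prelude.Def_Spor_Fi23

set_option autoImplicit false
set_option maxRecDepth 100000
set_option linter.constructorNameAsVariable false

namespace CfsgH5.F23

open KT Cfsg.Spor Equiv Subgroup

noncomputable section

/-- the generator with a number -/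
def gn (x : ℕ) : Fi23.Gen := List.getD [.a, .c, .d, .e, .f, .h, .b, .i, .g, .a, .j] x .a

/-- the number of a generator -/
def ix : Fi23.Gen → ℕ
  | .c => 1 | .d => 2 | .e => 3 | .f => 4 | .h => 5 | .b => 6 | .i => 7 | .g => 8 | .a => 9 | .j => 10

/-- the letters -/
def g (x : ℕ) : Fi23 := if 0 < x ∧ x ≤ 10 then PresentedGroup.of (gn x) else 1

theorem g_ix (u : Fi23.Gen) : g (ix u) = PresentedGroup.of u := by cases u <;> rfl

theorem rel_cox (u v : Fi23.Gen) :
    ((PresentedGroup.of u : Fi23) * PresentedGroup.of v) ^ coxLabel Fi23.edges u v = 1 := by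
  have := PresentedGroup.one_of_mem (rels := coxRelators Fi23.edges ∪ {r | r ∈ Fi23.extra})
    (Or.inl ⟨u, by cases u <;> decide, v, by cases v <;> decide, rfl⟩)
  rwa [map_pow, map_mul] at this

theorem sq (x : ℕ) : g x * g x = 1 := by
  unfold g
  split_ifs
  · simpa [coxLabel] using rel_cox (gn x) (gn x)
  · exact one_mul _

theorem cox : Cox g E := by
  refine ⟨sq, fun x c hx hc => ?_⟩
  have : ∀ x, x < 16 → ∀ c, c < 16 → ap 2 3 E (c + 16 * x) = 0 ∨
      ((0 < c ∧ c ≤ 10) ∧ (0 < x ∧ x ≤ 10) ∧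
        coxLabel Fi23.edges (gn c) (gn x) = ap 2 3 E (c + 16 * x) + 1) := by
    decide +kernel
  constructor <;> intro h <;> obtain ⟨h1, h2, h3⟩ := (this x hx c hc).resolve_left (by omega) <;>
    rw [g, g, if_pos h1, if_pos h2, ← rel_cox (gn c) (gn x), h3, h]

theorem rel_s : wl g us ^ 10 = 1 := by
  have := PresentedGroup.one_of_mem (rels := coxRelators Fi23.edges ∪ {r | r ∈ Fi23.extra})
    (Or.inr (List.mem_cons_self))
  rw [← inv_eq_one, ← inv_pow, ← wl_reverse sq, ← this]
  simp only [map_pow, map_mul, mul_assoc]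
  rfl

theorem rel_e : wl g ue ^ 9 = 1 := by
  have := PresentedGroup.one_of_mem (rels := coxRelators Fi23.edges ∪ {r | r ∈ Fi23.extra})
    (Or.inr (List.mem_cons_of_mem _ List.mem_cons_self))
  rw [← inv_eq_one, ← inv_pow, ← wl_reverse sq, ← this]
  simp only [map_pow, map_mul, mul_assoc]
  rfl

theorem grp_top : grp g 10 = ⊤ := by
  rw [eq_top_iff, ← PresentedGroup.closure_range_of, closure_le]
  rintro _ ⟨u, rfl⟩
  rw [← g_ix]
  exact mem_grp g (by cases u <;> decide) (by cases u <;> decide)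

section lift

variable {H : Type*} [Group H] {s : ℕ → H} (hc : Cox s E) (h1 : wl s us ^ 10 = 1)
  (h2 : wl s ue ^ 9 = 1)
include hc h1 h2

theorem lift_rel : ∀ r ∈ coxRelators Fi23.edges ∪ {r | r ∈ Fi23.extra},
    FreeGroup.lift (fun u => s (ix u)) r = 1 := by
  rintro r (⟨u, -, v, -, rfl⟩ | hr)
  · simp only [map_pow, map_mul, FreeGroup.lift_apply_of]
    have : (u = v ∧ coxLabel Fi23.edges u v = 1) ∨ (ix u < 16 ∧ ix v < 16 ∧
        ((ap 2 3 E (ix u + 16 * ix v) = 1 ∧ coxLabel Fi23.edges u v = 2) ∨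
        (ap 2 3 E (ix u + 16 * ix v) = 2 ∧ coxLabel Fi23.edges u v = 3))) := by
      cases u <;> cases v <;> decide +kernel
    rcases this with ⟨rfl, h⟩ | ⟨k1, k2, ⟨k, h⟩ | ⟨k, h⟩⟩ <;> rw [h]
    · rw [pow_one, hc.1]
    · exact (hc.2 _ _ k2 k1).1 k
    · exact (hc.2 _ _ k2 k1).2 k
  · rw [← inv_eq_one, ← inv_pow, ← wl_reverse hc.1] at h1 h2
    simp only [Set.mem_ofPred_eq, Fi23.extra, List.mem_cons, List.not_mem_nil, or_false] at hr
    rcases hr with rfl | rfl <;> simp only [map_pow, map_mul, FreeGroup.lift_apply_of, mul_assoc]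
    · rw [← h1]; simp [wl, us, ix]
    · rw [← h2]; simp [wl, ue, ix]

/-- the homomorphism given by letters satisfying the relations -/
def lift : Fi23 →* H := PresentedGroup.toGroup (lift_rel hc h1 h2)

theorem lift_g {x : ℕ} (k1 : 0 < x) (k2 : x ≤ 10) : lift hc h1 h2 (g x) = s x := by
  rw [g, if_pos ⟨k1, k2⟩, lift, PresentedGroup.toGroup.of]
  congr 1
  exact (by decide : ∀ x, x ≤ 10 → 0 < x → ix (gn x) = x) x k2 k1

end lift

/-! ### The upper bound -/

theorem let_ {L : ℕ} {rels : List (List ℕ)} (D : List (List ℕ)) (hL : L < 16)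
    (h : rels ⊆ [rep us 10, rep ue 9]) (hw : allL rels (wdb L) = true) : Let g (rt E L rels D) L :=
  let_rt D hL cox (fun l hl => by
    have := h hl
    simp only [List.mem_cons, List.not_mem_nil, or_false] at this
    rcases this with rfl | rfl <;> rw [wl_rep]
    exacts [rel_s, rel_e]) fun l hl => wd_of ((allL_iff _ _).1 hw l hl)

theorem ub9 : Finite (grp g 9) ∧ Nat.card (grp g 9) ≤ 14080 * (728 * (243 * (27 * (16 * (120 * 1))))) :=
  card_step (let_ D9 (by decide) (by simp [rels9]) (by decide +kernel)) all9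
    (card_step (let_ D8 (by decide) (by simp [rels8]) (by decide +kernel)) all8
    (card_step (let_ D7 (by decide) (by simp [rels7]) (by decide +kernel)) all7
    (card_step (let_ D6 (by decide) (by simp [rels6]) (by decide +kernel)) all6
    (card_step (let_ D5 (by decide) (by simp [rels5]) (by decide +kernel)) all5
    (card_step (let_ D4 (by decide) (by simp [rels4]) (by decide +kernel)) all4
    (card_zero g) (by decide +kernel)) (L' := 4) (by decide +kernel)) (L' := 5) (by decide +kernel))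
    (L' := 6) (by decide +kernel)) (L' := 7) (by decide +kernel)) (L' := 8) (by decide +kernel)

theorem ub10 : Finite (grp g 10) ∧ Nat.card (grp g 10) ≤ 31671 * Nat.card (grp g 9) :=
  card_step (let_ D10 (by decide) (by simp [rels10]) (by decide +kernel)) all10 ⟨ub9.1, le_rfl⟩
    (by decide +kernel)

instance finite : Finite Fi23 :=
  have : Finite (⊤ : Subgroup Fi23) := grp_top ▸ ub10.1
  Finite.of_equiv _ topEquiv.toEquiv

/-! ### The model -/

theorem M : Mod R 15 32767 0 31671 10 CL BL [1, 2, 3, 4, 5, 6, 7, 8, 9, 10] :=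
  ⟨fun x h1 h2 => by simp; omega, fun p _ => allm p⟩

theorem Mcox : Cox M.σ E := M.cox (by decide +kernel)

theorem Ms : wl M.σ us ^ 10 = 1 := by
  simpa [wl_nil] using M.long (u := us) (v := []) (Z := [10]) (by decide +kernel) (Commute.one_right _)
    (by simpa [wl_nil] using Mcox.comm_wl (by decide +kernel)) fun p _ => alls p

theorem Me : wl M.σ ue ^ 9 = 1 := by
  simpa [wl_nil] using M.long (u := ue) (v := []) (Z := [10]) (by decide +kernel) (Commute.one_right _)
    (by simpa [wl_nil] using Mcox.comm_wl (by decide +kernel)) fun p _ => alle p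

/-- the permutation representation -/
def φ : Fi23 →* Perm ℕ := lift Mcox Ms Me

theorem A : Act g φ R 15 32767 0 31671 10 :=
  ⟨sq, fun x p h1 h2 => by
    simp only [φ, lift_g _ _ _ h1 h2]; exact M.acts x p h1 h2⟩

theorem lt_N (a : Fi23) {p : ℕ} (h : p < 31671) : φ a p < 31671 :=
  (A.mem (grp_top ▸ mem_top a) (Nat.zero_le _) h).2

/-! ### The stabiliser chain -/

/-- the words of eleven commuting involutions -/
def bw (i : ℕ) : List ℕ := List.getD [[9], [1], [3], [5], [8], [2, 5, 3, 2, 1, 2, 3, 5, 2], [4, 8, 3, 2, 5, 4, 3, 2, 1, 2, 3, 4, 5, 2, 3, 8, 4], [6, 9, 1, 6, 2, 5, 3, 2, 1, 2, 3, 5, 2, 6, 1, 9, 6], [6, 9, 4, 8, 1, 6, 3, 2, 5, 4, 3, 2, 1, 2, 3, 4, 5, 2, 3, 6, 1, 8, 4, 9, 6], [7, 5, 2, 1, 6, 9, 3, 4, 8, 2, 5, 7, 1, 6, 3, 2, 5, 4, 3, 2, 1, 2, 3, 4, 5, 2, 3, 6, 1, 7, 5, 2, 8, 4, 3, 9, 6, 1, 2, 5, 7]] i (rep [6, 1, 2, 3, 4, 8, 5] 9)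

/-- the points of twenty-three commuting involutions -/
def PL : List ℕ := [1, 2, 3, 4, 52, 9, 12, 18, 30, 48, 0, 15, 42, 36, 21, 51, 39, 45, 33, 27, 24, 54, 53]

/-- the central involution of the point stabiliser -/
def z : Fi23 := wl g (bw 10)

/-- the elementary abelian group of order `2 ^ 11` -/
def V : Subgroup Fi23 := closure {x | ∃ i, i < 11 ∧ x = wl g (bw i)}

theorem bw_mem {i : ℕ} (h : i < 11) : wl g (bw i) ∈ V := subset_closure ⟨i, h, rfl⟩

theorem V_le : V ≤ Fx φ PL := by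
  rw [V, closure_le]
  rintro _ ⟨i, hi, rfl⟩
  exact A.fix ((allLt_iff 11 fun i => fixb R 15 32767 0 31671 10 PL (bw i)).1 (by decide +kernel) i hi)

theorem dn {B : List ℕ} {M a b c : ℕ} (h : allIco b c (dchk R 15 32767 W kk M a) = true)
    (hd : band (Nat.ble c 31671) (fixW R 15 32767 0 31671 10 B W M) = true) : Down φ (Fx φ B) a b c := by
  rw [band_eq, Bool.and_eq_true, ble_true_iff] at hd
  exact A.down (A.fixW hd.2) (Nat.zero_le _) hd.1 h

theorem dV : Down φ V 695 696 1719 :=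
  A.down (fun k hk => by
    have := mask_all (f := fun k => band (wdb 10 (W k)) (anyLt 11 fun i => decide (W k = bw i)))
      (by decide +kernel) k hk
    simp only [band_eq, Bool.and_eq_true, anyLt_iff, decide_eq_true_eq] at this
    obtain ⟨h, i, hi, e⟩ := this
    exact ⟨h, e ▸ bw_mem hi⟩) (by decide) (by decide) kd_696

theorem d6 : Down φ (Fx φ [4, 3, 2, 1, 0]) 52 53 55 := dn kd_53 (by decide +kernel)
theorem d5 : Down φ (Fx φ [3, 2, 1, 0]) 4 5 52 := dn kd_5 (by decide +kernel)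

theorem d4 : Down φ (Fx φ [2, 1, 0]) 3 4 183 :=
  ((((dn kd_4 (by decide +kernel)).cat (d5.mono (Fx_mono _ (by decide)) (by decide))).cat
    (dn kd_52 (by decide +kernel))).cat (d6.mono (Fx_mono _ (by decide)) (by decide))).cat
    (dn kd_55 (by decide +kernel))

theorem d3 : Down φ (Fx φ [1, 0]) 2 3 695 :=
  ((dn kd_3 (by decide +kernel)).cat (d4.mono (Fx_mono _ (by decide)) (by decide))).cat
    (dn kd_183 (by decide +kernel))

theorem d3' : Down φ (Fx φ [1, 0]) 695 696 3511 :=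
  (dV.mono (V_le.trans (Fx_mono _ (by decide))) le_rfl).cat (dn kd_1719 (by decide +kernel))

theorem d2 : Down φ (Fx φ [0]) 1 2 3511 :=
  (((dn kd_2 (by decide +kernel)).cat (d3.mono (Fx_mono _ (by decide)) (by decide))).cat
    (dn kd_695 (by decide +kernel))).cat (d3'.mono (Fx_mono _ (by decide)) (by decide))

theorem d2' : Down φ (Fx φ [0]) 3511 3512 31671 :=
  have h : band (Nat.ble 31671 31671) (fixW R 15 32767 0 31671 10 [0] W 1022) = true := by
    decide +kernel
  have k : ∀ {b c : ℕ}, allIco b c (dchk R 15 32767 W kk 1022 3511) = true → c ≤ 31671 →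
      Down φ (Fx φ [0]) 3511 b c := fun e hc => by
    rw [band_eq, Bool.and_eq_true] at h
    exact A.down (A.fixW h.2) (Nat.zero_le _) hc e
  (((((((k kd_3512 (by decide)).cat (k kd_7512 (by decide))).cat (k kd_11512 (by decide))).cat
    (k kd_15512 (by decide))).cat (k kd_19512 (by decide))).cat (k kd_23512 (by decide))).cat
    (k kd_27512 (by decide))).cat (k kd_31512 (by decide))

theorem d1 : Down φ (Fx φ []) 0 1 31671 :=
  (((dn kd_1 (by decide +kernel)).cat (d2.mono (Fx_mono _ (by decide)) (by decide))).cat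
    (dn kd_3511 (by decide +kernel))).cat (d2'.mono (Fx_mono _ (by decide)) (by decide))

theorem z_3511 : φ z 3511 = 7897 := A.map (by decide +kernel)
theorem z_695 : φ z 695 = 695 := A.map (by decide +kernel)

theorem H_le : grp g 9 ≤ Fx φ [0] := grp_le fun x h1 h2 => by
  rw [← wl_single g x]
  exact A.fix ((allIco_iff 1 10 fun x => fixb R 15 32767 0 31671 10 [0] [x]).1 (by decide +kernel)
    x h1 (by omega))

theorem chain : Nat.card Fi23 = 4089470473293004800 ∧ Fx φ [0] = grp g 9 ∧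
    Nat.card (grp g 9) = 129123503308800 ∧ Fx φ [52, 4, 3, 2, 1, 0] = V ∧ Nat.card V = 2048 ∧
    Nat.card (V ⊓ Fx φ [695] : Subgroup Fi23) = 2 ∧ V ⊓ Fx φ [695] ⊓ Fx φ [3511] = ⊥ ∧
    Nat.card (Fx φ [1, 0]) = 36787322880 := by
  have h1 := d1.card_Fx
  have h2 := d2.card_Fx
  have h3 := d3.card_Fx
  have h4 := d4.card_Fx
  have h5 := d5.card_Fx
  have h6 := d6.card_Fx
  have h7 := dV.card
  have h8 := card_of_orb (φ := φ) (K := V ⊓ Fx φ [695]) (a := 3511) {3511, 7897} (by
    simp only [Finset.mem_insert, Finset.mem_singleton, forall_eq_or_imp, forall_eq]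
    exact ⟨⟨1, one_mem _, by rw [map_one]; rfl⟩, z, ⟨bw_mem (by decide), mem_Fx_one.2 z_695⟩, z_3511⟩)
  have h9 : 0 < Nat.card (V ⊓ Fx φ [695] ⊓ Fx φ [3511] : Subgroup Fi23) := Nat.card_pos
  have k1 : V ≤ Fx φ [52, 4, 3, 2, 1, 0] := V_le.trans (Fx_mono _ (by decide))
  have k2 := card_le_of_le k1
  have k3 := card_le_of_le H_le
  have u1 := ub10.2
  have u2 := ub9.2
  rw [grp_top, card_top] at u1
  rw [Fx_nil, card_top] at h1
  rw [show ({3511, 7897} : Finset ℕ).card = 2 by decide] at h8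
  refine ⟨by omega, (eq_of_le_of_card_ge H_le (by omega)).symm, by omega,
    (eq_of_le_of_card_ge k1 (by omega)).symm, by omega, by omega, card_eq_one.1 (by omega),
    by omega⟩

theorem card_eq : Nat.card Fi23 = 4089470473293004800 := chain.1
theorem stab0 : Fx φ [0] = grp g 9 := chain.2.1
theorem card_H : Nat.card (grp g 9) = 129123503308800 := chain.2.2.1
theorem card_V : Nat.card V = 2048 := chain.2.2.2.2.1

/-- a base -/
def BB : List ℕ := [3511, 695, 52, 4, 3, 2, 1, 0]

theorem base : Fx φ BB = ⊥ := by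
  rw [BB, Fx_cons, Fx_cons φ 695, chain.2.2.2.1, chain.2.2.2.2.2.2.1]

theorem weq {l l' : List ℕ} (h : eqb R 15 32767 0 31671 10 BB l l' = true) : wl g l = wl g l' :=
  A.eq base h

theorem V_eq : V = Fx φ PL :=
  le_antisymm V_le ((Fx_mono _ (by decide)).trans chain.2.2.2.1.le)

theorem z_sq : z * z = 1 := by
  rw [z, ← wl_append]; exact weq (l' := []) (by decide +kernel)

theorem stab_le : Fx φ [0] ≤ centralizer {z} := stab0 ▸ grp_le fun x h1 h2 => by
  rw [mem_centralizer_singleton_iff, z, ← wl_single g x, ← wl_append, ← wl_append]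
  exact weq ((allIco_iff 1 10 fun x => eqb R 15 32767 0 31671 10 BB (bw 10 ++ [x]) ([x] ++ bw 10)).1
    (by decide +kernel) x h1 (by omega))

theorem orb {p : ℕ} (h : p < 31671) : ∃ k, φ k 0 = p :=
  (d1.orb p (Nat.zero_le _) h).imp fun _ h => h.2

/-- a word conjugating `z` to the letter `9` -/
def wa : List ℕ := [10, 8, 4, 3, 2, 1, 5, 6, 2, 9, 3, 1, 4, 2, 8, 5, 3, 10, 4, 2, 8, 1, 3, 2, 4, 5, 3, 2, 1, 6]

theorem wa_0 : φ (wl g wa) 0 = 1 := A.map (by decide +kernel)

theorem wa_z : wl g wa * z * (wl g wa)⁻¹ = g 9 := by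
  rw [z, ← wl_conj sq, ← wl_single g 9]; exact weq (by decide +kernel)

theorem tau_1 : tau φ z 0 1 = g 9 := by rw [← wa_0, tau_eq stab_le, wa_z]

end

end CfsgH5.F23
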