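/-
Fi23: letters and relators (generated).
-/
import Cfsg.Agent.H5.KM

set_option autoImplicit false
set_option maxRecDepth 100000
set_option linter.all false

namespace CfsgH5.F23

open KT

noncomputable section

def E : ℕ := 0x6555400116554002456540015195400194558001591640016549400155624001559880015656000000000
def us : List ℕ := [2, 1, 6, 2, 3, 4, 2, 5, 7]
def ue : List ℕ := [9, 6, 1, 2, 3, 4, 5]

end

end CfsgH5.F23
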