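/-
Words in coded elements, divisibility certificates, indexed enumeration of the group of a chain.
-/
import Cfsg.Agent.H5.Rep

set_option autoImplicit false
set_option linter.unusedSimpArgs false
set_option linter.unusedSectionVars false
set_option linter.unusedVariables false

namespace CfsgH5

open scoped Pointwise
open MulAction

noncomputable section

/-- the product of `acc` with the word `w` (base 32 digits below a leading 1) in the list `R` -/
def evalWF (O : Ops) (R : List ℕ) (n : ℕ) : ℕ → ℕ → ℕ :=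
  Nat.rec (motive := fun _ => ℕ → ℕ → ℕ) (fun _ acc => acc)
    (fun _ ih w acc => bif' (Nat.ble w 1) acc
      (force (nthD R O.one (Nat.land w 15)) fun r => force (bif' (tb w 4) (O.inv r) r) fun r' =>
        force (O.mul acc r') fun acc' => force (Nat.shiftRight w 5) fun w' => ih w' acc')) n

/-- the product of `acc` with the word `w` -/
def evalW (O : Ops) (R : List ℕ) (acc w : ℕ) : ℕ := evalWF O R w w acc

/-- iterated image of a point -/
def iterA (O : Ops) (x n k : ℕ) : ℕ :=
  Nat.rec (motive := fun _ => ℕ → ℕ) (fun k => k) (fun _ ih k => force (O.app x k) ih) n k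

/-- the point `k` has period `p` under `x` -/
def perChk (O : Ops) (p x k : ℕ) : Bool :=
  band (Nat.blt k O.n) (band (Nat.beq (iterA O x p k) k) (bnot (Nat.beq (O.app x k) k)))

/-- each member of the list is the given word in `R` and the previous members -/
def slpChk (O : Ops) (L : List (ℕ × ℕ)) : List ℕ → Bool :=
  List.rec (motive := fun _ => List ℕ → Bool) (fun _ => true)
    (fun x _ ih R => band (Nat.beq (evalW O R O.one x.2) x.1) (ih (List.append R [x.1]))) L

/-- the conjugates by `y` of the members of the list are the given words -/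
def embChk (O : Ops) (R : List ℕ) (y : ℕ) (L : List (ℕ × ℕ)) : Bool :=
  allL L fun x => Nat.beq (evalW O R O.one x.2) (O.mul (O.mul y x.1) (O.inv y))

/-- a boolean test with a running index on the elements `h * t` -/
def allI (O : Ops) (f : ℕ → ℕ → Bool) (c : List Level) : ℕ → ℕ → Bool :=
  List.rec (motive := fun _ => ℕ → ℕ → Bool) f
    (fun l _ ih i t => force (Nat.mul i (Nat.succ (Nat.log2 l.B))) fun i0 =>
      allLt O.n fun k => bimp (tb l.B k) (force (O.mul (l.U k) t) fun t' =>
        force (Nat.add i0 k) fun i' => ih i' t')) c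

variable {O : Ops} {G : Type*} [Group G] {α : Type*} [MulAction G α] (C : Codes O G α)

variable {C} in
theorem Codes.In.evalW {H : Subgroup G} {R : List ℕ} (hR : ∀ r ∈ R, C.In H r) {acc : ℕ}
    (ha : C.In H acc) (w : ℕ) : C.In H (evalW O R acc w) := by
  have : ∀ (n w acc : ℕ), C.In H acc → C.In H (evalWF O R n w acc) := by
    intro n
    induction n with
    | zero => exact fun _ _ h => h
    | succ n ih =>
      intro w acc h
      show C.In H (bif' (Nat.ble w 1) acc
        (force (nthD R O.one (Nat.land w 15)) fun r => force (bif' (tb w 4) (O.inv r) r) fun r' =>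
        force (O.mul acc r') fun acc' => force (Nat.shiftRight w 5) fun w' => evalWF O R n w' acc'))
      cases Nat.ble w 1
      · simp only [bif'_false, force_eq]
        apply ih
        apply h.mul
        cases tb w 4
        · exact C.in_nthD hR _
        · exact (C.in_nthD hR _).inv
      · exact h
  exact this _ _ _ ha

theorem Codes.iterA_eq (g : G) (n : ℕ) (a : α) : iterA O (C.code g) n (C.enc a) = C.enc (g ^ n • a) := by
  induction n generalizing a with
  | zero => simp [iterA]
  | succ n ih =>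
    show force (O.app (C.code g) (C.enc a)) (iterA O (C.code g) n) = _
    rw [force_eq, ← C.enc_smul, ih, pow_succ, mul_smul]

variable {C} in
theorem Codes.In.dvd_card [Finite G] {H : Subgroup G} {p x k : ℕ} (hx : C.In H x) (hp : p.Prime)
    (h : perChk O p x k = true) : p ∣ Nat.card H := by
  obtain ⟨g, hg, rfl⟩ := hx
  simp only [perChk, band_eq, Bool.and_eq_true, blt_true_iff, beq_true_iff, bnot_eq,
    Bool.not_eq_true'] at h
  obtain ⟨a, rfl⟩ := C.enc_surj k h.1
  rw [C.iterA_eq, C.enc_inj.eq_iff, pow_smul_eq_iff_period_dvd] at h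
  have h2 : period g a ≠ 1 := fun e => by
    rw [period_eq_one_iff] at e
    rw [← C.enc_smul, e, (beq_true_iff _ _).2 rfl] at h
    exact absurd h.2.2 (by simp)
  rw [← ((Nat.dvd_prime hp).1 h.2.1).resolve_left h2]
  exact (period_dvd_orderOf g a).trans (Subgroup.orderOf_dvd_natCard H hg)

theorem Codes.slp_sound {H : Subgroup G} {L : List (ℕ × ℕ)} {R : List ℕ} (hR : ∀ r ∈ R, C.In H r)
    (h : slpChk O L R = true) : ∀ r ∈ R ++ L.map Prod.fst, C.In H r := by
  induction L generalizing R with
  | nil => simpa using hR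
  | cons x L ih =>
    have h : band (Nat.beq (evalW O R O.one x.2) x.1) (slpChk O L (R ++ [x.1])) = true := h
    rw [band_eq, Bool.and_eq_true, beq_true_iff] at h
    have := ih (R := R ++ [x.1]) (fun r hr => by
      rcases List.mem_append.1 hr with hr | hr
      · exact hR r hr
      · rw [List.mem_singleton.1 hr, ← h.1]; exact (Codes.In.one C H).evalW hR _) h.2
    simpa using this

theorem Codes.slp_valid {H : Subgroup G} {L : List (ℕ × ℕ)} {R S : List ℕ} (hR : ∀ r ∈ R, C.In H r)
    (h : band (slpChk O L R) (allL S (memL (R ++ L.map Prod.fst))) = true) : ∀ s ∈ S, C.In H s := by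
  rw [band_eq, Bool.and_eq_true, allL_iff] at h
  exact fun s hs => C.slp_sound hR h.1 s ((memL_iff _ _).1 (h.2 s hs))

theorem Codes.emb_sound {H : Subgroup G} {R : List ℕ} (hR : ∀ r ∈ R, C.In H r) {y : ℕ}
    (hy : C.In ⊤ y) {L : List (ℕ × ℕ)} (h : embChk O R y L = true) :
    ∃ g : G, C.grp (L.map Prod.fst) ≤ MulAut.conj g • H := by
  obtain ⟨y, -, rfl⟩ := hy
  refine ⟨y⁻¹, ?_⟩
  rw [Codes.grp, Subgroup.closure_le]
  intro s hs
  obtain ⟨x, hx, e⟩ := List.mem_map.1 hs
  have := (beq_true_iff _ _).1 ((allL_iff _ _).1 h x hx)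
  rw [e, ← C.code_mul, ← C.code_inv, ← C.code_mul] at this
  rw [SetLike.mem_coe, mem_conj_smul, inv_inv, ← C.in_code_iff, ← this]
  exact (Codes.In.one C H).evalW hR _

theorem Codes.allI_sound [Finite G] {c : List Level} (hv : ∀ s ∈ gens c, C.In ⊤ s)
    (hc : checkC O c = true) (f : ℕ → ℕ → Bool) (j : ℕ) (i : ℕ) (t : G)
    (h : allI O f (c.take j) i (C.code t) = true) :
    ∀ g ∈ C.grp (gens c), ∃ k ∈ C.grp (gens (c.drop j)), ∃ i', f i' (C.code (k * g * t)) = true := by
  induction j generalizing c i t with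
  | zero => exact fun g hg => ⟨g⁻¹, Subgroup.inv_mem _ hg, i, by rw [inv_mul_cancel, one_mul]; exact h⟩
  | succ j ih =>
    cases c with
    | nil =>
      intro g hg
      rw [gens_nil, Codes.grp_nil, Subgroup.mem_bot] at hg
      exact ⟨1, Subgroup.one_mem _, i, by rw [hg, one_mul, one_mul]; exact h⟩
    | cons l r =>
      intro g hg
      obtain ⟨k, hk, hb, u, -, hcu, h', hh', rfl⟩ := C.decomp hv hc hg
      have h : (force (Nat.mul i (Nat.succ (Nat.log2 l.B))) fun i0 =>
        allLt O.n fun k => bimp (tb l.B k) (force (O.mul (l.U k) (C.code t)) fun t' =>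
          force (Nat.add i0 k) fun i' => allI O f (r.take j) i' t')) = true := h
      rw [force_eq, allLt_iff] at h
      have := h k hk
      simp only [tb_eq, hb, force_eq, bimp_eq, Bool.not_true, Bool.false_or] at this
      rw [← hcu, ← C.code_mul] at this
      obtain ⟨k', hk', i', e⟩ := ih (C.valid_tail hv) (Codes.checkC_cons.1 hc).2 _ _ this _ hh'
      exact ⟨k', hk', i', by simpa [mul_assoc] using e⟩

/-- the indexed test modulo the group of a tail of the chain -/
theorem Codes.allI_one [Finite G] {c : List Level} (hv : ∀ s ∈ gens c, C.In ⊤ s)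
    (hc : checkC O c = true) (f : ℕ → ℕ → Bool) (j : ℕ)
    (h : allI O f (c.take j) 0 O.one = true) :
    ∀ g ∈ C.grp (gens c), ∃ k ∈ C.grp (gens (c.drop j)), ∃ i', f i' (C.code (k * g)) = true := by
  rw [← C.code_one] at h
  simpa using C.allI_sound hv hc f j 0 1 h

theorem Codes.allI_all [Finite G] {c : List Level} (hv : ∀ s ∈ gens c, C.In ⊤ s)
    (hc : checkC O c = true) (f : ℕ → ℕ → Bool) (h : allI O f c 0 O.one = true) :
    ∀ g ∈ C.grp (gens c), ∃ i', f i' (C.code g) = true := by
  intro g hg
  obtain ⟨k, hk, i, e⟩ := C.allI_one hv hc f c.length (by rwa [List.take_length]) g hg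
  rw [List.drop_length, gens_nil, Codes.grp_nil, Subgroup.mem_bot] at hk
  exact ⟨i, by simpa [hk] using e⟩

/-- coset representatives recognised by their images of an invariant object -/
theorem exists_coset_rep {X : Type*} [MulAction G X] [Finite G] {H K : Subgroup G} (hHK : H ≤ K)
    (x : X) (hx : ∀ h ∈ H, h • x = x) {N : ℕ} (D : ℕ → X)
    (hD : ∀ i, i < N → ∃ u ∈ K, u • x = D i) (hinj : ∀ i j, i < N → j < N → D i = D j → i = j)
    (hc : Nat.card K ≤ Nat.card H * N) :
    K ⊓ stabilizer G x = H ∧ ∀ k ∈ K, ∃ i, i < N ∧ k • x = D i := by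
  have h1 := card_inf_stabilizer_mul K x
  have hle : H ≤ K ⊓ stabilizer G x := le_inf hHK hx
  have h2 := Subgroup.card_le_of_le hle
  have h3 : {y | ∃ i, i < N ∧ D i = y}.ncard = N := by
    rw [ncard_eq_countLt N (fun _ => true) D _ (fun i j hi hj _ _ => hinj i j hi hj) (by simp),
      countLt_eq]
    simp
  have hsub : {y | ∃ i, i < N ∧ D i = y} ⊆ orbit K x := by
    rintro _ ⟨i, hi, rfl⟩
    obtain ⟨u, hu, e⟩ := hD i hi
    exact ⟨⟨u, hu⟩, e⟩
  have h4 := Set.ncard_le_ncard hsub (Set.finite_range _)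
  rw [h3] at h4
  have hpos : 0 < Nat.card H := Nat.card_pos
  have h5 : (orbit K x).ncard ≤ N := by
    by_contra hlt
    have : Nat.card H * N < Nat.card (K ⊓ stabilizer G x : Subgroup G) * (orbit K x).ncard :=
      Nat.mul_lt_mul_of_le_of_lt h2 (by omega) Nat.card_pos
    omega
  constructor
  · symm
    apply Subgroup.eq_of_le_of_card_ge hle
    have hN : 0 < N := by
      rcases Nat.eq_zero_or_pos N with rfl | h
      · have : 0 < Nat.card K := Nat.card_pos
        omega
      · exact h
    rw [le_antisymm h5 h4] at h1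
    exact Nat.le_of_mul_le_mul_right (h1 ▸ hc) hN
  · intro k hk
    have := Set.eq_of_subset_of_ncard_le hsub (by omega) (Set.finite_range _)
    obtain ⟨i, hi, e⟩ : k • x ∈ {y | ∃ i, i < N ∧ D i = y} := this ▸ ⟨⟨k, hk⟩, rfl⟩
    exact ⟨i, hi, e.symm⟩

/-- a group is not the union of three proper subgroups containing a subgroup of odd index -/
theorem le_of_union_three [Finite G] {P H A B D : Subgroup G} (hPH : P ≤ H) (hA : P ≤ A) (hB : P ≤ B)
    (hD : P ≤ D) (hodd : Odd (P.relIndex H)) (h : ∀ g ∈ H, g ∈ A ∨ g ∈ B ∨ g ∈ D) :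
    H ≤ A ∨ H ≤ B ∨ H ≤ D := by
  classical
  by_contra hn
  push Not at hn
  have key : ∀ X : Subgroup G, P ≤ X → ¬ H ≤ X → 3 * Nat.card (X ⊓ H : Subgroup G) ≤ Nat.card H := by
    intro X hX hnX
    have h1 : X.relIndex H ∣ P.relIndex H := Subgroup.relIndex_dvd_of_le_left H hX
    have h2 : X.relIndex H ≠ 1 := fun e => hnX (Subgroup.relIndex_eq_one.1 e)
    have h3 := (Odd.of_dvd_nat hodd h1)
    have h4 : Nat.card (X ⊓ H : Subgroup G) * X.relIndex H = Nat.card H := by
      rw [← Subgroup.inf_relIndex_right, ← Subgroup.relIndex_bot_left, ← Subgroup.relIndex_bot_left]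
      exact Subgroup.relIndex_mul_relIndex _ _ _ bot_le inf_le_right
    obtain ⟨m, hm⟩ := h3
    have : 3 ≤ X.relIndex H := by omega
    nlinarith
  have k1 := key A hA hn.1
  have k2 := key B hB hn.2.1
  have k3 := key D hD hn.2.2
  have hsub : (H : Set G) ⊆ ((A ⊓ H : Subgroup G) : Set G) ∪ (((B ⊓ H : Subgroup G) : Set G) \ {1}) ∪
      ((D ⊓ H : Subgroup G) : Set G) := by
    intro g hg
    rcases h g hg with h | h | h
    · exact Or.inl (Or.inl ⟨h, hg⟩)
    · by_cases e : g = 1
      · exact Or.inr ⟨e ▸ D.one_mem, hg⟩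
      · exact Or.inl (Or.inr ⟨⟨h, hg⟩, e⟩)
    · exact Or.inr ⟨h, hg⟩
  have h1 := Set.ncard_le_ncard hsub (Set.toFinite _)
  have h2 := Set.ncard_union_le (((A ⊓ H : Subgroup G) : Set G) ∪
    (((B ⊓ H : Subgroup G) : Set G) \ {1})) ((D ⊓ H : Subgroup G) : Set G)
  have h3 := Set.ncard_union_le ((A ⊓ H : Subgroup G) : Set G) (((B ⊓ H : Subgroup G) : Set G) \ {1})
  have h4 := Set.ncard_sdiff_singleton_lt_of_mem (s := ((B ⊓ H : Subgroup G) : Set G)) (a := 1)
    (B ⊓ H).one_mem
  simp only [← Nat.card_coe_set_eq, SetLike.coe_sort_coe] at h1 h2 h3 h4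
  omega

/-- the number of Sylow subgroups of a subgroup -/
theorem exists_sylow_count [Finite G] {p k : ℕ} [Fact p.Prime] {P H : Subgroup G} (hPH : P ≤ H)
    (hP : Nat.card P = p ^ k) (hk : ¬ p ^ (k + 1) ∣ Nat.card H) :
    ∃ n, n % p = 1 % p ∧ n * Nat.card (H ⊓ Subgroup.normalizer (P : Set G) : Subgroup G) = Nat.card H := by
  have hc : Nat.card (P.subgroupOf H) = p ^ k := by
    rw [Nat.card_congr (Subgroup.subgroupOfEquivOfLe hPH).toEquiv, hP]
  have hf : (Nat.card H).factorization p = k := by
    apply le_antisymm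
    · by_contra h
      exact hk ((pow_dvd_pow p (by omega)).trans (Nat.ordProj_dvd _ p))
    · rw [← (Fact.out : p.Prime).pow_dvd_iff_le_factorization Nat.card_pos.ne', ← hc]
      exact Subgroup.card_subgroup_dvd_card _
  let S : Sylow p H := Sylow.ofCard (P.subgroupOf H) (hf ▸ hc)
  refine ⟨Nat.card (Sylow p H), card_sylow_modEq_one p H, ?_⟩
  rw [S.card_eq_index_normalizer, mul_comm, ← Subgroup.card_mul_index (Subgroup.normalizer (S : Set H))]
  congr 1
  have : Subgroup.normalizer (S : Set H) = (Subgroup.normalizer (P : Set G)).subgroupOf H :=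
    (Subgroup.subgroupOf_normalizer_eq hPH).symm
  rw [this, ← Subgroup.inf_subgroupOf_left]
  exact (Nat.card_congr (Subgroup.subgroupOfEquivOfLe inf_le_left).toEquiv).symm

end

end CfsgH5
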