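/-
Permutation representations on invariant tables.
-/
import Cfsg.Agent.H5.Word

set_option autoImplicit false

namespace CfsgH5

noncomputable section

variable {G X : Type*} [Group G] {N : ℕ}

/-- an action on a type preserving an injective table -/
structure TabAct (G X : Type*) [Group G] (N : ℕ) where
  act : G → X → X
  act_one : ∀ x, act 1 x = x
  act_mul : ∀ g h x, act (g * h) x = act g (act h x)
  D : ℕ → X
  inj : ∀ i j, i < N → j < N → D i = D j → i = j
  inv : ∀ g i, i < N → ∃ j, j < N ∧ act g (D i) = D j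

namespace TabAct

variable (T : TabAct G X N)

/-- the induced action on the indices -/
@[reducible] def mulAction : MulAction G (Fin N) where
  smul g i := ⟨(T.inv g i i.2).choose, (T.inv g i i.2).choose_spec.1⟩
  one_smul i := Fin.ext (T.inj _ _ (T.inv 1 i i.2).choose_spec.1 i.2
    ((T.inv 1 i i.2).choose_spec.2.symm.trans (T.act_one _)))
  mul_smul g h i := Fin.ext (T.inj _ _ (T.inv _ i i.2).choose_spec.1
    (T.inv g _ (T.inv h i i.2).choose_spec.1).choose_spec.1
    ((T.inv _ i i.2).choose_spec.2.symm.trans ((T.act_mul _ _ _).trans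
      ((congrArg (T.act g) (T.inv h i i.2).choose_spec.2).trans
        (T.inv g _ (T.inv h i i.2).choose_spec.1).choose_spec.2))))

/-- the induced permutation representation -/
def hom : G →* Equiv.Perm (Fin N) := @MulAction.toPermHom G (Fin N) _ T.mulAction

theorem hom_spec (g : G) (i : Fin N) : T.D (T.hom g i) = T.act g (T.D i) :=
  (T.inv g i i.2).choose_spec.2.symm

theorem hom_eq_iff (g : G) (i j : Fin N) : T.hom g i = j ↔ T.act g (T.D i) = T.D j := by
  rw [← T.hom_spec]
  exact ⟨fun h => by rw [h], fun h => Fin.ext (T.inj _ _ (T.hom g i).2 j.2 h)⟩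

theorem mem_ker (g : G) : g ∈ T.hom.ker ↔ ∀ i, i < N → T.act g (T.D i) = T.D i := by
  rw [MonoidHom.mem_ker, Equiv.ext_iff]
  exact ⟨fun h i hi => (T.hom_eq_iff g ⟨i, hi⟩ ⟨i, hi⟩).1 (h _),
    fun h i => (T.hom_eq_iff g i i).2 (h i i.2)⟩

theorem pcode_hom [NeZero N] {w m p : ℕ} {g : G} (hp : p = pack w N (ap w m p))
    (h : ∀ i, i < N → ap w m p i < N ∧ T.act g (T.D i) = T.D (ap w m p i)) :
    (Enc.fin N).pcode w (T.hom g) = p := by
  rw [hp]
  refine pack_congr _ _ _ _ fun i hi => ?_
  have := (T.hom_eq_iff g ⟨i, hi⟩ ⟨_, (h i hi).1⟩).2 (h i hi).2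
  have e : (Enc.fin N).dec i = ⟨i, hi⟩ := Fin.ext (Nat.mod_eq_of_lt hi)
  rw [e, this]
  rfl

end TabAct

theorem inj_of_lt_succ {N : ℕ} {f : ℕ → ℤ} (h : ∀ i, i < N → f i < f (i + 1)) :
    ∀ i j, i < N + 1 → j < N + 1 → f i = f j → i = j := by
  have k : ∀ i d, i + d < N → f i < f (i + d + 1) := by
    intro i d
    induction d with
    | zero => exact h i
    | succ d ih => exact fun hd => (ih (by omega)).trans (h _ hd)
  intro i j hi hj e
  rcases lt_trichotomy i j with h1 | h1 | h1
  · obtain ⟨d, rfl⟩ := Nat.exists_eq_add_of_lt h1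
    exact absurd e (k i d (by omega)).ne
  · exact h1
  · obtain ⟨d, rfl⟩ := Nat.exists_eq_add_of_lt h1
    exact absurd e (k j d (by omega)).ne'

/-- the faithful representation of a central quotient -/
theorem exists_quot_center_hom {G K : Type*} [Group G] [Group K] (φ : G →* K)
    (h : φ.ker = Subgroup.center G) : ∃ f : G ⧸ Subgroup.center G →* K, Function.Injective f ∧
      ∀ g, f (QuotientGroup.mk g) = φ g :=
  ⟨QuotientGroup.lift _ φ h.ge, by
    rw [injective_iff_map_eq_one]
    intro x hx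
    obtain ⟨g, rfl⟩ := QuotientGroup.mk_surjective x
    exact (QuotientGroup.eq_one_iff g).2 (h.le hx), fun _ => rfl⟩

end

end CfsgH5
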