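/-
Orbits on points, primitivity and simplicity from certificates.
-/
import Cfsg.Agent.H5.Tab

set_option autoImplicit false

namespace CfsgH5

open MulAction

noncomputable section

variable {O : Ops} {G : Type*} [Group G] {α : Type*} [MulAction G α]

/-- lookup in a compact table split into blocks of sixteen entries -/
def utab (W M wi mi I : ℕ) (L : List ℕ) (k : ℕ) : ℕ :=
  force (ap wi mi I k) fun j => ap W M (nthD L 0 (Nat.shiftRight j 4)) (Nat.land j 15)

theorem homCodes_code {Γ γ : Type*} [Group Γ] {n : ℕ} (E : Enc γ n) (w m : ℕ) (hw : n ≤ 2 ^ w)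
    (hm : m = 2 ^ w - 1) (f : Γ →* Equiv.Perm γ) (hf : Function.Injective f) (g : Γ) :
    @Codes.code _ _ _ _ (MulAction.compHom γ f) (homCodes E w m hw hm f hf) g = E.pcode w (f g) := rfl

theorem homCodes_in_of_memC {Γ γ : Type*} [Group Γ] [Finite γ] {n : ℕ} (E : Enc γ n) (w m : ℕ)
    (hw : n ≤ 2 ^ w) (hm : m = 2 ^ w - 1) (f : Γ →* Equiv.Perm γ) (hf : Function.Injective f)
    {c : List Level} {H : Subgroup Γ}
    (hv : ∀ s ∈ gens c, @Codes.In _ _ _ _ (MulAction.compHom γ f) (homCodes E w m hw hm f hf) H s)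
    (hc : checkC (permOps w m n) c = true) {p : ℕ} (hp : isPerm w m n p = true)
    (h : memC (permOps w m n) c p = true) : ∃ g ∈ H, E.pcode w (f g) = p := by
  let C := E.codes w m hw hm
  have hv : ∀ s ∈ gens c, C.In (H.map f) s := fun s hs => by
    obtain ⟨g, hg, e⟩ := hv s hs
    exact ⟨f g, ⟨g, hg, rfl⟩, e⟩
  obtain ⟨g, e⟩ := E.exists_of_isPerm hw hm hp
  obtain ⟨_, ⟨k, hk, rfl⟩, e⟩ := (C.in_of_memC (fun s hs => (hv s hs).mono le_top) hc
    ⟨g, trivial, e⟩ h).mono (C.grp_le hv)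
  exact ⟨k, hk, e⟩

/-- a spanning forest for the orbits on points -/
def ptForest (O : Ops) (S : List ℕ) (rt gen dep : ℕ → ℕ) : Bool :=
  forest O.n rt (fun k => force (nthD S O.one (gen k)) fun s => O.app s k) dep fun _ _ => true

theorem Codes.point_orbits (C : Codes O G α) {H : Subgroup G} {S : List ℕ} (hS : ∀ s ∈ S, C.In H s)
    {rt gen dep : ℕ → ℕ} (h : ptForest O S rt gen dep = true) {a b : α}
    (hab : rt (C.enc a) = rt (C.enc b)) : ∃ g ∈ H, g • a = b := by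
  have k := forest_sound (r := fun i j => ∀ x, C.enc x = i → ∃ g ∈ H, C.enc (g • x) = j)
    (fun k x hx => ⟨1, H.one_mem, by rw [one_smul, hx]⟩)
    (fun i j l h1 h2 x hx => by
      obtain ⟨g, hg, e⟩ := h1 x hx
      obtain ⟨g', hg', e'⟩ := h2 _ e
      exact ⟨g' * g, H.mul_mem hg' hg, by rw [mul_smul, e']⟩)
    (fun k _ _ _ _ x hx => by
      obtain ⟨g, hg, e⟩ := C.in_nthD hS (gen k)
      exact ⟨g, hg, by rw [C.enc_smul, e, hx, force_eq]⟩) h
  obtain ⟨g, hg, e⟩ := k _ (C.enc_lt a) a rfl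
  obtain ⟨g', hg', e'⟩ := k _ (C.enc_lt b) b rfl
  refine ⟨g'⁻¹ * g, H.mul_mem (H.inv_mem hg') hg, ?_⟩
  rw [mul_smul, C.enc_inj (e.trans (hab.trans e'.symm)), inv_smul_smul]

theorem Codes.ncard_eq_countLt (C : Codes O G α) (f : ℕ → Bool) :
    {y | f (C.enc y) = true}.ncard = countLt O.n f := by
  have : ∀ i, ∃ a : Option α, i < O.n → ∃ x, a = some x ∧ C.enc x = i := fun i => by
    by_cases h : i < O.n
    · obtain ⟨x, hx⟩ := C.enc_surj i h
      exact ⟨some x, fun _ => ⟨x, rfl, hx⟩⟩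
    · exact ⟨none, fun h' => absurd h' h⟩
  choose D hD using this
  rw [← Set.ncard_image_of_injective _ (Option.some_injective α)]
  refine CfsgH5.ncard_eq_countLt O.n f D _ (fun i j hi hj _ _ e => ?_) fun x => ?_
  · obtain ⟨x, h1, rfl⟩ := hD i hi
    obtain ⟨y, h2, rfl⟩ := hD j hj
    rw [h1, h2] at e
    rw [Option.some_injective _ e]
  · constructor
    · rintro ⟨y, hy, rfl⟩
      obtain ⟨z, h1, h2⟩ := hD _ (C.enc_lt y)
      exact ⟨_, C.enc_lt y, hy, by rw [h1, C.enc_inj h2]⟩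
    · rintro ⟨i, hi, hf, rfl⟩
      obtain ⟨z, h1, rfl⟩ := hD i hi
      exact ⟨z, hf, h1.symm⟩

theorem Codes.isCoatom_stab [Finite G] (C : Codes O G α) {a : α} (htr : ∀ y, y ∈ orbit G a)
    {S : List ℕ} (hS : ∀ s ∈ S, C.In (stabilizer G a) s) {m c₀ : ℕ} {cl R gen dep n : ℕ → ℕ}
    (hf : ptForest O S (fun k => R (cl k)) gen dep = true)
    (hcl : allLt O.n (fun k => Nat.blt (cl k) m) = true)
    (hn : allLt m (fun i => Nat.beq (countLt O.n fun k => Nat.beq (cl k) i) (n i)) = true)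
    (h0 : cl (C.enc a) = c₀)
    (harith : ∀ J ⊆ Finset.range m, c₀ ∈ J → (∑ i ∈ J, n i) ∣ (∑ i ∈ Finset.range m, n i) →
      (∑ i ∈ J, n i) = 1 ∨ (∑ i ∈ J, n i) = ∑ i ∈ Finset.range m, n i)
    (hN : (∑ i ∈ Finset.range m, n i) ≠ 1) : IsCoatom (stabilizer G a) := by
  refine isCoatom_of_suborbits a (Finset.range m) (fun y => cl (C.enc y)) n (fun y _ => ?_)
    (fun y _ y' _ h => C.point_orbits hS hf (congrArg R h)) (fun i hi => ?_) (h0 ▸ harith) hN
  · exact Finset.mem_range.2 ((blt_true_iff _ _).1 ((allLt_iff _ _).1 hcl _ (C.enc_lt y)))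
  · rw [← (beq_true_iff _ _).1 ((allLt_iff _ _).1 hn i (Finset.mem_range.1 hi)),
      ← C.ncard_eq_countLt]
    congr 1
    ext y
    simp [htr]

theorem isSimpleGroup_of_coatom [Nontrivial G] {a : α} (htr : ∀ y, y ∈ orbit G a)
    (hf : ∀ g : G, (∀ y : α, g • y = y) → g = 1) (hco : IsCoatom (stabilizer G a))
    (hN : ∀ N : Subgroup G, N.Normal → (∀ y, ∃ n ∈ N, n • a = y) → N = ⊤) : IsSimpleGroup G := by
  refine ⟨fun N hn => ?_⟩
  by_cases h : N ≤ stabilizer G a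
  · left
    rw [eq_bot_iff]
    intro g hg
    refine hf g fun y => ?_
    obtain ⟨k, rfl⟩ := htr y
    have := h (hn.conj_mem' g hg k)
    rw [mem_stabilizer_iff, mul_smul, mul_smul, inv_smul_eq_iff] at this
    exact this
  · right
    refine hN N hn fun y => ?_
    obtain ⟨k, rfl⟩ := htr y
    have : k ∈ N ⊔ stabilizer G a := by
      rw [hco.2 _ (right_lt_sup.2 h)]; trivial
    rw [← SetLike.mem_coe, Subgroup.normal_mul] at this
    obtain ⟨n, hn, s, hs, rfl⟩ := this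
    exact ⟨n, hn, by simp only [mul_smul]; rw [mem_stabilizer_iff.1 hs]⟩

end

end CfsgH5
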