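/-
More on pairs of permutation representations.
-/
import Cfsg.Agent.H5.Prim

set_option autoImplicit false

namespace CfsgH5

noncomputable section

namespace Pair

variable {G K α β : Type*} [Group G] [Group K] {n₁ n₂ w m w₁ m₁ w₂ m₂ : ℕ}
  (P : Pair G K α β n₁ n₂ w m w₁ m₁ w₂ m₂)

theorem code_mul (d d' : G × K) : P.code (d * d') = pmul w m (n₁ + n₂) (P.code d) (P.code d') :=
  @Codes.code_mul _ _ _ _ P.act P.C d d'

theorem code_inj : Function.Injective P.code := @Codes.code_inj _ _ _ _ P.act P.C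

theorem code_one : P.code 1 = pone w (n₁ + n₂) := @Codes.code_one _ _ _ _ P.act P.C

theorem valid_drop {H : Subgroup (G × K)} {c : List Level} (hv : ∀ s ∈ gens c, P.In H s) (i : ℕ) :
    ∀ s ∈ gens (c.drop i), P.In H s := @Codes.valid_drop _ _ _ _ P.act P.C _ _ hv i

theorem exists_of_mem {H : Subgroup (G × K)} {S : List ℕ} (hv : ∀ s ∈ S, P.In H s) {s : ℕ}
    (hs : s ∈ S) : ∃ d ∈ P.grp S, P.code d = s := @Codes.in_grp _ _ _ _ P.act P.C _ _ hv s hs

variable [Finite G] [Finite K]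

/-- A subgroup of the first factor isomorphic to a subgroup of the second factor of known order. -/
theorem exists_sub_iso {L : Subgroup K} {c c' : List Level}
    (hv : ∀ s ∈ gens c, P.In ((⊤ : Subgroup G).prod L) s)
    (hc : checkC (permOps w m (n₁ + n₂)) c = true) (hb : baseLt c n₁ = true)
    (hv' : ∀ s ∈ gens c', P.In ⊤ s) (hc' : checkC (permOps w m (n₁ + n₂)) c' = true)
    (h : allL (gens c') (memC (permOps w m (n₁ + n₂)) c) = true)
    (ho : ordC (permOps w m (n₁ + n₂)) c ≤ ordC (permOps w m (n₁ + n₂)) c')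
    (hb' : baseGe c' n₁ = true) (hL : Nat.card L ≤ ordC (permOps w m (n₁ + n₂)) c) :
    Nonempty ((P.grp (gens c)).map (MonoidHom.fst G K) ≃* L) ∧
      Nat.card ((P.grp (gens c)).map (MonoidHom.fst G K)) = ordC (permOps w m (n₁ + n₂)) c := by
  have hv2 : ∀ s ∈ gens c, P.In (((P.grp (gens c)).map (MonoidHom.fst G K)).prod L) s := by
    intro s hs
    obtain ⟨d, hd, rfl⟩ := P.exists_of_mem hv hs
    exact ⟨d, ⟨⟨d, hd, rfl⟩, (P.grp_le hv hd).2⟩, rfl⟩
  have hle : Nat.card ((P.grp (gens c)).map (MonoidHom.fst G K)) ≤ ordC (permOps w m (n₁ + n₂)) c := by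
    rw [← P.card_grp (P.valid_top hv) hc]
    exact Nat.le_of_dvd Nat.card_pos (Subgroup.card_map_dvd _ _)
  obtain ⟨e, -⟩ := P.exists_iso hv2 hc hb hle hv' hc' h ho hb' hL
  refine ⟨⟨e⟩, le_antisymm hle ?_⟩
  rw [← P.card_grp (P.valid_top hv) hc]
  refine Nat.card_le_card_of_injective (fun d => ⟨d.1.1, d.1, d.2, rfl⟩) fun d d' hd => ?_
  have := P.eq_one_of_fst (P.valid_top hv) hc hb (d.1 * d'.1⁻¹) (mul_mem d.2 (inv_mem d'.2))
    (mul_inv_eq_one.2 (congrArg Subtype.val hd))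
  exact Subtype.ext (mul_inv_eq_one.1 this)

end Pair

end

end CfsgH5
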