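/-
Lower bounds for the orders of permutation groups, and permutation representations on tables
that are identified by counting.
-/
import Cfsg.Agent.H5.Iso2

set_option autoImplicit false

namespace CfsgH5

open MulAction

noncomputable section

section Low

variable {O : Ops} {G : Type*} [Group G] {α : Type*} [MulAction G α]

/-- the checks for one level of a lower bound -/
def lowL (O : Ops) (l : Level) (r : List Level) : Bool :=
  band (Nat.blt l.b O.n) <| band (allL (gens r) fun s => Nat.beq (O.app s l.b) l.b) <|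
  allLt O.n fun k => bimp (tb l.B k) (bor (Nat.beq k l.b)
    (force (nthD (gens (l :: r)) O.one (l.gen k)) fun s => force (O.app s k) fun k' =>
      band (tb l.B k') (Nat.blt (l.dep k') (l.dep k))))

/-- the checks for a lower bound -/
def lowC (O : Ops) (c : List Level) : Bool :=
  List.rec (motive := fun _ => Bool) true (fun l r ih => band (lowL O l r) ih) c

theorem Codes.low_card [Finite G] (C : Codes O G α) {c : List Level} (hv : ∀ s ∈ gens c, C.In ⊤ s)
    (h : lowC O c = true) : ordC O c ≤ Nat.card (C.grp (gens c)) := by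
  induction c with
  | nil => exact Nat.card_pos
  | cons l r ih =>
    have h' : band (lowL O l r) (lowC O r) = true := h
    simp only [lowL, band_eq, Bool.and_eq_true, blt_true_iff, allL_iff, beq_true_iff, allLt_iff,
      bimp_eq, bor_eq, force_eq, Bool.or_eq_true, Bool.not_eq_true'] at h'
    obtain ⟨⟨hb, hfix, hk⟩, hr⟩ := h'
    obtain ⟨a, ha⟩ := C.enc_surj _ hb
    set A := C.grp (gens (l :: r))
    have h1 : ∀ d, ∀ x, l.dep (C.enc x) < d → tb l.B (C.enc x) = true → x ∈ orbit A a := by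
      intro d
      induction d with
      | zero => intro x hx; omega
      | succ d ihd =>
        intro x hx hB
        rcases hk _ (C.enc_lt x) with h2 | h2 | h2
        · rw [hB] at h2; cases h2
        · rw [C.enc_inj (h2.trans ha.symm)]; exact mem_orbit_self a
        · obtain ⟨g, hg, e⟩ := C.in_nthD (fun s hs => C.in_grp hv hs) (l.gen (C.enc x))
          rw [← e, ← C.enc_smul] at h2
          obtain ⟨u, hu⟩ := ihd (g • x) (by omega) h2.1
          refine ⟨(⟨g, hg⟩ : A)⁻¹ * u, ?_⟩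
          show (g⁻¹ * u) • a = x
          rw [mul_smul, show (u : G) • a = g • x from hu, inv_smul_smul]
    have h2 : countLt O.n (tb l.B) ≤ (orbit A a).ncard := by
      rw [← C.ncard_eq_countLt]
      exact Set.ncard_le_ncard (fun x hx => h1 _ x (Nat.lt_succ_self _) hx) (Set.finite_range _)
    have h3 : Nat.card (C.grp (gens r)) ≤ Nat.card (stabilizer A a) := by
      have : ∀ g ∈ C.grp (gens r), g • a = a := fun g hg =>
        C.grp_le (K := stabilizer G a) (fun s hs => by
          obtain ⟨g, -, e⟩ := C.valid_tail hv s hs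
          exact ⟨g, C.enc_inj (by rw [C.enc_smul, e, ha, hfix s hs]), e⟩) hg
      exact Nat.card_le_card_of_injective
        (fun g => ⟨⟨g.1, C.grp_tail_le l r g.2⟩, this _ g.2⟩) fun g g' e =>
          Subtype.ext (congrArg (fun x => x.1.1) e)
    rw [← ncard_orbit_mul_card_stabilizer a]
    exact Nat.mul_le_mul h2 ((ih (C.valid_tail hv) hr).trans h3)

/-- a lower bound for the group generated by `S` -/
theorem Codes.low_slp [Finite G] (C : Codes O G α) {S : List ℕ} (hS : ∀ s ∈ S, C.In ⊤ s)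
    {L : List (ℕ × ℕ)} {c : List Level}
    (h : band (slpChk O L S) (allL (gens c) (memL (S ++ L.map Prod.fst))) = true)
    (h' : lowC O c = true) : ordC O c ≤ Nat.card (C.grp S) := by
  have hv := C.slp_valid (fun s hs => C.in_grp hS hs) h
  exact (C.low_card (fun s hs => (hv s hs).mono le_top) h').trans
    (Subgroup.card_le_of_le (C.grp_le hv))

end Low

theorem ker_range_of_card {K P : Type*} [Group K] [Finite K] [Group P] (ψ : K →* P)
    {Z : Subgroup K} {A : Subgroup P} (hZ : Z ≤ ψ.ker) (hA : A ≤ ψ.range) {n : ℕ}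
    (hn : n ≤ Nat.card A) (hK : Nat.card K ≤ n * Nat.card Z) : ψ.ker = Z ∧ ψ.range = A := by
  have h := card_range_mul ψ
  have : Finite ψ.range := Finite.of_surjective _ ψ.rangeRestrict_surjective
  have h1 := Subgroup.card_le_of_le hZ
  have h2 := Subgroup.card_le_of_le hA
  have h3 : 0 < Nat.card Z := Nat.card_pos
  have h4 : 0 < Nat.card ψ.range := Nat.card_pos
  constructor
  · refine (Subgroup.eq_of_le_of_card_ge hZ ?_).symm
    exact Nat.le_of_mul_le_mul_left (h.le.trans (hK.trans (Nat.mul_le_mul_right _ (hn.trans h2)))) h4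
  · refine (Subgroup.eq_of_le_of_card_ge hA (Nat.le_of_mul_le_mul_right ?_ h3)).symm
    exact (Nat.mul_le_mul_left _ h1).trans (h.le.trans (hK.trans (Nat.mul_le_mul_right _ hn)))

section Tab

variable {G X : Type*} [Group G] [MulAction G X]

/-- `g` permutes the table `D` according to the code `π` -/
def Acts (D : ℕ → X) (N w m : ℕ) (g : G) (π : ℕ) : Prop :=
  isPerm w m N π = true ∧ ∀ i, i < N → g • D i = D (ap w m π i)

variable {D : ℕ → X} {N w m : ℕ} [NeZero N]

/-- the coding of the symmetric group on `Fin N` -/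
abbrev PC (N w m : ℕ) [NeZero N] (hw : N ≤ 2 ^ w) (hm : m = 2 ^ w - 1) :
    Codes (permOps w m N) (Equiv.Perm (Fin N)) (Fin N) := (Enc.fin N).codes w m hw hm

theorem isPerm_spec (hw : N ≤ 2 ^ w) (hm : m = 2 ^ w - 1) {π : ℕ} (h : isPerm w m N π = true) :
    π = pack w N (ap w m π) ∧ (∀ i, i < N → ap w m π i < N) ∧
      ∀ i j, i < N → j < N → ap w m π i = ap w m π j → i = j := by
  obtain ⟨g, rfl⟩ := (Enc.fin N).exists_of_isPerm hw hm h
  have e : ∀ i (hi : i < N), ap w m ((Enc.fin N).pcode w g) i = g ⟨i, hi⟩ := fun i hi => by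
    subst hm; exact (Enc.fin N).ap_pcode hw g ⟨i, hi⟩
  refine ⟨?_, fun i hi => by rw [e i hi]; exact (g _).2, fun i j hi hj hij => ?_⟩
  · simp only [isPerm, band_eq, Bool.and_eq_true, beq_true_iff] at h
    exact h.1
  · rw [e i hi, e j hj] at hij
    exact congrArg Fin.val (g.injective (Fin.ext hij))

theorem PC_valid (hw : N ≤ 2 ^ w) (hm : m = 2 ^ w - 1) {S : List ℕ}
    (h : allL S (isPerm w m N) = true) : ∀ s ∈ S, (PC N w m hw hm).In ⊤ s := fun s hs => by
  obtain ⟨g, e⟩ := (Enc.fin N).exists_of_isPerm hw hm ((allL_iff _ _).1 h s hs)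
  exact ⟨g, trivial, e⟩

theorem inj_of_acts (hw : N ≤ 2 ^ w) (hm : m = 2 ^ w - 1) {S : List ℕ}
    (hS : ∀ π ∈ S, ∃ g : G, Acts D N w m g π) {gen dep : ℕ → ℕ}
    (hf : ptForest (permOps w m N) S (fun _ => 0) gen dep = true)
    (h0 : ∀ j, j < N → D 0 = D j → j = 0) : ∀ i j, i < N → j < N → D i = D j → i = j := by
  have k := forest_sound
    (r := fun a b => (∀ j, j < N → D b = D j → j = b) → ∀ j, j < N → D a = D j → j = a)
    (fun _ h => h) (fun _ _ _ h1 h2 h => h1 (h2 h))
    (fun k hk _ _ _ h j hj e => by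
      rcases nthD_mem S (permOps w m N).one (gen k) with h1 | h1
      · have : (permOps w m N).app (permOps w m N).one k = k := by
          subst hm; exact ap_pack w N _ (fun i hi => hi.trans_le hw) k hk
        simp only [force_eq, h1, this] at h
        exact h j hj e
      · obtain ⟨g, h2, h3⟩ := hS _ h1
        obtain ⟨-, h4, h5⟩ := isPerm_spec hw hm h2
        simp only [force_eq] at h
        refine h5 _ _ hj hk (h _ (h4 j hj) ?_)
        exact (h3 k hk).symm.trans (by rw [e, h3 j hj])) hf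
  exact fun i j hi hj e => (k i hi h0 j hj e).symm

theorem exists_tab_hom [Finite G] (hw : N ≤ 2 ^ w) (hm : m = 2 ^ w - 1) {Z : Subgroup G}
    (hZ : ∀ z ∈ Z, ∀ i, i < N → z • D i = D i) {S : List ℕ}
    (hS : ∀ π ∈ S, ∃ g : G, Acts D N w m g π) {gen dep : ℕ → ℕ}
    (hf : ptForest (permOps w m N) S (fun _ => 0) gen dep = true)
    (h0 : ∀ j, j < N → D 0 = D j → j = 0) {n : ℕ} (hn : n ≤ Nat.card ((PC N w m hw hm).grp S))
    (hG : Nat.card G ≤ n * Nat.card Z) :
    ∃ φ : G →* Equiv.Perm (Fin N), φ.ker = Z ∧ φ.range = (PC N w m hw hm).grp S ∧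
      (∀ g (i : Fin N), D (φ g i) = g • D i) ∧
      (∀ g π, Acts D N w m g π → (Enc.fin N).pcode w (φ g) = π) ∧
      ∀ i j, i < N → j < N → D i = D j → i = j := by
  have inj := inj_of_acts hw hm hS hf h0
  let K : Subgroup G :=
    { carrier := {g | ∀ i, i < N → ∃ j, j < N ∧ g • D i = D j}
      one_mem' := fun i hi => ⟨i, hi, one_smul _ _⟩
      mul_mem' := fun {g h} hg hh i hi => by
        obtain ⟨j, hj, e⟩ := hh i hi
        obtain ⟨k, hk, e'⟩ := hg j hj
        exact ⟨k, hk, by rw [mul_smul, e, e']⟩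
      inv_mem' := fun {g} hg => by
        have hp : ∀ k : ℕ, ∀ i, i < N → ∃ j, j < N ∧ g ^ k • D i = D j := by
          intro k
          induction k with
          | zero => exact fun i hi => ⟨i, hi, by simp⟩
          | succ k ih =>
            intro i hi
            obtain ⟨j, hj, e⟩ := ih i hi
            obtain ⟨l, hl, e'⟩ := hg j hj
            exact ⟨l, hl, by rw [pow_succ', mul_smul, e, e']⟩
        have : g⁻¹ = g ^ (orderOf g - 1) := by
          rw [inv_eq_iff_mul_eq_one, ← pow_succ', Nat.sub_add_cancel (orderOf_pos g), pow_orderOf_eq_one]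
        rw [this]; exact hp _ }
  have key : ∀ (L : Subgroup G) (hL : L ≤ K), ∃ ψ : L →* Equiv.Perm (Fin N),
      Z.subgroupOf L ≤ ψ.ker ∧ (∀ g (i : Fin N), D (ψ g i) = (g : G) • D i) ∧
      ∀ (g : L) π, Acts D N w m (g : G) π → (Enc.fin N).pcode w (ψ g) = π := by
    intro L hL
    let T : TabAct L X N := ⟨fun g x => (g : G) • x, fun x => one_smul _ x, fun g h x => mul_smul _ _ x,
      D, inj, fun g => hL g.2⟩
    exact ⟨T.hom, fun z hz => (T.mem_ker z).2 (hZ _ hz), T.hom_spec, fun g π h =>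
      T.pcode_hom (isPerm_spec hw hm h.1).1 fun i hi => ⟨(isPerm_spec hw hm h.1).2.1 i hi, h.2 i hi⟩⟩
  have hK : K = ⊤ := by
    obtain ⟨ψ, h1, -, h3⟩ := key K le_rfl
    have hA : (PC N w m hw hm).grp S ≤ ψ.range := (PC N w m hw hm).grp_le fun π hπ => by
      obtain ⟨g, hg⟩ := hS π hπ
      exact ⟨_, ⟨⟨g, fun i hi => ⟨_, (isPerm_spec hw hm hg.1).2.1 i hi, hg.2 i hi⟩⟩, rfl⟩, h3 _ _ hg⟩
    have hZK : Z ≤ K := fun z hz i hi => ⟨i, hi, hZ z hz i hi⟩
    rw [← Subgroup.card_eq_iff_eq_top]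
    refine le_antisymm (Subgroup.card_le_card_group K) (hG.trans ?_)
    rw [← card_range_mul ψ, ← Nat.card_congr (Subgroup.subgroupOfEquivOfLe hZK).toEquiv]
    exact Nat.mul_le_mul (hn.trans (Subgroup.card_le_of_le hA)) (Subgroup.card_le_of_le h1)
  obtain ⟨ψ, h1, h2, h3⟩ := key ⊤ hK.ge
  let φ := ψ.comp Subgroup.topEquiv.symm.toMonoidHom
  have hA : (PC N w m hw hm).grp S ≤ φ.range := (PC N w m hw hm).grp_le fun π hπ => by
    obtain ⟨g, hg⟩ := hS π hπ
    exact ⟨_, ⟨g, rfl⟩, h3 ⟨g, trivial⟩ _ hg⟩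
  obtain ⟨h4, h5⟩ := ker_range_of_card φ (Z := Z) (fun z hz => h1 (x := ⟨z, trivial⟩) hz) hA hn hG
  exact ⟨φ, h4, h5, fun g i => h2 ⟨g, trivial⟩ i, fun g π h => h3 ⟨g, trivial⟩ π h, inj⟩

/-- the faithful case -/
theorem equiv_of_tab [Finite G] (hw : N ≤ 2 ^ w) (hm : m = 2 ^ w - 1) {S : List ℕ}
    (hS : ∀ π ∈ S, ∃ g : G, Acts D N w m g π) {gen dep : ℕ → ℕ}
    (hf : ptForest (permOps w m N) S (fun _ => 0) gen dep = true)
    (h0 : ∀ j, j < N → D 0 = D j → j = 0) {n : ℕ} (hn : n ≤ Nat.card ((PC N w m hw hm).grp S))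
    (hG : Nat.card G ≤ n) : Nonempty (G ≃* (PC N w m hw hm).grp S) := by
  obtain ⟨φ, h1, h2, -⟩ := exists_tab_hom (Z := ⊥) hw hm (fun z hz i _ => by
    rw [Subgroup.mem_bot.1 hz, one_smul]) hS hf h0 hn (by simpa using hG)
  exact ⟨(MonoidHom.ofInjective ((MonoidHom.ker_eq_bot_iff φ).1 h1)).trans (MulEquiv.subgroupCongr h2)⟩

/-- the case of a central quotient -/
theorem quot_equiv_of_tab [Finite G] (hw : N ≤ 2 ^ w) (hm : m = 2 ^ w - 1)
    (hZ : ∀ z ∈ Subgroup.center G, ∀ i, i < N → z • D i = D i) {S : List ℕ}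
    (hS : ∀ π ∈ S, ∃ g : G, Acts D N w m g π) {gen dep : ℕ → ℕ}
    (hf : ptForest (permOps w m N) S (fun _ => 0) gen dep = true)
    (h0 : ∀ j, j < N → D 0 = D j → j = 0) {n : ℕ} (hn : n ≤ Nat.card ((PC N w m hw hm).grp S))
    (hG : Nat.card G ≤ n * Nat.card (Subgroup.center G)) :
    Nonempty (G ⧸ Subgroup.center G ≃* (PC N w m hw hm).grp S) := by
  obtain ⟨φ, h1, h2, -⟩ := exists_tab_hom hw hm hZ hS hf h0 hn hG
  exact ⟨((QuotientGroup.quotientMulEquivOfEq h1.symm).trans
    (QuotientGroup.quotientKerEquivRange φ)).trans (MulEquiv.subgroupCongr h2)⟩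

end Tab

/-- lookup in a table split into blocks of sixteen entries -/
def tab16 (W M : ℕ) (L : List ℕ) (k : ℕ) : ℕ :=
  ap W M (nthD L 0 (Nat.shiftRight k 4)) (Nat.land k 15)

end

end CfsgH5
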