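/-
Fi23: the elementary abelian subgroup of order `2 ^ 11` and a Sylow 2-subgroup.
-/
import Cfsg.Agent.H5.F23
import Cfsg.Agent.H5.Low
import Cfsg.Prelude.Def_Transfer

set_option autoImplicit false
set_option maxRecDepth 100000
set_option linter.constructorNameAsVariable false

namespace CfsgH5.F23

open KT Cfsg Cfsg.Spor Equiv Subgroup

noncomputable section

/-- the points -/
def P (i : ℕ) : ℕ := nthD PL 0 i

/-- the masks -/
def Mk (i : ℕ) : ℕ := nthD [1, 2, 4, 8, 16, 32, 64, 128, 256, 512, 1024, 1150, 1437, 347, 175, 1512, 1716, 1635, 761, 823, 1806, 2002, 965] 0 i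

/-- words moving `1` to the points -/
def U (i : ℕ) : List ℕ := List.getD [[], [6, 1, 9, 6], [6, 1, 2, 3, 9, 6, 1, 2], [6, 1, 2, 5, 9, 6, 1, 2], [6, 1, 2, 3, 4, 8, 9, 6, 1, 2, 3, 4], [6, 1, 2, 3, 5, 2, 9, 6], [6, 1, 2, 3, 4, 5, 2, 3, 8, 4, 9, 6], [6, 1, 2, 3, 5, 2, 1, 6], [6, 1, 2, 3, 4, 5, 2, 1, 3, 6, 8, 4], [6, 1, 2, 3, 4, 5, 2, 1, 3, 6, 7, 5, 2, 1, 8, 4, 3, 2, 5, 7], [6, 1, 2, 3, 5, 4, 2, 3, 1, 8, 2, 4, 10, 3, 5, 8, 2, 4, 1, 3, 9, 2, 6, 5, 1, 2, 3, 4, 8, 10], [6, 1, 2, 3, 4, 5, 2, 1, 3, 2, 5, 8, 4, 3, 2, 1, 9, 6], [6, 1, 2, 3, 4, 5, 2, 1, 3, 2, 5, 6, 8, 4, 3, 2], [6, 1, 2, 3, 4, 5, 2, 1, 3, 2, 5, 6, 1, 2, 8, 4], [6, 1, 2, 3, 4, 5, 2, 1, 3, 2, 5, 6, 1, 2, 3, 4], [6, 1, 2, 3, 4, 5, 2, 1, 3, 2, 6, 1, 8, 4, 3, 2], [6, 1, 2, 3, 4, 5, 2, 1, 3, 2, 5, 6, 7, 5, 2, 1, 8, 4, 3, 2, 1, 5, 2, 7], [6, 1, 2, 3, 4, 5, 2, 1, 3, 2, 5, 6, 1, 2, 7, 5, 2, 1, 8, 4, 3, 2, 5, 7], [6, 1, 2, 3, 4, 5, 2, 1, 3, 2,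 6, 1, 7, 5, 2, 1, 8, 4, 3, 2, 1, 5, 2, 7], [6, 1, 2, 3, 4, 5, 2, 1, 3, 2, 5, 6, 1, 2, 7, 5, 2, 1, 6, 8, 4, 3, 2, 1, 5, 7, 9, 6], [6, 1, 2, 3, 4, 5, 2, 1, 3, 2, 6, 1, 7, 5, 2, 1, 3, 4, 8, 4, 3, 2, 1, 5, 2, 3, 4, 7], [6, 1, 2, 3, 4, 5, 2, 1, 3, 2, 5, 6, 1, 2, 7, 5, 2, 1, 6, 8, 4, 3, 2, 1, 5, 2, 3, 7, 5, 2, 1, 6], [6, 1, 2, 3, 4, 5, 2, 1, 3, 2, 5, 6, 1, 2, 7, 5, 2, 1, 6, 8, 4, 3, 2, 1, 5, 2, 3, 7, 5, 2, 9, 6]] i []

/-- the basis -/
def d (i : ℕ) : Fi23 := wl g (bw i)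

theorem tauU {k : ℕ} (hk : k < 23) : tau φ z 0 (P k) = wl g ((U k).reverse ++ [9] ++ U k) := by
  rw [← A.map ((allLt_iff 23 fun k => mapb R 15 32767 0 31671 10 (U k) 1 (P k)).1 (by decide +kernel)
    k hk), tau_smul stab_le _ (orb (by decide)), tau_1, wl_conj sq, wl_single]

theorem tauP {k : ℕ} (hk : k < 23) : tau φ z 0 (P k) = nu d 11 (Mk k) := by
  rw [tauU hk, weq ((allLt_iff 23 fun k => eqb R 15 32767 0 31671 10 BB
    ((U k).reverse ++ [9] ++ U k) (nuw bw 11 (Mk k))).1 (by decide +kernel) k hk), wl_nuw]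
  rfl

theorem tauB {k : ℕ} (hk : k < 11) : tau φ z 0 (P k) = d k := by
  rw [tauU (by omega), weq ((allLt_iff 11 fun k => eqb R 15 32767 0 31671 10 BB
    ((U k).reverse ++ [9] ++ U k) (bw k)).1 (by decide +kernel) k hk)]
  rfl

theorem P_spec : ∀ k, k < 23 → P k < 31671 ∧ P k ∈ PL ∧ Mk k < 2 ^ 11 := by decide +kernel

theorem d_sq (i : ℕ) (hi : i < 11) : d i * d i = 1 := by
  rw [← tauB hi, tauU (by omega), wl_conj sq, wl_single, ← sq 9, ← pow_two, conj_pow, pow_two, sq 9]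
  simp

theorem d_comm (i j : ℕ) (hi : i < 11) (hj : j < 11) : Commute (d i) (d j) := by
  obtain ⟨h1, h2, -⟩ := P_spec j (by omega)
  have := tau_smul stab_le (d i) (orb h1)
  rw [show φ (d i) (P j) = P j from V_le (bw_mem hi) _ h2, tauB hj, eq_mul_inv_iff_mul_eq] at this
  exact this.symm

theorem nu_V (m : ℕ) : nu d 11 m ∈ V := nu_mem (fun _ => bw_mem) m

theorem nu_sq (m : ℕ) : nu d 11 m * nu d 11 m = 1 := by
  rw [← nu_xor d_sq d_comm, show Nat.xor m m = 0 from Nat.xor_self m, nu_zero]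

theorem exists_nu {v : Fi23} (hv : v ∈ V) : ∃ m, m < 2048 ∧ nu d 11 m = v := by
  induction hv using closure_induction with
  | mem x hx =>
    obtain ⟨i, hi, rfl⟩ := hx
    exact ⟨_, (P_spec i (by omega)).2.2, (tauP (by omega)).symm.trans (tauB hi)⟩
  | one => exact ⟨0, by decide, nu_zero _ _⟩
  | mul x y _ _ hx hy =>
    obtain ⟨m, hm, rfl⟩ := hx
    obtain ⟨n, hn, rfl⟩ := hy
    exact ⟨_, Nat.xor_lt_two_pow (n := 11) hm hn, nu_xor d_sq d_comm m n⟩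
  | inv x _ hx =>
    obtain ⟨m, hm, rfl⟩ := hx
    exact ⟨m, hm, eq_inv_of_mul_eq_one_left (nu_sq m)⟩

theorem nu_inj {m n : ℕ} (hm : m < 2048) (hn : n < 2048) (h : nu d 11 m = nu d 11 n) : m = n := by
  have : Function.Bijective fun i : Fin 2048 => (⟨nu d 11 i, nu_V i⟩ : V) :=
    Function.Surjective.bijective_of_nat_card_le (fun v => by
      obtain ⟨m, hm, e⟩ := exists_nu v.2
      exact ⟨⟨m, hm⟩, Subtype.ext e⟩) (by rw [card_V]; simp)
  exact congrArg Fin.val (this.1 (a₁ := ⟨m, hm⟩) (a₂ := ⟨n, hn⟩) (Subtype.ext h))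

theorem V_ea : IsElementaryAbelian 2 V := by
  refine ⟨⟨⟨fun x y => Subtype.ext ?_⟩⟩, fun x hx => ?_⟩
  · obtain ⟨m, -, e⟩ := exists_nu x.2
    obtain ⟨n, -, e'⟩ := exists_nu y.2
    rw [coe_mul, coe_mul, ← e, ← e', ← nu_xor d_sq d_comm, ← nu_xor d_sq d_comm]
    exact congrArg _ (Nat.xor_comm m n)
  · obtain ⟨m, -, rfl⟩ := exists_nu hx
    rw [pow_two, nu_sq]

/-- the elements permuting the points, as a monoid -/
def N0 : Submonoid Fi23 where
  carrier := {x | ∀ i, i < 23 → ∃ j, j < 23 ∧ φ x (P i) = P j}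
  one_mem' i hi := ⟨i, hi, by rw [map_one]; rfl⟩
  mul_mem' {x y} hx hy i hi := by
    obtain ⟨j, hj, e⟩ := hy i hi
    obtain ⟨k, hk, e'⟩ := hx j hj
    exact ⟨k, hk, by rw [map_mul, Perm.mul_apply, e, e']⟩

/-- the elements permuting the points -/
def N : Subgroup Fi23 where
  toSubmonoid := N0
  inv_mem' {x} hx := Submonoid.powers_le.2 hx
    (mem_powers_iff_mem_zpowers.2 (inv_mem (mem_zpowers x)))

/-- the action on the points -/
def Tb : TabAct N ℕ 23 where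
  act x p := φ x p
  act_one p := by rw [coe_one, map_one]; rfl
  act_mul x y p := by rw [coe_mul, map_mul]; rfl
  D := P
  inj i j hi hj := (by decide +kernel : ∀ i, i < 23 → ∀ j, j < 23 → P i = P j → i = j) i hi j hj
  inv x := x.2

/-- the coding of the permutations of the points -/
abbrev C : Codes (permOps 5 31 23) (Perm (Fin 23)) (Fin 23) := PC 23 5 31 (by norm_num) (by norm_num)

theorem V_le_N : V ≤ N := fun _ hx i hi => ⟨i, hi, V_le hx _ (P_spec i hi).2.1⟩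

theorem ker_eq : Tb.hom.ker = V.subgroupOf N := by
  ext x
  rw [Tb.mem_ker, mem_subgroupOf, V_eq]
  refine ⟨fun h p hp => ?_, fun h i hi => h _ (P_spec i hi).2.1⟩
  obtain ⟨i, hi, rfl⟩ := (by decide +kernel : ∀ p ∈ PL, ∃ i, i < 23 ∧ P i = p) p hp
  exact h i hi

/-- the action of a code on the masks -/
def lc (s m : ℕ) : ℕ := KT.lin (fun i => Mk (ap 5 31 s i)) 11 m

theorem lc_lt (s m : ℕ) : lc s m < 2048 :=
  lin_lt (n := 11) (fun i _ => (by decide +kernel : ∀ j, j < 32 → Mk j < 2 ^ 11) _ (ap_lt 5 s i)) m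

theorem conj_nu (x : N) (m : ℕ) : x * nu d 11 m * x⁻¹ = nu d 11 (lc (C.code (Tb.hom x)) m) := by
  refine nu_lin d_sq d_comm (MulAut.conj (x : Fi23)).toMonoidHom (fun i hi => ?_) m
  have h := Tb.hom_spec x ⟨i, by omega⟩
  have e := C.enc_smul (Tb.hom x) ⟨i, by omega⟩
  have := tau_smul stab_le x (orb (P_spec i (by omega)).1)
  rw [tauB hi] at this
  refine this.symm.trans ((congrArg _ h.symm).trans ((tauP (Fin.is_lt _)).trans ?_))
  exact congrArg (fun k => nu d 11 (Mk k)) e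

/-- a stabiliser chain of a group of order 128 -/
def ch : List Level :=
  [⟨0, [0x5ab44ca117b5cb62a6531d0219001], 0x17,
    ap 115 0x7ffffffffffffffffffffffffffff 0x56cf5c8d1a4ca9429ae81d8019041000000000000000000000000000015b3db289a859a12a5b0f07106008ad5a26508bdae5b153298e810c800dab49ca307b9ac5a928398a418820,
    ap 2 3 0x300, ap 2 3 0x234⟩,
   ⟨3, [0x5ab3a218d49e11329f272c6428820, 0x5aa65c64f815289a9ac1d1c438820], 0x1ffbe8,
    ap 115 0x7ffffffffffffffffffffffffffff 0x56c35d207916684a9ae3458178880ad9637226d31e1154a854bc2c11015b51c3899f32a50a62cf068642202b682223799ac5b9454ca9309c44056c7999e38b96c6a925a490180880ada4d79a23424b352d903b83411016aaccc425a37ca8a844b3391c2082b699cac5a6837c951339b00a044056c88256c2c9e3a28d16b8e198880ad931439b37ca8351e0c59825110000000000000000000000000000002b66c9854ae1131d437a2740b844056cea2d2561cd1829e39a24168880b54cb8c9f02a51353583a388710415b4530a48ec6b96a9a1e3284c2202d59d10c6a4f08994f9396321441000000000000000000000000000000b56939460f7358b5250731483104000000000000000000000000000000000000000000000000000000000000000000000000000000000000000,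
    ap 2 3 0x15914894000, ap 3 7 0x46d58a341c2c8000⟩,
   ⟨1, [0x56cf648f0a25132a9cd8996118880], 0x12,
    ap 115 0x7ffffffffffffffffffffffffffff 0x56cf648f0a25132a9cd89961188800000000000000000000000000000000000000000000000000000000002d5a4e5183dcd62d4941cc520c41000000000000000000000000000000,
    ap 1 1 0x0, ap 1 1 0x10⟩]

/-- words for the generators -/
def gw : List (ℕ × List ℕ) :=
  [(0x5ab44ca117b5cb62a6531d0219001, [4, 8, 3, 4, 6, 9, 1, 6]),
   (0x5ab3a218d49e11329f272c6428820, [2, 1, 7, 5, 2, 3, 1, 2, 5, 7, 1, 2]),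
   (0x5aa65c64f815289a9ac1d1c438820, [6, 9, 1, 6, 2, 1, 7, 5, 2, 3, 1, 2, 5, 7, 1, 2, 6, 9, 1, 6]),
   (0x56cf648f0a25132a9cd8996118880, [4, 8, 3, 4, 7, 5, 2, 3, 1, 2, 5, 7, 4, 8, 3, 4])]

theorem ch_in : ∀ s ∈ gens ch, C.In Tb.hom.range s := by
  intro s hs
  obtain ⟨⟨s, w⟩, hw, rfl⟩ := List.mem_map.1
    ((by decide +kernel : ∀ s ∈ gens ch, s ∈ gw.map Prod.fst) s hs)
  have := (allL_iff gw fun x => band (Nat.beq x.1 (pack 5 23 (ap 5 31 x.1))) (allLt 23 fun i =>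
    band (lt (ap 5 31 x.1 i) 23) (mapb R 15 32767 0 31671 10 x.2 (P i) (P (ap 5 31 x.1 i))))).1
    (by decide +kernel) _ hw
  simp only [band_eq, Bool.and_eq_true, beq_true_iff, allLt_iff, lt_iff] at this
  exact ⟨_, ⟨⟨wl g w, fun i hi => ⟨_, (this.2 i hi).1, A.map (this.2 i hi).2⟩⟩, rfl⟩,
    Tb.pcode_hom this.1 fun i hi => ⟨(this.2 i hi).1, A.map (this.2 i hi).2⟩⟩

theorem ch_v : ∀ s ∈ gens ch, C.In ⊤ s := fun s hs => (ch_in s hs).mono le_top

theorem ch_ok : checkC (permOps 5 31 23) ch = true := by decide +kernel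

/-- the image of the Sylow subgroup -/
def Tq : Subgroup (Perm (Fin 23)) := C.grp (gens ch)

theorem card_Tq : Nat.card Tq = 128 := (C.card_grp ch_v ch_ok).trans (by decide +kernel)

/-- the Sylow subgroup -/
def T0 : Subgroup Fi23 := (Tq.comap Tb.hom).map N.subtype

/-- the image of a subgroup -/
def img (B : Subgroup Fi23) : Subgroup (Perm (Fin 23)) := (B.subgroupOf N).map Tb.hom

theorem card_img {B : Subgroup Fi23} (h : B ≤ N) :
    Nat.card B = Nat.card (img B) * Nat.card (B ⊓ V : Subgroup Fi23) := by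
  rw [img, ← relIndex_ker, ker_eq, relIndex_subgroupOf h, relIndex, ← (V.subgroupOf B).index_mul_card,
    ← inf_subgroupOf_left, Nat.card_congr (subgroupOfEquivOfLe inf_le_left).toEquiv]

theorem T0_le : T0 ≤ N := map_subtype_le _

theorem mem_T0 (x : N) : (x : Fi23) ∈ T0 ↔ Tb.hom x ∈ Tq := mem_map_iff_mem N.subtype_injective

theorem V_le_T0 : V ≤ T0 := fun x hx => (mem_T0 ⟨x, V_le_N hx⟩).2 (by
  rw [MonoidHom.mem_ker.1 (ker_eq ▸ hx : (⟨x, V_le_N hx⟩ : N) ∈ Tb.hom.ker)]; exact one_mem _)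

theorem card_T0 : Nat.card T0 = 2 ^ 18 := by
  have : img T0 = Tq := by
    rw [img, show T0.subgroupOf N = Tq.comap Tb.hom from comap_map_eq_self_of_injective
      N.subtype_injective _]
    exact map_comap_eq_self (C.grp_le ch_in)
  rw [card_img T0_le, this, inf_eq_right.2 V_le_T0, card_Tq, card_V]
  norm_num

theorem conj_V {x v : Fi23} (hx : x ∈ T0) (hv : v ∈ V) : x * v * x⁻¹ ∈ V := by
  obtain ⟨m, -, rfl⟩ := exists_nu hv
  exact conj_nu ⟨x, T0_le hx⟩ m ▸ nu_V _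

/-- the square is trivial -/
def sq1 (s : ℕ) : Bool := Nat.beq (pmul 5 31 23 s s) (pone 5 23)

/-- the mask is fixed -/
def fixc (s m : ℕ) : Bool := Nat.beq (lc s m) m

theorem chk1 : allC (permOps 5 31 23) (fun s => bimp (sq1 s) (bor (Nat.beq s (pone 5 23))
    (Nat.ble (countLt 2048 (fixc s)) 128))) ch (pone 5 23) = true := by decide +kernel

theorem chk2 : allC (permOps 5 31 23) (fun s => bimp (sq1 s) (bor (Nat.beq s (pone 5 23))
    (allC (permOps 5 31 23) (fun t => bimp (sq1 t) (bor (Nat.beq t (pone 5 23)) (bor (Nat.beq t s)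
      (anyLt 46 fun i => force (bif' (lt i 23) (Mk i)
        (Nat.xor (Mk (Nat.sub i 23)) (Mk (ap 5 31 s (Nat.sub i 23))))) fun m =>
          band (fixc s m) (bnot (fixc t m)))))) ch (pone 5 23)))) ch (pone 5 23) = true := by
  decide +kernel

theorem chk3 : Nat.ble (cntC (permOps 5 31 23) (fun s => band (sq1 s) (Nat.ble 32
    (cntC (permOps 5 31 23) (fun t => band (sq1 t) (Nat.beq (pmul 5 31 23 s t) (pmul 5 31 23 t s)))
      ch (pone 5 23)))) ch (pone 5 23)) 31 = true := by decide +kernel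

theorem sq1_iff (s : Perm (Fin 23)) : sq1 (C.code s) = true ↔ s * s = 1 := by
  rw [sq1, beq_true_iff, ← C.code_inj.eq_iff, C.code_mul, C.code_one]; rfl

theorem fixc_iff (x : N) {m : ℕ} (hm : m < 2048) :
    fixc (C.code (Tb.hom x)) m = true ↔ nu d 11 m ∈ centralizer {(x : Fi23)} := by
  rw [fixc, beq_true_iff, mem_centralizer_singleton_iff, eq_comm (b := _ * _),
    ← mul_inv_eq_iff_eq_mul, ← coe_inv, conj_nu]
  exact ⟨fun h => by rw [h], nu_inj (lc_lt _ _) hm⟩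

theorem card_cent (x : N) (h : Tb.hom x ∈ Tq) (h1 : Tb.hom x * Tb.hom x = 1) (h2 : Tb.hom x ≠ 1) :
    Nat.card (V ⊓ centralizer {(x : Fi23)} : Subgroup Fi23) ≤ 128 := by
  have := C.allC_one ch_v ch_ok _ chk1 _ h
  rw [(sq1_iff _).2 h1, bimp_eq, bor_eq] at this
  simp only [Bool.not_true, Bool.false_or, Bool.or_eq_true, beq_true_iff, ble_true_iff] at this
  refine le_trans (le_of_eq ?_) (this.resolve_left fun e => h2 (C.code_inj (e.trans C.code_one.symm)))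
  refine (Nat.card_coe_set_eq _).trans (ncard_eq_countLt 2048 _ (nu d 11) _
    (fun i j hi hj _ _ => nu_inj hi hj) fun v => ⟨fun hv => ?_, ?_⟩)
  · obtain ⟨m, hm, rfl⟩ := exists_nu hv.1
    exact ⟨m, hm, (fixc_iff x hm).2 hv.2, rfl⟩
  · rintro ⟨m, hm, e, rfl⟩
    exact ⟨nu_V m, (fixc_iff x hm).1 e⟩

theorem exists_sep (x y : N) (h : Tb.hom x ∈ Tq) (h1 : Tb.hom x * Tb.hom x = 1) (h2 : Tb.hom x ≠ 1)
    (k : Tb.hom y ∈ Tq) (k1 : Tb.hom y * Tb.hom y = 1) (k2 : Tb.hom y ≠ 1) (k3 : Tb.hom y ≠ Tb.hom x) :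
    ∃ v ∈ V ⊓ centralizer {(x : Fi23)}, v ∉ centralizer {(y : Fi23)} := by
  have := C.allC_one ch_v ch_ok _ chk2 _ h
  rw [(sq1_iff _).2 h1, bimp_eq, bor_eq] at this
  simp only [Bool.not_true, Bool.false_or, Bool.or_eq_true, beq_true_iff] at this
  have := C.allC_one ch_v ch_ok _
    (this.resolve_left fun e => h2 (C.code_inj (e.trans C.code_one.symm))) _ k
  rw [(sq1_iff _).2 k1, bimp_eq, bor_eq, bor_eq] at this
  simp only [Bool.not_true, Bool.false_or, Bool.or_eq_true, beq_true_iff, anyLt_iff, force_eq,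
    band_eq, bnot_eq, Bool.and_eq_true] at this
  obtain ⟨i, -, e1, e2⟩ := (this.resolve_left fun e =>
    k2 (C.code_inj (e.trans C.code_one.symm))).resolve_left fun e => k3 (C.code_inj e)
  generalize bif' _ _ _ = m at e1 e2
  have hm : m < 2048 := (beq_true_iff _ _).1 e1 ▸ lc_lt _ _
  exact ⟨_, ⟨nu_V m, (fixc_iff x hm).1 e1⟩, fun e => by
    rw [(fixc_iff y hm).2 e] at e2; cases e2⟩

theorem card_ea {Q : Subgroup (Perm (Fin 23))} (h : Q ≤ Tq) (h1 : ∀ s ∈ Q, s * s = 1)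
    (h2 : ∀ s ∈ Q, ∀ t ∈ Q, s * t = t * s) : Nat.card Q ≤ 31 := by
  by_contra hc
  have := (ble_true_iff _ _).1 chk3
  rw [show pone 5 23 = (permOps 5 31 23).one from rfl, ← C.ncard_eq_cntC ch_v ch_ok] at this
  refine hc (le_trans ((Nat.card_coe_set_eq _).trans_le (Set.ncard_le_ncard fun s hs => ?_))
    this)
  refine ⟨h hs, ?_⟩
  rw [(sq1_iff _).2 (h1 s hs), ← C.ncard_eq_cntC ch_v ch_ok]
  refine (ble_true_iff _ _).2 (le_trans (not_le.1 hc) ((Nat.card_coe_set_eq _).trans_le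
    (Set.ncard_le_ncard fun t ht => ?_)))
  refine ⟨h ht, ?_⟩
  rw [(sq1_iff _).2 (h1 t ht)]
  exact (beq_true_iff _ _).2 ((C.code_mul s t).symm.trans ((congrArg _ (h2 s hs t ht)).trans
    (C.code_mul t s)))

theorem key {B : Subgroup Fi23} (h : B ≤ T0) (hB : IsElementaryAbelian 2 B) :
    B = V ∨ Nat.card B < 2048 := by
  have hc : ∀ x ∈ B, ∀ y ∈ B, x * y = y * x := fun x hx y hy =>
    congrArg Subtype.val (hB.1.1.1 ⟨x, hx⟩ ⟨y, hy⟩)
  have h0 : img B ≤ Tq := by rintro _ ⟨x, hx, rfl⟩; exact (mem_T0 x).1 (h hx)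
  have h1 : ∀ s ∈ img B, s * s = 1 := by
    rintro _ ⟨x, hx, rfl⟩
    rw [← map_mul, show x * x = 1 from Subtype.ext ((pow_two _).symm.trans (hB.2 _ hx)), map_one]
  have h2 := card_ea h0 h1 (by
    rintro _ ⟨x, hx, rfl⟩ _ ⟨y, hy, rfl⟩
    rw [← map_mul, ← map_mul, show x * y = y * x from Subtype.ext (hc _ hx _ hy)])
  have h3 := card_img (h.trans T0_le)
  by_cases h4 : ∀ s ∈ img B, s = 1
  · have : B ≤ V := fun x hx => by
      have := MonoidHom.mem_ker.2 (h4 _ ⟨⟨x, T0_le (h hx)⟩, hx, rfl⟩)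
      rwa [ker_eq] at this
    by_contra k
    push Not at k
    exact k.1 (eq_of_le_of_card_ge this (card_V.trans_le k.2))
  right
  push Not at h4
  obtain ⟨_, ⟨x, hx, rfl⟩, hx1⟩ := h4
  have h5 := card_cent x (h0 ⟨x, hx, rfl⟩) (h1 _ ⟨x, hx, rfl⟩) hx1
  have h6 : ∀ y : N, (y : Fi23) ∈ B → B ⊓ V ≤ centralizer {(y : Fi23)} := fun y hy v hv =>
    mem_centralizer_singleton_iff.2 (hc _ hv.1 _ hy)
  have h7 : B ⊓ V ≤ V ⊓ centralizer {(x : Fi23)} := le_inf inf_le_right (h6 x hx)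
  have h8 := card_le_of_le h7
  rcases Nat.lt_or_ge (Nat.card (img B)) 3 with h9 | h9
  · nlinarith
  obtain ⟨_, ⟨y, hy, rfl⟩, hy1⟩ : ∃ t ∈ img B, t ∉ ({1, Tb.hom x} : Set (Perm (Fin 23))) := by
    by_contra k
    push Not at k
    have := (Set.ncard_le_ncard k).trans (Set.ncard_insert_le _ _)
    rw [Set.ncard_singleton] at this
    exact absurd (h9.trans ((Nat.card_coe_set_eq _).trans_le this)) (by omega)
  simp only [Set.mem_insert_iff, Set.mem_singleton_iff, not_or] at hy1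
  obtain ⟨v, hv, hv'⟩ := exists_sep x y (h0 ⟨x, hx, rfl⟩) (h1 _ ⟨x, hx, rfl⟩) hx1 (h0 ⟨y, hy, rfl⟩)
    (h1 _ ⟨y, hy, rfl⟩) hy1.1 hy1.2
  obtain ⟨k, hk⟩ := card_dvd_of_le h7
  have : k ≠ 1 := by
    rintro rfl
    exact hv' (h6 y hy (eq_of_le_of_card_ge h7 (by omega) ▸ hv))
  have : k ≠ 0 := by
    rintro rfl
    exact absurd hk Nat.card_pos.ne'
  have : Nat.card (B ⊓ V : Subgroup Fi23) * 2 ≤ 128 := le_trans (Nat.mul_le_mul_left _ (by omega)) (hk ▸ h5)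
  nlinarith

end

end CfsgH5.F23
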