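/-
Fi24: orbits (generated).
-/
import Cfsg.Agent.H5.F24D

set_option autoImplicit false
set_option maxRecDepth 100000
set_option linter.all false
set_option Elab.async false

namespace CfsgH5.F24

open KT

noncomputable section

theorem kd_2 : allIco 2 8002 (dchk R 36 1048575 W kk 4094 1) = true := by decide +kernel
theorem kd_8002 : allIco 8002 16002 (dchk R 36 1048575 W kk 4094 1) = true := by decide +kernel
theorem kd_16002 : allIco 16002 24002 (dchk R 36 1048575 W kk 4094 1) = true := by decide +kernel
theorem kd_24002 : allIco 24002 31672 (dchk R 36 1048575 W kk 4094 1) = true := by decide +kernel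
theorem kd_31673 : allIco 31673 39673 (dchk R 36 1048575 W kk 4094 31672) = true := by decide +kernel
theorem kd_39673 : allIco 39673 47673 (dchk R 36 1048575 W kk 4094 31672) = true := by decide +kernel
theorem kd_47673 : allIco 47673 55673 (dchk R 36 1048575 W kk 4094 31672) = true := by decide +kernel
theorem kd_55673 : allIco 55673 63673 (dchk R 36 1048575 W kk 4094 31672) = true := by decide +kernel
theorem kd_63673 : allIco 63673 71673 (dchk R 36 1048575 W kk 4094 31672) = true := by decide +kernel
theorem kd_71673 : allIco 71673 79673 (dchk R 36 1048575 W kk 4094 31672) = true := by decide +kernel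
theorem kd_79673 : allIco 79673 87673 (dchk R 36 1048575 W kk 4094 31672) = true := by decide +kernel
theorem kd_87673 : allIco 87673 95673 (dchk R 36 1048575 W kk 4094 31672) = true := by decide +kernel
theorem kd_95673 : allIco 95673 103673 (dchk R 36 1048575 W kk 4094 31672) = true := by decide +kernel
theorem kd_103673 : allIco 103673 111673 (dchk R 36 1048575 W kk 4094 31672) = true := by decide +kernel
theorem kd_111673 : allIco 111673 119673 (dchk R 36 1048575 W kk 4094 31672) = true := by decide +kernel
theorem kd_119673 : allIco 119673 127673 (dchk R 36 1048575 W kk 4094 31672) = true := by decide +kernel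
theorem kd_127673 : allIco 127673 135673 (dchk R 36 1048575 W kk 4094 31672) = true := by decide +kernel
theorem kd_135673 : allIco 135673 143673 (dchk R 36 1048575 W kk 4094 31672) = true := by decide +kernel
theorem kd_143673 : allIco 143673 151673 (dchk R 36 1048575 W kk 4094 31672) = true := by decide +kernel
theorem kd_151673 : allIco 151673 159673 (dchk R 36 1048575 W kk 4094 31672) = true := by decide +kernel
theorem kd_159673 : allIco 159673 167673 (dchk R 36 1048575 W kk 4094 31672) = true := by decide +kernel
theorem kd_167673 : allIco 167673 175673 (dchk R 36 1048575 W kk 4094 31672) = true := by decide +kernel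
theorem kd_175673 : allIco 175673 183673 (dchk R 36 1048575 W kk 4094 31672) = true := by decide +kernel
theorem kd_183673 : allIco 183673 191673 (dchk R 36 1048575 W kk 4094 31672) = true := by decide +kernel
theorem kd_191673 : allIco 191673 199673 (dchk R 36 1048575 W kk 4094 31672) = true := by decide +kernel
theorem kd_199673 : allIco 199673 207673 (dchk R 36 1048575 W kk 4094 31672) = true := by decide +kernel
theorem kd_207673 : allIco 207673 215673 (dchk R 36 1048575 W kk 4094 31672) = true := by decide +kernel
theorem kd_215673 : allIco 215673 223673 (dchk R 36 1048575 W kk 4094 31672) = true := by decide +kernel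
theorem kd_223673 : allIco 223673 231673 (dchk R 36 1048575 W kk 4094 31672) = true := by decide +kernel
theorem kd_231673 : allIco 231673 239673 (dchk R 36 1048575 W kk 4094 31672) = true := by decide +kernel
theorem kd_239673 : allIco 239673 247673 (dchk R 36 1048575 W kk 4094 31672) = true := by decide +kernel
theorem kd_247673 : allIco 247673 255673 (dchk R 36 1048575 W kk 4094 31672) = true := by decide +kernel
theorem kd_255673 : allIco 255673 263673 (dchk R 36 1048575 W kk 4094 31672) = true := by decide +kernel
theorem kd_263673 : allIco 263673 271673 (dchk R 36 1048575 W kk 4094 31672) = true := by decide +kernel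
theorem kd_271673 : allIco 271673 279673 (dchk R 36 1048575 W kk 4094 31672) = true := by decide +kernel
theorem kd_279673 : allIco 279673 287673 (dchk R 36 1048575 W kk 4094 31672) = true := by decide +kernel
theorem kd_287673 : allIco 287673 295673 (dchk R 36 1048575 W kk 4094 31672) = true := by decide +kernel
theorem kd_295673 : allIco 295673 303673 (dchk R 36 1048575 W kk 4094 31672) = true := by decide +kernel
theorem kd_303673 : allIco 303673 306936 (dchk R 36 1048575 W kk 4094 31672) = true := by decide +kernel

end

end CfsgH5.F24
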