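/-
Unrolled operations on permutations of 24 points (generated).
-/
import Cfsg.Agent.H5.Perm

set_option autoImplicit false

namespace CfsgH5

open scoped Pointwise

noncomputable section

/-- unrolled product on 24 points -/
def mul24 (p q : ℕ) : ℕ :=
  (Nat.lor (Nat.lor (Nat.lor (Nat.lor (Nat.lor (Nat.lor (Nat.lor (Nat.lor (Nat.lor (Nat.lor (Nat.lor (Nat.lor (Nat.lor (Nat.lor (Nat.lor (Nat.lor (Nat.lor (Nat.lor (Nat.lor (Nat.lor (Nat.lor (Nat.lor (Nat.lor (Nat.lor 0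
    (Nat.shiftLeft (Nat.land (Nat.shiftRight p (Nat.mul 5 (Nat.land (Nat.shiftRight q 0) 31))) 31) 0))
    (Nat.shiftLeft (Nat.land (Nat.shiftRight p (Nat.mul 5 (Nat.land (Nat.shiftRight q 5) 31))) 31) 5))
    (Nat.shiftLeft (Nat.land (Nat.shiftRight p (Nat.mul 5 (Nat.land (Nat.shiftRight q 10) 31))) 31) 10))
    (Nat.shiftLeft (Nat.land (Nat.shiftRight p (Nat.mul 5 (Nat.land (Nat.shiftRight q 15) 31))) 31) 15))
    (Nat.shiftLeft (Nat.land (Nat.shiftRight p (Nat.mul 5 (Nat.land (Nat.shiftRight q 20) 31))) 31) 20))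
    (Nat.shiftLeft (Nat.land (Nat.shiftRight p (Nat.mul 5 (Nat.land (Nat.shiftRight q 25) 31))) 31) 25))
    (Nat.shiftLeft (Nat.land (Nat.shiftRight p (Nat.mul 5 (Nat.land (Nat.shiftRight q 30) 31))) 31) 30))
    (Nat.shiftLeft (Nat.land (Nat.shiftRight p (Nat.mul 5 (Nat.land (Nat.shiftRight q 35) 31))) 31) 35))
    (Nat.shiftLeft (Nat.land (Nat.shiftRight p (Nat.mul 5 (Nat.land (Nat.shiftRight q 40) 31))) 31) 40))
    (Nat.shiftLeft (Nat.land (Nat.shiftRight p (Nat.mul 5 (Nat.land (Nat.shiftRight q 45) 31))) 31) 45))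
    (Nat.shiftLeft (Nat.land (Nat.shiftRight p (Nat.mul 5 (Nat.land (Nat.shiftRight q 50) 31))) 31) 50))
    (Nat.shiftLeft (Nat.land (Nat.shiftRight p (Nat.mul 5 (Nat.land (Nat.shiftRight q 55) 31))) 31) 55))
    (Nat.shiftLeft (Nat.land (Nat.shiftRight p (Nat.mul 5 (Nat.land (Nat.shiftRight q 60) 31))) 31) 60))
    (Nat.shiftLeft (Nat.land (Nat.shiftRight p (Nat.mul 5 (Nat.land (Nat.shiftRight q 65) 31))) 31) 65))
    (Nat.shiftLeft (Nat.land (Nat.shiftRight p (Nat.mul 5 (Nat.land (Nat.shiftRight q 70) 31))) 31) 70))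
    (Nat.shiftLeft (Nat.land (Nat.shiftRight p (Nat.mul 5 (Nat.land (Nat.shiftRight q 75) 31))) 31) 75))
    (Nat.shiftLeft (Nat.land (Nat.shiftRight p (Nat.mul 5 (Nat.land (Nat.shiftRight q 80) 31))) 31) 80))
    (Nat.shiftLeft (Nat.land (Nat.shiftRight p (Nat.mul 5 (Nat.land (Nat.shiftRight q 85) 31))) 31) 85))
    (Nat.shiftLeft (Nat.land (Nat.shiftRight p (Nat.mul 5 (Nat.land (Nat.shiftRight q 90) 31))) 31) 90))
    (Nat.shiftLeft (Nat.land (Nat.shiftRight p (Nat.mul 5 (Nat.land (Nat.shiftRight q 95) 31))) 31) 95))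
    (Nat.shiftLeft (Nat.land (Nat.shiftRight p (Nat.mul 5 (Nat.land (Nat.shiftRight q 100) 31))) 31) 100))
    (Nat.shiftLeft (Nat.land (Nat.shiftRight p (Nat.mul 5 (Nat.land (Nat.shiftRight q 105) 31))) 31) 105))
    (Nat.shiftLeft (Nat.land (Nat.shiftRight p (Nat.mul 5 (Nat.land (Nat.shiftRight q 110) 31))) 31) 110))
    (Nat.shiftLeft (Nat.land (Nat.shiftRight p (Nat.mul 5 (Nat.land (Nat.shiftRight q 115) 31))) 31) 115))

/-- unrolled inverse on 24 points -/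
def inv24 (p : ℕ) : ℕ :=
  (Nat.lor (Nat.lor (Nat.lor (Nat.lor (Nat.lor (Nat.lor (Nat.lor (Nat.lor (Nat.lor (Nat.lor (Nat.lor (Nat.lor (Nat.lor (Nat.lor (Nat.lor (Nat.lor (Nat.lor (Nat.lor (Nat.lor (Nat.lor (Nat.lor (Nat.lor (Nat.lor (Nat.lor 0
    (Nat.shiftLeft 0 (Nat.mul 5 (Nat.land (Nat.shiftRight p 0) 31))))
    (Nat.shiftLeft 1 (Nat.mul 5 (Nat.land (Nat.shiftRight p 5) 31))))
    (Nat.shiftLeft 2 (Nat.mul 5 (Nat.land (Nat.shiftRight p 10) 31))))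
    (Nat.shiftLeft 3 (Nat.mul 5 (Nat.land (Nat.shiftRight p 15) 31))))
    (Nat.shiftLeft 4 (Nat.mul 5 (Nat.land (Nat.shiftRight p 20) 31))))
    (Nat.shiftLeft 5 (Nat.mul 5 (Nat.land (Nat.shiftRight p 25) 31))))
    (Nat.shiftLeft 6 (Nat.mul 5 (Nat.land (Nat.shiftRight p 30) 31))))
    (Nat.shiftLeft 7 (Nat.mul 5 (Nat.land (Nat.shiftRight p 35) 31))))
    (Nat.shiftLeft 8 (Nat.mul 5 (Nat.land (Nat.shiftRight p 40) 31))))
    (Nat.shiftLeft 9 (Nat.mul 5 (Nat.land (Nat.shiftRight p 45) 31))))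
    (Nat.shiftLeft 10 (Nat.mul 5 (Nat.land (Nat.shiftRight p 50) 31))))
    (Nat.shiftLeft 11 (Nat.mul 5 (Nat.land (Nat.shiftRight p 55) 31))))
    (Nat.shiftLeft 12 (Nat.mul 5 (Nat.land (Nat.shiftRight p 60) 31))))
    (Nat.shiftLeft 13 (Nat.mul 5 (Nat.land (Nat.shiftRight p 65) 31))))
    (Nat.shiftLeft 14 (Nat.mul 5 (Nat.land (Nat.shiftRight p 70) 31))))
    (Nat.shiftLeft 15 (Nat.mul 5 (Nat.land (Nat.shiftRight p 75) 31))))
    (Nat.shiftLeft 16 (Nat.mul 5 (Nat.land (Nat.shiftRight p 80) 31))))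
    (Nat.shiftLeft 17 (Nat.mul 5 (Nat.land (Nat.shiftRight p 85) 31))))
    (Nat.shiftLeft 18 (Nat.mul 5 (Nat.land (Nat.shiftRight p 90) 31))))
    (Nat.shiftLeft 19 (Nat.mul 5 (Nat.land (Nat.shiftRight p 95) 31))))
    (Nat.shiftLeft 20 (Nat.mul 5 (Nat.land (Nat.shiftRight p 100) 31))))
    (Nat.shiftLeft 21 (Nat.mul 5 (Nat.land (Nat.shiftRight p 105) 31))))
    (Nat.shiftLeft 22 (Nat.mul 5 (Nat.land (Nat.shiftRight p 110) 31))))
    (Nat.shiftLeft 23 (Nat.mul 5 (Nat.land (Nat.shiftRight p 115) 31))))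

/-- unrolled image of a bit mask on 24 points -/
def act24 (p s : ℕ) : ℕ :=
  (Nat.lor (Nat.lor (Nat.lor (Nat.lor (Nat.lor (Nat.lor (Nat.lor (Nat.lor (Nat.lor (Nat.lor (Nat.lor (Nat.lor (Nat.lor (Nat.lor (Nat.lor (Nat.lor (Nat.lor (Nat.lor (Nat.lor (Nat.lor (Nat.lor (Nat.lor (Nat.lor (Nat.lor 0
    (Nat.shiftLeft (Nat.land (Nat.shiftRight s 0) 1) (Nat.land (Nat.shiftRight p 0) 31)))
    (Nat.shiftLeft (Nat.land (Nat.shiftRight s 1) 1) (Nat.land (Nat.shiftRight p 5) 31)))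
    (Nat.shiftLeft (Nat.land (Nat.shiftRight s 2) 1) (Nat.land (Nat.shiftRight p 10) 31)))
    (Nat.shiftLeft (Nat.land (Nat.shiftRight s 3) 1) (Nat.land (Nat.shiftRight p 15) 31)))
    (Nat.shiftLeft (Nat.land (Nat.shiftRight s 4) 1) (Nat.land (Nat.shiftRight p 20) 31)))
    (Nat.shiftLeft (Nat.land (Nat.shiftRight s 5) 1) (Nat.land (Nat.shiftRight p 25) 31)))
    (Nat.shiftLeft (Nat.land (Nat.shiftRight s 6) 1) (Nat.land (Nat.shiftRight p 30) 31)))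
    (Nat.shiftLeft (Nat.land (Nat.shiftRight s 7) 1) (Nat.land (Nat.shiftRight p 35) 31)))
    (Nat.shiftLeft (Nat.land (Nat.shiftRight s 8) 1) (Nat.land (Nat.shiftRight p 40) 31)))
    (Nat.shiftLeft (Nat.land (Nat.shiftRight s 9) 1) (Nat.land (Nat.shiftRight p 45) 31)))
    (Nat.shiftLeft (Nat.land (Nat.shiftRight s 10) 1) (Nat.land (Nat.shiftRight p 50) 31)))
    (Nat.shiftLeft (Nat.land (Nat.shiftRight s 11) 1) (Nat.land (Nat.shiftRight p 55) 31)))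
    (Nat.shiftLeft (Nat.land (Nat.shiftRight s 12) 1) (Nat.land (Nat.shiftRight p 60) 31)))
    (Nat.shiftLeft (Nat.land (Nat.shiftRight s 13) 1) (Nat.land (Nat.shiftRight p 65) 31)))
    (Nat.shiftLeft (Nat.land (Nat.shiftRight s 14) 1) (Nat.land (Nat.shiftRight p 70) 31)))
    (Nat.shiftLeft (Nat.land (Nat.shiftRight s 15) 1) (Nat.land (Nat.shiftRight p 75) 31)))
    (Nat.shiftLeft (Nat.land (Nat.shiftRight s 16) 1) (Nat.land (Nat.shiftRight p 80) 31)))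
    (Nat.shiftLeft (Nat.land (Nat.shiftRight s 17) 1) (Nat.land (Nat.shiftRight p 85) 31)))
    (Nat.shiftLeft (Nat.land (Nat.shiftRight s 18) 1) (Nat.land (Nat.shiftRight p 90) 31)))
    (Nat.shiftLeft (Nat.land (Nat.shiftRight s 19) 1) (Nat.land (Nat.shiftRight p 95) 31)))
    (Nat.shiftLeft (Nat.land (Nat.shiftRight s 20) 1) (Nat.land (Nat.shiftRight p 100) 31)))
    (Nat.shiftLeft (Nat.land (Nat.shiftRight s 21) 1) (Nat.land (Nat.shiftRight p 105) 31)))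
    (Nat.shiftLeft (Nat.land (Nat.shiftRight s 22) 1) (Nat.land (Nat.shiftRight p 110) 31)))
    (Nat.shiftLeft (Nat.land (Nat.shiftRight s 23) 1) (Nat.land (Nat.shiftRight p 115) 31)))

/-- image of a point -/
def app24 (p i : ℕ) : ℕ := Nat.land (Nat.shiftRight p (Nat.mul 5 i)) 31

/-- operations on permutations of 24 points -/
def ops24 : Ops := ⟨24, 0xbdab49ca307b9ac5a928398a418820, mul24, inv24, app24⟩

theorem ops24_eq : ops24 = permOps 5 31 24 := rfl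

theorem act24_eq (p s : ℕ) : act24 p s = pact 5 31 24 p s := rfl

/-- the coding of the symmetric group on a type with 24 numbered points -/
def Enc.codes24 {α : Type*} (E : Enc α 24) : Codes ops24 (Equiv.Perm α) α :=
  E.codes 5 31 (by norm_num) (by norm_num)

theorem Enc.codes24_code {α : Type*} (E : Enc α 24) (g : Equiv.Perm α) :
    E.codes24.code g = E.pcode 5 g := rfl

theorem Enc.codes24_enc {α : Type*} (E : Enc α 24) (a : α) : E.codes24.enc a = E.enc a := rfl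

theorem Enc.in_top24 {α : Type*} (E : Enc α 24) {p : ℕ} (h : isPerm 5 31 24 p = true) :
    E.codes24.In ⊤ p := by
  obtain ⟨g, hg⟩ := E.exists_of_isPerm (by norm_num) (by norm_num) h
  exact ⟨g, trivial, hg⟩

theorem Enc.valid24 {α : Type*} (E : Enc α 24) {S : List ℕ}
    (h : allL S (isPerm 5 31 24) = true) : ∀ s ∈ S, E.codes24.In ⊤ s :=
  fun s hs => E.in_top24 ((allL_iff _ _).1 h s hs)

theorem Enc.mask_smul24 {α : Type*} [DecidableEq α] (E : Enc α 24) (g : Equiv.Perm α)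
    (s : Finset α) : E.mask (g • s) = act24 (E.codes24.code g) (E.mask s) :=
  E.mask_smul (by norm_num) (by norm_num) g s

end

end CfsgH5
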