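/-
The length-24 binary code as 24-bit masks.
-/
import Cfsg.Agent.H5.Ops24
import Cfsg.Prelude.Def_SporadicCombinatorics

set_option autoImplicit false
set_option linter.unusedSimpArgs false

namespace CfsgH5

open scoped Pointwise
open Cfsg

noncomputable section

/-- numbering of the 24 points: residues by their value, the extra point by 23 -/
def E24 : Enc GolayPt 24 where
  enc a := match a with
    | none => 23
    | some x => x.val
  dec i := if i = 23 then none else some (i : ZMod 23)
  enc_lt := by decide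
  dec_enc := by decide
  enc_dec := by decide

/-- the bit mask of a set of points -/
abbrev mk (s : Finset GolayPt) : ℕ := E24.mask s
/-- the set of points with a bit mask -/
abbrev ts (m : ℕ) : Finset GolayPt := E24.toSet m
/-- the number of a point -/
abbrev pn (a : GolayPt) : ℕ := E24.enc a
/-- the point with a number -/
abbrev pt (i : ℕ) : GolayPt := E24.dec i
/-- coding of the symmetric group on the 24 points -/
def C24 : Codes ops24 (Equiv.Perm GolayPt) GolayPt := E24.codes24
/-- coding of the group of the code -/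
def CM : Codes ops24 M24 GolayPt := C24.comap M24.subtype Subtype.val_injective fun _ _ => rfl

theorem pn_lt (a : GolayPt) : pn a < 24 := E24.enc_lt a
theorem mk_lt (s : Finset GolayPt) : mk s < 16777216 := E24.mask_lt s
theorem mk_ts {m : ℕ} (h : m < 16777216) : mk (ts m) = m := E24.mask_toSet h
theorem ts_mk (s : Finset GolayPt) : ts (mk s) = s := E24.toSet_mask s
theorem pn_pt {i : ℕ} (h : i < 24) : pn (pt i) = i := E24.enc_dec i h
theorem pt_pn (a : GolayPt) : pt (pn a) = a := E24.dec_enc a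
theorem mk_inj {s t : Finset GolayPt} (h : mk s = mk t) : s = t := E24.mask_inj h
theorem pn_inj {a b : GolayPt} (h : pn a = pn b) : a = b := E24.enc_inj h
theorem mk_smul (g : Equiv.Perm GolayPt) (s : Finset GolayPt) :
    mk (g • s) = act24 (C24.code g) (mk s) := E24.mask_smul24 g s
theorem mk_smulM (g : M24) (s : Finset GolayPt) :
    mk (g • s) = act24 (CM.code g) (mk s) := E24.mask_smul24 (g : Equiv.Perm GolayPt) s
theorem pn_smul (g : Equiv.Perm GolayPt) (a : GolayPt) : pn (g a) = app24 (C24.code g) (pn a) :=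
  C24.enc_smul g a
theorem pn_smulM (g : M24) (a : GolayPt) : pn (g • a) = app24 (CM.code g) (pn a) :=
  CM.enc_smul g a
theorem CM_enc (a : GolayPt) : CM.enc a = pn a := rfl
theorem C24_enc (a : GolayPt) : C24.enc a = pn a := rfl
theorem CM_code (g : M24) : CM.code g = C24.code g := rfl

/-! ### Population count -/

/-- number of set bits of a 12-bit number -/
def pop12 (x : ℕ) : ℕ := Nat.mod (Nat.land (Nat.mul x 0x1001001001001) 0x84210842108421) 31
/-- number of set bits among the lowest 24 -/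
def pop24 (m : ℕ) : ℕ := Nat.add (pop12 (Nat.land m 4095)) (pop12 (Nat.land (Nat.shiftRight m 12) 4095))

theorem pop12_chk : allLt 4096 (fun k => Nat.beq (pop12 k) (popc 12 k)) = true := by decide +kernel

theorem popc_land (n m : ℕ) : popc n (m &&& (2 ^ n - 1)) = popc n m := by
  rw [popc_eq, popc_eq]
  congr 1
  apply Finset.filter_congr
  intro i hi
  rw [Finset.mem_range] at hi
  simp [Nat.testBit_two_pow_sub_one, hi]

theorem popc_add (a b m : ℕ) : popc (a + b) m = popc a m + popc b (m >>> a) := by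
  induction b with
  | zero => rfl
  | succ b ih =>
    show popc (a + b) m + bit m (a + b) = popc a m + (popc b (m >>> a) + bit (m >>> a) b)
    rw [ih, bit_eq, bit_eq, Nat.testBit_shiftRight, add_assoc]

theorem pop12_eq (m : ℕ) : pop12 (Nat.land m 4095) = popc 12 m := by
  have h := (allLt_iff _ _).1 pop12_chk (m &&& (2 ^ 12 - 1))
    (Nat.and_lt_two_pow m (by norm_num : 2 ^ 12 - 1 < 2 ^ 12))
  rw [beq_true_iff, popc_land] at h
  exact h

theorem pop24_eq (m : ℕ) : pop24 m = popc 24 m := by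
  rw [pop24, pop12_eq, pop12_eq]
  exact (popc_add 12 12 m).symm

theorem card_eq_pop (s : Finset GolayPt) : s.card = pop24 (mk s) := by
  rw [pop24_eq]; exact E24.card_eq_popc s

theorem card_ts {m : ℕ} (h : m < 16777216) : (ts m).card = pop24 m := by
  rw [card_eq_pop, mk_ts h]

/-! ### Code words -/

/-- the binary word with a given bit mask -/
def word (m : ℕ) : GolayPt → ZMod 2 := fun a => if m.testBit (pn a) then 1 else 0

theorem word_xor (a b : ℕ) : word (a ^^^ b) = word a + word b := by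
  funext x
  simp only [word, Nat.testBit_xor, Pi.add_apply]
  cases a.testBit (pn x) <;> cases b.testBit (pn x) <;> decide

theorem word_zero : word 0 = 0 := by funext x; simp [word]

theorem support_word (m : ℕ) : support₂ (word m) = ts m := by
  ext x; simp [support₂, word]

theorem word_mk_support (w : GolayPt → ZMod 2) : word (mk (support₂ w)) = w := by
  funext x
  have h := E24.testBit_mask_enc (support₂ w) x
  have h2 : ∀ y : ZMod 2, y = if y ≠ 0 then 1 else 0 := by decide
  rw [h2 (w x)]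
  simp only [word, h]
  simp [support₂]

theorem support_inj {v w : GolayPt → ZMod 2} (h : support₂ v = support₂ w) : v = w := by
  rw [← word_mk_support v, h, word_mk_support]

theorem word_inj {a b : ℕ} (ha : a < 16777216) (hb : b < 16777216) (h : word a = word b) : a = b := by
  rw [← mk_ts ha, ← mk_ts hb, ← support_word, h, support_word]

theorem hammingNorm_word {m : ℕ} (h : m < 16777216) : hammingNorm (word m) = pop24 m := by
  rw [← card_ts h, ← support_word]; rfl

/-- the exclusive or of the members of a list selected by the bits of `k` -/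
def lin (l : List ℕ) : ℕ → ℕ :=
  List.rec (motive := fun _ => ℕ → ℕ) (fun _ => 0)
    (fun b _ ih k => Nat.xor (Nat.mul (Nat.land k 1) b) (ih (Nat.shiftRight k 1))) l

theorem lin_cons (b : ℕ) (l : List ℕ) (k : ℕ) :
    lin (b :: l) k = ((k &&& 1) * b) ^^^ lin l (k >>> 1) := rfl

theorem lin_induction {P : ℕ → Prop} (h0 : P 0) (hx : ∀ a b, P a → P b → P (a ^^^ b))
    (l : List ℕ) (hl : ∀ b ∈ l, P b) (k : ℕ) : P (lin l k) := by
  induction l generalizing k with
  | nil => exact h0
  | cons b l ih =>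
    rw [lin_cons]
    refine hx _ _ ?_ (ih (fun b hb => hl b (List.mem_cons_of_mem _ hb)) _)
    rw [Nat.and_one_is_mod]
    rcases Nat.mod_two_eq_zero_or_one k with h | h <;> rw [h]
    · simpa using h0
    · simpa using hl b List.mem_cons_self

theorem lin_xor (l : List ℕ) (j k : ℕ) : lin l (j ^^^ k) = lin l j ^^^ lin l k := by
  induction l generalizing j k with
  | nil => simp [lin]
  | cons b l ih =>
    rw [lin_cons, lin_cons, lin_cons, Nat.shiftRight_xor_distrib, ih, Nat.and_xor_distrib_right,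
      Nat.and_one_is_mod, Nat.and_one_is_mod]
    rcases Nat.mod_two_eq_zero_or_one j with h | h <;>
      rcases Nat.mod_two_eq_zero_or_one k with h' | h' <;> rw [h, h'] <;>
      simp [Nat.xor_assoc, Nat.xor_left_comm]

/-- masks of the spanning words -/
def genW : List ℕ := [0x5335f, 0xa66be, 0x14cd7c, 0x299af8, 0x5335f0, 0x266be1, 0x4cd7c2, 0x19af85, 0x335f0a, 0x66be14, 0x4d7c29, 0x1af853, 0x35f0a6, 0x6be14c, 0x57c299, 0x2f8533, 0x5f0a66, 0x3e14cd, 0x7c299a, 0x785335, 0x70a66b, 0x614cd7, 0x4299af, 0xffffff]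
/-- a basis of the code, systematic on the first 12 positions -/
def basisW : List ℕ := [0xc75001, 0x49f002, 0xd4b004, 0x6e3008, 0x9b3010, 0xb66020, 0xecc040, 0x1ed080, 0x3da100, 0x7b4200, 0xb1d400, 0xe3a800]
/-- the basis in terms of the spanning words -/
def coefW : List ℕ := [0x8006a9, 0x118, 0x800499, 0x578, 0x8006ba, 0x800797, 0x8005cd, 0x7d0, 0x543, 0x65, 0x800663, 0x800625]

/-- the code word with the given lowest 12 bits -/
def cw (k : ℕ) : ℕ :=
  Nat.xor (Nat.land (Nat.shiftRight 0x19703fde203e50803d97d03ccdc03b0a903a843039436038774037b010363eb035f9e034a3f03364a032ea00312d503082402f45102ecbb02d0ce02c56f02b91a02a1f0029d85028ec70272b2026a5802562d02438c023ff9022713021b66020af101f68401ee6e01d21b01c7ba01bbcf01a325019f50018c1201706701688d0154f8014159013d2c0125c60119b301034200ff3700e7dd00dba800ce0900b27c00aa960096e30085a10079d400613e005d4b0048ea00349f002c75001000000 (Nat.mul 24 (Nat.land k 63))) 16777215)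
    (Nat.land (Nat.shiftRight 0xe68fc00a4f80f85f40149f00db2ec037ee80c5fe40293e009dcdc0710d80831d406fdd00a06cc04cac80bebc40527c00575bc0bb9b80498b40a54b006afac0863a80742a4098ea002c19c0c0d98032c940de090011b8c0fd78800f6840e3a8000527c0e9e7801bf740f737003886c0d44680265640ca96007e65c092a58060b5408c750043c4c0af04805d1440b1d400b4f3c0583380aa234046e3008952c06592809782407b4200cfb1c0237180d161403da100f210c01ed080ecc040000000 (Nat.mul 24 (Nat.shiftRight k 6))) 16777215)

/-- membership test for the code -/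
def isC (m : ℕ) : Bool := Nat.beq (cw (Nat.land m 4095)) m

theorem cw_chk : allLt 4096 (fun k => force (cw k) fun c => band (Nat.beq c (lin basisW k))
    (band (Nat.beq (Nat.land c 4095) k) (band (Nat.blt c 16777216) (force (pop24 c) fun p =>
      bor (Nat.beq k 0) (bor (Nat.beq p 8) (bor (Nat.beq p 12) (bor (Nat.beq p 16) (Nat.beq k 4095)))))))) = true := by
  decide +kernel

theorem cw_facts {k : ℕ} (hk : k < 4096) : cw k = lin basisW k ∧ Nat.land (cw k) 4095 = k ∧
    cw k < 16777216 ∧ (k = 0 ∨ pop24 (cw k) = 8 ∨ pop24 (cw k) = 12 ∨ pop24 (cw k) = 16 ∨ k = 4095) := by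
  have := (allLt_iff _ _).1 cw_chk k hk
  simpa only [force_eq, band_eq, bor_eq, Bool.and_eq_true, Bool.or_eq_true, beq_true_iff,
    blt_true_iff] using this

theorem cw_lt {k : ℕ} (hk : k < 4096) : cw k < 16777216 := (cw_facts hk).2.2.1
theorem cw_land {k : ℕ} (hk : k < 4096) : Nat.land (cw k) 4095 = k := (cw_facts hk).2.1
theorem cw_inj {j k : ℕ} (hj : j < 4096) (hk : k < 4096) (h : cw j = cw k) : j = k := by
  rw [← cw_land hj, h, cw_land hk]
theorem land_lt (m : ℕ) : Nat.land m 4095 < 4096 :=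
  Nat.and_lt_two_pow m (by norm_num : 2 ^ 12 - 1 < 2 ^ 12)
theorem isC_cw {k : ℕ} (hk : k < 4096) : isC (cw k) = true := by
  rw [isC, cw_land hk, beq_true_iff]
theorem isC_iff {m : ℕ} : isC m = true ↔ ∃ k, k < 4096 ∧ cw k = m :=
  ⟨fun h => ⟨_, land_lt m, (beq_true_iff _ _).1 h⟩, fun ⟨_, hk, h⟩ => h ▸ isC_cw hk⟩
theorem isC_eq {m : ℕ} (h : isC m = true) : cw (Nat.land m 4095) = m := (beq_true_iff _ _).1 h
theorem isC_lt {m : ℕ} (h : isC m = true) : m < 16777216 := by
  obtain ⟨k, hk, rfl⟩ := isC_iff.1 h; exact cw_lt hk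

theorem cw_xor {j k : ℕ} (hj : j < 4096) (hk : k < 4096) : cw (j ^^^ k) = cw j ^^^ cw k := by
  rw [(cw_facts hj).1, (cw_facts hk).1, ← lin_xor,
    (cw_facts (Nat.xor_lt_two_pow (n := 12) hj hk)).1]

theorem isC_xor {a b : ℕ} (ha : isC a = true) (hb : isC b = true) : isC (a ^^^ b) = true := by
  obtain ⟨j, hj, rfl⟩ := isC_iff.1 ha
  obtain ⟨k, hk, rfl⟩ := isC_iff.1 hb
  rw [← cw_xor hj hk]
  exact isC_cw (Nat.xor_lt_two_pow (n := 12) hj hk)

theorem isC_zero : isC 0 = true := by decide +kernel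
theorem isC_all : isC 16777215 = true := by decide +kernel

theorem isC_induction {P : ℕ → Prop} (h0 : P 0) (hx : ∀ a b, P a → P b → P (a ^^^ b))
    (hl : ∀ b ∈ basisW, P b) {m : ℕ} (h : isC m = true) : P m := by
  obtain ⟨k, hk, rfl⟩ := isC_iff.1 h
  rw [(cw_facts hk).1]
  exact lin_induction h0 hx _ hl k

theorem qrWord_eq : ∀ t : ZMod 23, qrWord t = word (nthD genW 0 t.val) := by
  intro t; funext a; revert t a; decide +kernel

theorem one_eq_word : (1 : GolayPt → ZMod 2) = word 16777215 := by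
  funext a; revert a; decide +kernel

theorem word_gen_mem : ∀ b ∈ genW, word b ∈ golayCode := by
  have h1 : ∀ b ∈ genW, b = 16777215 ∨ ∃ t : ZMod 23, nthD genW 0 t.val = b := by decide +kernel
  intro b hb
  rcases h1 b hb with rfl | ⟨t, rfl⟩
  · rw [← one_eq_word]; exact Submodule.subset_span (Or.inr rfl)
  · rw [← qrWord_eq]; exact Submodule.subset_span (Or.inl ⟨t, rfl⟩)

theorem word_mem_of_isC {m : ℕ} (h : isC m = true) : word m ∈ golayCode := by
  have h0 : word 0 ∈ golayCode := word_zero ▸ golayCode.zero_mem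
  have hx : ∀ a b, word a ∈ golayCode → word b ∈ golayCode → word (a ^^^ b) ∈ golayCode :=
    fun a b ha hb => word_xor a b ▸ golayCode.add_mem ha hb
  refine isC_induction (P := fun m => word m ∈ golayCode) h0 hx ?_ h
  have : ∀ b ∈ basisW, ∃ c ∈ coefW, lin genW c = b := by decide +kernel
  intro b hb
  obtain ⟨c, -, rfl⟩ := this b hb
  exact lin_induction (P := fun m => word m ∈ golayCode) h0 hx _ word_gen_mem c

theorem mem_golay_iff (w : GolayPt → ZMod 2) : w ∈ golayCode ↔ ∃ m, isC m = true ∧ word m = w := by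
  refine ⟨fun h => ?_, fun ⟨m, hm, h⟩ => h ▸ word_mem_of_isC hm⟩
  induction h using Submodule.span_induction with
  | mem x hx =>
    rcases hx with ⟨t, rfl⟩ | hx
    · exact ⟨_, (by revert t; decide +kernel), (qrWord_eq t).symm⟩
    · exact ⟨_, isC_all, by rw [hx, one_eq_word]⟩
  | zero => exact ⟨0, isC_zero, word_zero⟩
  | add x y _ _ hx hy =>
    obtain ⟨a, ha, rfl⟩ := hx
    obtain ⟨b, hb, rfl⟩ := hy
    exact ⟨_, isC_xor ha hb, word_xor a b⟩
  | smul c x _ hx =>
    have : c = 0 ∨ c = 1 := by revert c; decide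
    rcases this with rfl | rfl
    · exact ⟨0, isC_zero, by rw [zero_smul, word_zero]⟩
    · rwa [one_smul]

theorem word_mem_iff {m : ℕ} (hm : m < 16777216) : word m ∈ golayCode ↔ isC m = true := by
  refine ⟨fun h => ?_, word_mem_of_isC⟩
  obtain ⟨m', h', h⟩ := (mem_golay_iff _).1 h
  rwa [← word_inj (isC_lt h') hm h]

/-- the supports of the code words -/
abbrev Sup : Set (Finset GolayPt) := supports (golayCode : Set (GolayPt → ZMod 2))

theorem mem_Sup (s : Finset GolayPt) : s ∈ Sup ↔ isC (mk s) = true := by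
  constructor
  · rintro ⟨w, hw, rfl⟩
    rw [← word_mem_iff (mk_lt _), word_mk_support]; exact hw
  · intro h
    exact ⟨_, word_mem_of_isC h, by rw [support_word, ts_mk]⟩

theorem mem_Sup_iff (s : Finset GolayPt) : s ∈ Sup ↔ ∃ k, k < 4096 ∧ ts (cw k) = s := by
  rw [mem_Sup, isC_iff]
  exact ⟨fun ⟨k, hk, h⟩ => ⟨k, hk, by rw [h, ts_mk]⟩,
    fun ⟨k, hk, h⟩ => ⟨k, hk, by rw [← h, mk_ts (cw_lt hk)]⟩⟩

theorem ts_cw_mem {k : ℕ} (hk : k < 4096) : ts (cw k) ∈ Sup := (mem_Sup_iff _).2 ⟨k, hk, rfl⟩

theorem mem_octads (s : Finset GolayPt) : s ∈ octads ↔ s ∈ Sup ∧ s.card = 8 := Iff.rfl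
theorem mem_dodecads (s : Finset GolayPt) : s ∈ dodecads ↔ s ∈ Sup ∧ s.card = 12 := Iff.rfl

/-- test for octads -/
def isOct (m : ℕ) : Bool := band (isC m) (Nat.beq (pop24 m) 8)
/-- test for dodecads -/
def isDod (m : ℕ) : Bool := band (isC m) (Nat.beq (pop24 m) 12)

theorem mem_octads_iff (s : Finset GolayPt) : s ∈ octads ↔ isOct (mk s) = true := by
  rw [mem_octads, mem_Sup, card_eq_pop, isOct]; simp
theorem mem_dodecads_iff (s : Finset GolayPt) : s ∈ dodecads ↔ isDod (mk s) = true := by
  rw [mem_dodecads, mem_Sup, card_eq_pop, isDod]; simp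
theorem isOct_lt {m : ℕ} (h : isOct m = true) : m < 16777216 := by
  simp only [isOct, band_eq, Bool.and_eq_true] at h; exact isC_lt h.1
theorem isDod_lt {m : ℕ} (h : isDod m = true) : m < 16777216 := by
  simp only [isDod, band_eq, Bool.and_eq_true] at h; exact isC_lt h.1
theorem ts_mem_octads {m : ℕ} (h : isOct m = true) : ts m ∈ octads := by
  rwa [mem_octads_iff, mk_ts (isOct_lt h)]
theorem ts_mem_dodecads {m : ℕ} (h : isDod m = true) : ts m ∈ dodecads := by
  rwa [mem_dodecads_iff, mk_ts (isDod_lt h)]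

theorem symmDiff_mem_Sup {s t : Finset GolayPt} (hs : s ∈ Sup) (ht : t ∈ Sup) :
    symmDiff s t ∈ Sup := by
  rw [mem_Sup] at *
  rw [mk, E24.mask_symmDiff]; exact isC_xor hs ht

theorem empty_mem_Sup : (∅ : Finset GolayPt) ∈ Sup := by
  rw [mem_Sup, mk, E24.mask_empty]; exact isC_zero

theorem compl_mem_Sup {s : Finset GolayPt} (hs : s ∈ Sup) : sᶜ ∈ Sup := by
  rw [mem_Sup] at *
  rw [mk, E24.mask_compl]; exact isC_xor hs isC_all

theorem card_of_mem_Sup {s : Finset GolayPt} (hs : s ∈ Sup) :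
    s.card = 0 ∨ s.card = 8 ∨ s.card = 12 ∨ s.card = 16 ∨ s.card = 24 := by
  obtain ⟨k, hk, rfl⟩ := (mem_Sup_iff _).1 hs
  rw [card_ts (cw_lt hk)]
  rcases (cw_facts hk).2.2.2 with rfl | h | h | h | rfl
  · left; decide +kernel
  · simp [h]
  · simp [h]
  · simp [h]
  · right; right; right; right; decide +kernel

theorem card_symmDiff_add (s t : Finset GolayPt) :
    (symmDiff s t).card + 2 * (s ∩ t).card = s.card + t.card := by
  have h1 := Finset.card_sdiff_add_card_inter s t
  have h2 := Finset.card_sdiff_add_card_inter t s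
  rw [Finset.inter_comm] at h2
  rw [symmDiff_def, Finset.sup_eq_union, Finset.card_union_of_disjoint disjoint_sdiff_sdiff]
  omega

theorem octad_inter_card {o o' : Finset GolayPt} (ho : o ∈ octads) (ho' : o' ∈ octads) :
    o = o' ∨ (o ∩ o').card = 0 ∨ (o ∩ o').card = 2 ∨ (o ∩ o').card = 4 := by
  have h1 := card_symmDiff_add o o'
  rw [ho.2, ho'.2] at h1
  rcases card_of_mem_Sup (symmDiff_mem_Sup ho.1 ho'.1) with h | h | h | h | h
  · left; rw [Finset.card_eq_zero] at h; exact symmDiff_eq_bot.1 h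
  all_goals omega

theorem octad_eq_of_five {o o' : Finset GolayPt} (ho : o ∈ octads) (ho' : o' ∈ octads)
    (h : 5 ≤ (o ∩ o').card) : o = o' := by
  rcases octad_inter_card ho ho' with h' | h' | h' | h'
  · exact h'
  all_goals omega

/-- counting code words with a property -/
theorem ncard_Sup (P : Finset GolayPt → Prop) (f : ℕ → Bool)
    (h : ∀ k, k < 4096 → (P (ts (cw k)) ↔ f (cw k) = true)) :
    {s | s ∈ Sup ∧ P s}.ncard = countLt 4096 fun k => force (cw k) f := by
  apply ncard_eq_countLt 4096 _ (fun k => ts (cw k))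
  · intro i j hi hj _ _ hij
    exact cw_inj hi hj (E24.toSet_inj (cw_lt hi) (cw_lt hj) hij)
  · intro x
    simp only [Set.mem_ofPred_eq, mem_Sup_iff, force_eq]
    constructor
    · rintro ⟨⟨k, hk, rfl⟩, hP⟩
      exact ⟨k, hk, (h k hk).1 hP, rfl⟩
    · rintro ⟨k, hk, hf, rfl⟩
      exact ⟨⟨k, hk, rfl⟩, (h k hk).2 hf⟩

/-- counting code words with a property of their masks -/
theorem ncard_Sup' (S : Set (Finset GolayPt)) (f : ℕ → Bool)
    (h : ∀ s, s ∈ S ↔ s ∈ Sup ∧ f (mk s) = true) :
    S.ncard = countLt 4096 fun k => force (cw k) f := by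
  rw [← ncard_Sup (fun s => f (mk s) = true) f (fun k hk => by rw [mk_ts (cw_lt hk)])]
  congr 1; ext s; exact h s

/-! ### Membership in the group of the code -/

theorem smul_mem_Sup {g : Equiv.Perm GolayPt} (hg : g ∈ M24) {s : Finset GolayPt} (hs : s ∈ Sup) :
    g • s ∈ Sup := by
  have : g • Sup = Sup := hg
  rw [← this]; exact Set.smul_mem_smul_set hs

theorem mem_M24_of {g : Equiv.Perm GolayPt} (h : ∀ s ∈ Sup, g • s ∈ Sup) : g ∈ M24 := by
  show g • Sup = Sup
  apply Set.eq_of_subset_of_ncard_le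
  · rintro _ ⟨s, hs, rfl⟩; exact h s hs
  · rw [Set.ncard_smul_set]
  · exact Set.toFinite _

theorem smul_mem_Sup_iff (g : M24) {s : Finset GolayPt} : g • s ∈ Sup ↔ s ∈ Sup :=
  ⟨fun h => by
    have : g⁻¹ • g • s ∈ Sup := smul_mem_Sup (g⁻¹).2 h
    rwa [inv_smul_smul] at this, smul_mem_Sup g.2⟩

theorem card_smulM (g : M24) (s : Finset GolayPt) : (g • s).card = s.card :=
  Finset.card_smul_finset g s

theorem smul_mem_octads_iff (g : M24) {s : Finset GolayPt} : g • s ∈ octads ↔ s ∈ octads := by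
  rw [mem_octads, mem_octads, smul_mem_Sup_iff, card_smulM]

theorem smul_mem_dodecads_iff (g : M24) {s : Finset GolayPt} : g • s ∈ dodecads ↔ s ∈ dodecads := by
  rw [mem_dodecads, mem_dodecads, smul_mem_Sup_iff, card_smulM]

/-- membership test for the group of the code -/
def inM24 (p : ℕ) : Bool := band (isPerm 5 31 24 p) (allL basisW fun b => force (act24 p b) isC)

theorem in_CM {p : ℕ} (h : inM24 p = true) : CM.In ⊤ p := by
  simp only [inM24, band_eq, Bool.and_eq_true, allL_iff, force_eq] at h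
  obtain ⟨g, -, rfl⟩ := E24.in_top24 h.1
  refine ⟨⟨g, mem_M24_of fun s hs => ?_⟩, trivial, rfl⟩
  rw [← ts_mk s]
  refine isC_induction (P := fun m => g • ts m ∈ Sup) ?_ ?_ ?_ ((mem_Sup s).1 hs)
  · have : ts 0 = ∅ := by ext; simp
    rw [this, Finset.smul_finset_empty]; exact empty_mem_Sup
  · intro a b ha hb
    have : ts (a ^^^ b) = symmDiff (ts a) (ts b) := by
      ext x
      simp only [Enc.mem_toSet, Nat.testBit_xor, Finset.mem_symmDiff]
      cases a.testBit (E24.enc x) <;> cases b.testBit (E24.enc x) <;> simp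
    rw [this, Finset.smul_finset_symmDiff]
    exact symmDiff_mem_Sup ha hb
  · intro b hb
    have : b < 16777216 := by revert b; decide +kernel
    rw [mem_Sup, mk_smul, mk_ts this]
    exact h.2 b hb

theorem valid_CM {S : List ℕ} (h : allL S inM24 = true) : ∀ s ∈ S, CM.In ⊤ s :=
  fun s hs => in_CM ((allL_iff _ _).1 h s hs)

theorem inM24_code (g : M24) : ∀ b, isC b = true → isC (act24 (CM.code g) b) = true := by
  intro b hb
  rw [← mk_ts (isC_lt hb), ← mk_smulM, ← mem_Sup, smul_mem_Sup_iff, mem_Sup, mk_ts (isC_lt hb)]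
  exact hb

end

end CfsgH5
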