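/-
The group of the length-24 code: order, stabiliser chain, multiple transitivity.
-/
import Cfsg.Agent.H5.Golay

set_option autoImplicit false
set_option linter.unusedSimpArgs false

namespace CfsgH5

open scoped Pointwise
open Cfsg MulAction

noncomputable section

section Tight

variable {O : Ops} {G : Type*} [Group G] {α : Type*} [MulAction G α] (C : Codes O G α)

/-- the orbits of a chain are at least as large as those of the subgroup `K` -/
def Codes.Tight : Subgroup G → List Level → Prop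
  | K, [] => ∀ g ∈ K, g = 1
  | K, l :: r => ∀ a, C.enc a = l.b → (∀ g ∈ K, l.B.testBit (C.enc (g • a)) = true) ∧
      Codes.Tight (K ⊓ stabilizer G a) r

theorem Codes.le_grp_of_tight [Finite G] {c : List Level} {K : Subgroup G}
    (hv : ∀ s ∈ gens c, C.In K s) (hc : checkC O c = true) (hT : C.Tight K c) :
    K ≤ C.grp (gens c) := by
  induction c generalizing K with
  | nil => intro g hg; rw [hT g hg]; exact Subgroup.one_mem _
  | cons l r ih =>
    have hv' : ∀ s ∈ gens (l :: r), C.In ⊤ s := fun s hs => (hv s hs).mono le_top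
    have hc' := Codes.checkC_cons.1 hc
    have hl := C.levelOK hv' hc'.1
    obtain ⟨a, ha⟩ := hl.base
    obtain ⟨h1, h2⟩ := hT a ha
    intro g hg
    obtain ⟨h, hh, hha⟩ := (C.orbit_iff hv' hc ha _).2 (h1 g hg)
    have hK : h⁻¹ * g ∈ K ⊓ stabilizer G a := by
      refine ⟨K.mul_mem (K.inv_mem (C.grp_le hv hh)) hg, ?_⟩
      show (h⁻¹ * g) • a = a
      rw [mul_smul, ← hha, inv_smul_smul]
    have := ih (K := K ⊓ stabilizer G a) (fun s hs => by
      obtain ⟨x, hx, rfl⟩ := C.valid_tail hv s hs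
      exact ⟨x, ⟨hx, hl.fix_smul C ha (C.mem_grp hs)⟩, rfl⟩) hc'.2 h2 hK
    exact (Subgroup.mul_mem_cancel_left _ (Subgroup.inv_mem _ hh)).1 (C.grp_tail_le l r this)

/-- moving a point of the first orbit to the base point -/
theorem Codes.move [Finite G] {l : Level} {r : List Level} (hv : ∀ s ∈ gens (l :: r), C.In ⊤ s)
    (hc : checkC O (l :: r) = true) {a : α} (ha : C.enc a = l.b) {x : α}
    (hx : l.B.testBit (C.enc x) = true) : ∃ g ∈ C.grp (gens (l :: r)), g • x = a := by
  obtain ⟨g, hg, rfl⟩ := (C.orbit_iff hv hc ha x).2 hx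
  exact ⟨g⁻¹, Subgroup.inv_mem _ hg, inv_smul_smul _ _⟩

end Tight

/-- one round of refinement: octads with five fixed points are fixed, and points separated from
all others by fixed octads are fixed. -/
def refineChk (F F' : ℕ) (L : List ℕ) : Bool :=
  band (allL L fun o => band (isOct o) (Nat.ble 5 (pop24 (Nat.land o F))))
    (allLt 24 fun x => bimp (tb F' x) (allLt 24 fun y => bor (Nat.beq x y)
      (anyL L fun o => bnot (Nat.beq (bit o x) (bit o y)))))

theorem smul_octad_of_five (g : M24) {o : Finset GolayPt} (ho : o ∈ octads) {F : Finset GolayPt}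
    (hF : ∀ a ∈ F, g • a = a) (h5 : 5 ≤ (o ∩ F).card) : g • o = o := by
  apply octad_eq_of_five ((smul_mem_octads_iff g).2 ho) ho
  refine h5.trans (Finset.card_le_card fun a ha => ?_)
  rw [Finset.mem_inter] at ha ⊢
  refine ⟨?_, ha.1⟩
  rw [← hF a ha.2]; exact Finset.smul_mem_smul_finset ha.1

theorem refine_sound (g : M24) {F F' : ℕ} {L : List ℕ} (hF : F < 16777216)
    (h : refineChk F F' L = true) (hg : ∀ a ∈ ts F, g • a = a) : ∀ a ∈ ts F', g • a = a := by
  simp only [refineChk, band_eq, Bool.and_eq_true, allL_iff, allLt_iff, bimp_eq, bor_eq,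
    Bool.or_eq_true, Bool.not_eq_true', anyL_iff, bnot_eq, ble_true_iff, beq_true_iff, tb_eq] at h
  obtain ⟨h1, h2⟩ := h
  intro a ha
  rw [Enc.mem_toSet] at ha
  rcases h2 _ (pn_lt a) with h | h
  · exact absurd ha (by simp [h])
  rcases h _ (pn_lt (g • a)) with h | ⟨o, ho, h⟩
  · exact (pn_inj h).symm
  exfalso
  obtain ⟨h3, h4⟩ := h1 o ho
  have h5 := smul_octad_of_five g (ts_mem_octads h3) hg (by
    rwa [card_eq_pop, mk, E24.mask_inter, E24.mask_toSet (isOct_lt h3), E24.mask_toSet hF])
  have h6 : g • a ∈ ts o ↔ a ∈ ts o := by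
    nth_rewrite 1 [← h5]; exact Finset.smul_mem_smul_finset_iff g
  rw [Enc.mem_toSet, Enc.mem_toSet, ← Bool.eq_iff_iff] at h6
  rw [← Bool.not_eq_true, beq_true_iff, bit_eq, bit_eq] at h
  exact h (by rw [h6])

/-- a stabiliser chain with base `∞, 0, 1, 2, 3, 4, 5` -/
def chM : List Level :=
  [⟨23, [0x8ac337dcd548e003a9a42a2cc70a92], 0xffffff,
    ap 120 0xffffffffffffffffffffffffffffff 0xbdab49ca307b9ac5a928398a4188208de93b402d1296934aa3395e46010eb2aee844e828a723100f4d1a3a856c8969768d6411dc09caca7b208306a9892d3bb20e1acaf68154908e8306a98ac337dcd548e003a9a42a2cc70a9230281246e382c52622692d9af3a9d58d9853221771007929f55cc4d0d0698d5a79a2d0b9965780815246c70a928b48784df2a5d60189c9b30c82d5418d8e6a116154eed031d040de22caa98d4aa400cb68d9724d270bed070a928bea3b1caa0ccc0ba6126a1cc5d08235a71838ec114727dd6a482a44502d88567634c500d09992eaac2cf70a92894ed13d2b04c75250d7b2a0e0a192884063cd88741e950ecdb92a558a928b46e0d4c221e6f0221665ca95aa928da0b021826a8c7491f52ceee08e928b29581db65016f748a80a67730c44315d19ac09530f20d5a823c56bd07032ca89b0f453e309007523922b5c2d8b50b732d385403510b431d2f106f231e8f4c5016bab22aa0cb116018a77,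
    ap 3 7 0x41e02e5e26a8d92d0, ap 3 7 0xda65b51a6d349b912⟩,
   ⟨0, [0xb9c324bac812c6ca00aa991a68d60f], 0x7fffff,
    ap 120 0xffffffffffffffffffffffffffffff 0xb820455901aa633a3d6c918e26946eb8c0c14da8558c40d1c92c9678d60fba260232c72acce548540a5a38d60fb916d01d34ab2235205334256285cfbcdd6500698988592da2650e14560fbc8765a40c2d1b3238ef50a2644035ba50b6d2600cacc7086f292263c155bb696828e1049c561a2322d359bd02bd9c69a0b0082ab3bc4a8a59469243b897199ed5a2804724cd1b02544a0fb8d49a09672350094c2563ac68d60fb9487899b21a18b02a70b5049a85cfb9c324bac812c6ca00aa991a68d60fba9b27187159e692b0107d684b0502bce0e2aceaad22c93da049864b0502ba0b4911a3758f34b141009668d60fbc18793886b44b57d06d5814998502baad128db50a692988eb3100e4320fb966d4d0c289e4e6596a204604560fb8dc538a7195534234d0b314102d0fb95710a2d5552496106d33a623820fb95541c92f838ec5d62269ac49a001bdab49ca307b9ac5a928398a418820,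
    ap 3 7 0x2d6c0416230cd3280, ap 3 7 0xda6e36db45a4db6a0⟩,
   ⟨1, [0xba4d6190b46c18e520e18adf315640], 0x7ffffe,
    ap 120 0xffffffffffffffffffffffffffffff 0xb85b414e0a4b2257191278c96a9d60bbc264c6851adac81c929a04aabac0bd8a1541e78d07392588589aea9880bac900b6667b2363944872a834d640bade828683b4cc4534ee809914d640bcdcc41827189557c8b48aec9811a0bb9b34162148d428328fb1d6435640b9e02350b50aac372d8f9922d4a240bb6028a4b55050b20e6f638c7a5a40bb8c88be646b02229ed058e8a4d640bc065709a44d8c15aa2ca3eb33a240bd2285b8a93c2640d9aa30dec15640b9d6914df6651d0406322a9a3a9880bd0eab2dec215311b8264361315640ba4d6190b46c18e520e18adf315640bda284a9ae9bce51424b0b283a9880b99c555a6b1306d441e7206914d640bb0874b622b546a5be722b82644280bb149854a87b846192d16d2613ae40bba713b0b549848534647c24b0d2c0bc6955d9e692122829cd1ccac38480bdab49ca307b9ac5a928398a418820000000000000000000000000000000,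
    ap 3 7 0x494225a828a81040, ap 3 7 0xdb6e34db49169b8c0⟩,
   ⟨2, [0xba5c3ac22242e93619a5248efb2820], 0x7ffffc,
    ap 120 0xffffffffffffffffffffffffffffff 0xb888694e296adf028d0c754f4b2820b9045a222e82ead332634bcf2b2820b9e02618964ba2343e8d2ceab92820b991013a341ccaa224f562df66c820bb57670a2a2b0759ca877c08849820bc8e6894551bdd0621b35da844a820ba5c3ac22242e93619a5248efb2820baa93b4083145af754eb9158849820bd5ac35a8e28a4b8c26740de44a820ba505354ef9c44e941841b574b2820ba9f28562da31023d8b35b88349820b95897b62699e50139041d57455820b8e6d61a322552b70acf2a907a4020badb34522fab205b1c5250c8e49820b9e899c9ea69a2c416a220e1672c20bb92c7b6249ae4819606150f5b2820bd1895aa263ceceac064409e56c820bba7160df2b52a832ced814444a820ba5111b2b4b49f32acf06988272820ba1762262a614d2855e7a4dcd10c20bdab49ca307b9ac5a928398a418820000000000000000000000000000000000000000000000000000000000000,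
    ap 3 7 0xd9620923010409000, ap 3 7 0x9c89971b91b4d3600⟩,
   ⟨3, [0xbd5915d0861b66f538a992207b0820], 0x7ffff8,
    ap 120 0xffffffffffffffffffffffffffffff 0xb8ed269e85629d59ad062413178820bbc6771249aad566ccd08951460820bada3b50c829e497ba2a8126ca8820bcdcf1ca06490e862a8b2c5b5b0820ba28d48cec84e51292ce7a8cba8820bb2643a46b83a4a7d9b4a9a2828820b96505a8e3b5634791a94326e30820bd5915d0861b66f538a992207b0820b9a9052e35b0cf2611a84bdd328820b94cb3a60e910745310f9d5b1b0820bb1e4544e8b4d6373605a24d2a8820bc28653a56ab09119e654bd6d40820ba20e224cb89d9450caf6da72a8820b9a4e43c952b4f44c46a62e13b0820bca844ba6bb1d058b6037aaac30820ba6332da4f32e8481ead1b90a60820b98aa8a213a12b25bd2c70da7b0820bca877c1cc345762566d5246828820bba6cad205412297ae4a31da3b0820bdab49ca307b9ac5a928398a418820000000000000000000000000000000000000000000000000000000000000000000000000000000000000000000,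
    ap 2 3 0x2ac0438b200, ap 3 7 0x11c6eb31a8d38a4000⟩,
   ⟨4, [0xbd6cb22627638cfa224a834b318820, 0xbc0ea332364b892451ebaccad18820], 0x7dbfd0,
    ap 120 0xffffffffffffffffffffffffffffff 0xb92924d4b65c5b33a1867a9d018820bd087830af9c54b91aa8b35c918820bc8e49a8a884589a59af355cb18820bd6cb22627638cfa224a834b318820bd58a410b37c4f66a6905c9c618820000000000000000000000000000000bd9e854ca46461534967a25cd18820bce8d549c7216ab45a0c4be2618820000000000000000000000000000000bc0ea332364b892451ebaccad18820bcd69958b5a44c4829ed621c718820b9e545b4a64c6b023d56431d318820ba0d6aa4b26c56a792143cdcc18820bb2ad350abb464f5408999dc818820b990f640a75466db512492dd518820bbec66acb4ac52c41e72241ca18820b9e086be3593a6952d94b10a618820000000000000000000000000000000bdab49ca307b9ac5a928398a418820000000000000000000000000000000000000000000000000000000000000000000000000000000000000000000000000000000000000000000000000,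
    ap 2 3 0x142285911000, ap 3 7 0xe32c280c523680000⟩,
   ⟨5, [0xbc12ba18ad946c79b11553dc418820], 0x24020,
    ap 120 0xffffffffffffffffffffffffffffff 0xbc12ba18ad946c79b11553dc418820000000000000000000000000000000000000000000000000000000000000bb5135bdd63160aa1ea964a2418820000000000000000000000000000000000000000000000000000000000000000000000000000000000000000000000000000000000000000000000000000000000000000000000000000000000000000000000000000000000000000000000000000000000000000000000000000000000000000000000000bdab49ca307b9ac5a928398a418820000000000000000000000000000000000000000000000000000000000000000000000000000000000000000000000000000000000000000000000000000000000000000000000000000000,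
    ap 1 1 0x0, ap 2 3 0x420000000⟩]

theorem chM_check : checkC ops24 chM = true := by decide +kernel
theorem chM_valid : ∀ s ∈ gens chM, CM.In ⊤ s := valid_CM (by decide +kernel)

/-- the standard octad `{∞, 0, 1, 2, 3, 5, 14, 17}` -/
def oct0 : ℕ := 0x82402f

theorem oct0_mem : ts oct0 ∈ octads := ts_mem_octads (by decide +kernel)

theorem eq_one_of_fix_base (g : M24) (h : ∀ a ∈ ts 0x80003f, g • a = a) : g = 1 := by
  have h1 := refine_sound g (by norm_num) (F' := 0xfdbfff) (L := [0xc12017, 0x82402f, 0xb01036, 0x843039, 0x50803d, 0x84805e, 0x21007b, 0x8900bc, 0x8081b3, 0xc0237, 0xa0031d, 0x149f, 0xc0063a, 0x98081b, 0x293e, 0x800c75]) (by decide +kernel) h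
  have h2 := refine_sound g (by norm_num) (F' := 0xffffff) (L := [0xe10641, 0x28d308, 0x325019, 0x80952c, 0x41889a, 0x528a84, 0x7c00a4, 0xb84190]) (by decide +kernel) h1
  refine Subtype.ext (Equiv.ext fun a => ?_)
  have : a ∈ ts 0xffffff := by revert a; decide +kernel
  exact h2 a this

theorem smul_ne (g : M24) {a b : GolayPt} (hb : g • b = b) (hab : a ≠ b) : g • a ≠ b :=
  fun h => hab (smul_left_cancel g (h.trans hb.symm))

theorem chM_tight : CM.Tight ⊤ chM := by
  have e : ∀ {a : GolayPt} {i : ℕ}, CM.enc a = i → a = pt i := fun h => by rw [← h]; exact (pt_pn _).symm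
  intro a1 h1
  obtain rfl := e h1
  refine ⟨fun g _ => ?_, fun a2 h2 => ?_⟩
  · change Nat.testBit _ (CM.enc (g • pt 23)) = true
    generalize g • pt 23 = x; revert x; decide +kernel
  obtain rfl := e h2
  refine ⟨fun g hg => ?_, fun a3 h3 => ?_⟩
  · have k1 := smul_ne g hg.2 (a := pt 0) (by decide)
    revert k1; change _ ≠ pt 23 → Nat.testBit _ (CM.enc (g • pt 0)) = true; generalize g • pt 0 = x; revert x; decide +kernel
  obtain rfl := e h3
  refine ⟨fun g hg => ?_, fun a4 h4 => ?_⟩
  · have k1 := smul_ne g hg.1.2 (a := pt 1) (by decide)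
    have k2 := smul_ne g hg.2 (a := pt 1) (by decide)
    revert k1 k2; change _ ≠ pt 23 → _ ≠ pt 0 → Nat.testBit _ (CM.enc (g • pt 1)) = true
    generalize g • pt 1 = x; revert x; decide +kernel
  obtain rfl := e h4
  refine ⟨fun g hg => ?_, fun a5 h5 => ?_⟩
  · have k1 := smul_ne g hg.1.1.2 (a := pt 2) (by decide)
    have k2 := smul_ne g hg.1.2 (a := pt 2) (by decide)
    have k3 := smul_ne g hg.2 (a := pt 2) (by decide)
    revert k1 k2 k3; change _ ≠ pt 23 → _ ≠ pt 0 → _ ≠ pt 1 → Nat.testBit _ (CM.enc (g • pt 2)) = true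
    generalize g • pt 2 = x; revert x; decide +kernel
  obtain rfl := e h5
  refine ⟨fun g hg => ?_, fun a6 h6 => ?_⟩
  · have k1 := smul_ne g hg.1.1.1.2 (a := pt 3) (by decide)
    have k2 := smul_ne g hg.1.1.2 (a := pt 3) (by decide)
    have k3 := smul_ne g hg.1.2 (a := pt 3) (by decide)
    have k4 := smul_ne g hg.2 (a := pt 3) (by decide)
    revert k1 k2 k3 k4; change _ ≠ pt 23 → _ ≠ pt 0 → _ ≠ pt 1 → _ ≠ pt 2 → Nat.testBit _ (CM.enc (g • pt 3)) = true
    generalize g • pt 3 = x; revert x; decide +kernel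
  obtain rfl := e h6
  have fixO : ∀ g : M24, g • pt 23 = pt 23 → g • pt 0 = pt 0 → g • pt 1 = pt 1 →
      g • pt 2 = pt 2 → g • pt 3 = pt 3 → ∀ a, g • a ∈ ts oct0 ↔ a ∈ ts oct0 := by
    intro g k1 k2 k3 k4 k5 a
    have := smul_octad_of_five g oct0_mem (F := {pt 23, pt 0, pt 1, pt 2, pt 3})
      (by simp [k1, k2, k3, k4, k5]) (by decide +kernel)
    nth_rewrite 1 [← this]; exact Finset.smul_mem_smul_finset_iff g
  refine ⟨fun g hg => ?_, fun a7 h7 => ?_⟩
  · have k := fixO g hg.1.1.1.1.2 hg.1.1.1.2 hg.1.1.2 hg.1.2 hg.2 (pt 4)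
    have k' : g • pt 4 ∉ ts oct0 := by rw [k]; decide +kernel
    revert k'; change _ → Nat.testBit _ (CM.enc (g • pt 4)) = true
    generalize g • pt 4 = x; revert x; decide +kernel
  obtain rfl := e h7
  refine ⟨fun g hg => ?_, fun g hg => ?_⟩
  · have k := fixO g hg.1.1.1.1.1.2 hg.1.1.1.1.2 hg.1.1.1.2 hg.1.1.2 hg.1.2 (pt 5)
    have k' : g • pt 5 ∈ ts oct0 := by rw [k]; decide +kernel
    have k1 := smul_ne g hg.1.1.1.1.1.2 (a := pt 5) (by decide)
    have k2 := smul_ne g hg.1.1.1.1.2 (a := pt 5) (by decide)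
    have k3 := smul_ne g hg.1.1.1.2 (a := pt 5) (by decide)
    have k4 := smul_ne g hg.1.1.2 (a := pt 5) (by decide)
    have k5 := smul_ne g hg.1.2 (a := pt 5) (by decide)
    revert k' k1 k2 k3 k4 k5
    change _ → _ ≠ pt 23 → _ ≠ pt 0 → _ ≠ pt 1 → _ ≠ pt 2 → _ ≠ pt 3 →
      Nat.testBit _ (CM.enc (g • pt 5)) = true
    generalize g • pt 5 = x; revert x; decide +kernel
  · apply eq_one_of_fix_base
    have : ∀ a ∈ ts 0x80003f, a = pt 23 ∨ a = pt 0 ∨ a = pt 1 ∨ a = pt 2 ∨ a = pt 3 ∨ a = pt 4 ∨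
        a = pt 5 := by decide +kernel
    intro a ha
    rcases this a ha with rfl | rfl | rfl | rfl | rfl | rfl | rfl
    exacts [hg.1.1.1.1.1.1.2, hg.1.1.1.1.1.2, hg.1.1.1.1.2, hg.1.1.1.2, hg.1.1.2, hg.1.2, hg.2]

theorem grp_chM : CM.grp (gens chM) = ⊤ :=
  top_le_iff.1 (CM.le_grp_of_tight chM_valid chM_check chM_tight)

theorem card_M24 : Nat.card M24 = 244823040 := by
  rw [← Subgroup.card_top, ← grp_chM, CM.card_grp chM_valid chM_check]
  decide +kernel

end

end CfsgH5
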