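import Cfsg.Agent.H5.ThK0
import Cfsg.Agent.H5.ThK1
import Cfsg.Agent.H5.ThK2
import Cfsg.Agent.H5.ThK3
import Cfsg.Agent.H5.ThK4

set_option autoImplicit false
set_option maxRecDepth 100000
set_option linter.all false
set_option linter.constructorNameAsVariable false
set_option Elab.async false

namespace CfsgH5.ThC

open CfsgH5 CfsgH5.Th CfsgH6 Subgroup MulAction Pointwise

noncomputable section

theorem v1 : C1.Mem R1 ⊤ 262142 := (((((((((((((((((MC.mem_units (PP.mc P_ok) (PP.can_sound P_ok) chk1).lor' (MC.mem_units (PP.mc P_ok) (PP.can_sound P_ok) chk2) (M'' := 6) (by decide +kernel)).lor' (MC.mem_units (PP.mc P_ok) (PP.can_sound P_ok) chk3) (M'' := 14) (by decide +kernel)).lor' (MC.mem_units (PP.mc P_ok) (PP.can_sound P_ok) chk4) (M'' := 30) (by decide +kernel)).lor' (MC.mem_units (PP.mc P_ok) (PP.can_sound P_ok) chk5) (M'' := 62) (by decide +kernel)).lor' (MC.mem_units (PP.mc P_ok) (PP.can_sound P_ok) chk6) (M'' := 126) (by decide +kernel)).lor' (MC.mem_units (PP.mc P_ok) (PP.can_sound P_ok) chk7) (M'' := 254) (by decide +kernel)).lor' (MC.mem_units (PP.mc P_ok) (PP.can_sound P_ok) chk8) (M'' := 510) (by decide +kernel)).lor' (MC.mem_units (PP.mc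 P_ok) (PP.can_sound P_ok) chk9) (M'' := 1022) (by decide +kernel)).lor' (MC.mem_units (PP.mc P_ok) (PP.can_sound P_ok) chk10) (M'' := 2046) (by decide +kernel)).lor' (MC.mem_units (PP.mc P_ok) (PP.can_sound P_ok) chk11) (M'' := 4094) (by decide +kernel)).lor' (MC.mem_units (PP.mc P_ok) (PP.can_sound P_ok) chk12) (M'' := 8190) (by decide +kernel)).lor' (MC.mem_units (PP.mc P_ok) (PP.can_sound P_ok) chk13) (M'' := 16382) (by decide +kernel)).lor' (MC.mem_units (PP.mc P_ok) (PP.can_sound P_ok) chk14) (M'' := 32766) (by decide +kernel)).lor' (MC.mem_units (PP.mc P_ok) (PP.can_sound P_ok) chk15) (M'' := 65534) (by decide +kernel)).lor' (MC.mem_units (PP.mc P_ok) (PP.can_sound P_ok) chk16) (M'' := 196606) (by decide +kernel)).lor' (MC.mem_units (PP.mc P_ok) (PP.can_sound P_ok) chk17) (M'' := 262142) (by decide +kernel))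
theorem val20 : C2.Mem R2 ⊤ 196606 := MC.mem_units (mc2 45) (can2_sound (by decide)) chk19
theorem vD : CD.Mem R ⊤ 196606 := (GC.mem_prod (v1.sub chk21) val20).top
theorem syD0 : Sy (CD.el (R 1)) (CD.gen R 2) ∧ Nat.card (CD.gen R 2) = 2 := sy_base (vD.get (i := 1) (by decide +kernel)) chk22 (by decide +kernel)
theorem syD1 : Sy (CD.el (R 1)) (CD.gen R 14) ∧ Nat.card (CD.gen R 14) = 8 := sy_step syD0 (vD.get (i := 1) (by decide +kernel)) (vD.get (i := 2) (by decide +kernel)) (vD.get (i := 3) (by decide +kernel)) ((vD.sub chk24).commL (vD.get (i := 2) (by decide +kernel)) chk23) ((vD.sub chk26).commL (vD.get (i := 3) (by decide +kernel)) chk25) chk27 (by decide +kernel)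
theorem syD2 : Sy (CD.el (R 1)) (CD.gen R 62) ∧ Nat.card (CD.gen R 62) = 32 := sy_step syD1 (vD.get (i := 1) (by decide +kernel)) (vD.get (i := 4) (by decide +kernel)) (vD.get (i := 5) (by decide +kernel)) ((vD.sub chk29).commL (vD.get (i := 4) (by decide +kernel)) chk28) ((vD.sub chk31).commL (vD.get (i := 5) (by decide +kernel)) chk30) chk32 (by decide +kernel)
theorem syD3 : Sy (CD.el (R 1)) (CD.gen R 254) ∧ Nat.card (CD.gen R 254) = 128 := sy_step syD2 (vD.get (i := 1) (by decide +kernel)) (vD.get (i := 6) (by decide +kernel)) (vD.get (i := 7) (by decide +kernel)) ((vD.sub chk34).commL (vD.get (i := 6) (by decide +kernel)) chk33) ((vD.sub chk36).commL (vD.get (i := 7) (by decide +kernel)) chk35) chk37 (by decide +kernel)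
theorem syD4 : Sy (CD.el (R 1)) (CD.gen R 1022) ∧ Nat.card (CD.gen R 1022) = 512 := sy_step syD3 (vD.get (i := 1) (by decide +kernel)) (vD.get (i := 8) (by decide +kernel)) (vD.get (i := 9) (by decide +kernel)) ((vD.sub chk39).commL (vD.get (i := 8) (by decide +kernel)) chk38) ((vD.sub chk41).commL (vD.get (i := 9) (by decide +kernel)) chk40) chk42 (by decide +kernel)
theorem syDQ_m0 : CD.Mem R (CD.gen R 1022) 1022 := GC.Mem.gen (vD.sub chk43)
theorem syDQ_s0_46 : CD.Mem R (CD.gen R 1022) 1099511366654 := syDQ_m0.slp' chk45
theorem PD_m0 : CD.Mem R (CD.gen R 65534) 65534 := GC.Mem.gen (vD.sub chk47)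
theorem cj51 : band (conjB (prodOps 246016 P.ops (ops2 45)) R 1099511366654 10 (l48)) (subM 1022 (insL (l48) 0)) = true := band_intro chk49 chk50
theorem cj55 : band (conjB (prodOps 246016 P.ops (ops2 45)) R 1099511366654 11 (l52)) (subM 1022 (insL (l52) 0)) = true := band_intro chk53 chk54
theorem cj59 : band (conjB (prodOps 246016 P.ops (ops2 45)) R 1099511366654 12 (l56)) (subM 1022 (insL (l56) 0)) = true := band_intro chk57 chk58
theorem cj63 : band (conjB (prodOps 246016 P.ops (ops2 45)) R 1099511366654 13 (l60)) (subM 1022 (insL (l60) 0)) = true := band_intro chk61 chk62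
theorem cj67 : band (conjB (prodOps 246016 P.ops (ops2 45)) R 1099511366654 14 (l64)) (subM 1022 (insL (l64) 0)) = true := band_intro chk65 chk66
theorem cj71 : band (conjB (prodOps 246016 P.ops (ops2 45)) R 1099511366654 15 (l68)) (subM 1022 (insL (l68) 0)) = true := band_intro chk69 chk70
theorem carmP : ∃ _ : ((CD.gen R 1022).subgroupOf (CD.gen R 65534)).Normal, 2 * Nat.card (CD.gen R 65534) ≤ (6 + 2).factorial * Nat.card (CD.gen R 1022) ∧ (6 = 7 → CD.el (R 10) ∉ (CD.gen R 1022) → Nonempty ((CD.gen R 65534) ⧸ (CD.gen R 1022).subgroupOf (CD.gen R 65534) ≃* alternatingGroup (Fin 9))) :=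
  carm (Lt := [10, 11, 12, 13, 14, 15]) (vD.sub chk47) (forall_cons (syDQ_s0_46.conjB (PD_m0.get (i := 10) (by decide +kernel)).top (vD.sub chk43) cj51) (forall_cons (syDQ_s0_46.conjB (PD_m0.get (i := 11) (by decide +kernel)).top (vD.sub chk43) cj55) (forall_cons (syDQ_s0_46.conjB (PD_m0.get (i := 12) (by decide +kernel)).top (vD.sub chk43) cj59) (forall_cons (syDQ_s0_46.conjB (PD_m0.get (i := 13) (by decide +kernel)).top (vD.sub chk43) cj63) (forall_cons (syDQ_s0_46.conjB (PD_m0.get (i := 14) (by decide +kernel)).top (vD.sub chk43) cj67) (forall_cons (syDQ_s0_46.conjB (PD_m0.get (i := 15) (by decide +kernel)).top (vD.sub chk43) cj71) forall_nil)))))) (forall_app (relN_sound (vD.sub chk47) syDQ_s0_46 chk73) (relN_sound (vD.sub chk47) syDQ_s0_46 chk75)) chk76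
theorem PD_ub : Nat.card (CD.gen R 65534) ≤ 10321920 := carmP.elim fun _ h => carm_ub h.1 syD4.2 (by decide +kernel)
theorem PD_m1 : CD.Mem R (CD.gen R 65534) 1099511431166 := PD_m0.lor' (syDQ_s0_46.mono (PD_m0.sub chk77).gen_le) chk78
theorem PD_s1_81 : CD.Mem R (CD.gen R 65534) 18446744073709355006 := PD_m1.slp' chk80
theorem PD_s1_84 : CD.Mem R (CD.gen R 65534) 4951760157141521099596300286 := PD_s1_81.slp' chk83
theorem PD_s1_87 : CD.Mem R (CD.gen R 65534) 5316911983139663491615228241121181694 := PD_s1_84.slp' chk86
theorem PD_s1_90 : CD.Mem R (CD.gen R 65534) 1427247692705959881058285969449495136382550014 := PD_s1_87.slp' chk89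
theorem PD_s1_93 : CD.Mem R (CD.gen R 65534) 91343852333181432387730302044767688728495587326 := PD_s1_90.slp' chk92
theorem DD_m0 : CD.Mem R (CD.gen R 196606) 196606 := GC.Mem.gen vD
theorem DD_m1 : CD.Mem R (CD.gen R 196606) 91343852333181432387730302044767688728495718398 := DD_m0.lor' (PD_s1_93.mono (DD_m0.sub chk94).gen_le) chk95
theorem DD_s1_98 : CD.Mem R (CD.gen R 196606) 49039857307708443467467104868809893875799651909875204094 := DD_m1.slp' chk97
theorem ED_m0 : CD.Mem R (CD.gen R 37383397442050) 37383397442050 := GC.Mem.gen (PD_s1_93.sub chk99).top
theorem pt100e : ∃ x, DA.Rep pt100c x := via_rep hf1 A0 (PP.exists_vec P_ok (c := 0x22112220111112121012102112211210012202201011101120101110220121120100022010120212100121200112210100120100212001022112001200111102021011202100120112000120221221211102022100210212120110220001221000000211110001012112010120122202102212021002011221210102) (by decide +kernel))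
noncomputable def pt100 := Classical.choose pt100e
theorem pt100r : DA.Rep pt100c pt100 := Classical.choose_spec pt100e
theorem ED_c0i : CD.Mem R (CD.gen R 37383397442050) 0 := ED_m0.sub chk101
theorem ED_c0m : CD.Mem R (CD.gen R 0) 0 := ED_c0i.gen
theorem fx103 : CD.gen R 0 ≤ stabilizer _ pt100 := Act.fix_sound ED_c0i.top pt100r chk102
theorem cov110 : Cov (CD.gen R 37383397442050) (CD.wds R [0]) pt100 32 := Act.cov_of_seen (Act.pieces_sound ED_m0 ED_m0.top pt100r chk108) chk109
theorem ED_lb1 : 1 ≤ Nat.card (CD.gen R 0) := Nat.card_pos
theorem ED_lo0 : 32 * Nat.card (CD.gen R 0) ≤ Nat.card (CD.gen R 37383397442050) := cov110.low le_rfl (GC.wds_zero _) ED_c0i.gen_le fx103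
theorem ED_lb0 : 32 ≤ Nat.card (CD.gen R 37383397442050) := low_step ED_lo0 ED_lb1 (by decide +kernel)
theorem E_ker : (CD.gen R 37383397442050) ≤ (MonoidHom.snd _ _).ker := gen_le_ker hf2 (PD_s1_93.sub chk99).top chk111
theorem RD_m0 : CD.Mem R (CD.gen R 3713820117856178208094814722) 3713820117856178208094814722 := GC.Mem.gen (PD_s1_93.sub chk112).top
theorem RDs_m0 : C2.Mem R2 (C2.gen R2 3713820117856178208094814722) 3713820117856178208094814722 := GC.Mem.gen (RD_m0.map hf2).top
theorem RDs_map : (C2.gen R2 3713820117856178208094814722) = (CD.gen R 3713820117856178208094814722).map (MonoidHom.snd _ _) := RD_m0.gen_map hf2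
theorem pt114e : ∃ x, B0.Rep pt114c x := act2_rep (n := 45) (d := 6) (by decide) (by decide) (c := 0x4) (by decide +kernel)
noncomputable def pt114 := Classical.choose pt114e
theorem pt114r : B0.Rep pt114c pt114 := Classical.choose_spec pt114e
theorem pt115e : ∃ x, B0.Rep pt115c x := act2_rep (n := 45) (d := 6) (by decide) (by decide) (c := 0x10) (by decide +kernel)
noncomputable def pt115 := Classical.choose pt115e
theorem pt115r : B0.Rep pt115c pt115 := Classical.choose_spec pt115e
theorem pt116e : ∃ x, B0.Rep pt116c x := act2_rep (n := 45) (d := 6) (by decide) (by decide) (c := 0x8) (by decide +kernel)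
noncomputable def pt116 := Classical.choose pt116e
theorem pt116r : B0.Rep pt116c pt116 := Classical.choose_spec pt116e
theorem RDs_s0_119 : C2.Mem R2 (C2.gen R2 3713820117856178208094814722) 6228061878078972320368322318342570342344411970762254057986 := RDs_m0.slp' chk118
theorem RDs_c0i : C2.Mem R2 (C2.gen R2 3713820117856178208094814722) 6228061878078972320368322318338856522226555792554159243264 := RDs_s0_119.sub chk120
theorem RDs_c0m : C2.Mem R2 (C2.gen R2 6228061878078972320368322318338856522226555792554159243264) 6228061878078972320368322318338856522226555792554159243264 := RDs_c0i.gen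
theorem fx122 : C2.gen R2 6228061878078972320368322318338856522226555792554159243264 ≤ stabilizer _ pt114 := Act.fix_sound RDs_c0i.top pt114r chk121
theorem cov129 : Cov (C2.gen R2 3713820117856178208094814722) (C2.wds R2 [0]) pt114 28 := Act.cov_of_seen (Act.pieces_sound RDs_s0_119 RDs_s0_119.top pt114r chk127) chk128
theorem RDs_c1i : C2.Mem R2 (C2.gen R2 6228061878078972320368322318338856522226555792554159243264) 5884782876925013216096052584257187265095958229185032355840 := RDs_c0m.sub chk130
theorem RDs_c1m : C2.Mem R2 (C2.gen R2 5884782876925013216096052584257187265095958229185032355840) 5884782876925013216096052584257187265095958229185032355840 := RDs_c1i.gen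
theorem fx132 : C2.gen R2 5884782876925013216096052584257187265095958229185032355840 ≤ stabilizer _ pt115 := Act.fix_sound RDs_c1i.top pt115r chk131
theorem cov139 : Cov (C2.gen R2 6228061878078972320368322318338856522226555792554159243264) (C2.wds R2 [0]) pt115 24 := Act.cov_of_seen (Act.pieces_sound RDs_c0m RDs_c0m.top pt115r chk137) chk138
theorem RDs_c2i : C2.Mem R2 (C2.gen R2 5884782876925013216096052584257187265095958229185032355840) 0 := RDs_c1m.sub chk140
theorem RDs_c2m : C2.Mem R2 (C2.gen R2 0) 0 := RDs_c2i.gen
theorem fx142 : C2.gen R2 0 ≤ stabilizer _ pt116 := Act.fix_sound RDs_c2i.top pt116r chk141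
theorem cov149 : Cov (C2.gen R2 5884782876925013216096052584257187265095958229185032355840) (C2.wds R2 [0]) pt116 16 := Act.cov_of_seen (Act.pieces_sound RDs_c1m RDs_c1m.top pt116r chk147) chk148
theorem RDs_lb3 : 1 ≤ Nat.card (C2.gen R2 0) := Nat.card_pos
theorem RDs_lo2 : 16 * Nat.card (C2.gen R2 0) ≤ Nat.card (C2.gen R2 5884782876925013216096052584257187265095958229185032355840) := cov149.low le_rfl (GC.wds_zero _) RDs_c2i.gen_le fx142
theorem RDs_lb2 : 16 ≤ Nat.card (C2.gen R2 5884782876925013216096052584257187265095958229185032355840) := low_step RDs_lo2 RDs_lb3 (by decide +kernel)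
theorem RDs_lo1 : 24 * Nat.card (C2.gen R2 5884782876925013216096052584257187265095958229185032355840) ≤ Nat.card (C2.gen R2 6228061878078972320368322318338856522226555792554159243264) := cov139.low le_rfl (GC.wds_zero _) RDs_c1i.gen_le fx132
theorem RDs_lb1 : 384 ≤ Nat.card (C2.gen R2 6228061878078972320368322318338856522226555792554159243264) := low_step RDs_lo1 RDs_lb2 (by decide +kernel)
theorem RDs_lo0 : 28 * Nat.card (C2.gen R2 6228061878078972320368322318338856522226555792554159243264) ≤ Nat.card (C2.gen R2 3713820117856178208094814722) := cov129.low le_rfl (GC.wds_zero _) RDs_c0i.gen_le fx122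
theorem RDs_lb0 : 10752 ≤ Nat.card (C2.gen R2 3713820117856178208094814722) := low_step RDs_lo0 RDs_lb1 (by decide +kernel)
theorem RD_lb : 344064 ≤ Nat.card (CD.gen R 3713820117856178208094814722) := low_ker _ RDs_map (RD_m0.sub chk113).gen_le E_ker ED_lb0 RDs_lb0 (by decide +kernel)
theorem pt150e : ∃ x, D0.Rep pt150c x := via_rep hf2 B0 (act2_rep (n := 45) (d := 6) (by decide) (by decide) (c := 0x2) (by decide +kernel))
noncomputable def pt150 := Classical.choose pt150e
theorem pt150r : D0.Rep pt150c pt150 := Classical.choose_spec pt150e
theorem DD_I : CD.Mem R (CD.gen R 196606) 131072 := DD_s1_98.sub chk151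
theorem cj155 : band (conjB (prodOps 246016 P.ops (ops2 45)) R 91343852333181432387730302044767688728495587326 17 (l152)) (subM 3713820117856178208094814722 (insL (l152) 0)) = true := band_intro chk153 chk154
theorem fx157 : CD.gen R 3713820117856178208094814722 ≤ stabilizer _ pt150 := Act.fix_sound (PD_s1_93.sub chk112).top pt150r chk156
theorem DD_Kc : ∀ κ ∈ (CD.gen R 3713820117856178208094814722), (CD.el (R 17))⁻¹ * κ * CD.el (R 17) ∈ (CD.gen R 65534) := PD_s1_93.conjB (DD_s1_98.get (i := 17) (by decide +kernel)).top (PD_s1_93.sub chk112).top cj155
theorem cj161 : band (conjA (prodOps 246016 P.ops (ops2 45)) R 91343852333181432387730302044767688728495587326 17 (l158)) (subM 3713820117856178208094814722 (insL (l158) 0)) = true := band_intro chk159 chk160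
theorem DD_T0c : ∀ τ ∈ (CD.gen R 3713820117856178208094814722), CD.el (R 17) * τ * (CD.el (R 17))⁻¹ ∈ (CD.gen R 65534) := PD_s1_93.conjA (DD_I.get (i := 17) (by decide +kernel)).top (PD_s1_93.sub chk112).top cj161
theorem cov170 : Cov (CD.gen R 3713820117856178208094814722) (CD.wds R (List.map Prod.fst (l162))) pt150 30 := Act.cov_of_seen (Act.pieces_sound RD_m0 PD_s1_93.top pt150r chk168) chk169
theorem DD_T0d : Dec (CD.gen R 65534) (CD.gen R 3713820117856178208094814722) (CD.wds R (List.map Prod.fst (l162))) (CD.gen R 3713820117856178208094814722) := (cov170.dec (PD_s1_93.sub chk112).gen_le (GC.wds_sub PD_s1_93 chk171) (PD_s1_93.sub chk112).gen_le fx157 (up_low PD_ub RD_lb (by decide +kernel)))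
theorem DD_T0p : ∀ x ∈ DC1 (CD.gen R 65534) (CD.el (R 17)), x * CD.el (R 17) ∈ DCs (CD.gen R 65534) (CD.els R 131072) := GC.dc_piece' DD_T0d DD_T0c DD_Kc (PD_s1_93.dcRel DD_I.top (DD_I.get (i := 17) (by decide +kernel)).top (DD_s1_98.get (i := 17) (by decide +kernel)).top chk163)
theorem DD_T0u : Nat.card (CD.gen R 65534) ≤ 30 * Nat.card (CD.gen R 3713820117856178208094814722) := up_low PD_ub RD_lb (by decide +kernel)
theorem DD_T0n : (DC1 (CD.gen R 65534) (CD.el (R 17))).ncard ≤ Nat.card (CD.gen R 65534) * 30 := ncard_DC1 (PD_s1_93.sub chk112).gen_le DD_T0c DD_T0u
theorem DD_dc : ∀ x ∈ (CD.gen R 196606), x ∈ DCs (CD.gen R 65534) (CD.els R 131072) := GC.dc_gen (MU := 131072) PD_s1_93 (by decide +kernel) (GC.forall_els (L := [17]) (forall_cons ⟨PD_s1_93.inDC' DD_I.top (DD_s1_98.get (i := 17) (by decide +kernel)).top chk172, GC.forall_els (L := [17]) (forall_cons DD_T0p forall_nil) (by decide +kernel)⟩ forall_nil) (by decide +kernel))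
theorem DD_cs : ∀ p ∈ ([(17, 30)] : List (ℕ × ℕ)), (DC1 (CD.gen R 65534) (CD.el (R p.1))).ncard ≤ Nat.card (CD.gen R 65534) * p.2 := (forall_cons DD_T0n forall_nil)
theorem DD_ix : Nat.card (CD.gen R 196606) ≤ 31 * Nat.card (CD.gen R 65534) := GC.card_dc [(17, 30)] DD_dc DD_cs (by decide +kernel)
theorem DD_ub : Nat.card (CD.gen R 196606) ≤ 319979520 := up_mul DD_ix PD_ub (by decide +kernel)
theorem sy10 : Sy (C1.el (R1 1)) (C1.gen R1 2) ∧ Nat.card (C1.gen R1 2) = 2 := sy_base (v1.get (i := 1) (by decide +kernel)) chk173 (by decide +kernel)
theorem sy11 : Sy (C1.el (R1 1)) (C1.gen R1 14) ∧ Nat.card (C1.gen R1 14) = 8 := sy_step sy10 (v1.get (i := 1) (by decide +kernel)) (v1.get (i := 2) (by decide +kernel)) (v1.get (i := 3) (by decide +kernel)) ((v1.sub chk175).commL (v1.get (i := 2) (by decide +kernel)) chk174) ((v1.sub chk177).commL (v1.get (i := 3) (by decide +kernel)) chk176) chk178 (by decide +kernel)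
theorem sy12 : Sy (C1.el (R1 1)) (C1.gen R1 62) ∧ Nat.card (C1.gen R1 62) = 32 := sy_step sy11 (v1.get (i := 1) (by decide +kernel)) (v1.get (i := 4) (by decide +kernel)) (v1.get (i := 5) (by decide +kernel)) ((v1.sub chk180).commL (v1.get (i := 4) (by decide +kernel)) chk179) ((v1.sub chk182).commL (v1.get (i := 5) (by decide +kernel)) chk181) chk183 (by decide +kernel)
theorem sy13 : Sy (C1.el (R1 1)) (C1.gen R1 254) ∧ Nat.card (C1.gen R1 254) = 128 := sy_step sy12 (v1.get (i := 1) (by decide +kernel)) (v1.get (i := 6) (by decide +kernel)) (v1.get (i := 7) (by decide +kernel)) ((v1.sub chk185).commL (v1.get (i := 6) (by decide +kernel)) chk184) ((v1.sub chk187).commL (v1.get (i := 7) (by decide +kernel)) chk186) chk188 (by decide +kernel)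
theorem sy14 : Sy (C1.el (R1 1)) (C1.gen R1 1022) ∧ Nat.card (C1.gen R1 1022) = 512 := sy_step sy13 (v1.get (i := 1) (by decide +kernel)) (v1.get (i := 8) (by decide +kernel)) (v1.get (i := 9) (by decide +kernel)) ((v1.sub chk190).commL (v1.get (i := 8) (by decide +kernel)) chk189) ((v1.sub chk192).commL (v1.get (i := 9) (by decide +kernel)) chk191) chk193 (by decide +kernel)
theorem sy1Q_m0 : C1.Mem R1 (C1.gen R1 1022) 1022 := GC.Mem.gen (v1.sub chk194)
theorem Q1_m : C1.Mem R1 (C1.gen R1 1022) 1099511366654 := by
  rw [show (C1.gen R1 1022) = _ from syDQ_m0.gen_map hf1]; exact syDQ_s0_46.map hf1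
theorem CC_m0 : C1.Mem R1 (C1.gen R1 131070) 131070 := GC.Mem.gen (v1.sub chk195)
theorem cj199 : band (conjB P.ops R1 1099511366654 10 (l196)) (subM 1022 (insL (l196) 0)) = true := band_intro chk197 chk198
theorem cj203 : band (conjB P.ops R1 1099511366654 11 (l200)) (subM 1022 (insL (l200) 0)) = true := band_intro chk201 chk202
theorem cj207 : band (conjB P.ops R1 1099511366654 12 (l204)) (subM 1022 (insL (l204) 0)) = true := band_intro chk205 chk206
theorem cj211 : band (conjB P.ops R1 1099511366654 13 (l208)) (subM 1022 (insL (l208) 0)) = true := band_intro chk209 chk210
theorem cj215 : band (conjB P.ops R1 1099511366654 14 (l212)) (subM 1022 (insL (l212) 0)) = true := band_intro chk213 chk214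
theorem cj219 : band (conjB P.ops R1 1099511366654 15 (l216)) (subM 1022 (insL (l216) 0)) = true := band_intro chk217 chk218
theorem cj223 : band (conjB P.ops R1 1099511366654 16 (l220)) (subM 1022 (insL (l220) 0)) = true := band_intro chk221 chk222
theorem carmC : ∃ _ : ((C1.gen R1 1022).subgroupOf (C1.gen R1 131070)).Normal, 2 * Nat.card (C1.gen R1 131070) ≤ (7 + 2).factorial * Nat.card (C1.gen R1 1022) ∧ (7 = 7 → C1.el (R1 10) ∉ (C1.gen R1 1022) → Nonempty ((C1.gen R1 131070) ⧸ (C1.gen R1 1022).subgroupOf (C1.gen R1 131070) ≃* alternatingGroup (Fin 9))) :=
  carm (Lt := [10, 11, 12, 13, 14, 15, 16]) (v1.sub chk195) (forall_cons (Q1_m.conjB (CC_m0.get (i := 10) (by decide +kernel)).top (v1.sub chk194) cj199) (forall_cons (Q1_m.conjB (CC_m0.get (i := 11) (by decide +kernel)).top (v1.sub chk194) cj203) (forall_cons (Q1_m.conjB (CC_m0.get (i := 12) (by decide +kernel)).top (v1.sub chk194) cj207) (forall_cons (Q1_m.conjB (CC_m0.get (i := 13) (by decide +kernel)).top (v1.sub chk194) cj211) (forall_cons (Q1_m.conjB (CC_m0.get (i := 14) (by decide +kernel)).top (v1.sub chk194) cj215) (forall_cons (Q1_m.conjB (CC_m0.get (i := 15) (by decide +kernel)).top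 (v1.sub chk194) cj219) (forall_cons (Q1_m.conjB (CC_m0.get (i := 16) (by decide +kernel)).top (v1.sub chk194) cj223) forall_nil))))))) (forall_app (relN_sound (v1.sub chk195) Q1_m chk225) (forall_app (relN_sound (v1.sub chk195) Q1_m chk227) (relN_sound (v1.sub chk195) Q1_m chk229))) chk230
theorem CC_s0_233 : C1.Mem R1 (C1.gen R1 131070) 6277101735386680763835789423207666416102355444464034643966 := CC_m0.slp' chk232
theorem QC : (C1.gen R1 1022) ≤ (C1.gen R1 131070) := GC.gen_mono (by decide +kernel)
theorem altC : ∃ _ : ((C1.gen R1 1022).subgroupOf (C1.gen R1 131070)).Normal, Nonempty ((C1.gen R1 131070) ⧸ (C1.gen R1 1022).subgroupOf (C1.gen R1 131070) ≃* alternatingGroup (Fin 9)) :=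
  carmC.elim fun n h => ⟨n, h.2 rfl (not_mem_three sy14.2 ((CC_s0_233.get (i := 10) (by decide +kernel)).prime_dvd Nat.prime_three chk234).1)⟩
theorem cardC : Nat.card (C1.gen R1 131070) = 92897280 := altC.elim fun n h => card_of_alt QC sy14.2 n h
theorem D1_m0 : C1.Mem R1 (C1.gen R1 196606) 196606 := GC.Mem.gen (DD_m0.map hf1).top
theorem D1_map : (C1.gen R1 196606) = (CD.gen R 196606).map (MonoidHom.fst _ _) := DD_m0.gen_map hf1
theorem D1_m1 : C1.Mem R1 (C1.gen R1 196606) 49039857307708443467467104868809893875799651909875204094 := by
  rw [D1_map]; exact DD_s1_98.map hf1
theorem D1_ub : Nat.card (C1.gen R1 196606) ≤ 319979520 := up_map _ D1_map DD_ub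
theorem vG : C1.Mem R1 ⊤ 6277101735386680763835789423207666416102355444464034709502 := (DD_m0.map hf1).top.lor' CC_s0_233.top (by decide +kernel)
theorem G_m0 : C1.Mem R1 (C1.gen R1 6277101735386680763835789423207666416102355444464034709502) 6277101735386680763835789423207666416102355444464034709502 := GC.Mem.gen vG
theorem G_m1 : C1.Mem R1 (C1.gen R1 6277101735386680763835789423207666416102355444464034709502) 6326141592694389207303256528076476309978155096373909716990 := G_m0.lor' (D1_m1.mono (G_m0.sub chk235).gen_le) chk236
theorem G_s1_239 : C1.Mem R1 (C1.gen R1 6277101735386680763835789423207666416102355444464034709502) 6326141592694389207303256528076476309978155096373909782526 := G_m1.slp' chk238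
theorem DD_s2_242 : CD.Mem R (CD.gen R 196606) 37711650269627793026482203644114808390489932318694082281470 := DD_s1_98.slp' chk241
theorem KD_m0 : CD.Mem R (CD.gen R 37662610412320084583014736539245998496614132666784207078398) 37662610412320084583014736539245998496614132666784207078398 := GC.Mem.gen (DD_s2_242.sub chk243).top
theorem KD_s0_246 : CD.Mem R (CD.gen R 37662610412320084583014736539245998496614132666784207078398) 37662610412320084583014736539245998496614132704167604519934 := KD_m0.slp' chk245
theorem KDs_m0 : C2.Mem R2 (C2.gen R2 37662610412320084583014736539245998496614132666784207078398) 37662610412320084583014736539245998496614132666784207078398 := GC.Mem.gen (KD_m0.map hf2).top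
theorem KDs_map : (C2.gen R2 37662610412320084583014736539245998496614132666784207078398) = (CD.gen R 37662610412320084583014736539245998496614132666784207078398).map (MonoidHom.snd _ _) := KD_m0.gen_map hf2
theorem pt248e : ∃ x, B0.Rep pt248c x := act2_rep (n := 45) (d := 6) (by decide) (by decide) (c := 0x4) (by decide +kernel)
noncomputable def pt248 := Classical.choose pt248e
theorem pt248r : B0.Rep pt248c pt248 := Classical.choose_spec pt248e
theorem pt249e : ∃ x, B0.Rep pt249c x := act2_rep (n := 45) (d := 6) (by decide) (by decide) (c := 0x18) (by decide +kernel)
noncomputable def pt249 := Classical.choose pt249e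
theorem pt249r : B0.Rep pt249c pt249 := Classical.choose_spec pt249e
theorem pt250e : ∃ x, B0.Rep pt250c x := act2_rep (n := 45) (d := 6) (by decide) (by decide) (c := 0x8) (by decide +kernel)
noncomputable def pt250 := Classical.choose pt250e
theorem pt250r : B0.Rep pt250c pt250 := Classical.choose_spec pt250e
theorem pt251e : ∃ x, B0.Rep pt251c x := act2_rep (n := 45) (d := 6) (by decide) (by decide) (c := 0x2) (by decide +kernel)
noncomputable def pt251 := Classical.choose pt251e
theorem pt251r : B0.Rep pt251c pt251 := Classical.choose_spec pt251e
theorem KDs_s0_254 : C2.Mem R2 (C2.gen R2 37662610412320084583014736539245998496614132666784207078398) 3201321885047207189556252605835909872212201276676657601577982 := KDs_m0.slp' chk253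
theorem KDs_c0i : C2.Mem R2 (C2.gen R2 37662610412320084583014736539245998496614132666784207078398) 3163659274634887104973237869296663873715587144009873394499584 := KDs_s0_254.sub chk255
theorem KDs_c0m : C2.Mem R2 (C2.gen R2 3163659274634887104973237869296663873715587144009873394499584) 3163659274634887104973237869296663873715587144009873394499584 := KDs_c0i.gen
theorem fx257 : C2.gen R2 3163659274634887104973237869296663873715587144009873394499584 ≤ stabilizer _ pt248 := Act.fix_sound KDs_c0i.top pt248r chk256
theorem cov264 : Cov (C2.gen R2 37662610412320084583014736539245998496614132666784207078398) (C2.wds R2 [0]) pt248 30 := Act.cov_of_seen (Act.pieces_sound KDs_s0_254 KDs_s0_254.top pt248r chk262) chk263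
theorem KDs_c1i : C2.Mem R2 (C2.gen R2 3163659274634887104973237869296663873715587144009873394499584) 3013008832985606766641178923139679879729130613342736566190080 := KDs_c0m.sub chk265
theorem KDs_c1m : C2.Mem R2 (C2.gen R2 3013008832985606766641178923139679879729130613342736566190080) 3013008832985606766641178923139679879729130613342736566190080 := KDs_c1i.gen
theorem fx267 : C2.gen R2 3013008832985606766641178923139679879729130613342736566190080 ≤ stabilizer _ pt249 := Act.fix_sound KDs_c1i.top pt249r chk266
theorem cov274 : Cov (C2.gen R2 3163659274634887104973237869296663873715587144009873394499584) (C2.wds R2 [0]) pt249 28 := Act.cov_of_seen (Act.pieces_sound KDs_c0m KDs_c0m.top pt249r chk272) chk273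
theorem KDs_c2i : C2.Mem R2 (C2.gen R2 3013008832985606766641178923139679879729130613342736566190080) 803469022129495137770981046170581301261101496891396417650688 := KDs_c1m.sub chk275
theorem KDs_c2m : C2.Mem R2 (C2.gen R2 803469022129495137770981046170581301261101496891396417650688) 803469022129495137770981046170581301261101496891396417650688 := KDs_c2i.gen
theorem fx277 : C2.gen R2 803469022129495137770981046170581301261101496891396417650688 ≤ stabilizer _ pt250 := Act.fix_sound KDs_c2i.top pt250r chk276
theorem cov284 : Cov (C2.gen R2 3013008832985606766641178923139679879729130613342736566190080) (C2.wds R2 [0]) pt250 24 := Act.cov_of_seen (Act.pieces_sound KDs_c1m KDs_c1m.top pt250r chk282) chk283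
theorem KDs_c3i : C2.Mem R2 (C2.gen R2 803469022129495137770981046170581301261101496891396417650688) 0 := KDs_c2m.sub chk285
theorem KDs_c3m : C2.Mem R2 (C2.gen R2 0) 0 := KDs_c3i.gen
theorem fx287 : C2.gen R2 0 ≤ stabilizer _ pt251 := Act.fix_sound KDs_c3i.top pt251r chk286
theorem cov294 : Cov (C2.gen R2 803469022129495137770981046170581301261101496891396417650688) (C2.wds R2 [0]) pt251 2 := Act.cov_of_seen (Act.pieces_sound KDs_c2m KDs_c2m.top pt251r chk292) chk293
theorem KDs_lb4 : 1 ≤ Nat.card (C2.gen R2 0) := Nat.card_pos
theorem KDs_lo3 : 2 * Nat.card (C2.gen R2 0) ≤ Nat.card (C2.gen R2 803469022129495137770981046170581301261101496891396417650688) := cov294.low le_rfl (GC.wds_zero _) KDs_c3i.gen_le fx287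
theorem KDs_lb3 : 2 ≤ Nat.card (C2.gen R2 803469022129495137770981046170581301261101496891396417650688) := low_step KDs_lo3 KDs_lb4 (by decide +kernel)
theorem KDs_lo2 : 24 * Nat.card (C2.gen R2 803469022129495137770981046170581301261101496891396417650688) ≤ Nat.card (C2.gen R2 3013008832985606766641178923139679879729130613342736566190080) := cov284.low le_rfl (GC.wds_zero _) KDs_c2i.gen_le fx277
theorem KDs_lb2 : 48 ≤ Nat.card (C2.gen R2 3013008832985606766641178923139679879729130613342736566190080) := low_step KDs_lo2 KDs_lb3 (by decide +kernel)
theorem KDs_lo1 : 28 * Nat.card (C2.gen R2 3013008832985606766641178923139679879729130613342736566190080) ≤ Nat.card (C2.gen R2 3163659274634887104973237869296663873715587144009873394499584) := cov274.low le_rfl (GC.wds_zero _) KDs_c1i.gen_le fx267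
theorem KDs_lb1 : 1344 ≤ Nat.card (C2.gen R2 3163659274634887104973237869296663873715587144009873394499584) := low_step KDs_lo1 KDs_lb2 (by decide +kernel)
theorem KDs_lo0 : 30 * Nat.card (C2.gen R2 3163659274634887104973237869296663873715587144009873394499584) ≤ Nat.card (C2.gen R2 37662610412320084583014736539245998496614132666784207078398) := cov264.low le_rfl (GC.wds_zero _) KDs_c0i.gen_le fx257
theorem KDs_lb0 : 40320 ≤ Nat.card (C2.gen R2 37662610412320084583014736539245998496614132666784207078398) := low_step KDs_lo0 KDs_lb1 (by decide +kernel)
theorem KD_lb : 1290240 ≤ Nat.card (CD.gen R 37662610412320084583014736539245998496614132666784207078398) := low_ker _ KDs_map (KD_s0_246.sub chk247).gen_le E_ker ED_lb0 KDs_lb0 (by decide +kernel)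
theorem D1b_m0 : C1.Mem R1 (C1.gen R1 196606) 196606 := GC.Mem.gen (DD_m0.map hf1).top
theorem D1b_map : (C1.gen R1 196606) = (CD.gen R 196606).map (MonoidHom.fst _ _) := DD_m0.gen_map hf1
theorem D1b_m1 : C1.Mem R1 (C1.gen R1 196606) 37711650269627793026482203644114808390489932318694082281470 := by
  rw [D1b_map]; exact DD_s2_242.map hf1
theorem D1b_ub : Nat.card (C1.gen R1 196606) ≤ 319979520 := up_map _ D1b_map DD_ub
theorem G_m3 : C1.Mem R1 (C1.gen R1 6277101735386680763835789423207666416102355444464034709502) 43988752005014473790317993067322474806592287763158116859902 := G_s1_239.lor' (D1b_m1.mono (G_s1_239.sub chk295).gen_le) chk296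
theorem DD_s3_299 : CD.Mem R (CD.gen R 196606) 4936551383613887754257934029875695629756598086833058284128108542 := DD_s2_242.slp' chk298
theorem T1_m0 : CD.Mem R (CD.gen R 4936513671963618126464907547672051514948207596900739590045827074) 4936513671963618126464907547672051514948207596900739590045827074 := GC.Mem.gen (DD_s3_299.sub chk300).top
theorem TZ_m0 : CD.Mem R (CD.gen R 2) 2 := GC.Mem.gen (T1_m0.sub chk301).top
theorem pt302e : ∃ x, DA.Rep pt302c x := via_rep hf1 A0 (PP.exists_vec P_ok (c := 0x22112220111112121012102112211210012202201011101120101110220121120100022010120212100121200112210100120100212001022112001200111102021011202100120112000120221221211102022100210212120110220001221000000211110001012112010120122202102212021002011221210102) (by decide +kernel))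
noncomputable def pt302 := Classical.choose pt302e
theorem pt302r : DA.Rep pt302c pt302 := Classical.choose_spec pt302e
theorem TZ_c0i : CD.Mem R (CD.gen R 2) 0 := TZ_m0.sub chk303
theorem TZ_c0m : CD.Mem R (CD.gen R 0) 0 := TZ_c0i.gen
theorem fx305 : CD.gen R 0 ≤ stabilizer _ pt302 := Act.fix_sound TZ_c0i.top pt302r chk304
theorem cov312 : Cov (CD.gen R 2) (CD.wds R [0]) pt302 2 := Act.cov_of_seen (Act.pieces_sound TZ_m0 TZ_m0.top pt302r chk310) chk311
theorem TZ_lb1 : 1 ≤ Nat.card (CD.gen R 0) := Nat.card_pos
theorem TZ_lo0 : 2 * Nat.card (CD.gen R 0) ≤ Nat.card (CD.gen R 2) := cov312.low le_rfl (GC.wds_zero _) TZ_c0i.gen_le fx305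
theorem TZ_lb0 : 2 ≤ Nat.card (CD.gen R 2) := low_step TZ_lo0 TZ_lb1 (by decide +kernel)
theorem T1s_m0 : C2.Mem R2 (C2.gen R2 4936513671963618126464907547672051514948207596900739590045827074) 4936513671963618126464907547672051514948207596900739590045827074 := GC.Mem.gen (T1_m0.map hf2).top
theorem T1s_map : (C2.gen R2 4936513671963618126464907547672051514948207596900739590045827074) = (CD.gen R 4936513671963618126464907547672051514948207596900739590045827074).map (MonoidHom.snd _ _) := T1_m0.gen_map hf2
theorem pt314e : ∃ x, B0.Rep pt314c x := act2_rep (n := 45) (d := 6) (by decide) (by decide) (c := 0x2) (by decide +kernel)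
noncomputable def pt314 := Classical.choose pt314e
theorem pt314r : B0.Rep pt314c pt314 := Classical.choose_spec pt314e
theorem pt315e : ∃ x, B0.Rep pt315c x := act2_rep (n := 45) (d := 6) (by decide) (by decide) (c := 0xc) (by decide +kernel)
noncomputable def pt315 := Classical.choose pt315e
theorem pt315r : B0.Rep pt315c pt315 := Classical.choose_spec pt315e
theorem pt316e : ∃ x, B0.Rep pt316c x := act2_rep (n := 45) (d := 6) (by decide) (by decide) (c := 0x4) (by decide +kernel)
noncomputable def pt316 := Classical.choose pt316e
theorem pt316r : B0.Rep pt316c pt316 := Classical.choose_spec pt316e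
theorem pt317e : ∃ x, B0.Rep pt317c x := act2_rep (n := 45) (d := 6) (by decide) (by decide) (c := 0x10) (by decide +kernel)
noncomputable def pt317 := Classical.choose pt317e
theorem pt317r : B0.Rep pt317c pt317 := Classical.choose_spec pt317e
theorem T1s_s0_320 : C2.Mem R2 (C2.gen R2 4936513671963618126464907547672051514948207596900739590045827074) 208979078779793167353681086184783514132807454935464642645273346050 := T1s_m0.slp' chk319
theorem T1s_c0i : C2.Mem R2 (C2.gen R2 4936513671963618126464907547672051514948207596900739590045827074) 204042565107829549227216178637111462617859247338563903055227518976 := T1s_s0_320.sub chk321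
theorem T1s_c0m : C2.Mem R2 (C2.gen R2 204042565107829549227216178637111462617859247338563903055227518976) 204042565107829549227216178637111462617859247338563903055227518976 := T1s_c0i.gen
theorem fx323 : C2.gen R2 204042565107829549227216178637111462617859247338563903055227518976 ≤ stabilizer _ pt314 := Act.fix_sound T1s_c0i.top pt314r chk322
theorem cov330 : Cov (C2.gen R2 4936513671963618126464907547672051514948207596900739590045827074) (C2.wds R2 [0]) pt314 14 := Act.cov_of_seen (Act.pieces_sound T1s_s0_320 T1s_s0_320.top pt314r chk328) chk329
theorem T1s_c1i : C2.Mem R2 (C2.gen R2 204042565107829549227216178637111462617859247338563903055227518976) 171132473961405428384116794985964452518204530025892305788255338496 := T1s_c0m.sub chk331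
theorem T1s_c1m : C2.Mem R2 (C2.gen R2 171132473961405428384116794985964452518204530025892305788255338496) 171132473961405428384116794985964452518204530025892305788255338496 := T1s_c1i.gen
theorem fx333 : C2.gen R2 171132473961405428384116794985964452518204530025892305788255338496 ≤ stabilizer _ pt315 := Act.fix_sound T1s_c1i.top pt315r chk332
theorem cov340 : Cov (C2.gen R2 204042565107829549227216178637111462617859247338563903055227518976) (C2.wds R2 [0]) pt315 16 := Act.cov_of_seen (Act.pieces_sound T1s_c0m T1s_c0m.top pt315r chk338) chk339
theorem T1s_c2i : C2.Mem R2 (C2.gen R2 171132473961405428384116794985964452518204530025892305788255338496) 105312291668557186697918027683670432318895095400549111254310977536 := T1s_c1m.sub chk341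
theorem T1s_c2m : C2.Mem R2 (C2.gen R2 105312291668557186697918027683670432318895095400549111254310977536) 105312291668557186697918027683670432318895095400549111254310977536 := T1s_c2i.gen
theorem fx343 : C2.gen R2 105312291668557186697918027683670432318895095400549111254310977536 ≤ stabilizer _ pt316 := Act.fix_sound T1s_c2i.top pt316r chk342
theorem cov350 : Cov (C2.gen R2 171132473961405428384116794985964452518204530025892305788255338496) (C2.wds R2 [0]) pt316 6 := Act.cov_of_seen (Act.pieces_sound T1s_c1m T1s_c1m.top pt316r chk348) chk349
theorem T1s_c3i : C2.Mem R2 (C2.gen R2 105312291668557186697918027683670432318895095400549111254310977536) 0 := T1s_c2m.sub chk351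
theorem T1s_c3m : C2.Mem R2 (C2.gen R2 0) 0 := T1s_c3i.gen
theorem fx353 : C2.gen R2 0 ≤ stabilizer _ pt317 := Act.fix_sound T1s_c3i.top pt317r chk352
theorem cov360 : Cov (C2.gen R2 105312291668557186697918027683670432318895095400549111254310977536) (C2.wds R2 [0]) pt317 2 := Act.cov_of_seen (Act.pieces_sound T1s_c2m T1s_c2m.top pt317r chk358) chk359
theorem T1s_lb4 : 1 ≤ Nat.card (C2.gen R2 0) := Nat.card_pos
theorem T1s_lo3 : 2 * Nat.card (C2.gen R2 0) ≤ Nat.card (C2.gen R2 105312291668557186697918027683670432318895095400549111254310977536) := cov360.low le_rfl (GC.wds_zero _) T1s_c3i.gen_le fx353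
theorem T1s_lb3 : 2 ≤ Nat.card (C2.gen R2 105312291668557186697918027683670432318895095400549111254310977536) := low_step T1s_lo3 T1s_lb4 (by decide +kernel)
theorem T1s_lo2 : 6 * Nat.card (C2.gen R2 105312291668557186697918027683670432318895095400549111254310977536) ≤ Nat.card (C2.gen R2 171132473961405428384116794985964452518204530025892305788255338496) := cov350.low le_rfl (GC.wds_zero _) T1s_c2i.gen_le fx343
theorem T1s_lb2 : 12 ≤ Nat.card (C2.gen R2 171132473961405428384116794985964452518204530025892305788255338496) := low_step T1s_lo2 T1s_lb3 (by decide +kernel)
theorem T1s_lo1 : 16 * Nat.card (C2.gen R2 171132473961405428384116794985964452518204530025892305788255338496) ≤ Nat.card (C2.gen R2 204042565107829549227216178637111462617859247338563903055227518976) := cov340.low le_rfl (GC.wds_zero _) T1s_c1i.gen_le fx333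
theorem T1s_lb1 : 192 ≤ Nat.card (C2.gen R2 204042565107829549227216178637111462617859247338563903055227518976) := low_step T1s_lo1 T1s_lb2 (by decide +kernel)
theorem T1s_lo0 : 14 * Nat.card (C2.gen R2 204042565107829549227216178637111462617859247338563903055227518976) ≤ Nat.card (C2.gen R2 4936513671963618126464907547672051514948207596900739590045827074) := cov330.low le_rfl (GC.wds_zero _) T1s_c0i.gen_le fx323
theorem T1s_lb0 : 2688 ≤ Nat.card (C2.gen R2 4936513671963618126464907547672051514948207596900739590045827074) := low_step T1s_lo0 T1s_lb1 (by decide +kernel)
theorem T1_lb : 5376 ≤ Nat.card (CD.gen R 4936513671963618126464907547672051514948207596900739590045827074) := low_ker _ T1s_map (T1_m0.sub chk301).gen_le (gen_le_ker hf2 (T1_m0.sub chk301).top chk313) TZ_lb0 T1s_lb0 (by decide +kernel)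
theorem T2_in363 : CD.Mem R (CD.gen R 196606) 631873750011343120187508166102022593913370572403294667525865865216 := DD_s3_299.slp' chk362
theorem T2_m0 : CD.Mem R (CD.gen R 631873750011343120187508166102022593913370572403294667525865865216) 631873750011343120187508166102022593913370572403294667525865865216 := GC.Mem.gen T2_in363.top
theorem T2s_m0 : C2.Mem R2 (C2.gen R2 631873750011343120187508166102022593913370572403294667525865865216) 631873750011343120187508166102022593913370572403294667525865865216 := GC.Mem.gen (T2_m0.map hf2).top
theorem T2s_map : (C2.gen R2 631873750011343120187508166102022593913370572403294667525865865216) = (CD.gen R 631873750011343120187508166102022593913370572403294667525865865216).map (MonoidHom.snd _ _) := T2_m0.gen_map hf2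
theorem pt364e : ∃ x, B0.Rep pt364c x := act2_rep (n := 45) (d := 6) (by decide) (by decide) (c := 0x1) (by decide +kernel)
noncomputable def pt364 := Classical.choose pt364e
theorem pt364r : B0.Rep pt364c pt364 := Classical.choose_spec pt364e
theorem pt365e : ∃ x, B0.Rep pt365c x := act2_rep (n := 45) (d := 6) (by decide) (by decide) (c := 0xe) (by decide +kernel)
noncomputable def pt365 := Classical.choose pt365e
theorem pt365r : B0.Rep pt365c pt365 := Classical.choose_spec pt365e
theorem pt366e : ∃ x, B0.Rep pt366c x := act2_rep (n := 45) (d := 6) (by decide) (by decide) (c := 0x2) (by decide +kernel)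
noncomputable def pt366 := Classical.choose pt366e
theorem pt366r : B0.Rep pt366c pt366 := Classical.choose_spec pt366e
theorem T2s_s0_369 : C2.Mem R2 (C2.gen R2 631873750011343120187508166102022593913370572403294667525865865216) 6529362083450545575270917716387566803771495914834044897767280607232 := T2s_m0.slp' chk368
theorem T2s_c0i : C2.Mem R2 (C2.gen R2 631873750011343120187508166102022593913370572403294667525865865216) 5897488333439202455083409550285544209858125342430750230241414742016 := T2s_s0_369.sub chk370
theorem T2s_c0m : C2.Mem R2 (C2.gen R2 5897488333439202455083409550285544209858125342430750230241414742016) 5897488333439202455083409550285544209858125342430750230241414742016 := T2s_c0i.gen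
theorem fx372 : C2.gen R2 5897488333439202455083409550285544209858125342430750230241414742016 ≤ stabilizer _ pt364 := Act.fix_sound T2s_c0i.top pt364r chk371
theorem cov379 : Cov (C2.gen R2 631873750011343120187508166102022593913370572403294667525865865216) (C2.wds R2 [0]) pt364 3 := Act.cov_of_seen (Act.pieces_sound T2s_s0_369 T2s_s0_369.top pt364r chk377) chk378
theorem T2s_c1i : C2.Mem R2 (C2.gen R2 5897488333439202455083409550285544209858125342430750230241414742016) 1684996666696914987166688442938726917102321526408785780068975640576 := T2s_c0m.sub chk380
theorem T2s_c1m : C2.Mem R2 (C2.gen R2 1684996666696914987166688442938726917102321526408785780068975640576) 1684996666696914987166688442938726917102321526408785780068975640576 := T2s_c1i.gen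
theorem fx382 : C2.gen R2 1684996666696914987166688442938726917102321526408785780068975640576 ≤ stabilizer _ pt365 := Act.fix_sound T2s_c1i.top pt365r chk381
theorem cov389 : Cov (C2.gen R2 5897488333439202455083409550285544209858125342430750230241414742016) (C2.wds R2 [0]) pt365 14 := Act.cov_of_seen (Act.pieces_sound T2s_c0m T2s_c0m.top pt365r chk387) chk388
theorem T2s_c2i : C2.Mem R2 (C2.gen R2 1684996666696914987166688442938726917102321526408785780068975640576) 0 := T2s_c1m.sub chk390
theorem T2s_c2m : C2.Mem R2 (C2.gen R2 0) 0 := T2s_c2i.gen
theorem fx392 : C2.gen R2 0 ≤ stabilizer _ pt366 := Act.fix_sound T2s_c2i.top pt366r chk391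
theorem cov399 : Cov (C2.gen R2 1684996666696914987166688442938726917102321526408785780068975640576) (C2.wds R2 [0]) pt366 3 := Act.cov_of_seen (Act.pieces_sound T2s_c1m T2s_c1m.top pt366r chk397) chk398
theorem T2s_lb3 : 1 ≤ Nat.card (C2.gen R2 0) := Nat.card_pos
theorem T2s_lo2 : 3 * Nat.card (C2.gen R2 0) ≤ Nat.card (C2.gen R2 1684996666696914987166688442938726917102321526408785780068975640576) := cov399.low le_rfl (GC.wds_zero _) T2s_c2i.gen_le fx392
theorem T2s_lb2 : 3 ≤ Nat.card (C2.gen R2 1684996666696914987166688442938726917102321526408785780068975640576) := low_step T2s_lo2 T2s_lb3 (by decide +kernel)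
theorem T2s_lo1 : 14 * Nat.card (C2.gen R2 1684996666696914987166688442938726917102321526408785780068975640576) ≤ Nat.card (C2.gen R2 5897488333439202455083409550285544209858125342430750230241414742016) := cov389.low le_rfl (GC.wds_zero _) T2s_c1i.gen_le fx382
theorem T2s_lb1 : 42 ≤ Nat.card (C2.gen R2 5897488333439202455083409550285544209858125342430750230241414742016) := low_step T2s_lo1 T2s_lb2 (by decide +kernel)
theorem T2s_lo0 : 3 * Nat.card (C2.gen R2 5897488333439202455083409550285544209858125342430750230241414742016) ≤ Nat.card (C2.gen R2 631873750011343120187508166102022593913370572403294667525865865216) := cov379.low le_rfl (GC.wds_zero _) T2s_c0i.gen_le fx372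
theorem T2s_lb0 : 126 ≤ Nat.card (C2.gen R2 631873750011343120187508166102022593913370572403294667525865865216) := low_step T2s_lo0 T2s_lb1 (by decide +kernel)
theorem T2_lb : 126 ≤ Nat.card (CD.gen R 631873750011343120187508166102022593913370572403294667525865865216) := low_map _ T2s_map T2s_lb0
theorem T3_in402 : CD.Mem R (CD.gen R 196606) 20219960000362979846000261315264723005227858316905429360827707686912 := DD_s3_299.slp' chk401
theorem T3_m0 : CD.Mem R (CD.gen R 20219960000362979846000261315264723005227858316905429360827707686912) 20219960000362979846000261315264723005227858316905429360827707686912 := GC.Mem.gen T3_in402.top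
theorem T3s_m0 : C2.Mem R2 (C2.gen R2 20219960000362979846000261315264723005227858316905429360827707686912) 20219960000362979846000261315264723005227858316905429360827707686912 := GC.Mem.gen (T3_m0.map hf2).top
theorem T3s_map : (C2.gen R2 20219960000362979846000261315264723005227858316905429360827707686912) = (CD.gen R 20219960000362979846000261315264723005227858316905429360827707686912).map (MonoidHom.snd _ _) := T3_m0.gen_map hf2
theorem pt403e : ∃ x, B0.Rep pt403c x := act2_rep (n := 45) (d := 6) (by decide) (by decide) (c := 0x8) (by decide +kernel)
noncomputable def pt403 := Classical.choose pt403e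
theorem pt403r : B0.Rep pt403c pt403 := Classical.choose_spec pt403e
theorem pt404e : ∃ x, B0.Rep pt404c x := act2_rep (n := 45) (d := 6) (by decide) (by decide) (c := 0x14) (by decide +kernel)
noncomputable def pt404 := Classical.choose pt404e
theorem pt404r : B0.Rep pt404c pt404 := Classical.choose_spec pt404e
theorem pt405e : ∃ x, B0.Rep pt405c x := act2_rep (n := 45) (d := 6) (by decide) (by decide) (c := 0x2) (by decide +kernel)
noncomputable def pt405 := Classical.choose pt405e
theorem pt405r : B0.Rep pt405c pt405 := Classical.choose_spec pt405e
theorem T3s_s0_408 : C2.Mem R2 (C2.gen R2 20219960000362979846000261315264723005227858316905429360827707686912) 208939586670417458408669366924402137720687869274689436728552979431424 := T3s_m0.slp' chk407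
theorem T3s_c0i : C2.Mem R2 (C2.gen R2 20219960000362979846000261315264723005227858316905429360827707686912) 188719626670054478562669105609137414715460010957784007367725271744512 := T3s_s0_408.sub chk409
theorem T3s_c0m : C2.Mem R2 (C2.gen R2 188719626670054478562669105609137414715460010957784007367725271744512) 188719626670054478562669105609137414715460010957784007367725271744512 := T3s_c0i.gen
theorem fx411 : C2.gen R2 188719626670054478562669105609137414715460010957784007367725271744512 ≤ stabilizer _ pt403 := Act.fix_sound T3s_c0i.top pt403r chk410
theorem cov418 : Cov (C2.gen R2 20219960000362979846000261315264723005227858316905429360827707686912) (C2.wds R2 [0]) pt403 2 := Act.cov_of_seen (Act.pieces_sound T3s_s0_408 T3s_s0_408.top pt403r chk416) chk417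
theorem T3s_c1i : C2.Mem R2 (C2.gen R2 188719626670054478562669105609137414715460010957784007367725271744512) 53919893334301279589334030174039261347274288845081144962207220498432 := T3s_c0m.sub chk419
theorem T3s_c1m : C2.Mem R2 (C2.gen R2 53919893334301279589334030174039261347274288845081144962207220498432) 53919893334301279589334030174039261347274288845081144962207220498432 := T3s_c1i.gen
theorem fx421 : C2.gen R2 53919893334301279589334030174039261347274288845081144962207220498432 ≤ stabilizer _ pt404 := Act.fix_sound T3s_c1i.top pt404r chk420
theorem cov428 : Cov (C2.gen R2 188719626670054478562669105609137414715460010957784007367725271744512) (C2.wds R2 [0]) pt404 8 := Act.cov_of_seen (Act.pieces_sound T3s_c0m T3s_c0m.top pt404r chk426) chk427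
theorem T3s_c2i : C2.Mem R2 (C2.gen R2 53919893334301279589334030174039261347274288845081144962207220498432) 0 := T3s_c1m.sub chk429
theorem T3s_c2m : C2.Mem R2 (C2.gen R2 0) 0 := T3s_c2i.gen
theorem fx431 : C2.gen R2 0 ≤ stabilizer _ pt405 := Act.fix_sound T3s_c2i.top pt405r chk430
theorem cov438 : Cov (C2.gen R2 53919893334301279589334030174039261347274288845081144962207220498432) (C2.wds R2 [0]) pt405 3 := Act.cov_of_seen (Act.pieces_sound T3s_c1m T3s_c1m.top pt405r chk436) chk437
theorem T3s_lb3 : 1 ≤ Nat.card (C2.gen R2 0) := Nat.card_pos
theorem T3s_lo2 : 3 * Nat.card (C2.gen R2 0) ≤ Nat.card (C2.gen R2 53919893334301279589334030174039261347274288845081144962207220498432) := cov438.low le_rfl (GC.wds_zero _) T3s_c2i.gen_le fx431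
theorem T3s_lb2 : 3 ≤ Nat.card (C2.gen R2 53919893334301279589334030174039261347274288845081144962207220498432) := low_step T3s_lo2 T3s_lb3 (by decide +kernel)
theorem T3s_lo1 : 8 * Nat.card (C2.gen R2 53919893334301279589334030174039261347274288845081144962207220498432) ≤ Nat.card (C2.gen R2 188719626670054478562669105609137414715460010957784007367725271744512) := cov428.low le_rfl (GC.wds_zero _) T3s_c1i.gen_le fx421
theorem T3s_lb1 : 24 ≤ Nat.card (C2.gen R2 188719626670054478562669105609137414715460010957784007367725271744512) := low_step T3s_lo1 T3s_lb2 (by decide +kernel)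
theorem T3s_lo0 : 2 * Nat.card (C2.gen R2 188719626670054478562669105609137414715460010957784007367725271744512) ≤ Nat.card (C2.gen R2 20219960000362979846000261315264723005227858316905429360827707686912) := cov418.low le_rfl (GC.wds_zero _) T3s_c0i.gen_le fx411
theorem T3s_lb0 : 48 ≤ Nat.card (C2.gen R2 20219960000362979846000261315264723005227858316905429360827707686912) := low_step T3s_lo0 T3s_lb1 (by decide +kernel)
theorem T3_lb : 48 ≤ Nat.card (CD.gen R 20219960000362979846000261315264723005227858316905429360827707686912) := low_map _ T3s_map T3s_lb0
theorem T4_in441 : CD.Mem R (CD.gen R 196606) 215679573337205118357336120696157045389097155380324579848828881993728 := DD_s3_299.slp' chk440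
theorem T4_m0 : CD.Mem R (CD.gen R 215679573337205118357336120696157045389097155380324579848828881993728) 215679573337205118357336120696157045389097155380324579848828881993728 := GC.Mem.gen T4_in441.top
theorem T4s_m0 : C2.Mem R2 (C2.gen R2 215679573337205118357336120696157045389097155380324579848828881993728) 215679573337205118357336120696157045389097155380324579848828881993728 := GC.Mem.gen (T4_m0.map hf2).top
theorem T4s_map : (C2.gen R2 215679573337205118357336120696157045389097155380324579848828881993728) = (CD.gen R 215679573337205118357336120696157045389097155380324579848828881993728).map (MonoidHom.snd _ _) := T4_m0.gen_map hf2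
theorem pt442e : ∃ x, B0.Rep pt442c x := act2_rep (n := 45) (d := 6) (by decide) (by decide) (c := 0x1) (by decide +kernel)
noncomputable def pt442 := Classical.choose pt442e
theorem pt442r : B0.Rep pt442c pt442 := Classical.choose_spec pt442e
theorem T4s_c0i : C2.Mem R2 (C2.gen R2 215679573337205118357336120696157045389097155380324579848828881993728) 0 := T4s_m0.sub chk443
theorem T4s_c0m : C2.Mem R2 (C2.gen R2 0) 0 := T4s_c0i.gen
theorem fx445 : C2.gen R2 0 ≤ stabilizer _ pt442 := Act.fix_sound T4s_c0i.top pt442r chk444
theorem cov452 : Cov (C2.gen R2 215679573337205118357336120696157045389097155380324579848828881993728) (C2.wds R2 [0]) pt442 5 := Act.cov_of_seen (Act.pieces_sound T4s_m0 T4s_m0.top pt442r chk450) chk451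
theorem T4s_lb1 : 1 ≤ Nat.card (C2.gen R2 0) := Nat.card_pos
theorem T4s_lo0 : 5 * Nat.card (C2.gen R2 0) ≤ Nat.card (C2.gen R2 215679573337205118357336120696157045389097155380324579848828881993728) := cov452.low le_rfl (GC.wds_zero _) T4s_c0i.gen_le fx445
theorem T4s_lb0 : 5 ≤ Nat.card (C2.gen R2 215679573337205118357336120696157045389097155380324579848828881993728) := low_step T4s_lo0 T4s_lb1 (by decide +kernel)
theorem T4_lb : 5 ≤ Nat.card (CD.gen R 215679573337205118357336120696157045389097155380324579848828881993728) := low_map _ T4s_map T4s_lb0
theorem T5_in455 : CD.Mem R (CD.gen R 196606) 1294077440023230710144016724176942272334582932281947479092973291962368 := DD_s3_299.slp' chk454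
theorem T5_m0 : CD.Mem R (CD.gen R 1294077440023230710144016724176942272334582932281947479092973291962368) 1294077440023230710144016724176942272334582932281947479092973291962368 := GC.Mem.gen T5_in455.top
theorem T5s_m0 : C2.Mem R2 (C2.gen R2 1294077440023230710144016724176942272334582932281947479092973291962368) 1294077440023230710144016724176942272334582932281947479092973291962368 := GC.Mem.gen (T5_m0.map hf2).top
theorem T5s_map : (C2.gen R2 1294077440023230710144016724176942272334582932281947479092973291962368) = (CD.gen R 1294077440023230710144016724176942272334582932281947479092973291962368).map (MonoidHom.snd _ _) := T5_m0.gen_map hf2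
theorem pt456e : ∃ x, B0.Rep pt456c x := act2_rep (n := 45) (d := 6) (by decide) (by decide) (c := 0x1) (by decide +kernel)
noncomputable def pt456 := Classical.choose pt456e
theorem pt456r : B0.Rep pt456c pt456 := Classical.choose_spec pt456e
theorem pt457e : ∃ x, B0.Rep pt457c x := act2_rep (n := 45) (d := 6) (by decide) (by decide) (c := 0x2) (by decide +kernel)
noncomputable def pt457 := Classical.choose pt457e
theorem pt457r : B0.Rep pt457c pt457 := Classical.choose_spec pt457e
theorem T5s_s0_460 : C2.Mem R2 (C2.gen R2 1294077440023230710144016724176942272334582932281947479092973291962368) 3019514026720871657002705689746198635447360175324544117883604347912192 := T5s_m0.slp' chk459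
theorem T5s_c0i : C2.Mem R2 (C2.gen R2 1294077440023230710144016724176942272334582932281947479092973291962368) 1725436586697640946858688965569256363112777243042596638790631055949824 := T5s_s0_460.sub chk461
theorem T5s_c0m : C2.Mem R2 (C2.gen R2 1725436586697640946858688965569256363112777243042596638790631055949824) 1725436586697640946858688965569256363112777243042596638790631055949824 := T5s_c0i.gen
theorem fx463 : C2.gen R2 1725436586697640946858688965569256363112777243042596638790631055949824 ≤ stabilizer _ pt456 := Act.fix_sound T5s_c0i.top pt456r chk462
theorem cov470 : Cov (C2.gen R2 1294077440023230710144016724176942272334582932281947479092973291962368) (C2.wds R2 [0]) pt456 3 := Act.cov_of_seen (Act.pieces_sound T5s_s0_460 T5s_s0_460.top pt456r chk468) chk469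
theorem T5s_c1i : C2.Mem R2 (C2.gen R2 1725436586697640946858688965569256363112777243042596638790631055949824) 0 := T5s_c0m.sub chk471
theorem T5s_c1m : C2.Mem R2 (C2.gen R2 0) 0 := T5s_c1i.gen
theorem fx473 : C2.gen R2 0 ≤ stabilizer _ pt457 := Act.fix_sound T5s_c1i.top pt457r chk472
theorem cov480 : Cov (C2.gen R2 1725436586697640946858688965569256363112777243042596638790631055949824) (C2.wds R2 [0]) pt457 3 := Act.cov_of_seen (Act.pieces_sound T5s_c0m T5s_c0m.top pt457r chk478) chk479
theorem T5s_lb2 : 1 ≤ Nat.card (C2.gen R2 0) := Nat.card_pos
theorem T5s_lo1 : 3 * Nat.card (C2.gen R2 0) ≤ Nat.card (C2.gen R2 1725436586697640946858688965569256363112777243042596638790631055949824) := cov480.low le_rfl (GC.wds_zero _) T5s_c1i.gen_le fx473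
theorem T5s_lb1 : 3 ≤ Nat.card (C2.gen R2 1725436586697640946858688965569256363112777243042596638790631055949824) := low_step T5s_lo1 T5s_lb2 (by decide +kernel)
theorem T5s_lo0 : 3 * Nat.card (C2.gen R2 1725436586697640946858688965569256363112777243042596638790631055949824) ≤ Nat.card (C2.gen R2 1294077440023230710144016724176942272334582932281947479092973291962368) := cov470.low le_rfl (GC.wds_zero _) T5s_c0i.gen_le fx463
theorem T5s_lb0 : 9 ≤ Nat.card (C2.gen R2 1294077440023230710144016724176942272334582932281947479092973291962368) := low_step T5s_lo0 T5s_lb1 (by decide +kernel)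
theorem T5_lb : 9 ≤ Nat.card (CD.gen R 1294077440023230710144016724176942272334582932281947479092973291962368) := low_map _ T5s_map T5s_lb0
theorem T6_in483 : CD.Mem R (CD.gen R 196606) 3450873173395281893717377931138512726225554486085193277581262111899648 := DD_s3_299.slp' chk482
theorem T6_m0 : CD.Mem R (CD.gen R 3450873173395281893717377931138512726225554486085193277581262111899648) 3450873173395281893717377931138512726225554486085193277581262111899648 := GC.Mem.gen T6_in483.top
theorem T6s_m0 : C2.Mem R2 (C2.gen R2 3450873173395281893717377931138512726225554486085193277581262111899648) 3450873173395281893717377931138512726225554486085193277581262111899648 := GC.Mem.gen (T6_m0.map hf2).top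
theorem T6s_map : (C2.gen R2 3450873173395281893717377931138512726225554486085193277581262111899648) = (CD.gen R 3450873173395281893717377931138512726225554486085193277581262111899648).map (MonoidHom.snd _ _) := T6_m0.gen_map hf2
theorem pt484e : ∃ x, B0.Rep pt484c x := act2_rep (n := 45) (d := 6) (by decide) (by decide) (c := 0x1) (by decide +kernel)
noncomputable def pt484 := Classical.choose pt484e
theorem pt484r : B0.Rep pt484c pt484 := Classical.choose_spec pt484e
theorem T6s_c0i : C2.Mem R2 (C2.gen R2 3450873173395281893717377931138512726225554486085193277581262111899648) 0 := T6s_m0.sub chk485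
theorem T6s_c0m : C2.Mem R2 (C2.gen R2 0) 0 := T6s_c0i.gen
theorem fx487 : C2.gen R2 0 ≤ stabilizer _ pt484 := Act.fix_sound T6s_c0i.top pt484r chk486
theorem cov494 : Cov (C2.gen R2 3450873173395281893717377931138512726225554486085193277581262111899648) (C2.wds R2 [0]) pt484 3 := Act.cov_of_seen (Act.pieces_sound T6s_m0 T6s_m0.top pt484r chk492) chk493
theorem T6s_lb1 : 1 ≤ Nat.card (C2.gen R2 0) := Nat.card_pos
theorem T6s_lo0 : 3 * Nat.card (C2.gen R2 0) ≤ Nat.card (C2.gen R2 3450873173395281893717377931138512726225554486085193277581262111899648) := cov494.low le_rfl (GC.wds_zero _) T6s_c0i.gen_le fx487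
theorem T6s_lb0 : 3 ≤ Nat.card (C2.gen R2 3450873173395281893717377931138512726225554486085193277581262111899648) := low_step T6s_lo0 T6s_lb1 (by decide +kernel)
theorem T6_lb : 3 ≤ Nat.card (CD.gen R 3450873173395281893717377931138512726225554486085193277581262111899648) := low_map _ T6s_map T6s_lb0
theorem T7_in497 : CD.Mem R (CD.gen R 196606) 6901746346790563787434755862277025452451108972170386555162524223799296 := DD_s3_299.slp' chk496
theorem T7_m0 : CD.Mem R (CD.gen R 6901746346790563787434755862277025452451108972170386555162524223799296) 6901746346790563787434755862277025452451108972170386555162524223799296 := GC.Mem.gen T7_in497.top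
theorem T7s_m0 : C2.Mem R2 (C2.gen R2 6901746346790563787434755862277025452451108972170386555162524223799296) 6901746346790563787434755862277025452451108972170386555162524223799296 := GC.Mem.gen (T7_m0.map hf2).top
theorem T7s_map : (C2.gen R2 6901746346790563787434755862277025452451108972170386555162524223799296) = (CD.gen R 6901746346790563787434755862277025452451108972170386555162524223799296).map (MonoidHom.snd _ _) := T7_m0.gen_map hf2
theorem pt498e : ∃ x, B0.Rep pt498c x := act2_rep (n := 45) (d := 6) (by decide) (by decide) (c := 0x1) (by decide +kernel)
noncomputable def pt498 := Classical.choose pt498e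
theorem pt498r : B0.Rep pt498c pt498 := Classical.choose_spec pt498e
theorem T7s_c0i : C2.Mem R2 (C2.gen R2 6901746346790563787434755862277025452451108972170386555162524223799296) 0 := T7s_m0.sub chk499
theorem T7s_c0m : C2.Mem R2 (C2.gen R2 0) 0 := T7s_c0i.gen
theorem fx501 : C2.gen R2 0 ≤ stabilizer _ pt498 := Act.fix_sound T7s_c0i.top pt498r chk500
theorem cov508 : Cov (C2.gen R2 6901746346790563787434755862277025452451108972170386555162524223799296) (C2.wds R2 [0]) pt498 5 := Act.cov_of_seen (Act.pieces_sound T7s_m0 T7s_m0.top pt498r chk506) chk507
theorem T7s_lb1 : 1 ≤ Nat.card (C2.gen R2 0) := Nat.card_pos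
theorem T7s_lo0 : 5 * Nat.card (C2.gen R2 0) ≤ Nat.card (C2.gen R2 6901746346790563787434755862277025452451108972170386555162524223799296) := cov508.low le_rfl (GC.wds_zero _) T7s_c0i.gen_le fx501
theorem T7s_lb0 : 5 ≤ Nat.card (C2.gen R2 6901746346790563787434755862277025452451108972170386555162524223799296) := low_step T7s_lo0 T7s_lb1 (by decide +kernel)
theorem T7_lb : 5 ≤ Nat.card (CD.gen R 6901746346790563787434755862277025452451108972170386555162524223799296) := low_map _ T7s_map T7s_lb0
theorem T8_in511 : CD.Mem R (CD.gen R 196606) 41410478080743382724608535173662152714706653833022319330975145342795776 := DD_s3_299.slp' chk510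
theorem T8_m0 : CD.Mem R (CD.gen R 41410478080743382724608535173662152714706653833022319330975145342795776) 41410478080743382724608535173662152714706653833022319330975145342795776 := GC.Mem.gen T8_in511.top
theorem T8s_m0 : C2.Mem R2 (C2.gen R2 41410478080743382724608535173662152714706653833022319330975145342795776) 41410478080743382724608535173662152714706653833022319330975145342795776 := GC.Mem.gen (T8_m0.map hf2).top
theorem T8s_map : (C2.gen R2 41410478080743382724608535173662152714706653833022319330975145342795776) = (CD.gen R 41410478080743382724608535173662152714706653833022319330975145342795776).map (MonoidHom.snd _ _) := T8_m0.gen_map hf2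
theorem pt512e : ∃ x, B0.Rep pt512c x := act2_rep (n := 45) (d := 6) (by decide) (by decide) (c := 0x1) (by decide +kernel)
noncomputable def pt512 := Classical.choose pt512e
theorem pt512r : B0.Rep pt512c pt512 := Classical.choose_spec pt512e
theorem pt513e : ∃ x, B0.Rep pt513c x := act2_rep (n := 45) (d := 6) (by decide) (by decide) (c := 0x2) (by decide +kernel)
noncomputable def pt513 := Classical.choose pt513e
theorem pt513r : B0.Rep pt513c pt513 := Classical.choose_spec pt513e
theorem T8s_s0_516 : C2.Mem R2 (C2.gen R2 41410478080743382724608535173662152714706653833022319330975145342795776) 96624448855067893024086582071878356334315525610385411772275339133190144 := T8s_m0.slp' chk515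
theorem T8s_c0i : C2.Mem R2 (C2.gen R2 41410478080743382724608535173662152714706653833022319330975145342795776) 55213970774324510299478046898216203619608871777363092441300193790394368 := T8s_s0_516.sub chk517
theorem T8s_c0m : C2.Mem R2 (C2.gen R2 55213970774324510299478046898216203619608871777363092441300193790394368) 55213970774324510299478046898216203619608871777363092441300193790394368 := T8s_c0i.gen
theorem fx519 : C2.gen R2 55213970774324510299478046898216203619608871777363092441300193790394368 ≤ stabilizer _ pt512 := Act.fix_sound T8s_c0i.top pt512r chk518
theorem cov526 : Cov (C2.gen R2 41410478080743382724608535173662152714706653833022319330975145342795776) (C2.wds R2 [0]) pt512 31 := Act.cov_of_seen (Act.pieces_sound T8s_s0_516 T8s_s0_516.top pt512r chk524) chk525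
theorem T8s_c1i : C2.Mem R2 (C2.gen R2 55213970774324510299478046898216203619608871777363092441300193790394368) 0 := T8s_c0m.sub chk527
theorem T8s_c1m : C2.Mem R2 (C2.gen R2 0) 0 := T8s_c1i.gen
theorem fx529 : C2.gen R2 0 ≤ stabilizer _ pt513 := Act.fix_sound T8s_c1i.top pt513r chk528
theorem cov536 : Cov (C2.gen R2 55213970774324510299478046898216203619608871777363092441300193790394368) (C2.wds R2 [0]) pt513 5 := Act.cov_of_seen (Act.pieces_sound T8s_c0m T8s_c0m.top pt513r chk534) chk535
theorem T8s_lb2 : 1 ≤ Nat.card (C2.gen R2 0) := Nat.card_pos
theorem T8s_lo1 : 5 * Nat.card (C2.gen R2 0) ≤ Nat.card (C2.gen R2 55213970774324510299478046898216203619608871777363092441300193790394368) := cov536.low le_rfl (GC.wds_zero _) T8s_c1i.gen_le fx529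
theorem T8s_lb1 : 5 ≤ Nat.card (C2.gen R2 55213970774324510299478046898216203619608871777363092441300193790394368) := low_step T8s_lo1 T8s_lb2 (by decide +kernel)
theorem T8s_lo0 : 31 * Nat.card (C2.gen R2 55213970774324510299478046898216203619608871777363092441300193790394368) ≤ Nat.card (C2.gen R2 41410478080743382724608535173662152714706653833022319330975145342795776) := cov526.low le_rfl (GC.wds_zero _) T8s_c0i.gen_le fx519
theorem T8s_lb0 : 155 ≤ Nat.card (C2.gen R2 41410478080743382724608535173662152714706653833022319330975145342795776) := low_step T8s_lo0 T8s_lb1 (by decide +kernel)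
theorem T8_lb : 155 ≤ Nat.card (CD.gen R 41410478080743382724608535173662152714706653833022319330975145342795776) := low_map _ T8s_map T8s_lb0
theorem T9_in539 : CD.Mem R (CD.gen R 196606) 331283824645947061796868281389297221717653230664178554647801162742366208 := DD_s3_299.slp' chk538
theorem T9_m0 : CD.Mem R (CD.gen R 331283824645947061796868281389297221717653230664178554647801162742366208) 331283824645947061796868281389297221717653230664178554647801162742366208 := GC.Mem.gen T9_in539.top
theorem T9s_m0 : C2.Mem R2 (C2.gen R2 331283824645947061796868281389297221717653230664178554647801162742366208) 331283824645947061796868281389297221717653230664178554647801162742366208 := GC.Mem.gen (T9_m0.map hf2).top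
theorem T9s_map : (C2.gen R2 331283824645947061796868281389297221717653230664178554647801162742366208) = (CD.gen R 331283824645947061796868281389297221717653230664178554647801162742366208).map (MonoidHom.snd _ _) := T9_m0.gen_map hf2
theorem pt540e : ∃ x, B0.Rep pt540c x := act2_rep (n := 45) (d := 6) (by decide) (by decide) (c := 0x1) (by decide +kernel)
noncomputable def pt540 := Classical.choose pt540e
theorem pt540r : B0.Rep pt540c pt540 := Classical.choose_spec pt540e
theorem pt541e : ∃ x, B0.Rep pt541c x := act2_rep (n := 45) (d := 6) (by decide) (by decide) (c := 0x2) (by decide +kernel)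
noncomputable def pt541 := Classical.choose pt541e
theorem pt541r : B0.Rep pt541c pt541 := Classical.choose_spec pt541e
theorem T9s_s0_544 : C2.Mem R2 (C2.gen R2 331283824645947061796868281389297221717653230664178554647801162742366208) 772995590840543144192692656575026850674524204883083294178202713065521152 := T9s_m0.slp' chk543
theorem T9s_c0i : C2.Mem R2 (C2.gen R2 331283824645947061796868281389297221717653230664178554647801162742366208) 441711766194596082395824375185729628956870974218904739530401550323154944 := T9s_s0_544.sub chk545
theorem T9s_c0m : C2.Mem R2 (C2.gen R2 441711766194596082395824375185729628956870974218904739530401550323154944) 441711766194596082395824375185729628956870974218904739530401550323154944 := T9s_c0i.gen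
theorem fx547 : C2.gen R2 441711766194596082395824375185729628956870974218904739530401550323154944 ≤ stabilizer _ pt540 := Act.fix_sound T9s_c0i.top pt540r chk546
theorem cov554 : Cov (C2.gen R2 331283824645947061796868281389297221717653230664178554647801162742366208) (C2.wds R2 [0]) pt540 31 := Act.cov_of_seen (Act.pieces_sound T9s_s0_544 T9s_s0_544.top pt540r chk552) chk553
theorem T9s_c1i : C2.Mem R2 (C2.gen R2 441711766194596082395824375185729628956870974218904739530401550323154944) 0 := T9s_c0m.sub chk555
theorem T9s_c1m : C2.Mem R2 (C2.gen R2 0) 0 := T9s_c1i.gen
theorem fx557 : C2.gen R2 0 ≤ stabilizer _ pt541 := Act.fix_sound T9s_c1i.top pt541r chk556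
theorem cov564 : Cov (C2.gen R2 441711766194596082395824375185729628956870974218904739530401550323154944) (C2.wds R2 [0]) pt541 5 := Act.cov_of_seen (Act.pieces_sound T9s_c0m T9s_c0m.top pt541r chk562) chk563
theorem T9s_lb2 : 1 ≤ Nat.card (C2.gen R2 0) := Nat.card_pos
theorem T9s_lo1 : 5 * Nat.card (C2.gen R2 0) ≤ Nat.card (C2.gen R2 441711766194596082395824375185729628956870974218904739530401550323154944) := cov564.low le_rfl (GC.wds_zero _) T9s_c1i.gen_le fx557
theorem T9s_lb1 : 5 ≤ Nat.card (C2.gen R2 441711766194596082395824375185729628956870974218904739530401550323154944) := low_step T9s_lo1 T9s_lb2 (by decide +kernel)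
theorem T9s_lo0 : 31 * Nat.card (C2.gen R2 441711766194596082395824375185729628956870974218904739530401550323154944) ≤ Nat.card (C2.gen R2 331283824645947061796868281389297221717653230664178554647801162742366208) := cov554.low le_rfl (GC.wds_zero _) T9s_c0i.gen_le fx547
theorem T9s_lb0 : 155 ≤ Nat.card (C2.gen R2 331283824645947061796868281389297221717653230664178554647801162742366208) := low_step T9s_lo0 T9s_lb1 (by decide +kernel)
theorem T9_lb : 155 ≤ Nat.card (CD.gen R 331283824645947061796868281389297221717653230664178554647801162742366208) := low_map _ T9s_map T9s_lb0
theorem D1c_m0 : C1.Mem R1 (C1.gen R1 196606) 196606 := GC.Mem.gen (DD_m0.map hf1).top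
theorem D1c_map : (C1.gen R1 196606) = (CD.gen R 196606).map (MonoidHom.fst _ _) := DD_m0.gen_map hf1
theorem D1c_m1 : C1.Mem R1 (C1.gen R1 196606) 4936551383613887754257934029875695629756598086833058284128108542 := by
  rw [D1c_map]; exact DD_s3_299.map hf1
theorem D1c_ub : Nat.card (C1.gen R1 196606) ≤ 319979520 := up_map _ D1c_map DD_ub
theorem G_s3_567 : C1.Mem R1 (C1.gen R1 6277101735386680763835789423207666416102355444464034709502) 1642334669984693076077675576365735502252498051933777435794866174 := G_m3.slp' chk566
theorem G_m5 : C1.Mem R1 (C1.gen R1 6277101735386680763835789423207666416102355444464034709502) 6578848341948311202542583124037787017200705648834517025840693246 := G_s3_567.lor' (D1c_m1.mono (G_s3_567.sub chk568).gen_le) chk569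
theorem pt570e : ∃ x, D0.Rep pt570c x := via_rep hf2 B0 (act2_rep (n := 45) (d := 6) (by decide) (by decide) (c := 0x40) (by decide +kernel))
noncomputable def pt570 := Classical.choose pt570e
theorem pt570r : D0.Rep pt570c pt570 := Classical.choose_spec pt570e
theorem G_I : C1.Mem R1 (C1.gen R1 6277101735386680763835789423207666416102355444464034709502) 1642296958334423448284649094162091387444107562001458741712519168 := G_m5.sub chk571
theorem KDr_m0 : C1.Mem R1 (C1.gen R1 37662610412320084583014736539245998496614132666784207078398) 37662610412320084583014736539245998496614132666784207078398 := GC.Mem.gen (KD_m0.map hf1).top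
theorem KDr_map : (C1.gen R1 37662610412320084583014736539245998496614132666784207078398) = (CD.gen R 37662610412320084583014736539245998496614132666784207078398).map (MonoidHom.fst _ _) := KD_m0.gen_map hf1
theorem cj575 : band (conjB P.ops R1 4936551383613887754257934029875695629756598086833058284128108542 192 (l572)) (subM 37662610412320084583014736539245998496614132666784207078398 (insL (l572) 0)) = true := band_intro chk573 chk574
theorem fx577 : CD.gen R 37662610412320084583014736539245998496614132666784207078398 ≤ stabilizer _ pt570 := Act.fix_sound (DD_s2_242.sub chk243).top pt570r chk576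
theorem G_Kc : ∀ κ ∈ (C1.gen R1 37662610412320084583014736539245998496614132666784207078398), (C1.el (R1 192))⁻¹ * κ * C1.el (R1 192) ∈ (C1.gen R1 196606) := D1c_m1.conjB (G_m5.get (i := 192) (by decide +kernel)).top (KD_m0.map hf1).top cj575
theorem cj581 : band (conjA P.ops R1 4936551383613887754257934029875695629756598086833058284128108542 192 (l578)) (subM 37662610412320084583014736539245998496614132666784207078398 (insL (l578) 0)) = true := band_intro chk579 chk580
theorem G_T0c : ∀ τ ∈ (C1.gen R1 37662610412320084583014736539245998496614132666784207078398), C1.el (R1 192) * τ * (C1.el (R1 192))⁻¹ ∈ (C1.gen R1 196606) := D1c_m1.conjA (G_I.get (i := 192) (by decide +kernel)).top (KD_m0.map hf1).top cj581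
theorem cov590 : Cov (CD.gen R 37662610412320084583014736539245998496614132666784207078398) (CD.wds R (List.map Prod.fst (l582))) pt570 248 := Act.cov_of_seen (Act.pieces_sound KD_s0_246 DD_s3_299.top pt570r chk588) chk589
theorem G_T0d : Dec (C1.gen R1 196606) (C1.gen R1 37662610412320084583014736539245998496614132666784207078398) (C1.wds R1 (List.map Prod.fst (l582))) (C1.gen R1 37662610412320084583014736539245998496614132666784207078398) := (GC.dec_map hf1 vD (DD_s2_242.sub chk243).top (DD_s2_242.sub chk243).top DD_s3_299.top chk591 (cov590.dec (DD_s2_242.sub chk243).gen_le (GC.wds_sub DD_s3_299 chk591) (DD_s2_242.sub chk243).gen_le fx577 (up_low DD_ub KD_lb (by decide +kernel))))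
theorem G_T0p : ∀ x ∈ DC1 (C1.gen R1 196606) (C1.el (R1 192)), x * C1.el (R1 192) ∈ DCs (C1.gen R1 196606) (C1.els R1 1642296958334423448284649094162091387444107562001458741712519168) := GC.dc_piece' G_T0d G_T0c G_Kc (D1c_m1.dcRel G_I.top (G_I.get (i := 192) (by decide +kernel)).top (G_m5.get (i := 192) (by decide +kernel)).top chk583)
theorem G_T0u : Nat.card (CD.gen R 196606) ≤ 248 * Nat.card (CD.gen R 37662610412320084583014736539245998496614132666784207078398) := up_low DD_ub KD_lb (by decide +kernel)
theorem G_T0n : (DC1 (C1.gen R1 196606) (C1.el (R1 192))).ncard ≤ Nat.card (C1.gen R1 196606) * 248 := ncard_DC1_map _ D1c_map KDr_map (DD_s2_242.sub chk243).gen_le G_T0c G_T0u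
theorem T1r_m0 : C1.Mem R1 (C1.gen R1 4936513671963618126464907547672051514948207596900739590045827074) 4936513671963618126464907547672051514948207596900739590045827074 := GC.Mem.gen (T1_m0.map hf1).top
theorem T1r_map : (C1.gen R1 4936513671963618126464907547672051514948207596900739590045827074) = (CD.gen R 4936513671963618126464907547672051514948207596900739590045827074).map (MonoidHom.fst _ _) := T1_m0.gen_map hf1
theorem cj595 : band (conjA P.ops R1 4936551383613887754257934029875695629756598086833058284128108542 201 (l592)) (subM 4936513671963618126464907547672051514948207596900739590045827074 (insL (l592) 0)) = true := band_intro chk593 chk594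
theorem G_T1c : ∀ τ ∈ (C1.gen R1 4936513671963618126464907547672051514948207596900739590045827074), C1.el (R1 201) * τ * (C1.el (R1 201))⁻¹ ∈ (C1.gen R1 196606) := D1c_m1.conjA (G_I.get (i := 201) (by decide +kernel)).top (T1_m0.map hf1).top cj595
theorem cov604 : Cov (CD.gen R 4936513671963618126464907547672051514948207596900739590045827074) (CD.wds R (List.map Prod.fst (l596))) pt570 248 := Act.cov_of_seen (Act.pieces_sound T1_m0 DD_s3_299.top pt570r chk602) chk603
theorem G_T1d : Dec (C1.gen R1 196606) (C1.gen R1 4936513671963618126464907547672051514948207596900739590045827074) (C1.wds R1 (List.map Prod.fst (l596))) (C1.gen R1 37662610412320084583014736539245998496614132666784207078398) := (GC.dec_map hf1 vD (DD_s3_299.sub chk300).top (DD_s2_242.sub chk243).top DD_s3_299.top chk605 (cov604.dec (DD_s3_299.sub chk300).gen_le (GC.wds_sub DD_s3_299 chk605) (DD_s2_242.sub chk243).gen_le fx577 (up_low DD_ub KD_lb (by decide +kernel))))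
theorem G_T1p : ∀ x ∈ DC1 (C1.gen R1 196606) (C1.el (R1 201)), x * C1.el (R1 192) ∈ DCs (C1.gen R1 196606) (C1.els R1 1642296958334423448284649094162091387444107562001458741712519168) := GC.dc_piece' G_T1d G_T1c G_Kc (D1c_m1.dcRel G_I.top (G_I.get (i := 201) (by decide +kernel)).top (G_m5.get (i := 192) (by decide +kernel)).top chk597)
theorem G_T1u : Nat.card (CD.gen R 196606) ≤ 59520 * Nat.card (CD.gen R 4936513671963618126464907547672051514948207596900739590045827074) := up_low DD_ub T1_lb (by decide +kernel)
theorem G_T1n : (DC1 (C1.gen R1 196606) (C1.el (R1 201))).ncard ≤ Nat.card (C1.gen R1 196606) * 59520 := ncard_DC1_map _ D1c_map T1r_map (DD_s3_299.sub chk300).gen_le G_T1c G_T1u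
theorem T2r_m0 : C1.Mem R1 (C1.gen R1 631873750011343120187508166102022593913370572403294667525865865216) 631873750011343120187508166102022593913370572403294667525865865216 := GC.Mem.gen (T2_m0.map hf1).top
theorem T2r_map : (C1.gen R1 631873750011343120187508166102022593913370572403294667525865865216) = (CD.gen R 631873750011343120187508166102022593913370572403294667525865865216).map (MonoidHom.fst _ _) := T2_m0.gen_map hf1
theorem cj609 : band (conjA P.ops R1 4936551383613887754257934029875695629756598086833058284128108542 202 (l606)) (subM 631873750011343120187508166102022593913370572403294667525865865216 (insL (l606) 0)) = true := band_intro chk607 chk608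
theorem G_T2c : ∀ τ ∈ (C1.gen R1 631873750011343120187508166102022593913370572403294667525865865216), C1.el (R1 202) * τ * (C1.el (R1 202))⁻¹ ∈ (C1.gen R1 196606) := D1c_m1.conjA (G_I.get (i := 202) (by decide +kernel)).top (T2_m0.map hf1).top cj609
theorem cov620 : Cov (CD.gen R 631873750011343120187508166102022593913370572403294667525865865216) (CD.wds R (List.map Prod.fst (l610 ++ (l612)))) pt570 248 := Act.cov_of_seen (Act.pieces_sound T2_m0 DD_s3_299.top pt570r chk618) chk619
theorem G_T2d : Dec (C1.gen R1 196606) (C1.gen R1 631873750011343120187508166102022593913370572403294667525865865216) (C1.wds R1 (List.map Prod.fst (l610 ++ (l612)))) (C1.gen R1 37662610412320084583014736539245998496614132666784207078398) := (GC.dec_map hf1 vD T2_in363.top (DD_s2_242.sub chk243).top DD_s3_299.top chk621 (cov620.dec T2_in363.gen_le (GC.wds_sub DD_s3_299 chk621) (DD_s2_242.sub chk243).gen_le fx577 (up_low DD_ub KD_lb (by decide +kernel))))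
theorem G_T2p : ∀ x ∈ DC1 (C1.gen R1 196606) (C1.el (R1 202)), x * C1.el (R1 192) ∈ DCs (C1.gen R1 196606) (C1.els R1 1642296958334423448284649094162091387444107562001458741712519168) := GC.dc_piece' G_T2d G_T2c G_Kc (forall_app (D1c_m1.dcRel G_I.top (G_I.get (i := 202) (by decide +kernel)).top (G_m5.get (i := 192) (by decide +kernel)).top chk611) (D1c_m1.dcRel G_I.top (G_I.get (i := 202) (by decide +kernel)).top (G_m5.get (i := 192) (by decide +kernel)).top chk613))
theorem G_T2u : Nat.card (CD.gen R 196606) ≤ 2539520 * Nat.card (CD.gen R 631873750011343120187508166102022593913370572403294667525865865216) := up_low DD_ub T2_lb (by decide +kernel)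
theorem G_T2n : (DC1 (C1.gen R1 196606) (C1.el (R1 202))).ncard ≤ Nat.card (C1.gen R1 196606) * 2539520 := ncard_DC1_map _ D1c_map T2r_map T2_in363.gen_le G_T2c G_T2u
theorem T3r_m0 : C1.Mem R1 (C1.gen R1 20219960000362979846000261315264723005227858316905429360827707686912) 20219960000362979846000261315264723005227858316905429360827707686912 := GC.Mem.gen (T3_m0.map hf1).top
theorem T3r_map : (C1.gen R1 20219960000362979846000261315264723005227858316905429360827707686912) = (CD.gen R 20219960000362979846000261315264723005227858316905429360827707686912).map (MonoidHom.fst _ _) := T3_m0.gen_map hf1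
theorem cj625 : band (conjA P.ops R1 4936551383613887754257934029875695629756598086833058284128108542 203 (l622)) (subM 20219960000362979846000261315264723005227858316905429360827707686912 (insL (l622) 0)) = true := band_intro chk623 chk624
theorem G_T3c : ∀ τ ∈ (C1.gen R1 20219960000362979846000261315264723005227858316905429360827707686912), C1.el (R1 203) * τ * (C1.el (R1 203))⁻¹ ∈ (C1.gen R1 196606) := D1c_m1.conjA (G_I.get (i := 203) (by decide +kernel)).top (T3_m0.map hf1).top cj625
theorem cov638 : Cov (CD.gen R 20219960000362979846000261315264723005227858316905429360827707686912) (CD.wds R (List.map Prod.fst (l626 ++ (l628 ++ (l630))))) pt570 248 := Act.cov_of_seen (Act.pieces_sound T3_m0 DD_s3_299.top pt570r chk636) chk637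
theorem G_T3d : Dec (C1.gen R1 196606) (C1.gen R1 20219960000362979846000261315264723005227858316905429360827707686912) (C1.wds R1 (List.map Prod.fst (l626 ++ (l628 ++ (l630))))) (C1.gen R1 37662610412320084583014736539245998496614132666784207078398) := (GC.dec_map hf1 vD T3_in402.top (DD_s2_242.sub chk243).top DD_s3_299.top chk639 (cov638.dec T3_in402.gen_le (GC.wds_sub DD_s3_299 chk639) (DD_s2_242.sub chk243).gen_le fx577 (up_low DD_ub KD_lb (by decide +kernel))))
theorem G_T3p : ∀ x ∈ DC1 (C1.gen R1 196606) (C1.el (R1 203)), x * C1.el (R1 192) ∈ DCs (C1.gen R1 196606) (C1.els R1 1642296958334423448284649094162091387444107562001458741712519168) := GC.dc_piece' G_T3d G_T3c G_Kc (forall_app (D1c_m1.dcRel G_I.top (G_I.get (i := 203) (by decide +kernel)).top (G_m5.get (i := 192) (by decide +kernel)).top chk627) (forall_app (D1c_m1.dcRel G_I.top (G_I.get (i := 203) (by decide +kernel)).top (G_m5.get (i := 192) (by decide +kernel)).top chk629) (D1c_m1.dcRel G_I.top (G_I.get (i := 203) (by decide +kernel)).top (G_m5.get (i := 192) (by decide +kernel)).top chk631)))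
theorem G_T3u : Nat.card (CD.gen R 196606) ≤ 6666240 * Nat.card (CD.gen R 20219960000362979846000261315264723005227858316905429360827707686912) := up_low DD_ub T3_lb (by decide +kernel)
theorem G_T3n : (DC1 (C1.gen R1 196606) (C1.el (R1 203))).ncard ≤ Nat.card (C1.gen R1 196606) * 6666240 := ncard_DC1_map _ D1c_map T3r_map T3_in402.gen_le G_T3c G_T3u
theorem T4r_m0 : C1.Mem R1 (C1.gen R1 215679573337205118357336120696157045389097155380324579848828881993728) 215679573337205118357336120696157045389097155380324579848828881993728 := GC.Mem.gen (T4_m0.map hf1).top
theorem T4r_map : (C1.gen R1 215679573337205118357336120696157045389097155380324579848828881993728) = (CD.gen R 215679573337205118357336120696157045389097155380324579848828881993728).map (MonoidHom.fst _ _) := T4_m0.gen_map hf1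
theorem cj643 : band (conjA P.ops R1 4936551383613887754257934029875695629756598086833058284128108542 204 (l640)) (subM 215679573337205118357336120696157045389097155380324579848828881993728 (insL (l640) 0)) = true := band_intro chk641 chk642
theorem G_T4c : ∀ τ ∈ (C1.gen R1 215679573337205118357336120696157045389097155380324579848828881993728), C1.el (R1 204) * τ * (C1.el (R1 204))⁻¹ ∈ (C1.gen R1 196606) := D1c_m1.conjA (G_I.get (i := 204) (by decide +kernel)).top (T4_m0.map hf1).top cj643
theorem cov676 : Cov (CD.gen R 215679573337205118357336120696157045389097155380324579848828881993728) (CD.wds R (List.map Prod.fst (l644 ++ (l646 ++ (l648 ++ (l650 ++ (l652 ++ (l654 ++ (l656 ++ (l658 ++ (l660 ++ (l662 ++ (l664 ++ (l666 ++ (l668))))))))))))))) pt570 248 := Act.cov_of_seen (Act.pieces_sound T4_m0 DD_s3_299.top pt570r chk674) chk675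
theorem G_T4d : Dec (C1.gen R1 196606) (C1.gen R1 215679573337205118357336120696157045389097155380324579848828881993728) (C1.wds R1 (List.map Prod.fst (l644 ++ (l646 ++ (l648 ++ (l650 ++ (l652 ++ (l654 ++ (l656 ++ (l658 ++ (l660 ++ (l662 ++ (l664 ++ (l666 ++ (l668))))))))))))))) (C1.gen R1 37662610412320084583014736539245998496614132666784207078398) := (GC.dec_map hf1 vD T4_in441.top (DD_s2_242.sub chk243).top DD_s3_299.top chk677 (cov676.dec T4_in441.gen_le (GC.wds_sub DD_s3_299 chk677) (DD_s2_242.sub chk243).gen_le fx577 (up_low DD_ub KD_lb (by decide +kernel))))
theorem G_T4p : ∀ x ∈ DC1 (C1.gen R1 196606) (C1.el (R1 204)), x * C1.el (R1 192) ∈ DCs (C1.gen R1 196606) (C1.els R1 1642296958334423448284649094162091387444107562001458741712519168) := GC.dc_piece' G_T4d G_T4c G_Kc (forall_app (D1c_m1.dcRel G_I.top (G_I.get (i := 204) (by decide +kernel)).top (G_m5.get (i := 192) (by decide +kernel)).top chk645) (forall_app (D1c_m1.dcRel G_I.top (G_I.get (i := 204) (by decide +kernel)).top (G_m5.get (i := 192) (by decide +kernel)).top chk647) (forall_app (D1c_m1.dcRel G_I.top (G_I.get (i := 204) (by decide +kernel)).top (G_m5.get (i := 192) (by decide +kernel)).top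 chk649) (forall_app (D1c_m1.dcRel G_I.top (G_I.get (i := 204) (by decide +kernel)).top (G_m5.get (i := 192) (by decide +kernel)).top chk651) (forall_app (D1c_m1.dcRel G_I.top (G_I.get (i := 204) (by decide +kernel)).top (G_m5.get (i := 192) (by decide +kernel)).top chk653) (forall_app (D1c_m1.dcRel G_I.top (G_I.get (i := 204) (by decide +kernel)).top (G_m5.get (i := 192) (by decide +kernel)).top chk655) (forall_app (D1c_m1.dcRel G_I.top (G_I.get (i := 204) (by decide +kernel)).top (G_m5.get (i := 192) (by decide +kernel)).top chk657) (forall_app (D1c_m1.dcRel G_I.top (G_I.get (i := 204) (by decide +kernel)).top (G_m5.get (i := 192) (by decide +kernel)).top chk659) (forall_app (D1c_m1.dcRel G_I.top (G_I.get (i := 204) (by decide +kernel)).top (G_m5.get (i := 192) (by decide +kernel)).top chk661) (forall_app (D1c_m1.dcRel G_I.top (G_I.get (i := 204) (by decide +kernel)).top (G_m5.get (i := 192) (by decide +kernel)).top chk663) (forall_app (D1c_m1.dcRel G_I.top (G_I.get (i := 204) (by decide +kernel)).top (G_m5.get (i := 192) (by decide +kernel)).top chk665) (forall_app (D1c_m1.dcRel G_I.top (G_I.get (i := 204) (by decide +kernel)).top (G_m5.get (i :=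 192) (by decide +kernel)).top chk667) (D1c_m1.dcRel G_I.top (G_I.get (i := 204) (by decide +kernel)).top (G_m5.get (i := 192) (by decide +kernel)).top chk669)))))))))))))
theorem G_T4u : Nat.card (CD.gen R 196606) ≤ 63995904 * Nat.card (CD.gen R 215679573337205118357336120696157045389097155380324579848828881993728) := up_low DD_ub T4_lb (by decide +kernel)
theorem G_T4n : (DC1 (C1.gen R1 196606) (C1.el (R1 204))).ncard ≤ Nat.card (C1.gen R1 196606) * 63995904 := ncard_DC1_map _ D1c_map T4r_map T4_in441.gen_le G_T4c G_T4u
theorem T5r_m0 : C1.Mem R1 (C1.gen R1 1294077440023230710144016724176942272334582932281947479092973291962368) 1294077440023230710144016724176942272334582932281947479092973291962368 := GC.Mem.gen (T5_m0.map hf1).top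
theorem T5r_map : (C1.gen R1 1294077440023230710144016724176942272334582932281947479092973291962368) = (CD.gen R 1294077440023230710144016724176942272334582932281947479092973291962368).map (MonoidHom.fst _ _) := T5_m0.gen_map hf1
theorem cj681 : band (conjA P.ops R1 4936551383613887754257934029875695629756598086833058284128108542 205 (l678)) (subM 1294077440023230710144016724176942272334582932281947479092973291962368 (insL (l678) 0)) = true := band_intro chk679 chk680
theorem G_T5c : ∀ τ ∈ (C1.gen R1 1294077440023230710144016724176942272334582932281947479092973291962368), C1.el (R1 205) * τ * (C1.el (R1 205))⁻¹ ∈ (C1.gen R1 196606) := D1c_m1.conjA (G_I.get (i := 205) (by decide +kernel)).top (T5_m0.map hf1).top cj681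
theorem cov706 : Cov (CD.gen R 1294077440023230710144016724176942272334582932281947479092973291962368) (CD.wds R (List.map Prod.fst (l682 ++ (l684 ++ (l686 ++ (l688 ++ (l690 ++ (l692 ++ (l694 ++ (l696 ++ (l698))))))))))) pt570 248 := Act.cov_of_seen (Act.pieces_sound T5_m0 DD_s3_299.top pt570r chk704) chk705
theorem G_T5d : Dec (C1.gen R1 196606) (C1.gen R1 1294077440023230710144016724176942272334582932281947479092973291962368) (C1.wds R1 (List.map Prod.fst (l682 ++ (l684 ++ (l686 ++ (l688 ++ (l690 ++ (l692 ++ (l694 ++ (l696 ++ (l698))))))))))) (C1.gen R1 37662610412320084583014736539245998496614132666784207078398) := (GC.dec_map hf1 vD T5_in455.top (DD_s2_242.sub chk243).top DD_s3_299.top chk707 (cov706.dec T5_in455.gen_le (GC.wds_sub DD_s3_299 chk707) (DD_s2_242.sub chk243).gen_le fx577 (up_low DD_ub KD_lb (by decide +kernel))))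
theorem G_T5p : ∀ x ∈ DC1 (C1.gen R1 196606) (C1.el (R1 205)), x * C1.el (R1 192) ∈ DCs (C1.gen R1 196606) (C1.els R1 1642296958334423448284649094162091387444107562001458741712519168) := GC.dc_piece' G_T5d G_T5c G_Kc (forall_app (D1c_m1.dcRel G_I.top (G_I.get (i := 205) (by decide +kernel)).top (G_m5.get (i := 192) (by decide +kernel)).top chk683) (forall_app (D1c_m1.dcRel G_I.top (G_I.get (i := 205) (by decide +kernel)).top (G_m5.get (i := 192) (by decide +kernel)).top chk685) (forall_app (D1c_m1.dcRel G_I.top (G_I.get (i := 205) (by decide +kernel)).top (G_m5.get (i := 192) (by decide +kernel)).top chk687) (forall_app (D1c_m1.dcRel G_I.top (G_I.get (i := 205) (by decide +kernel)).top (G_m5.get (i := 192) (by decide +kernel)).top chk689) (forall_app (D1c_m1.dcRel G_I.top (G_I.get (i := 205) (by decide +kernel)).top (G_m5.get (i := 192) (by decide +kernel)).top chk691) (forall_app (D1c_m1.dcRel G_I.top (G_I.get (i := 205) (by decide +kernel)).top (G_m5.get (i := 192) (by decide +kernel)).top chk693) (forall_app (D1c_m1.dcRel G_I.top (G_I.get (i := 205) (by decide +kernel)).top (G_m5.get (i := 192) (by decide +kernel)).top chk695) (forall_app (D1c_m1.dcRel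 G_I.top (G_I.get (i := 205) (by decide +kernel)).top (G_m5.get (i := 192) (by decide +kernel)).top chk697) (D1c_m1.dcRel G_I.top (G_I.get (i := 205) (by decide +kernel)).top (G_m5.get (i := 192) (by decide +kernel)).top chk699)))))))))
theorem G_T5u : Nat.card (CD.gen R 196606) ≤ 35553280 * Nat.card (CD.gen R 1294077440023230710144016724176942272334582932281947479092973291962368) := up_low DD_ub T5_lb (by decide +kernel)
theorem G_T5n : (DC1 (C1.gen R1 196606) (C1.el (R1 205))).ncard ≤ Nat.card (C1.gen R1 196606) * 35553280 := ncard_DC1_map _ D1c_map T5r_map T5_in455.gen_le G_T5c G_T5u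
theorem T6r_m0 : C1.Mem R1 (C1.gen R1 3450873173395281893717377931138512726225554486085193277581262111899648) 3450873173395281893717377931138512726225554486085193277581262111899648 := GC.Mem.gen (T6_m0.map hf1).top
theorem T6r_map : (C1.gen R1 3450873173395281893717377931138512726225554486085193277581262111899648) = (CD.gen R 3450873173395281893717377931138512726225554486085193277581262111899648).map (MonoidHom.fst _ _) := T6_m0.gen_map hf1
theorem cj711 : band (conjA P.ops R1 4936551383613887754257934029875695629756598086833058284128108542 206 (l708)) (subM 3450873173395281893717377931138512726225554486085193277581262111899648 (insL (l708) 0)) = true := band_intro chk709 chk710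
theorem G_T6c : ∀ τ ∈ (C1.gen R1 3450873173395281893717377931138512726225554486085193277581262111899648), C1.el (R1 206) * τ * (C1.el (R1 206))⁻¹ ∈ (C1.gen R1 196606) := D1c_m1.conjA (G_I.get (i := 206) (by decide +kernel)).top (T6_m0.map hf1).top cj711
theorem cov764 : Cov (CD.gen R 3450873173395281893717377931138512726225554486085193277581262111899648) (CD.wds R (List.map Prod.fst (l712 ++ (l714 ++ (l716 ++ (l718 ++ (l720 ++ (l722 ++ (l724 ++ (l726 ++ (l728 ++ (l730 ++ (l732 ++ (l734 ++ (l736 ++ (l738 ++ (l740 ++ (l742 ++ (l744 ++ (l746 ++ (l748 ++ (l750 ++ (l752 ++ (l754)))))))))))))))))))))))) pt570 248 := Act.cov_of_seen (Act.pieces_sound T6_m0 DD_s3_299.top pt570r chk762) chk763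
theorem G_T6d : Dec (C1.gen R1 196606) (C1.gen R1 3450873173395281893717377931138512726225554486085193277581262111899648) (C1.wds R1 (List.map Prod.fst (l712 ++ (l714 ++ (l716 ++ (l718 ++ (l720 ++ (l722 ++ (l724 ++ (l726 ++ (l728 ++ (l730 ++ (l732 ++ (l734 ++ (l736 ++ (l738 ++ (l740 ++ (l742 ++ (l744 ++ (l746 ++ (l748 ++ (l750 ++ (l752 ++ (l754)))))))))))))))))))))))) (C1.gen R1 37662610412320084583014736539245998496614132666784207078398) := (GC.dec_map hf1 vD T6_in483.top (DD_s2_242.sub chk243).top DD_s3_299.top chk765 (cov764.dec T6_in483.gen_le (GC.wds_sub DD_s3_299 chk765) (DD_s2_242.sub chk243).gen_le fx577 (up_low DD_ub KD_lb (by decide +kernel))))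
theorem G_T6p : ∀ x ∈ DC1 (C1.gen R1 196606) (C1.el (R1 206)), x * C1.el (R1 192) ∈ DCs (C1.gen R1 196606) (C1.els R1 1642296958334423448284649094162091387444107562001458741712519168) := GC.dc_piece' G_T6d G_T6c G_Kc (forall_app (D1c_m1.dcRel G_I.top (G_I.get (i := 206) (by decide +kernel)).top (G_m5.get (i := 192) (by decide +kernel)).top chk713) (forall_app (D1c_m1.dcRel G_I.top (G_I.get (i := 206) (by decide +kernel)).top (G_m5.get (i := 192) (by decide +kernel)).top chk715) (forall_app (D1c_m1.dcRel G_I.top (G_I.get (i := 206) (by decide +kernel)).top (G_m5.get (i := 192) (by decide +kernel)).top chk717) (forall_app (D1c_m1.dcRel G_I.top (G_I.get (i := 206) (by decide +kernel)).top (G_m5.get (i := 192) (by decide +kernel)).top chk719) (forall_app (D1c_m1.dcRel G_I.top (G_I.get (i := 206) (by decide +kernel)).top (G_m5.get (i := 192) (by decide +kernel)).top chk721) (forall_app (D1c_m1.dcRel G_I.top (G_I.get (i := 206) (by decide +kernel)).top (G_m5.get (i := 192) (by decide +kernel)).top chk723) (forall_app (D1c_m1.dcRel G_I.top (G_I.get (i := 206) (by decide +kernel)).top (G_m5.get (i := 192) (by decide +kernel)).top chk725) (forall_app (D1c_m1.dcRel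 G_I.top (G_I.get (i := 206) (by decide +kernel)).top (G_m5.get (i := 192) (by decide +kernel)).top chk727) (forall_app (D1c_m1.dcRel G_I.top (G_I.get (i := 206) (by decide +kernel)).top (G_m5.get (i := 192) (by decide +kernel)).top chk729) (forall_app (D1c_m1.dcRel G_I.top (G_I.get (i := 206) (by decide +kernel)).top (G_m5.get (i := 192) (by decide +kernel)).top chk731) (forall_app (D1c_m1.dcRel G_I.top (G_I.get (i := 206) (by decide +kernel)).top (G_m5.get (i := 192) (by decide +kernel)).top chk733) (forall_app (D1c_m1.dcRel G_I.top (G_I.get (i := 206) (by decide +kernel)).top (G_m5.get (i := 192) (by decide +kernel)).top chk735) (forall_app (D1c_m1.dcRel G_I.top (G_I.get (i := 206) (by decide +kernel)).top (G_m5.get (i := 192) (by decide +kernel)).top chk737) (forall_app (D1c_m1.dcRel G_I.top (G_I.get (i := 206) (by decide +kernel)).top (G_m5.get (i := 192) (by decide +kernel)).top chk739) (forall_app (D1c_m1.dcRel G_I.top (G_I.get (i := 206) (by decide +kernel)).top (G_m5.get (i := 192) (by decide +kernel)).top chk741) (forall_app (D1c_m1.dcRel G_I.top (G_I.get (i := 206) (by decide +kernel)).top (G_m5.get (i := 192) (by decide +kernel)).top chk743)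 (forall_app (D1c_m1.dcRel G_I.top (G_I.get (i := 206) (by decide +kernel)).top (G_m5.get (i := 192) (by decide +kernel)).top chk745) (forall_app (D1c_m1.dcRel G_I.top (G_I.get (i := 206) (by decide +kernel)).top (G_m5.get (i := 192) (by decide +kernel)).top chk747) (forall_app (D1c_m1.dcRel G_I.top (G_I.get (i := 206) (by decide +kernel)).top (G_m5.get (i := 192) (by decide +kernel)).top chk749) (forall_app (D1c_m1.dcRel G_I.top (G_I.get (i := 206) (by decide +kernel)).top (G_m5.get (i := 192) (by decide +kernel)).top chk751) (forall_app (D1c_m1.dcRel G_I.top (G_I.get (i := 206) (by decide +kernel)).top (G_m5.get (i := 192) (by decide +kernel)).top chk753) (D1c_m1.dcRel G_I.top (G_I.get (i := 206) (by decide +kernel)).top (G_m5.get (i := 192) (by decide +kernel)).top chk755))))))))))))))))))))))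
theorem G_T6u : Nat.card (CD.gen R 196606) ≤ 106659840 * Nat.card (CD.gen R 3450873173395281893717377931138512726225554486085193277581262111899648) := up_low DD_ub T6_lb (by decide +kernel)
theorem G_T6n : (DC1 (C1.gen R1 196606) (C1.el (R1 206))).ncard ≤ Nat.card (C1.gen R1 196606) * 106659840 := ncard_DC1_map _ D1c_map T6r_map T6_in483.gen_le G_T6c G_T6u
theorem T7r_m0 : C1.Mem R1 (C1.gen R1 6901746346790563787434755862277025452451108972170386555162524223799296) 6901746346790563787434755862277025452451108972170386555162524223799296 := GC.Mem.gen (T7_m0.map hf1).top
theorem T7r_map : (C1.gen R1 6901746346790563787434755862277025452451108972170386555162524223799296) = (CD.gen R 6901746346790563787434755862277025452451108972170386555162524223799296).map (MonoidHom.fst _ _) := T7_m0.gen_map hf1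
theorem cj769 : band (conjA P.ops R1 4936551383613887754257934029875695629756598086833058284128108542 207 (l766)) (subM 6901746346790563787434755862277025452451108972170386555162524223799296 (insL (l766) 0)) = true := band_intro chk767 chk768
theorem G_T7c : ∀ τ ∈ (C1.gen R1 6901746346790563787434755862277025452451108972170386555162524223799296), C1.el (R1 207) * τ * (C1.el (R1 207))⁻¹ ∈ (C1.gen R1 196606) := D1c_m1.conjA (G_I.get (i := 207) (by decide +kernel)).top (T7_m0.map hf1).top cj769
theorem cov802 : Cov (CD.gen R 6901746346790563787434755862277025452451108972170386555162524223799296) (CD.wds R (List.map Prod.fst (l770 ++ (l772 ++ (l774 ++ (l776 ++ (l778 ++ (l780 ++ (l782 ++ (l784 ++ (l786 ++ (l788 ++ (l790 ++ (l792 ++ (l794))))))))))))))) pt570 248 := Act.cov_of_seen (Act.pieces_sound T7_m0 DD_s3_299.top pt570r chk800) chk801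
theorem G_T7d : Dec (C1.gen R1 196606) (C1.gen R1 6901746346790563787434755862277025452451108972170386555162524223799296) (C1.wds R1 (List.map Prod.fst (l770 ++ (l772 ++ (l774 ++ (l776 ++ (l778 ++ (l780 ++ (l782 ++ (l784 ++ (l786 ++ (l788 ++ (l790 ++ (l792 ++ (l794))))))))))))))) (C1.gen R1 37662610412320084583014736539245998496614132666784207078398) := (GC.dec_map hf1 vD T7_in497.top (DD_s2_242.sub chk243).top DD_s3_299.top chk803 (cov802.dec T7_in497.gen_le (GC.wds_sub DD_s3_299 chk803) (DD_s2_242.sub chk243).gen_le fx577 (up_low DD_ub KD_lb (by decide +kernel))))
theorem G_T7p : ∀ x ∈ DC1 (C1.gen R1 196606) (C1.el (R1 207)), x * C1.el (R1 192) ∈ DCs (C1.gen R1 196606) (C1.els R1 1642296958334423448284649094162091387444107562001458741712519168) := GC.dc_piece' G_T7d G_T7c G_Kc (forall_app (D1c_m1.dcRel G_I.top (G_I.get (i := 207) (by decide +kernel)).top (G_m5.get (i := 192) (by decide +kernel)).top chk771) (forall_app (D1c_m1.dcRel G_I.top (G_I.get (i := 207) (by decide +kernel)).top (G_m5.get (i := 192) (by decide +kernel)).top chk773) (forall_app (D1c_m1.dcRel G_I.top (G_I.get (i := 207) (by decide +kernel)).top (G_m5.get (i := 192) (by decide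 +kernel)).top chk775) (forall_app (D1c_m1.dcRel G_I.top (G_I.get (i := 207) (by decide +kernel)).top (G_m5.get (i := 192) (by decide +kernel)).top chk777) (forall_app (D1c_m1.dcRel G_I.top (G_I.get (i := 207) (by decide +kernel)).top (G_m5.get (i := 192) (by decide +kernel)).top chk779) (forall_app (D1c_m1.dcRel G_I.top (G_I.get (i := 207) (by decide +kernel)).top (G_m5.get (i := 192) (by decide +kernel)).top chk781) (forall_app (D1c_m1.dcRel G_I.top (G_I.get (i := 207) (by decide +kernel)).top (G_m5.get (i := 192) (by decide +kernel)).top chk783) (forall_app (D1c_m1.dcRel G_I.top (G_I.get (i := 207) (by decide +kernel)).top (G_m5.get (i := 192) (by decide +kernel)).top chk785) (forall_app (D1c_m1.dcRel G_I.top (G_I.get (i := 207) (by decide +kernel)).top (G_m5.get (i := 192) (by decide +kernel)).top chk787) (forall_app (D1c_m1.dcRel G_I.top (G_I.get (i := 207) (by decide +kernel)).top (G_m5.get (i := 192) (by decide +kernel)).top chk789) (forall_app (D1c_m1.dcRel G_I.top (G_I.get (i := 207) (by decide +kernel)).top (G_m5.get (i := 192) (by decide +kernel)).top chk791) (forall_app (D1c_m1.dcRel G_I.top (G_I.get (i := 207) (by decide +kernel)).top (G_m5.get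 (i := 192) (by decide +kernel)).top chk793) (D1c_m1.dcRel G_I.top (G_I.get (i := 207) (by decide +kernel)).top (G_m5.get (i := 192) (by decide +kernel)).top chk795)))))))))))))
theorem G_T7u : Nat.card (CD.gen R 196606) ≤ 63995904 * Nat.card (CD.gen R 6901746346790563787434755862277025452451108972170386555162524223799296) := up_low DD_ub T7_lb (by decide +kernel)
theorem G_T7n : (DC1 (C1.gen R1 196606) (C1.el (R1 207))).ncard ≤ Nat.card (C1.gen R1 196606) * 63995904 := ncard_DC1_map _ D1c_map T7r_map T7_in497.gen_le G_T7c G_T7u
theorem T8r_m0 : C1.Mem R1 (C1.gen R1 41410478080743382724608535173662152714706653833022319330975145342795776) 41410478080743382724608535173662152714706653833022319330975145342795776 := GC.Mem.gen (T8_m0.map hf1).top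
theorem T8r_map : (C1.gen R1 41410478080743382724608535173662152714706653833022319330975145342795776) = (CD.gen R 41410478080743382724608535173662152714706653833022319330975145342795776).map (MonoidHom.fst _ _) := T8_m0.gen_map hf1
theorem cj807 : band (conjA P.ops R1 4936551383613887754257934029875695629756598086833058284128108542 208 (l804)) (subM 41410478080743382724608535173662152714706653833022319330975145342795776 (insL (l804) 0)) = true := band_intro chk805 chk806
theorem G_T8c : ∀ τ ∈ (C1.gen R1 41410478080743382724608535173662152714706653833022319330975145342795776), C1.el (R1 208) * τ * (C1.el (R1 208))⁻¹ ∈ (C1.gen R1 196606) := D1c_m1.conjA (G_I.get (i := 208) (by decide +kernel)).top (T8_m0.map hf1).top cj807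
theorem cov816 : Cov (CD.gen R 41410478080743382724608535173662152714706653833022319330975145342795776) (CD.wds R (List.map Prod.fst (l808))) pt570 248 := Act.cov_of_seen (Act.pieces_sound T8_m0 DD_s3_299.top pt570r chk814) chk815
theorem G_T8d : Dec (C1.gen R1 196606) (C1.gen R1 41410478080743382724608535173662152714706653833022319330975145342795776) (C1.wds R1 (List.map Prod.fst (l808))) (C1.gen R1 37662610412320084583014736539245998496614132666784207078398) := (GC.dec_map hf1 vD T8_in511.top (DD_s2_242.sub chk243).top DD_s3_299.top chk817 (cov816.dec T8_in511.gen_le (GC.wds_sub DD_s3_299 chk817) (DD_s2_242.sub chk243).gen_le fx577 (up_low DD_ub KD_lb (by decide +kernel))))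
theorem G_T8p : ∀ x ∈ DC1 (C1.gen R1 196606) (C1.el (R1 208)), x * C1.el (R1 192) ∈ DCs (C1.gen R1 196606) (C1.els R1 1642296958334423448284649094162091387444107562001458741712519168) := GC.dc_piece' G_T8d G_T8c G_Kc (D1c_m1.dcRel G_I.top (G_I.get (i := 208) (by decide +kernel)).top (G_m5.get (i := 192) (by decide +kernel)).top chk809)
theorem G_T8u : Nat.card (CD.gen R 196606) ≤ 2064384 * Nat.card (CD.gen R 41410478080743382724608535173662152714706653833022319330975145342795776) := up_low DD_ub T8_lb (by decide +kernel)
theorem G_T8n : (DC1 (C1.gen R1 196606) (C1.el (R1 208))).ncard ≤ Nat.card (C1.gen R1 196606) * 2064384 := ncard_DC1_map _ D1c_map T8r_map T8_in511.gen_le G_T8c G_T8u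
theorem T9r_m0 : C1.Mem R1 (C1.gen R1 331283824645947061796868281389297221717653230664178554647801162742366208) 331283824645947061796868281389297221717653230664178554647801162742366208 := GC.Mem.gen (T9_m0.map hf1).top
theorem T9r_map : (C1.gen R1 331283824645947061796868281389297221717653230664178554647801162742366208) = (CD.gen R 331283824645947061796868281389297221717653230664178554647801162742366208).map (MonoidHom.fst _ _) := T9_m0.gen_map hf1
theorem cj821 : band (conjA P.ops R1 4936551383613887754257934029875695629756598086833058284128108542 209 (l818)) (subM 331283824645947061796868281389297221717653230664178554647801162742366208 (insL (l818) 0)) = true := band_intro chk819 chk820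
theorem G_T9c : ∀ τ ∈ (C1.gen R1 331283824645947061796868281389297221717653230664178554647801162742366208), C1.el (R1 209) * τ * (C1.el (R1 209))⁻¹ ∈ (C1.gen R1 196606) := D1c_m1.conjA (G_I.get (i := 209) (by decide +kernel)).top (T9_m0.map hf1).top cj821
theorem cov830 : Cov (CD.gen R 331283824645947061796868281389297221717653230664178554647801162742366208) (CD.wds R (List.map Prod.fst (l822))) pt570 248 := Act.cov_of_seen (Act.pieces_sound T9_m0 DD_s3_299.top pt570r chk828) chk829
theorem G_T9d : Dec (C1.gen R1 196606) (C1.gen R1 331283824645947061796868281389297221717653230664178554647801162742366208) (C1.wds R1 (List.map Prod.fst (l822))) (C1.gen R1 37662610412320084583014736539245998496614132666784207078398) := (GC.dec_map hf1 vD T9_in539.top (DD_s2_242.sub chk243).top DD_s3_299.top chk831 (cov830.dec T9_in539.gen_le (GC.wds_sub DD_s3_299 chk831) (DD_s2_242.sub chk243).gen_le fx577 (up_low DD_ub KD_lb (by decide +kernel))))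
theorem G_T9p : ∀ x ∈ DC1 (C1.gen R1 196606) (C1.el (R1 209)), x * C1.el (R1 192) ∈ DCs (C1.gen R1 196606) (C1.els R1 1642296958334423448284649094162091387444107562001458741712519168) := GC.dc_piece' G_T9d G_T9c G_Kc (D1c_m1.dcRel G_I.top (G_I.get (i := 209) (by decide +kernel)).top (G_m5.get (i := 192) (by decide +kernel)).top chk823)
theorem G_T9u : Nat.card (CD.gen R 196606) ≤ 2064384 * Nat.card (CD.gen R 331283824645947061796868281389297221717653230664178554647801162742366208) := up_low DD_ub T9_lb (by decide +kernel)
theorem G_T9n : (DC1 (C1.gen R1 196606) (C1.el (R1 209))).ncard ≤ Nat.card (C1.gen R1 196606) * 2064384 := ncard_DC1_map _ D1c_map T9r_map T9_in539.gen_le G_T9c G_T9u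
theorem G_dc : ∀ x ∈ (C1.gen R1 6277101735386680763835789423207666416102355444464034709502), x ∈ DCs (C1.gen R1 196606) (C1.els R1 1642296958334423448284649094162091387444107562001458741712519168) := GC.dc_gen (MU := 6277101735386680763835789423207666416102355444464034512896) D1c_m1 (by decide +kernel) (GC.forall_els (L := [192]) (forall_cons ⟨D1c_m1.inDC' G_I.top (G_m5.get (i := 192) (by decide +kernel)).top chk832, GC.forall_els (L := [192, 201, 202, 203, 204, 205, 206, 207, 208, 209]) (forall_cons G_T0p (forall_cons G_T1p (forall_cons G_T2p (forall_cons G_T3p (forall_cons G_T4p (forall_cons G_T5p (forall_cons G_T6p (forall_cons G_T7p (forall_cons G_T8p (forall_cons G_T9p forall_nil)))))))))) (by decide +kernel)⟩ forall_nil) (by decide +kernel))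
theorem G_cs : ∀ p ∈ ([(192, 248), (201, 59520), (202, 2539520), (203, 6666240), (204, 63995904), (205, 35553280), (206, 106659840), (207, 63995904), (208, 2064384), (209, 2064384)] : List (ℕ × ℕ)), (DC1 (C1.gen R1 196606) (C1.el (R1 p.1))).ncard ≤ Nat.card (C1.gen R1 196606) * p.2 := (forall_cons G_T0n (forall_cons G_T1n (forall_cons G_T2n (forall_cons G_T3n (forall_cons G_T4n (forall_cons G_T5n (forall_cons G_T6n (forall_cons G_T7n (forall_cons G_T8n (forall_cons G_T9n forall_nil))))))))))
theorem G_ix : Nat.card (C1.gen R1 6277101735386680763835789423207666416102355444464034709502) ≤ 283599225 * Nat.card (C1.gen R1 196606) := GC.card_dc [(192, 248), (201, 59520), (202, 2539520), (203, 6666240), (204, 63995904), (205, 35553280), (206, 106659840), (207, 63995904), (208, 2064384), (209, 2064384)] G_dc G_cs (by decide +kernel)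
theorem G_ub : Nat.card (C1.gen R1 6277101735386680763835789423207666416102355444464034709502) ≤ 90745943887872000 := up_mul G_ix D1c_ub (by decide +kernel)
theorem G_max : ∀ L, (C1.gen R1 196606) ≤ L → L ≤ (C1.gen R1 6277101735386680763835789423207666416102355444464034709502) → L = (C1.gen R1 196606) ∨ L = (C1.gen R1 6277101735386680763835789423207666416102355444464034709502) := maximal_of_DCs G_dc (D1c_m1.maxChk (L := (l833 ++ (l835 ++ (l837 ++ (l839 ++ (l841 ++ (l843 ++ (l845 ++ (l847 ++ (l849 ++ (l851))))))))))) G_I.top (band_intro (allL_app chk834 (allL_app chk836 (allL_app chk838 (allL_app chk840 (allL_app chk842 (allL_app chk844 (allL_app chk846 (allL_app chk848 (allL_app chk850 chk852))))))))) chk853) chk854)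
theorem Lin857 : C1.Mem R1 (C1.gen R1 6277101735386680763835789423207666416102355444464034709502) 7410580632976090690511449709515978555824266059631596058911965593709557569290240 := G_m5.slp' chk856
theorem val860 : C3.Mem R2 ⊤ 3705233777381972436957178189237965504519626550331098009649322905456337420812288 := MC.mem_units (mc2 26) (can2_sound (by decide)) chk859
theorem vL : CL.Mem R ⊤ 3705233777381972436957178189237965504519626550331098009649322905456337420812288 := (GC.mem_prod (Lin857.top.sub chk861) val860).top
theorem syL0 : Sy (CL.el (R 246)) (CL.gen R 113078212145816597093331040047546785012958969400039613319782796882727665664) ∧ Nat.card (CL.gen R 113078212145816597093331040047546785012958969400039613319782796882727665664) = 2 := sy_base (vL.get (i := 246) (by decide +kernel)) chk862 (by decide +kernel)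
theorem syL1 : Sy (CL.el (R 246)) (CL.gen R 791547485020716179653317280332827495090712785800277293238479578179093659648) ∧ Nat.card (CL.gen R 791547485020716179653317280332827495090712785800277293238479578179093659648) = 8 := sy_step syL0 (vL.get (i := 246) (by decide +kernel)) (vL.get (i := 247) (by decide +kernel)) (vL.get (i := 248) (by decide +kernel)) ((vL.sub chk864).commL (vL.get (i := 247) (by decide +kernel)) chk863) ((vL.sub chk866).commL (vL.get (i := 248) (by decide +kernel)) chk865) chk867 (by decide +kernel)
theorem syL2 : Sy (CL.el (R 246)) (CL.gen R 3505424576520314509893262241473950335401728051401228012913266703364557635584) ∧ Nat.card (CL.gen R 3505424576520314509893262241473950335401728051401228012913266703364557635584) = 32 := sy_step syL1 (vL.get (i := 246) (by decide +kernel)) (vL.get (i := 249) (by decide +kernel)) (vL.get (i := 250) (by decide +kernel)) ((vL.sub chk869).commL (vL.get (i := 249) (by decide +kernel)) chk868) ((vL.sub chk871).commL (vL.get (i := 250) (by decide +kernel)) chk870) chk872 (by decide +kernel)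
theorem syL3 : Sy (CL.el (R 246)) (CL.gen R 14360932942518707830853042086038441696645789113805030891612415204106413539328) ∧ Nat.card (CL.gen R 14360932942518707830853042086038441696645789113805030891612415204106413539328) = 128 := sy_step syL2 (vL.get (i := 246) (by decide +kernel)) (vL.get (i := 251) (by decide +kernel)) (vL.get (i := 252) (by decide +kernel)) ((vL.sub chk874).commL (vL.get (i := 251) (by decide +kernel)) chk873) ((vL.sub chk876).commL (vL.get (i := 252) (by decide +kernel)) chk875) chk877 (by decide +kernel)
theorem syL4 : Sy (CL.el (R 246)) (CL.gen R 57782966406512281114692161464296407141622033363420242406409009207073837154304) ∧ Nat.card (CL.gen R 57782966406512281114692161464296407141622033363420242406409009207073837154304) = 512 := sy_step syL3 (vL.get (i := 246) (by decide +kernel)) (vL.get (i := 253) (by decide +kernel)) (vL.get (i := 254) (by decide +kernel)) ((vL.sub chk879).commL (vL.get (i := 253) (by decide +kernel)) chk878) ((vL.sub chk881).commL (vL.get (i := 254) (by decide +kernel)) chk880) chk882 (by decide +kernel)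
theorem syLQ_m0 : CL.Mem R (CL.gen R 57782966406512281114692161464296407141622033363420242406409009207073837154304) 57782966406512281114692161464296407141622033363420242406409009207073837154304 := GC.Mem.gen (vL.sub chk883)
theorem syLQ_s0_886 : CL.Mem R (CL.gen R 57782966406512281114692161464296407141622033363420242406409009207073837154304) 31082694922700920352987164515325423414548813957177247102453142436946101263916876169216 := syLQ_m0.slp' chk885
theorem BL0_m0 : CL.Mem R (CL.gen R 115679011025170378826477653968640361068257025696240524426137801211030401974272) 115679011025170378826477653968640361068257025696240524426137801211030401974272 := GC.Mem.gen (vL.sub chk887)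
theorem BL0_m1 : CL.Mem R (CL.gen R 115679011025170378826477653968640361068257025696240524426137801211030401974272) 31082694980596964971645262227110915918892767883812239435273424456674893267873440989184 := BL0_m0.lor' (syLQ_s0_886.mono (BL0_m0.sub chk888).gen_le) chk889
theorem cj893 : band (conjB (prodOps 246016 P.ops (ops2 26)) R 31082694922700920352987164515325423414548813957177247102453142436946101263916876169216 255 (l890)) (subM 57782966406512281114692161464296407141622033363420242406409009207073837154304 (insL (l890) 0)) = true := band_intro chk891 chk892
theorem BL0_dv : Nat.card (CL.gen R 115679011025170378826477653968640361068257025696240524426137801211030401974272) ∣ 2 * Nat.card (CL.gen R 57782966406512281114692161464296407141622033363420242406409009207073837154304) := GC.card_ins (syLQ_s0_886.pc (m := 2) (w := 0) (vL.get (i := 255) (by decide +kernel)) syLQ_m0.top cj893 chk894) (by decide +kernel)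
theorem BL0_ub : Nat.card (CL.gen R 115679011025170378826477653968640361068257025696240524426137801211030401974272) ≤ 1024 := up_mul (Nat.le_of_dvd (Nat.mul_pos (by decide) Nat.card_pos) BL0_dv) syL4.2.le (by decide +kernel)
theorem BL1_m0 : CL.Mem R (CL.gen R 231471100262486574250048638977328268921527010361881088465595385218943531614208) 231471100262486574250048638977328268921527010361881088465595385218943531614208 := GC.Mem.gen (vL.sub chk895)
theorem BL1_m1 : CL.Mem R (CL.gen R 231471100262486574250048638977328268921527010361881088465595385218943531614208) 31082695096389054208961457650681900927580675737082224100913988496132477275786570629120 := BL1_m0.lor' (BL0_m1.mono (BL1_m0.sub chk896).gen_le) chk897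
theorem cj901 : band (conjB (prodOps 246016 P.ops (ops2 26)) R 31082694980596964971645262227110915918892767883812239435273424456674893267873440989184 256 (l898)) (subM 115679011025170378826477653968640361068257025696240524426137801211030401974272 (insL (l898) 0)) = true := band_intro chk899 chk900
theorem BL1_dv : Nat.card (CL.gen R 231471100262486574250048638977328268921527010361881088465595385218943531614208) ∣ 2 * Nat.card (CL.gen R 115679011025170378826477653968640361068257025696240524426137801211030401974272) := GC.card_ins (BL0_m1.pc (m := 2) (w := 0) (vL.get (i := 256) (by decide +kernel)) BL0_m0.top cj901 chk902) (by decide +kernel)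
theorem BL1_ub : Nat.card (CL.gen R 231471100262486574250048638977328268921527010361881088465595385218943531614208) ≤ 2048 := up_mul (Nat.le_of_dvd (Nat.mul_pos (by decide) Nat.card_pos) BL1_dv) BL0_ub (by decide +kernel)
theorem BL1_s1_905 : CL.Mem R (CL.gen R 231471100262486574250048638977328268921527010361881088465595385218943531614208) 62165397372000719343672848159858203433859185161916456440942987051954945839069906599936 := BL1_m1.slp' chk904
theorem BL2_m0 : CL.Mem R (CL.gen R 463055278737118965097190608994704084628066979693162216544510553234769790894080) 463055278737118965097190608994704084628066979693162216544510553234769790894080 := GC.Mem.gen (vL.sub chk906)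
theorem BL2_m1 : CL.Mem R (CL.gen R 463055278737118965097190608994704084628066979693162216544510553234769790894080) 62165397603584897818305239007000173451235000868456425772224115130870113854896165879808 := BL2_m0.lor' (BL1_s1_905.mono (BL2_m0.sub chk907).gen_le) chk908
theorem cj912 : band (conjB (prodOps 246016 P.ops (ops2 26)) R 62165397372000719343672848159858203433859185161916456440942987051954945839069906599936 257 (l909)) (subM 231471100262486574250048638977328268921527010361881088465595385218943531614208 (insL (l909) 0)) = true := band_intro chk910 chk911
theorem BL2_dv : Nat.card (CL.gen R 463055278737118965097190608994704084628066979693162216544510553234769790894080) ∣ 2 * Nat.card (CL.gen R 231471100262486574250048638977328268921527010361881088465595385218943531614208) := GC.card_ins (BL1_s1_905.pc (m := 2) (w := 0) (vL.get (i := 257) (by decide +kernel)) BL1_m0.top cj912 chk913) (by decide +kernel)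
theorem BL2_ub : Nat.card (CL.gen R 463055278737118965097190608994704084628066979693162216544510553234769790894080) ≤ 4096 := up_mul (Nat.le_of_dvd (Nat.mul_pos (by decide) Nat.card_pos) BL2_dv) BL1_ub (by decide +kernel)
theorem BL2_s1_916 : CL.Mem R (CL.gen R 463055278737118965097190608994704084628066979693162216544510553234769790894080) 497323229462148209704264706135468408539134132816135678532630094912384673740862869471232 := BL2_m1.slp' chk915
theorem BL3_m0 : CL.Mem R (CL.gen R 926223635686383746791474549029455716041146918355724472702340889266422309453824) 926223635686383746791474549029455716041146918355724472702340889266422309453824 := GC.Mem.gen (vL.sub chk917)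
theorem BL3_m1 : CL.Mem R (CL.gen R 926223635686383746791474549029455716041146918355724472702340889266422309453824) 497323229925316566653529487829752348573885764229215617195192351070215009772515388030976 := BL3_m0.lor' (BL2_s1_916.mono (BL3_m0.sub chk918).gen_le) chk919
theorem cj923 : band (conjB (prodOps 246016 P.ops (ops2 26)) R 497323229462148209704264706135468408539134132816135678532630094912384673740862869471232 258 (l920)) (subM 463055278737118965097190608994704084628066979693162216544510553234769790894080 (insL (l920) 0)) = true := band_intro chk921 chk922
theorem BL3_dv : Nat.card (CL.gen R 926223635686383746791474549029455716041146918355724472702340889266422309453824) ∣ 7 * Nat.card (CL.gen R 463055278737118965097190608994704084628066979693162216544510553234769790894080) := GC.card_ins (BL2_s1_916.pc (m := 7) (w := 0) (vL.get (i := 258) (by decide +kernel)) BL2_m0.top cj923 chk924) (by decide +kernel)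
theorem BL3_ub : Nat.card (CL.gen R 926223635686383746791474549029455716041146918355724472702340889266422309453824) ≤ 28672 := up_mul (Nat.le_of_dvd (Nat.mul_pos (by decide) Nat.card_pos) BL3_dv) BL2_ub (by decide +kernel)
theorem BL3_s1_927 : CL.Mem R (CL.gen R 926223635686383746791474549029455716041146918355724472702340889266422309453824) 15914343558628702473470379180381198391688026438946994857849575634758159417161050029555712 := BL3_m1.slp' chk926
theorem PL_m0 : CL.Mem R (CL.gen R 1852560349584913310180042429098958978867306795680848985018001561329727346573312) 1852560349584913310180042429098958978867306795680848985018001561329727346573312 := GC.Mem.gen (vL.sub chk928)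
theorem PL_m1 : CL.Mem R (CL.gen R 1852560349584913310180042429098958978867306795680848985018001561329727346573312) 15914343559555039187368908743769766271757529701773154735174700147073820089224355066675200 := PL_m0.lor' (BL3_s1_927.mono (PL_m0.sub chk929).gen_le) chk930
theorem PL_s1_933 : CL.Mem R (CL.gen R 1852560349584913310180042429098958978867306795680848985018001561329727346573312) 2037035976328927952906842365212449660440011326542194278413220302240874015948159993233014784 := PL_m1.slp' chk932
theorem TB_in936 : CL.Mem R (CL.gen R 926223635686383746791474549029455716041146918355724472702340889266422309453824) 14259251834341402603879119818865647127360278755661553754452983145480669098343356943283781632 := BL3_s1_927.slp' chk935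
theorem TB_m0 : CL.Mem R (CL.gen R 14259251834341402603879119818865647127360278755661553754452983145480669098343356943283781632) 14259251834341402603879119818865647127360278755661553754452983145480669098343356943283781632 := GC.Mem.gen TB_in936.top
theorem TBs_m0 : C3.Mem R2 (C3.gen R2 14259251834341402603879119818865647127360278755661553754452983145480669098343356943283781632) 14259251834341402603879119818865647127360278755661553754452983145480669098343356943283781632 := GC.Mem.gen (TB_m0.map hl2).top
theorem TBs_map : (C3.gen R2 14259251834341402603879119818865647127360278755661553754452983145480669098343356943283781632) = (CL.gen R 14259251834341402603879119818865647127360278755661553754452983145480669098343356943283781632).map (MonoidHom.snd _ _) := TB_m0.gen_map hl2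
theorem pt937e : ∃ x, E0.Rep pt937c x := act2_rep (n := 26) (d := 5) (by decide) (by decide) (c := 0x2) (by decide +kernel)
noncomputable def pt937 := Classical.choose pt937e
theorem pt937r : E0.Rep pt937c pt937 := Classical.choose_spec pt937e
theorem pt938e : ∃ x, E0.Rep pt938c x := act2_rep (n := 26) (d := 5) (by decide) (by decide) (c := 0x21) (by decide +kernel)
noncomputable def pt938 := Classical.choose pt938e
theorem pt938r : E0.Rep pt938c pt938 := Classical.choose_spec pt938e
theorem pt939e : ∃ x, E0.Rep pt939c x := act2_rep (n := 26) (d := 5) (by decide) (by decide) (c := 0x21fa955) (by decide +kernel)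
noncomputable def pt939 := Classical.choose pt939e
theorem pt939r : E0.Rep pt939c pt939 := Classical.choose_spec pt939e
theorem TBs_s0_942 : C3.Mem R2 (C3.gen R2 14259251834341402603879119818865647127360278755661553754452983145480669098343356943283781632) 8341662323089720523269285094036403569505763072062008946354995140106191422530863811821012254720 := TBs_m0.slp' chk941
theorem TBs_c0i : C3.Mem R2 (C3.gen R2 14259251834341402603879119818865647127360278755661553754452983145480669098343356943283781632) 8327403071255379120665405974217537922378402793306347392600542156960710753432520454877728473088 := TBs_s0_942.sub chk943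
theorem TBs_c0m : C3.Mem R2 (C3.gen R2 8327403071255379120665405974217537922378402793306347392600542156960710753432520454877728473088) 8327403071255379120665405974217537922378402793306347392600542156960710753432520454877728473088 := TBs_c0i.gen
theorem fx945 : C3.gen R2 8327403071255379120665405974217537922378402793306347392600542156960710753432520454877728473088 ≤ stabilizer _ pt937 := Act.fix_sound TBs_c0i.top pt937r chk944
theorem cov952 : Cov (C3.gen R2 14259251834341402603879119818865647127360278755661553754452983145480669098343356943283781632) (C3.wds R2 [0]) pt937 2 := Act.cov_of_seen (Act.pieces_sound TBs_s0_942 TBs_s0_942.top pt937r chk950) chk951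
theorem TBs_c1i : C3.Mem R2 (C3.gen R2 8327403071255379120665405974217537922378402793306347392600542156960710753432520454877728473088) 8213329056580647899834373015666612745359520563261054962564918291796865400645773599331458220032 := TBs_c0m.sub chk953
theorem TBs_c1m : C3.Mem R2 (C3.gen R2 8213329056580647899834373015666612745359520563261054962564918291796865400645773599331458220032) 8213329056580647899834373015666612745359520563261054962564918291796865400645773599331458220032 := TBs_c1i.gen
theorem fx955 : C3.gen R2 8213329056580647899834373015666612745359520563261054962564918291796865400645773599331458220032 ≤ stabilizer _ pt938 := Act.fix_sound TBs_c1i.top pt938r chk954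
theorem cov962 : Cov (C3.gen R2 8327403071255379120665405974217537922378402793306347392600542156960710753432520454877728473088) (C3.wds R2 [0]) pt938 14 := Act.cov_of_seen (Act.pieces_sound TBs_c0m TBs_c0m.top pt938r chk960) chk961
theorem TBs_c2i : C3.Mem R2 (C3.gen R2 8213329056580647899834373015666612745359520563261054962564918291796865400645773599331458220032) 0 := TBs_c1m.sub chk963
theorem TBs_c2m : C3.Mem R2 (C3.gen R2 0) 0 := TBs_c2i.gen
theorem fx965 : C3.gen R2 0 ≤ stabilizer _ pt939 := Act.fix_sound TBs_c2i.top pt939r chk964
theorem cov972 : Cov (C3.gen R2 8213329056580647899834373015666612745359520563261054962564918291796865400645773599331458220032) (C3.wds R2 [0]) pt939 128 := Act.cov_of_seen (Act.pieces_sound TBs_c1m TBs_c1m.top pt939r chk970) chk971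
theorem TBs_lb3 : 1 ≤ Nat.card (C3.gen R2 0) := Nat.card_pos
theorem TBs_lo2 : 128 * Nat.card (C3.gen R2 0) ≤ Nat.card (C3.gen R2 8213329056580647899834373015666612745359520563261054962564918291796865400645773599331458220032) := cov972.low le_rfl (GC.wds_zero _) TBs_c2i.gen_le fx965
theorem TBs_lb2 : 128 ≤ Nat.card (C3.gen R2 8213329056580647899834373015666612745359520563261054962564918291796865400645773599331458220032) := low_step TBs_lo2 TBs_lb3 (by decide +kernel)
theorem TBs_lo1 : 14 * Nat.card (C3.gen R2 8213329056580647899834373015666612745359520563261054962564918291796865400645773599331458220032) ≤ Nat.card (C3.gen R2 8327403071255379120665405974217537922378402793306347392600542156960710753432520454877728473088) := cov962.low le_rfl (GC.wds_zero _) TBs_c1i.gen_le fx955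
theorem TBs_lb1 : 1792 ≤ Nat.card (C3.gen R2 8327403071255379120665405974217537922378402793306347392600542156960710753432520454877728473088) := low_step TBs_lo1 TBs_lb2 (by decide +kernel)
theorem TBs_lo0 : 2 * Nat.card (C3.gen R2 8327403071255379120665405974217537922378402793306347392600542156960710753432520454877728473088) ≤ Nat.card (C3.gen R2 14259251834341402603879119818865647127360278755661553754452983145480669098343356943283781632) := cov952.low le_rfl (GC.wds_zero _) TBs_c0i.gen_le fx945
theorem TBs_lb0 : 3584 ≤ Nat.card (C3.gen R2 14259251834341402603879119818865647127360278755661553754452983145480669098343356943283781632) := low_step TBs_lo0 TBs_lb1 (by decide +kernel)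
theorem TB_lb : 3584 ≤ Nat.card (CL.gen R 14259251834341402603879119818865647127360278755661553754452983145480669098343356943283781632) := low_map _ TBs_map TBs_lb0
theorem KB_in975 : CL.Mem R (CL.gen R 926223635686383746791474549029455716041146918355724472702340889266422309453824) 58405895513462385065488874778073690633667701783189724178239418963888820626814390039690369564672 := BL3_s1_927.slp' chk974
theorem KB_m0 : CL.Mem R (CL.gen R 58405895513462385065488874778073690633667701783189724178239418963888820626814390039690369564672) 58405895513462385065488874778073690633667701783189724178239418963888820626814390039690369564672 := GC.Mem.gen KB_in975.top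
theorem KBs_m0 : C3.Mem R2 (C3.gen R2 58405895513462385065488874778073690633667701783189724178239418963888820626814390039690369564672) 58405895513462385065488874778073690633667701783189724178239418963888820626814390039690369564672 := GC.Mem.gen (KB_m0.map hl2).top
theorem KBs_map : (C3.gen R2 58405895513462385065488874778073690633667701783189724178239418963888820626814390039690369564672) = (CL.gen R 58405895513462385065488874778073690633667701783189724178239418963888820626814390039690369564672).map (MonoidHom.snd _ _) := KB_m0.gen_map hl2
theorem pt976e : ∃ x, E0.Rep pt976c x := act2_rep (n := 26) (d := 5) (by decide) (by decide) (c := 0x21) (by decide +kernel)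
noncomputable def pt976 := Classical.choose pt976e
theorem pt976r : E0.Rep pt976c pt976 := Classical.choose_spec pt976e
theorem pt977e : ∃ x, E0.Rep pt977c x := act2_rep (n := 26) (d := 5) (by decide) (by decide) (c := 0x2) (by decide +kernel)
noncomputable def pt977 := Classical.choose pt977e
theorem pt977r : E0.Rep pt977c pt977 := Classical.choose_spec pt977e
theorem pt978e : ∃ x, E0.Rep pt978c x := act2_rep (n := 26) (d := 5) (by decide) (by decide) (c := 0x21fa955) (by decide +kernel)
noncomputable def pt978 := Classical.choose pt978e
theorem pt978r : E0.Rep pt978c pt978 := Classical.choose_spec pt978e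
theorem KBs_s0_981 : C3.Mem R2 (C3.gen R2 58405895513462385065488874778073690633667701783189724178239418963888820626814390039690369564672) 4263630372482754109780687858799379416257742230172849865011477584363883905757450472897396978221056 := KBs_m0.slp' chk980
theorem KBs_c0i : C3.Mem R2 (C3.gen R2 58405895513462385065488874778073690633667701783189724178239418963888820626814390039690369564672) 4205224476969291724715198984021305725624074528389660140833238165399995085130636082857706608656384 := KBs_s0_981.sub chk982
theorem KBs_c0m : C3.Mem R2 (C3.gen R2 4205224476969291724715198984021305725624074528389660140833238165399995085130636082857706608656384) 4205224476969291724715198984021305725624074528389660140833238165399995085130636082857706608656384 := KBs_c0i.gen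
theorem fx984 : C3.gen R2 4205224476969291724715198984021305725624074528389660140833238165399995085130636082857706608656384 ≤ stabilizer _ pt976 := Act.fix_sound KBs_c0i.top pt976r chk983
theorem cov991 : Cov (C3.gen R2 58405895513462385065488874778073690633667701783189724178239418963888820626814390039690369564672) (C3.wds R2 [0]) pt976 14 := Act.cov_of_seen (Act.pieces_sound KBs_s0_981 KBs_s0_981.top pt976r chk989) chk990
theorem KBs_c1i : C3.Mem R2 (C3.gen R2 4205224476969291724715198984021305725624074528389660140833238165399995085130636082857706608656384) 4138474882096763284640354555703507222042740012066014741772393115155550718699991065669489043439616 := KBs_c0m.sub chk992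
theorem KBs_c1m : C3.Mem R2 (C3.gen R2 4138474882096763284640354555703507222042740012066014741772393115155550718699991065669489043439616) 4138474882096763284640354555703507222042740012066014741772393115155550718699991065669489043439616 := KBs_c1i.gen
theorem fx994 : C3.gen R2 4138474882096763284640354555703507222042740012066014741772393115155550718699991065669489043439616 ≤ stabilizer _ pt977 := Act.fix_sound KBs_c1i.top pt977r chk993
theorem cov1001 : Cov (C3.gen R2 4205224476969291724715198984021305725624074528389660140833238165399995085130636082857706608656384) (C3.wds R2 [0]) pt977 2 := Act.cov_of_seen (Act.pieces_sound KBs_c0m KBs_c0m.top pt977r chk999) chk1000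
theorem KBs_c2i : C3.Mem R2 (C3.gen R2 4138474882096763284640354555703507222042740012066014741772393115155550718699991065669489043439616) 0 := KBs_c1m.sub chk1002
theorem KBs_c2m : C3.Mem R2 (C3.gen R2 0) 0 := KBs_c2i.gen
theorem fx1004 : C3.gen R2 0 ≤ stabilizer _ pt978 := Act.fix_sound KBs_c2i.top pt978r chk1003
theorem cov1011 : Cov (C3.gen R2 4138474882096763284640354555703507222042740012066014741772393115155550718699991065669489043439616) (C3.wds R2 [0]) pt978 64 := Act.cov_of_seen (Act.pieces_sound KBs_c1m KBs_c1m.top pt978r chk1009) chk1010
theorem KBs_lb3 : 1 ≤ Nat.card (C3.gen R2 0) := Nat.card_pos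
theorem KBs_lo2 : 64 * Nat.card (C3.gen R2 0) ≤ Nat.card (C3.gen R2 4138474882096763284640354555703507222042740012066014741772393115155550718699991065669489043439616) := cov1011.low le_rfl (GC.wds_zero _) KBs_c2i.gen_le fx1004
theorem KBs_lb2 : 64 ≤ Nat.card (C3.gen R2 4138474882096763284640354555703507222042740012066014741772393115155550718699991065669489043439616) := low_step KBs_lo2 KBs_lb3 (by decide +kernel)
theorem KBs_lo1 : 2 * Nat.card (C3.gen R2 4138474882096763284640354555703507222042740012066014741772393115155550718699991065669489043439616) ≤ Nat.card (C3.gen R2 4205224476969291724715198984021305725624074528389660140833238165399995085130636082857706608656384) := cov1001.low le_rfl (GC.wds_zero _) KBs_c1i.gen_le fx994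
theorem KBs_lb1 : 128 ≤ Nat.card (C3.gen R2 4205224476969291724715198984021305725624074528389660140833238165399995085130636082857706608656384) := low_step KBs_lo1 KBs_lb2 (by decide +kernel)
theorem KBs_lo0 : 14 * Nat.card (C3.gen R2 4205224476969291724715198984021305725624074528389660140833238165399995085130636082857706608656384) ≤ Nat.card (C3.gen R2 58405895513462385065488874778073690633667701783189724178239418963888820626814390039690369564672) := cov991.low le_rfl (GC.wds_zero _) KBs_c0i.gen_le fx984
theorem KBs_lb0 : 1792 ≤ Nat.card (C3.gen R2 58405895513462385065488874778073690633667701783189724178239418963888820626814390039690369564672) := low_step KBs_lo0 KBs_lb1 (by decide +kernel)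
theorem KB_lb : 1792 ≤ Nat.card (CL.gen R 58405895513462385065488874778073690633667701783189724178239418963888820626814390039690369564672) := low_map _ KBs_map KBs_lb0
theorem pt1012e : ∃ x, L0.Rep pt1012c x := via_rep hl2 E0 (act2_rep (n := 26) (d := 5) (by decide) (by decide) (c := 0x41) (by decide +kernel))
noncomputable def pt1012 := Classical.choose pt1012e
theorem pt1012r : L0.Rep pt1012c pt1012 := Classical.choose_spec pt1012e
theorem PL_I : CL.Mem R (CL.gen R 1852560349584913310180042429098958978867306795680848985018001561329727346573312) 926336713898529563388567880069503262826159877325124512315660672063305037119488 := PL_s1_933.sub chk1013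
theorem cj1017 : band (conjB (prodOps 246016 P.ops (ops2 26)) R 15914343558628702473470379180381198391688026438946994857849575634758159417161050029555712 259 (l1014)) (subM 58405895513462385065488874778073690633667701783189724178239418963888820626814390039690369564672 (insL (l1014) 0)) = true := band_intro chk1015 chk1016
theorem fx1019 : CL.gen R 58405895513462385065488874778073690633667701783189724178239418963888820626814390039690369564672 ≤ stabilizer _ pt1012 := Act.fix_sound KB_in975.top pt1012r chk1018
theorem PL_Kc : ∀ κ ∈ (CL.gen R 58405895513462385065488874778073690633667701783189724178239418963888820626814390039690369564672), (CL.el (R 259))⁻¹ * κ * CL.el (R 259) ∈ (CL.gen R 926223635686383746791474549029455716041146918355724472702340889266422309453824) := BL3_s1_927.conjB (PL_s1_933.get (i := 259) (by decide +kernel)).top KB_in975.top cj1017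
theorem cj1023 : band (conjA (prodOps 246016 P.ops (ops2 26)) R 15914343558628702473470379180381198391688026438946994857849575634758159417161050029555712 259 (l1020)) (subM 14259251834341402603879119818865647127360278755661553754452983145480669098343356943283781632 (insL (l1020) 0)) = true := band_intro chk1021 chk1022
theorem PL_T0c : ∀ τ ∈ (CL.gen R 14259251834341402603879119818865647127360278755661553754452983145480669098343356943283781632), CL.el (R 259) * τ * (CL.el (R 259))⁻¹ ∈ (CL.gen R 926223635686383746791474549029455716041146918355724472702340889266422309453824) := BL3_s1_927.conjA (PL_I.get (i := 259) (by decide +kernel)).top TB_in936.top cj1023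
theorem cov1032 : Cov (CL.gen R 14259251834341402603879119818865647127360278755661553754452983145480669098343356943283781632) (CL.wds R (List.map Prod.fst (l1024))) pt1012 16 := Act.cov_of_seen (Act.pieces_sound TB_m0 BL3_s1_927.top pt1012r chk1030) chk1031
theorem PL_T0d : Dec (CL.gen R 926223635686383746791474549029455716041146918355724472702340889266422309453824) (CL.gen R 14259251834341402603879119818865647127360278755661553754452983145480669098343356943283781632) (CL.wds R (List.map Prod.fst (l1024))) (CL.gen R 58405895513462385065488874778073690633667701783189724178239418963888820626814390039690369564672) := (cov1032.dec TB_in936.gen_le (GC.wds_sub BL3_s1_927 chk1033) KB_in975.gen_le fx1019 (up_low BL3_ub KB_lb (by decide +kernel)))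
theorem PL_T0p : ∀ x ∈ DC1 (CL.gen R 926223635686383746791474549029455716041146918355724472702340889266422309453824) (CL.el (R 259)), x * CL.el (R 259) ∈ DCs (CL.gen R 926223635686383746791474549029455716041146918355724472702340889266422309453824) (CL.els R 926336713898529563388567880069503262826159877325124512315660672063305037119488) := GC.dc_piece' PL_T0d PL_T0c PL_Kc (BL3_s1_927.dcRel PL_I.top (PL_I.get (i := 259) (by decide +kernel)).top (PL_s1_933.get (i := 259) (by decide +kernel)).top chk1025)
theorem PL_T0u : Nat.card (CL.gen R 926223635686383746791474549029455716041146918355724472702340889266422309453824) ≤ 8 * Nat.card (CL.gen R 14259251834341402603879119818865647127360278755661553754452983145480669098343356943283781632) := up_low BL3_ub TB_lb (by decide +kernel)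
theorem PL_T0n : (DC1 (CL.gen R 926223635686383746791474549029455716041146918355724472702340889266422309453824) (CL.el (R 259))).ncard ≤ Nat.card (CL.gen R 926223635686383746791474549029455716041146918355724472702340889266422309453824) * 8 := ncard_DC1 TB_in936.gen_le PL_T0c PL_T0u
theorem PL_dc : ∀ x ∈ (CL.gen R 1852560349584913310180042429098958978867306795680848985018001561329727346573312), x ∈ DCs (CL.gen R 926223635686383746791474549029455716041146918355724472702340889266422309453824) (CL.els R 926336713898529563388567880069503262826159877325124512315660672063305037119488) := GC.dc_gen (MU := 926336713898529563388567880069503262826159877325124512315660672063305037119488) BL3_s1_927 (by decide +kernel) (GC.forall_els (L := [259]) (forall_cons ⟨BL3_s1_927.inDC' PL_I.top (PL_s1_933.get (i := 259) (by decide +kernel)).top chk1034, GC.forall_els (L := [259]) (forall_cons PL_T0p forall_nil) (by decide +kernel)⟩ forall_nil) (by decide +kernel))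
theorem PL_cs : ∀ p ∈ ([(259, 8)] : List (ℕ × ℕ)), (DC1 (CL.gen R 926223635686383746791474549029455716041146918355724472702340889266422309453824) (CL.el (R p.1))).ncard ≤ Nat.card (CL.gen R 926223635686383746791474549029455716041146918355724472702340889266422309453824) * p.2 := (forall_cons PL_T0n forall_nil)
theorem PL_ix : Nat.card (CL.gen R 1852560349584913310180042429098958978867306795680848985018001561329727346573312) ≤ 9 * Nat.card (CL.gen R 926223635686383746791474549029455716041146918355724472702340889266422309453824) := GC.card_dc [(259, 8)] PL_dc PL_cs (by decide +kernel)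
theorem PL_ub : Nat.card (CL.gen R 1852560349584913310180042429098958978867306795680848985018001561329727346573312) ≤ 258048 := up_mul PL_ix BL3_ub (by decide +kernel)
theorem LL_m0 : CL.Mem R (CL.gen R 3705233777381972436957178189237965504519626550331098009649322905456337420812288) 3705233777381972436957178189237965504519626550331098009649322905456337420812288 := GC.Mem.gen vL
theorem LL_m1 : CL.Mem R (CL.gen R 3705233777381972436957178189237965504519626550331098009649322905456337420812288) 2037035976330780626334639424339226796200150333067846598167870551265505337292286603307253760 := LL_m0.lor' (PL_s1_933.mono (LL_m0.sub chk1035).gen_le) chk1036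
theorem TL0_in1039 : CL.Mem R (CL.gen R 1852560349584913310180042429098958978867306795680848985018001561329727346573312) 119615274011570964614121215545494918417751453251972555117034330038044304643715870801285876868448256 := PL_s1_933.slp' chk1038
theorem TL0_m0 : CL.Mem R (CL.gen R 119615274011570964614121215545494918417751453251972555117034330038044304643715870801285876868448256) 119615274011570964614121215545494918417751453251972555117034330038044304643715870801285876868448256 := GC.Mem.gen TL0_in1039.top
theorem TL0s_m0 : C3.Mem R2 (C3.gen R2 119615274011570964614121215545494918417751453251972555117034330038044304643715870801285876868448256) 119615274011570964614121215545494918417751453251972555117034330038044304643715870801285876868448256 := GC.Mem.gen (TL0_m0.map hl2).top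
theorem TL0s_map : (C3.gen R2 119615274011570964614121215545494918417751453251972555117034330038044304643715870801285876868448256) = (CL.gen R 119615274011570964614121215545494918417751453251972555117034330038044304643715870801285876868448256).map (MonoidHom.snd _ _) := TL0_m0.gen_map hl2
theorem pt1040e : ∃ x, E0.Rep pt1040c x := act2_rep (n := 26) (d := 5) (by decide) (by decide) (c := 0x3a68) (by decide +kernel)
noncomputable def pt1040 := Classical.choose pt1040e
theorem pt1040r : E0.Rep pt1040c pt1040 := Classical.choose_spec pt1040e
theorem pt1041e : ∃ x, E0.Rep pt1041c x := act2_rep (n := 26) (d := 5) (by decide) (by decide) (c := 0x21fa955) (by decide +kernel)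
noncomputable def pt1041 := Classical.choose pt1041e
theorem pt1041r : E0.Rep pt1041c pt1041 := Classical.choose_spec pt1041e
theorem pt1042e : ∃ x, E0.Rep pt1042c x := act2_rep (n := 26) (d := 5) (by decide) (by decide) (c := 0x25610da) (by decide +kernel)
noncomputable def pt1042 := Classical.choose pt1042e
theorem pt1042r : E0.Rep pt1042c pt1042 := Classical.choose_spec pt1042e
theorem TL0s_s0_1045 : C3.Mem R2 (C3.gen R2 119615274011570964614121215545494918417751453251972555117034330038044304643715870801285876868448256) 4357413553278656568085844280585886313789517225607571650691964879957328240592506722046842657350615040 := TL0s_m0.slp' chk1044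
theorem TL0s_c0i : C3.Mem R2 (C3.gen R2 119615274011570964614121215545494918417751453251972555117034330038044304643715870801285876868448256) 4237798279267085603471723065040391395371765772355599095574930549919283935948790851245556780482166784 := TL0s_s0_1045.sub chk1046
theorem TL0s_c0m : C3.Mem R2 (C3.gen R2 4237798279267085603471723065040391395371765772355599095574930549919283935948790851245556780482166784) 4237798279267085603471723065040391395371765772355599095574930549919283935948790851245556780482166784 := TL0s_c0i.gen
theorem fx1048 : C3.gen R2 4237798279267085603471723065040391395371765772355599095574930549919283935948790851245556780482166784 ≤ stabilizer _ pt1040 := Act.fix_sound TL0s_c0i.top pt1040r chk1047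
theorem cov1055 : Cov (C3.gen R2 119615274011570964614121215545494918417751453251972555117034330038044304643715870801285876868448256) (C3.wds R2 [0]) pt1040 16 := Act.cov_of_seen (Act.pieces_sound TL0s_s0_1045 TL0s_s0_1045.top pt1040r chk1053) chk1054
theorem TL0s_c1i : C3.Mem R2 (C3.gen R2 4237798279267085603471723065040391395371765772355599095574930549919283935948790851245556780482166784) 2187250724783011924372502227117621365353169430893212436425770606409952999199375923223513177023053824 := TL0s_c0m.sub chk1056
theorem TL0s_c1m : C3.Mem R2 (C3.gen R2 2187250724783011924372502227117621365353169430893212436425770606409952999199375923223513177023053824) 2187250724783011924372502227117621365353169430893212436425770606409952999199375923223513177023053824 := TL0s_c1i.gen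
theorem fx1058 : C3.gen R2 2187250724783011924372502227117621365353169430893212436425770606409952999199375923223513177023053824 ≤ stabilizer _ pt1041 := Act.fix_sound TL0s_c1i.top pt1041r chk1057
theorem cov1065 : Cov (C3.gen R2 4237798279267085603471723065040391395371765772355599095574930549919283935948790851245556780482166784) (C3.wds R2 [0]) pt1041 128 := Act.cov_of_seen (Act.pieces_sound TL0s_c0m TL0s_c0m.top pt1041r chk1063) chk1064
theorem TL0s_c2i : C3.Mem R2 (C3.gen R2 2187250724783011924372502227117621365353169430893212436425770606409952999199375923223513177023053824) 0 := TL0s_c1m.sub chk1066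
theorem TL0s_c2m : C3.Mem R2 (C3.gen R2 0) 0 := TL0s_c2i.gen
theorem fx1068 : C3.gen R2 0 ≤ stabilizer _ pt1042 := Act.fix_sound TL0s_c2i.top pt1042r chk1067
theorem cov1075 : Cov (C3.gen R2 2187250724783011924372502227117621365353169430893212436425770606409952999199375923223513177023053824) (C3.wds R2 [0]) pt1042 7 := Act.cov_of_seen (Act.pieces_sound TL0s_c1m TL0s_c1m.top pt1042r chk1073) chk1074
theorem TL0s_lb3 : 1 ≤ Nat.card (C3.gen R2 0) := Nat.card_pos
theorem TL0s_lo2 : 7 * Nat.card (C3.gen R2 0) ≤ Nat.card (C3.gen R2 2187250724783011924372502227117621365353169430893212436425770606409952999199375923223513177023053824) := cov1075.low le_rfl (GC.wds_zero _) TL0s_c2i.gen_le fx1068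
theorem TL0s_lb2 : 7 ≤ Nat.card (C3.gen R2 2187250724783011924372502227117621365353169430893212436425770606409952999199375923223513177023053824) := low_step TL0s_lo2 TL0s_lb3 (by decide +kernel)
theorem TL0s_lo1 : 128 * Nat.card (C3.gen R2 2187250724783011924372502227117621365353169430893212436425770606409952999199375923223513177023053824) ≤ Nat.card (C3.gen R2 4237798279267085603471723065040391395371765772355599095574930549919283935948790851245556780482166784) := cov1065.low le_rfl (GC.wds_zero _) TL0s_c1i.gen_le fx1058
theorem TL0s_lb1 : 896 ≤ Nat.card (C3.gen R2 4237798279267085603471723065040391395371765772355599095574930549919283935948790851245556780482166784) := low_step TL0s_lo1 TL0s_lb2 (by decide +kernel)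
theorem TL0s_lo0 : 16 * Nat.card (C3.gen R2 4237798279267085603471723065040391395371765772355599095574930549919283935948790851245556780482166784) ≤ Nat.card (C3.gen R2 119615274011570964614121215545494918417751453251972555117034330038044304643715870801285876868448256) := cov1055.low le_rfl (GC.wds_zero _) TL0s_c0i.gen_le fx1048
theorem TL0s_lb0 : 14336 ≤ Nat.card (C3.gen R2 119615274011570964614121215545494918417751453251972555117034330038044304643715870801285876868448256) := low_step TL0s_lo0 TL0s_lb1 (by decide +kernel)
theorem TL0_lb : 14336 ≤ Nat.card (CL.gen R 119615274011570964614121215545494918417751453251972555117034330038044304643715870801285876868448256) := low_map _ TL0s_map TL0s_lb0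
theorem TL1_in1078 : CL.Mem R (CL.gen R 1852560349584913310180042429098958978867306795680848985018001561329727346573312) 13123504348698071546235013362705728192119016585359274618554623638459717995196255539341079062138322944 := PL_s1_933.slp' chk1077
theorem TL1_m0 : CL.Mem R (CL.gen R 13123504348698071546235013362705728192119016585359274618554623638459717995196255539341079062138322944) 13123504348698071546235013362705728192119016585359274618554623638459717995196255539341079062138322944 := GC.Mem.gen TL1_in1078.top
theorem TL1s_m0 : C3.Mem R2 (C3.gen R2 13123504348698071546235013362705728192119016585359274618554623638459717995196255539341079062138322944) 13123504348698071546235013362705728192119016585359274618554623638459717995196255539341079062138322944 := GC.Mem.gen (TL1_m0.map hl2).top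
theorem TL1s_map : (C3.gen R2 13123504348698071546235013362705728192119016585359274618554623638459717995196255539341079062138322944) = (CL.gen R 13123504348698071546235013362705728192119016585359274618554623638459717995196255539341079062138322944).map (MonoidHom.snd _ _) := TL1_m0.gen_map hl2
theorem pt1079e : ∃ x, E0.Rep pt1079c x := act2_rep (n := 26) (d := 5) (by decide) (by decide) (c := 0x14ed) (by decide +kernel)
noncomputable def pt1079 := Classical.choose pt1079e
theorem pt1079r : E0.Rep pt1079c pt1079 := Classical.choose_spec pt1079e
theorem pt1080e : ∃ x, E0.Rep pt1080c x := act2_rep (n := 26) (d := 5) (by decide) (by decide) (c := 0x21fa955) (by decide +kernel)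
noncomputable def pt1080 := Classical.choose pt1080e
theorem pt1080r : E0.Rep pt1080c pt1080 := Classical.choose_spec pt1080e
theorem pt1081e : ∃ x, E0.Rep pt1081c x := act2_rep (n := 26) (d := 5) (by decide) (by decide) (c := 0x25610da) (by decide +kernel)
noncomputable def pt1081 := Classical.choose pt1081e
theorem pt1081r : E0.Rep pt1081c pt1081 := Classical.choose_spec pt1081e
theorem TL1s_s0_1084 : C3.Mem R2 (C3.gen R2 13123504348698071546235013362705728192119016585359274618554623638459717995196255539341079062138322944) 1115497869639336081429976135829986896330116409755538342577143009269076029591681720843991720281757450240 := TL1s_m0.slp' chk1083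
theorem TL1s_c0i : C3.Mem R2 (C3.gen R2 13123504348698071546235013362705728192119016585359274618554623638459717995196255539341079062138322944) 1084876359492373914488761104650340197215172037723033368467182220779336687602890457918862535803434696704 := TL1s_s0_1084.sub chk1085
theorem TL1s_c0m : C3.Mem R2 (C3.gen R2 1084876359492373914488761104650340197215172037723033368467182220779336687602890457918862535803434696704) 1084876359492373914488761104650340197215172037723033368467182220779336687602890457918862535803434696704 := TL1s_c0i.gen
theorem fx1087 : C3.gen R2 1084876359492373914488761104650340197215172037723033368467182220779336687602890457918862535803434696704 ≤ stabilizer _ pt1079 := Act.fix_sound TL1s_c0i.top pt1079r chk1086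
theorem cov1094 : Cov (C3.gen R2 13123504348698071546235013362705728192119016585359274618554623638459717995196255539341079062138322944) (C3.wds R2 [0]) pt1079 14 := Act.cov_of_seen (Act.pieces_sound TL1s_s0_1084 TL1s_s0_1084.top pt1079r chk1092) chk1093
theorem TL1s_c1i : C3.Mem R2 (C3.gen R2 1084876359492373914488761104650340197215172037723033368467182220779336687602890457918862535803434696704) 559936185544451052639360570142111069530411374308662383724997275240947967795040236345219373317901778944 := TL1s_c0m.sub chk1095
theorem TL1s_c1m : C3.Mem R2 (C3.gen R2 559936185544451052639360570142111069530411374308662383724997275240947967795040236345219373317901778944) 559936185544451052639360570142111069530411374308662383724997275240947967795040236345219373317901778944 := TL1s_c1i.gen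
theorem fx1097 : C3.gen R2 559936185544451052639360570142111069530411374308662383724997275240947967795040236345219373317901778944 ≤ stabilizer _ pt1080 := Act.fix_sound TL1s_c1i.top pt1080r chk1096
theorem cov1104 : Cov (C3.gen R2 1084876359492373914488761104650340197215172037723033368467182220779336687602890457918862535803434696704) (C3.wds R2 [0]) pt1080 32 := Act.cov_of_seen (Act.pieces_sound TL1s_c0m TL1s_c0m.top pt1080r chk1102) chk1103
theorem TL1s_c2i : C3.Mem R2 (C3.gen R2 559936185544451052639360570142111069530411374308662383724997275240947967795040236345219373317901778944) 0 := TL1s_c1m.sub chk1105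
theorem TL1s_c2m : C3.Mem R2 (C3.gen R2 0) 0 := TL1s_c2i.gen
theorem fx1107 : C3.gen R2 0 ≤ stabilizer _ pt1081 := Act.fix_sound TL1s_c2i.top pt1081r chk1106
theorem cov1114 : Cov (C3.gen R2 559936185544451052639360570142111069530411374308662383724997275240947967795040236345219373317901778944) (C3.wds R2 [0]) pt1081 2 := Act.cov_of_seen (Act.pieces_sound TL1s_c1m TL1s_c1m.top pt1081r chk1112) chk1113
theorem TL1s_lb3 : 1 ≤ Nat.card (C3.gen R2 0) := Nat.card_pos
theorem TL1s_lo2 : 2 * Nat.card (C3.gen R2 0) ≤ Nat.card (C3.gen R2 559936185544451052639360570142111069530411374308662383724997275240947967795040236345219373317901778944) := cov1114.low le_rfl (GC.wds_zero _) TL1s_c2i.gen_le fx1107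
theorem TL1s_lb2 : 2 ≤ Nat.card (C3.gen R2 559936185544451052639360570142111069530411374308662383724997275240947967795040236345219373317901778944) := low_step TL1s_lo2 TL1s_lb3 (by decide +kernel)
theorem TL1s_lo1 : 32 * Nat.card (C3.gen R2 559936185544451052639360570142111069530411374308662383724997275240947967795040236345219373317901778944) ≤ Nat.card (C3.gen R2 1084876359492373914488761104650340197215172037723033368467182220779336687602890457918862535803434696704) := cov1104.low le_rfl (GC.wds_zero _) TL1s_c1i.gen_le fx1097
theorem TL1s_lb1 : 64 ≤ Nat.card (C3.gen R2 1084876359492373914488761104650340197215172037723033368467182220779336687602890457918862535803434696704) := low_step TL1s_lo1 TL1s_lb2 (by decide +kernel)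
theorem TL1s_lo0 : 14 * Nat.card (C3.gen R2 1084876359492373914488761104650340197215172037723033368467182220779336687602890457918862535803434696704) ≤ Nat.card (C3.gen R2 13123504348698071546235013362705728192119016585359274618554623638459717995196255539341079062138322944) := cov1094.low le_rfl (GC.wds_zero _) TL1s_c0i.gen_le fx1087
theorem TL1s_lb0 : 896 ≤ Nat.card (C3.gen R2 13123504348698071546235013362705728192119016585359274618554623638459717995196255539341079062138322944) := low_step TL1s_lo0 TL1s_lb1 (by decide +kernel)
theorem TL1_lb : 896 ≤ Nat.card (CL.gen R 13123504348698071546235013362705728192119016585359274618554623638459717995196255539341079062138322944) := low_map _ TL1s_map TL1s_lb0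
theorem TL2_in1117 : CL.Mem R (CL.gen R 1852560349584913310180042429098958978867306795680848985018001561329727346573312) 3359617113266706315836163420852666417182468245851974302349983651445687806770241418071316239907410673664 := PL_s1_933.slp' chk1116
theorem TL2_m0 : CL.Mem R (CL.gen R 3359617113266706315836163420852666417182468245851974302349983651445687806770241418071316239907410673664) 3359617113266706315836163420852666417182468245851974302349983651445687806770241418071316239907410673664 := GC.Mem.gen TL2_in1117.top
theorem TL2s_m0 : C3.Mem R2 (C3.gen R2 3359617113266706315836163420852666417182468245851974302349983651445687806770241418071316239907410673664) 3359617113266706315836163420852666417182468245851974302349983651445687806770241418071316239907410673664 := GC.Mem.gen (TL2_m0.map hl2).top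
theorem TL2s_map : (C3.gen R2 3359617113266706315836163420852666417182468245851974302349983651445687806770241418071316239907410673664) = (CL.gen R 3359617113266706315836163420852666417182468245851974302349983651445687806770241418071316239907410673664).map (MonoidHom.snd _ _) := TL2_m0.gen_map hl2
theorem pt1118e : ∃ x, E0.Rep pt1118c x := act2_rep (n := 26) (d := 5) (by decide) (by decide) (c := 0x4000) (by decide +kernel)
noncomputable def pt1118 := Classical.choose pt1118e
theorem pt1118r : E0.Rep pt1118c pt1118 := Classical.choose_spec pt1118e
theorem pt1119e : ∃ x, E0.Rep pt1119c x := act2_rep (n := 26) (d := 5) (by decide) (by decide) (c := 0x21fa955) (by decide +kernel)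
noncomputable def pt1119 := Classical.choose pt1119e
theorem pt1119r : E0.Rep pt1119c pt1119 := Classical.choose_spec pt1119e
theorem TL2s_s0_1122 : C3.Mem R2 (C3.gen R2 3359617113266706315836163420852666417182468245851974302349983651445687806770241418071316239907410673664) 70551959378600832632559431837905994760831833162891460349349656680359443942175069779497641038055624146944 := TL2s_m0.slp' chk1121
theorem TL2s_c0i : C3.Mem R2 (C3.gen R2 3359617113266706315836163420852666417182468245851974302349983651445687806770241418071316239907410673664) 67192342265334126316723268417053328343649364917039486046999673028913756135404828361426324798148213473280 := TL2s_s0_1122.sub chk1123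
theorem TL2s_c0m : C3.Mem R2 (C3.gen R2 67192342265334126316723268417053328343649364917039486046999673028913756135404828361426324798148213473280) 67192342265334126316723268417053328343649364917039486046999673028913756135404828361426324798148213473280 := TL2s_c0i.gen
theorem fx1125 : C3.gen R2 67192342265334126316723268417053328343649364917039486046999673028913756135404828361426324798148213473280 ≤ stabilizer _ pt1118 := Act.fix_sound TL2s_c0i.top pt1118r chk1124
theorem cov1132 : Cov (C3.gen R2 3359617113266706315836163420852666417182468245851974302349983651445687806770241418071316239907410673664) (C3.wds R2 [0]) pt1118 9 := Act.cov_of_seen (Act.pieces_sound TL2s_s0_1122 TL2s_s0_1122.top pt1118r chk1130) chk1131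
theorem TL2s_c1i : C3.Mem R2 (C3.gen R2 67192342265334126316723268417053328343649364917039486046999673028913756135404828361426324798148213473280) 0 := TL2s_c0m.sub chk1133
theorem TL2s_c1m : C3.Mem R2 (C3.gen R2 0) 0 := TL2s_c1i.gen
theorem fx1135 : C3.gen R2 0 ≤ stabilizer _ pt1119 := Act.fix_sound TL2s_c1i.top pt1119r chk1134
theorem cov1142 : Cov (C3.gen R2 67192342265334126316723268417053328343649364917039486046999673028913756135404828361426324798148213473280) (C3.wds R2 [0]) pt1119 56 := Act.cov_of_seen (Act.pieces_sound TL2s_c0m TL2s_c0m.top pt1119r chk1140) chk1141
theorem TL2s_lb2 : 1 ≤ Nat.card (C3.gen R2 0) := Nat.card_pos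
theorem TL2s_lo1 : 56 * Nat.card (C3.gen R2 0) ≤ Nat.card (C3.gen R2 67192342265334126316723268417053328343649364917039486046999673028913756135404828361426324798148213473280) := cov1142.low le_rfl (GC.wds_zero _) TL2s_c1i.gen_le fx1135
theorem TL2s_lb1 : 56 ≤ Nat.card (C3.gen R2 67192342265334126316723268417053328343649364917039486046999673028913756135404828361426324798148213473280) := low_step TL2s_lo1 TL2s_lb2 (by decide +kernel)
theorem TL2s_lo0 : 9 * Nat.card (C3.gen R2 67192342265334126316723268417053328343649364917039486046999673028913756135404828361426324798148213473280) ≤ Nat.card (C3.gen R2 3359617113266706315836163420852666417182468245851974302349983651445687806770241418071316239907410673664) := cov1132.low le_rfl (GC.wds_zero _) TL2s_c0i.gen_le fx1125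
theorem TL2s_lb0 : 504 ≤ Nat.card (C3.gen R2 3359617113266706315836163420852666417182468245851974302349983651445687806770241418071316239907410673664) := low_step TL2s_lo0 TL2s_lb1 (by decide +kernel)
theorem TL2_lb : 504 ≤ Nat.card (CL.gen R 3359617113266706315836163420852666417182468245851974302349983651445687806770241418071316239907410673664) := low_map _ TL2s_map TL2s_lb0
theorem pt1143e : ∃ x, L0.Rep pt1143c x := via_rep hl2 E0 (act2_rep (n := 26) (d := 5) (by decide) (by decide) (c := 0x2) (by decide +kernel))
noncomputable def pt1143 := Classical.choose pt1143e
theorem pt1143r : L0.Rep pt1143c pt1143 := Classical.choose_spec pt1143e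
theorem LL_s1_1146 : CL.Mem R (CL.gen R 3705233777381972436957178189237965504519626550331098009649322905456337420812288) 12815924252561436825150756571656737026843023334290249687528847814803869620189180592424375828873216 := LL_m1.slp' chk1145
theorem LL_I : CL.Mem R (CL.gen R 3705233777381972436957178189237965504519626550331098009649322905456337420812288) 12815922215525460496222803664814371814393362894278923145334569401583567379315164644264382595858432 := LL_s1_1146.sub chk1147
theorem cj1151 : band (conjB (prodOps 246016 P.ops (ops2 26)) R 2037035976328927952906842365212449660440011326542194278413220302240874015948159993233014784 260 (l1148)) (subM 119615274011570964614121215545494918417751453251972555117034330038044304643715870801285876868448256 (insL (l1148) 0)) = true := band_intro chk1149 chk1150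
theorem fx1153 : CL.gen R 119615274011570964614121215545494918417751453251972555117034330038044304643715870801285876868448256 ≤ stabilizer _ pt1143 := Act.fix_sound TL0_in1039.top pt1143r chk1152
theorem LL_Kc : ∀ κ ∈ (CL.gen R 119615274011570964614121215545494918417751453251972555117034330038044304643715870801285876868448256), (CL.el (R 260))⁻¹ * κ * CL.el (R 260) ∈ (CL.gen R 1852560349584913310180042429098958978867306795680848985018001561329727346573312) := PL_s1_933.conjB (LL_s1_1146.get (i := 260) (by decide +kernel)).top TL0_in1039.top cj1151
theorem cj1157 : band (conjA (prodOps 246016 P.ops (ops2 26)) R 2037035976328927952906842365212449660440011326542194278413220302240874015948159993233014784 260 (l1154)) (subM 119615274011570964614121215545494918417751453251972555117034330038044304643715870801285876868448256 (insL (l1154) 0)) = true := band_intro chk1155 chk1156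
theorem LL_T0c : ∀ τ ∈ (CL.gen R 119615274011570964614121215545494918417751453251972555117034330038044304643715870801285876868448256), CL.el (R 260) * τ * (CL.el (R 260))⁻¹ ∈ (CL.gen R 1852560349584913310180042429098958978867306795680848985018001561329727346573312) := PL_s1_933.conjA (LL_I.get (i := 260) (by decide +kernel)).top TL0_in1039.top cj1157
theorem cov1166 : Cov (CL.gen R 119615274011570964614121215545494918417751453251972555117034330038044304643715870801285876868448256) (CL.wds R (List.map Prod.fst (l1158))) pt1143 18 := Act.cov_of_seen (Act.pieces_sound TL0_m0 PL_s1_933.top pt1143r chk1164) chk1165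
theorem LL_T0d : Dec (CL.gen R 1852560349584913310180042429098958978867306795680848985018001561329727346573312) (CL.gen R 119615274011570964614121215545494918417751453251972555117034330038044304643715870801285876868448256) (CL.wds R (List.map Prod.fst (l1158))) (CL.gen R 119615274011570964614121215545494918417751453251972555117034330038044304643715870801285876868448256) := (cov1166.dec TL0_in1039.gen_le (GC.wds_sub PL_s1_933 chk1167) TL0_in1039.gen_le fx1153 (up_low PL_ub TL0_lb (by decide +kernel)))
theorem LL_T0p : ∀ x ∈ DC1 (CL.gen R 1852560349584913310180042429098958978867306795680848985018001561329727346573312) (CL.el (R 260)), x * CL.el (R 260) ∈ DCs (CL.gen R 1852560349584913310180042429098958978867306795680848985018001561329727346573312) (CL.els R 12815922215525460496222803664814371814393362894278923145334569401583567379315164644264382595858432) := GC.dc_piece' LL_T0d LL_T0c LL_Kc (PL_s1_933.dcRel LL_I.top (LL_I.get (i := 260) (by decide +kernel)).top (LL_s1_1146.get (i := 260) (by decide +kernel)).top chk1159)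
theorem LL_T0u : Nat.card (CL.gen R 1852560349584913310180042429098958978867306795680848985018001561329727346573312) ≤ 18 * Nat.card (CL.gen R 119615274011570964614121215545494918417751453251972555117034330038044304643715870801285876868448256) := up_low PL_ub TL0_lb (by decide +kernel)
theorem LL_T0n : (DC1 (CL.gen R 1852560349584913310180042429098958978867306795680848985018001561329727346573312) (CL.el (R 260))).ncard ≤ Nat.card (CL.gen R 1852560349584913310180042429098958978867306795680848985018001561329727346573312) * 18 := ncard_DC1 TL0_in1039.gen_le LL_T0c LL_T0u
theorem cj1171 : band (conjA (prodOps 246016 P.ops (ops2 26)) R 2037035976328927952906842365212449660440011326542194278413220302240874015948159993233014784 321 (l1168)) (subM 13123504348698071546235013362705728192119016585359274618554623638459717995196255539341079062138322944 (insL (l1168) 0)) = true := band_intro chk1169 chk1170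
theorem LL_T1c : ∀ τ ∈ (CL.gen R 13123504348698071546235013362705728192119016585359274618554623638459717995196255539341079062138322944), CL.el (R 321) * τ * (CL.el (R 321))⁻¹ ∈ (CL.gen R 1852560349584913310180042429098958978867306795680848985018001561329727346573312) := PL_s1_933.conjA (LL_I.get (i := 321) (by decide +kernel)).top TL1_in1078.top cj1171
theorem cov1180 : Cov (CL.gen R 13123504348698071546235013362705728192119016585359274618554623638459717995196255539341079062138322944) (CL.wds R (List.map Prod.fst (l1172))) pt1143 18 := Act.cov_of_seen (Act.pieces_sound TL1_m0 PL_s1_933.top pt1143r chk1178) chk1179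
theorem LL_T1d : Dec (CL.gen R 1852560349584913310180042429098958978867306795680848985018001561329727346573312) (CL.gen R 13123504348698071546235013362705728192119016585359274618554623638459717995196255539341079062138322944) (CL.wds R (List.map Prod.fst (l1172))) (CL.gen R 119615274011570964614121215545494918417751453251972555117034330038044304643715870801285876868448256) := (cov1180.dec TL1_in1078.gen_le (GC.wds_sub PL_s1_933 chk1181) TL0_in1039.gen_le fx1153 (up_low PL_ub TL0_lb (by decide +kernel)))
theorem LL_T1p : ∀ x ∈ DC1 (CL.gen R 1852560349584913310180042429098958978867306795680848985018001561329727346573312) (CL.el (R 321)), x * CL.el (R 260) ∈ DCs (CL.gen R 1852560349584913310180042429098958978867306795680848985018001561329727346573312) (CL.els R 12815922215525460496222803664814371814393362894278923145334569401583567379315164644264382595858432) := GC.dc_piece' LL_T1d LL_T1c LL_Kc (PL_s1_933.dcRel LL_I.top (LL_I.get (i := 321) (by decide +kernel)).top (LL_s1_1146.get (i := 260) (by decide +kernel)).top chk1173)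
theorem LL_T1u : Nat.card (CL.gen R 1852560349584913310180042429098958978867306795680848985018001561329727346573312) ≤ 288 * Nat.card (CL.gen R 13123504348698071546235013362705728192119016585359274618554623638459717995196255539341079062138322944) := up_low PL_ub TL1_lb (by decide +kernel)
theorem LL_T1n : (DC1 (CL.gen R 1852560349584913310180042429098958978867306795680848985018001561329727346573312) (CL.el (R 321))).ncard ≤ Nat.card (CL.gen R 1852560349584913310180042429098958978867306795680848985018001561329727346573312) * 288 := ncard_DC1 TL1_in1078.gen_le LL_T1c LL_T1u
theorem cj1185 : band (conjA (prodOps 246016 P.ops (ops2 26)) R 2037035976328927952906842365212449660440011326542194278413220302240874015948159993233014784 322 (l1182)) (subM 3359617113266706315836163420852666417182468245851974302349983651445687806770241418071316239907410673664 (insL (l1182) 0)) = true := band_intro chk1183 chk1184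
theorem LL_T2c : ∀ τ ∈ (CL.gen R 3359617113266706315836163420852666417182468245851974302349983651445687806770241418071316239907410673664), CL.el (R 322) * τ * (CL.el (R 322))⁻¹ ∈ (CL.gen R 1852560349584913310180042429098958978867306795680848985018001561329727346573312) := PL_s1_933.conjA (LL_I.get (i := 322) (by decide +kernel)).top TL2_in1117.top cj1185
theorem cov1194 : Cov (CL.gen R 3359617113266706315836163420852666417182468245851974302349983651445687806770241418071316239907410673664) (CL.wds R (List.map Prod.fst (l1186))) pt1143 18 := Act.cov_of_seen (Act.pieces_sound TL2_m0 PL_s1_933.top pt1143r chk1192) chk1193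
theorem LL_T2d : Dec (CL.gen R 1852560349584913310180042429098958978867306795680848985018001561329727346573312) (CL.gen R 3359617113266706315836163420852666417182468245851974302349983651445687806770241418071316239907410673664) (CL.wds R (List.map Prod.fst (l1186))) (CL.gen R 119615274011570964614121215545494918417751453251972555117034330038044304643715870801285876868448256) := (cov1194.dec TL2_in1117.gen_le (GC.wds_sub PL_s1_933 chk1195) TL0_in1039.gen_le fx1153 (up_low PL_ub TL0_lb (by decide +kernel)))
theorem LL_T2p : ∀ x ∈ DC1 (CL.gen R 1852560349584913310180042429098958978867306795680848985018001561329727346573312) (CL.el (R 322)), x * CL.el (R 260) ∈ DCs (CL.gen R 1852560349584913310180042429098958978867306795680848985018001561329727346573312) (CL.els R 12815922215525460496222803664814371814393362894278923145334569401583567379315164644264382595858432) := GC.dc_piece' LL_T2d LL_T2c LL_Kc (PL_s1_933.dcRel LL_I.top (LL_I.get (i := 322) (by decide +kernel)).top (LL_s1_1146.get (i := 260) (by decide +kernel)).top chk1187)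
theorem LL_T2u : Nat.card (CL.gen R 1852560349584913310180042429098958978867306795680848985018001561329727346573312) ≤ 512 * Nat.card (CL.gen R 3359617113266706315836163420852666417182468245851974302349983651445687806770241418071316239907410673664) := up_low PL_ub TL2_lb (by decide +kernel)
theorem LL_T2n : (DC1 (CL.gen R 1852560349584913310180042429098958978867306795680848985018001561329727346573312) (CL.el (R 322))).ncard ≤ Nat.card (CL.gen R 1852560349584913310180042429098958978867306795680848985018001561329727346573312) * 512 := ncard_DC1 TL2_in1117.gen_le LL_T2c LL_T2u
theorem LL_dc : ∀ x ∈ (CL.gen R 3705233777381972436957178189237965504519626550331098009649322905456337420812288), x ∈ DCs (CL.gen R 1852560349584913310180042429098958978867306795680848985018001561329727346573312) (CL.els R 12815922215525460496222803664814371814393362894278923145334569401583567379315164644264382595858432) := GC.dc_gen (MU := 1852673427797059126777135760139006525652319754650249024631321344126610074238976) PL_s1_933 (by decide +kernel) (GC.forall_els (L := [260]) (forall_cons ⟨PL_s1_933.inDC' LL_I.top (LL_s1_1146.get (i := 260) (by decide +kernel)).top chk1196, GC.forall_els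 (L := [260, 321, 322]) (forall_cons LL_T0p (forall_cons LL_T1p (forall_cons LL_T2p forall_nil))) (by decide +kernel)⟩ forall_nil) (by decide +kernel))
theorem LL_cs : ∀ p ∈ ([(260, 18), (321, 288), (322, 512)] : List (ℕ × ℕ)), (DC1 (CL.gen R 1852560349584913310180042429098958978867306795680848985018001561329727346573312) (CL.el (R p.1))).ncard ≤ Nat.card (CL.gen R 1852560349584913310180042429098958978867306795680848985018001561329727346573312) * p.2 := (forall_cons LL_T0n (forall_cons LL_T1n (forall_cons LL_T2n forall_nil)))
theorem LL_ix : Nat.card (CL.gen R 3705233777381972436957178189237965504519626550331098009649322905456337420812288) ≤ 819 * Nat.card (CL.gen R 1852560349584913310180042429098958978867306795680848985018001561329727346573312) := GC.card_dc [(260, 18), (321, 288), (322, 512)] LL_dc LL_cs (by decide +kernel)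
theorem LL_ub : Nat.card (CL.gen R 3705233777381972436957178189237965504519626550331098009649322905456337420812288) ≤ 211341312 := up_mul LL_ix PL_ub (by decide +kernel)
theorem Pb_m0 : C3.Mem R2 (C3.gen R2 1852560349584913310180042429098958978867306795680848985018001561329727346573312) 1852560349584913310180042429098958978867306795680848985018001561329727346573312 := GC.Mem.gen (PL_m0.map hl2).top
theorem Pb_map : (C3.gen R2 1852560349584913310180042429098958978867306795680848985018001561329727346573312) = (CL.gen R 1852560349584913310180042429098958978867306795680848985018001561329727346573312).map (MonoidHom.snd _ _) := PL_m0.gen_map hl2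
theorem Pb_m1 : C3.Mem R2 (C3.gen R2 1852560349584913310180042429098958978867306795680848985018001561329727346573312) 2037035976328927952906842365212449660440011326542194278413220302240874015948159993233014784 := by
  rw [Pb_map]; exact PL_s1_933.map hl2
theorem Pb_ub : Nat.card (C3.gen R2 1852560349584913310180042429098958978867306795680848985018001561329727346573312) ≤ 258048 := up_map _ Pb_map PL_ub
theorem Lb_m0 : C3.Mem R2 (C3.gen R2 3705233777381972436957178189237965504519626550331098009649322905456337420812288) 3705233777381972436957178189237965504519626550331098009649322905456337420812288 := GC.Mem.gen (LL_m0.map hl2).top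
theorem Lb_map : (C3.gen R2 3705233777381972436957178189237965504519626550331098009649322905456337420812288) = (CL.gen R 3705233777381972436957178189237965504519626550331098009649322905456337420812288).map (MonoidHom.snd _ _) := LL_m0.gen_map hl2
theorem Lb_m1 : C3.Mem R2 (C3.gen R2 3705233777381972436957178189237965504519626550331098009649322905456337420812288) 12815924252561436825150756571656737026843023334290249687528847814803869620189180592424375828873216 := by
  rw [Lb_map]; exact LL_s1_1146.map hl2
theorem Lb_ub : Nat.card (C3.gen R2 3705233777381972436957178189237965504519626550331098009649322905456337420812288) ≤ 211341312 := up_map _ Lb_map LL_ub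
theorem Lb_dc : ∀ x ∈ (C3.gen R2 3705233777381972436957178189237965504519626550331098009649322905456337420812288), x ∈ DCs (C3.gen R2 1852560349584913310180042429098958978867306795680848985018001561329727346573312) (C3.els R2 12815922215525460496222803664814371814393362894278923145334569401583567379315164644264382595858432) := dc_map hl2 Lb_map Pb_map LL_I.top LL_dc
theorem Lb_I : C3.Mem R2 (C3.gen R2 3705233777381972436957178189237965504519626550331098009649322905456337420812288) 12815922215525460496222803664814371814393362894278923145334569401583567379315164644264382595858432 := Lb_m1.sub (by decide +kernel)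
theorem Lb_max : ∀ L, (C3.gen R2 1852560349584913310180042429098958978867306795680848985018001561329727346573312) ≤ L → L ≤ (C3.gen R2 3705233777381972436957178189237965504519626550331098009649322905456337420812288) → L = (C3.gen R2 1852560349584913310180042429098958978867306795680848985018001561329727346573312) ∨ L = (C3.gen R2 3705233777381972436957178189237965504519626550331098009649322905456337420812288) := maximal_of_DCs Lb_dc (Pb_m1.maxChk Lb_I.top chk1198 chk1199)
theorem pt1200e : ∃ x, E0.Rep pt1200c x := act2_rep (n := 26) (d := 5) (by decide) (by decide) (c := 0x1) (by decide +kernel)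
noncomputable def pt1200 := Classical.choose pt1200e
theorem pt1200r : E0.Rep pt1200c pt1200 := Classical.choose_spec pt1200e
theorem Lb_s1_1203 : C3.Mem R2 (C3.gen R2 3705233777381972436957178189237965504519626550331098009649322905456337420812288) 71671844565613987299274978128946788556629682754532119407049338759689154681634770441368672209067256578048 := Lb_m1.slp' chk1202
noncomputable def pt1204 := C3.wd R2 286151390006532 • pt1200
theorem pt1204r : E0.Rep pt1204c pt1204 := Act.appW_ok Lb_s1_1203 chk1205 pt1200r
theorem pt1204g : C3.wd R2 286151390006532 ∈ (C3.gen R2 3705233777381972436957178189237965504519626550331098009649322905456337420812288) := Lb_s1_1203.wd_mem chk1205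
noncomputable def pt1206 := C3.wd R2 293113678093618434 • pt1200
theorem pt1206r : E0.Rep pt1206c pt1206 := Act.appW_ok Lb_s1_1203 chk1207 pt1200r
theorem pt1206g : C3.wd R2 293113678093618434 ∈ (C3.gen R2 3705233777381972436957178189237965504519626550331098009649322905456337420812288) := Lb_s1_1203.wd_mem chk1207
noncomputable def pt1208 := C3.wd R2 293113677999234307 • pt1200
theorem pt1208r : E0.Rep pt1208c pt1208 := Act.appW_ok Lb_s1_1203 chk1209 pt1200r
theorem pt1208g : C3.wd R2 293113677999234307 ∈ (C3.gen R2 3705233777381972436957178189237965504519626550331098009649322905456337420812288) := Lb_s1_1203.wd_mem chk1209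
theorem Pb_s1_1212 : C3.Mem R2 (C3.gen R2 1852560349584913310180042429098958978867306795680848985018001561329727346573312) 36552634192341766753333434347804963525787619727319140849579148669923361750880528869489936638352621362479104 := Pb_m1.slp' chk1211
theorem Pb_c0i : C3.Mem R2 (C3.gen R2 1852560349584913310180042429098958978867306795680848985018001561329727346573312) 36552634192341764716297458018877010618945254514869480409567822127729083337660226628615920690192628129464320 := Pb_s1_1212.sub chk1213
theorem Pb_c0m : C3.Mem R2 (C3.gen R2 36552634192341764716297458018877010618945254514869480409567822127729083337660226628615920690192628129464320) 36552634192341764716297458018877010618945254514869480409567822127729083337660226628615920690192628129464320 := Pb_c0i.gen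
theorem fx1215 : C3.gen R2 36552634192341764716297458018877010618945254514869480409567822127729083337660226628615920690192628129464320 ≤ stabilizer _ pt1204 := Act.fix_sound Pb_c0i.top pt1204r chk1214
theorem cov1222 : Cov (C3.gen R2 1852560349584913310180042429098958978867306795680848985018001561329727346573312) (C3.wds R2 [0]) pt1204 288 := Act.cov_of_seen (Act.pieces_sound Pb_s1_1212 Pb_s1_1212.top pt1204r chk1220) chk1221
theorem Pb_c1i : C3.Mem R2 (C3.gen R2 36552634192341764716297458018877010618945254514869480409567822127729083337660226628615920690192628129464320) 27521983391880858139329850743625043289558779870019373484851066072643074513061817696840222637321508238655488 := Pb_c0m.sub chk1223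
theorem Pb_c1m : C3.Mem R2 (C3.gen R2 27521983391880858139329850743625043289558779870019373484851066072643074513061817696840222637321508238655488) 27521983391880858139329850743625043289558779870019373484851066072643074513061817696840222637321508238655488 := Pb_c1i.gen
theorem fx1225 : C3.gen R2 27521983391880858139329850743625043289558779870019373484851066072643074513061817696840222637321508238655488 ≤ stabilizer _ pt1206 := Act.fix_sound Pb_c1i.top pt1206r chk1224
theorem cov1232 : Cov (C3.gen R2 36552634192341764716297458018877010618945254514869480409567822127729083337660226628615920690192628129464320) (C3.wds R2 [0]) pt1206 224 := Act.cov_of_seen (Act.pieces_sound Pb_c0m Pb_c0m.top pt1206r chk1230) chk1231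
theorem Pb_c2i : C3.Mem R2 (C3.gen R2 27521983391880858139329850743625043289558779870019373484851066072643074513061817696840222637321508238655488) 0 := Pb_c1m.sub chk1233
theorem Pb_c2m : C3.Mem R2 (C3.gen R2 0) 0 := Pb_c2i.gen
theorem fx1235 : C3.gen R2 0 ≤ stabilizer _ pt1208 := Act.fix_sound Pb_c2i.top pt1208r chk1234
theorem cov1242 : Cov (C3.gen R2 27521983391880858139329850743625043289558779870019373484851066072643074513061817696840222637321508238655488) (C3.wds R2 [0]) pt1208 4 := Act.cov_of_seen (Act.pieces_sound Pb_c1m Pb_c1m.top pt1208r chk1240) chk1241
theorem Pb_lb3 : 1 ≤ Nat.card (C3.gen R2 0) := Nat.card_pos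
theorem Pb_lo2 : 4 * Nat.card (C3.gen R2 0) ≤ Nat.card (C3.gen R2 27521983391880858139329850743625043289558779870019373484851066072643074513061817696840222637321508238655488) := cov1242.low le_rfl (GC.wds_zero _) Pb_c2i.gen_le fx1235
theorem Pb_lb2 : 4 ≤ Nat.card (C3.gen R2 27521983391880858139329850743625043289558779870019373484851066072643074513061817696840222637321508238655488) := low_step Pb_lo2 Pb_lb3 (by decide +kernel)
theorem Pb_lo1 : 224 * Nat.card (C3.gen R2 27521983391880858139329850743625043289558779870019373484851066072643074513061817696840222637321508238655488) ≤ Nat.card (C3.gen R2 36552634192341764716297458018877010618945254514869480409567822127729083337660226628615920690192628129464320) := cov1232.low le_rfl (GC.wds_zero _) Pb_c1i.gen_le fx1225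
theorem Pb_lb1 : 896 ≤ Nat.card (C3.gen R2 36552634192341764716297458018877010618945254514869480409567822127729083337660226628615920690192628129464320) := low_step Pb_lo1 Pb_lb2 (by decide +kernel)
theorem Pb_lo0 : 288 * Nat.card (C3.gen R2 36552634192341764716297458018877010618945254514869480409567822127729083337660226628615920690192628129464320) ≤ Nat.card (C3.gen R2 1852560349584913310180042429098958978867306795680848985018001561329727346573312) := cov1222.low le_rfl (GC.wds_zero _) Pb_c0i.gen_le fx1215
theorem Pb_lb0 : 258048 ≤ Nat.card (C3.gen R2 1852560349584913310180042429098958978867306795680848985018001561329727346573312) := low_step Pb_lo0 Pb_lb1 (by decide +kernel)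
theorem Pb_st0 : (C3.gen R2 1852560349584913310180042429098958978867306795680848985018001561329727346573312) ⊓ stabilizer _ pt1204 = (C3.gen R2 36552634192341764716297458018877010618945254514869480409567822127729083337660226628615920690192628129464320) ∧ (orbit (C3.gen R2 1852560349584913310180042429098958978867306795680848985018001561329727346573312) pt1204).ncard = 288 := cov1222.stab le_rfl (GC.wds_zero _) Pb_c0i.gen_le fx1215 (up_low Pb_ub Pb_lb1 (by decide +kernel))
theorem Pb_ub1 : Nat.card (C3.gen R2 36552634192341764716297458018877010618945254514869480409567822127729083337660226628615920690192628129464320) ≤ 896 := up_step Pb_lo0 Pb_ub (by decide +kernel)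
theorem Pb_st1 : (C3.gen R2 36552634192341764716297458018877010618945254514869480409567822127729083337660226628615920690192628129464320) ⊓ stabilizer _ pt1206 = (C3.gen R2 27521983391880858139329850743625043289558779870019373484851066072643074513061817696840222637321508238655488) ∧ (orbit (C3.gen R2 36552634192341764716297458018877010618945254514869480409567822127729083337660226628615920690192628129464320) pt1206).ncard = 224 := cov1232.stab le_rfl (GC.wds_zero _) Pb_c1i.gen_le fx1225 (up_low Pb_ub1 Pb_lb2 (by decide +kernel))
theorem Pb_ub2 : Nat.card (C3.gen R2 27521983391880858139329850743625043289558779870019373484851066072643074513061817696840222637321508238655488) ≤ 4 := up_step Pb_lo1 Pb_ub1 (by decide +kernel)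
theorem Pb_st2 : (C3.gen R2 27521983391880858139329850743625043289558779870019373484851066072643074513061817696840222637321508238655488) ⊓ stabilizer _ pt1208 = (C3.gen R2 0) ∧ (orbit (C3.gen R2 27521983391880858139329850743625043289558779870019373484851066072643074513061817696840222637321508238655488) pt1208).ncard = 4 := cov1242.stab le_rfl (GC.wds_zero _) Pb_c2i.gen_le fx1235 (up_low Pb_ub2 Pb_lb3 (by decide +kernel))
theorem Pb_ub3 : Nat.card (C3.gen R2 0) ≤ 1 := up_step Pb_lo2 Pb_ub2 (by decide +kernel)
theorem cov1249 : Cov (C3.gen R2 3705233777381972436957178189237965504519626550331098009649322905456337420812288) (C3.wds R2 [0]) pt1200 819 := Act.cov_of_seen (Act.pieces_sound Lb_s1_1203 Lb_s1_1203.top pt1200r chk1247) chk1248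
theorem fx1251 : C3.gen R2 1852560349584913310180042429098958978867306795680848985018001561329727346573312 ≤ stabilizer _ pt1200 := Act.fix_sound (PL_m0.map hl2).top pt1200r chk1250
theorem Lb_cov : Cov (C3.gen R2 3705233777381972436957178189237965504519626550331098009649322905456337420812288) (C3.wds R2 [0]) pt1200 819 := cov1249
theorem Lb_lo : 819 * Nat.card (C3.gen R2 1852560349584913310180042429098958978867306795680848985018001561329727346573312) ≤ Nat.card (C3.gen R2 3705233777381972436957178189237965504519626550331098009649322905456337420812288) := cov1249.low le_rfl (GC.wds_zero _) (Lb_s1_1203.sub chk1252).gen_le fx1251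
theorem Lb_lb : 211341312 ≤ Nat.card (C3.gen R2 3705233777381972436957178189237965504519626550331098009649322905456337420812288) := low_step Lb_lo Pb_lb0 (by decide +kernel)
theorem Lcore (N : Subgroup _) (h : N ≤ (C3.gen R2 1852560349584913310180042429098958978867306795680848985018001561329727346573312)) (hN : NormBy (C3.gen R2 3705233777381972436957178189237965504519626550331098009649322905456337420812288) N) : N ≤ (C3.gen R2 0) := (le_next Pb_st2 (le_next Pb_st1 (le_next Pb_st0 h (hN.fix (h.trans fx1251) pt1204g)) (hN.fix (h.trans fx1251) pt1206g)) (hN.fix (h.trans fx1251) pt1208g))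
theorem Lb_s2_1255 : C3.Mem R2 (C3.gen R2 3705233777381972436957178189237965504519626550331098009649322905456337420812288) 36767649700406758173072409302962337841301669509447030099208470768950455172097391699561665521971078241452032 := Lb_s1_1203.slp' chk1254
theorem Lb_s3_1258 : C3.Mem R2 (C3.gen R2 3705233777381972436957178189237965504519626550331098009649322905456337420812288) 256943516835453623287711215251962684157771908469602017978016999350095051276591933274283446620543144150695936 := Lb_s2_1255.slp' chk1257
theorem Lncl (N : Subgroup _) (hN : NormBy (C3.gen R2 3705233777381972436957178189237965504519626550331098009649322905456337420812288) N) (hz : C3.el (R2 354) ∈ N) : C3.gen R2 3705233777381972436957178189237965504519626550331098009649322905456337420812288 ≤ N := by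
  have h0 := (GC.Mem.single (Lb_s3_1258.get (i := 354) (by decide +kernel)).top hz).lor' (Lb_s3_1258.nconj (GC.Mem.single (Lb_s3_1258.get (i := 354) (by decide +kernel)).top hz) hN (Lb_s3_1258.sub chk1259).top chk1261) (M'' := 256871844990888009300411940273833737369215278786847485858609950011335362121910298503842077948334076894117888) (by decide +kernel)
  have h1 := Lb_s3_1258.ncop h0 hN chk1263
  exact h1.gen_le
theorem Ldich (N : Subgroup _) (h : N ≤ (C3.gen R2 3705233777381972436957178189237965504519626550331098009649322905456337420812288)) (hN : NormBy (C3.gen R2 3705233777381972436957178189237965504519626550331098009649322905456337420812288) N) : N ≤ (C3.gen R2 0) ∨ N = (C3.gen R2 3705233777381972436957178189237965504519626550331098009649322905456337420812288) :=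
  normal_dichotomy (Lb_s3_1258.sub chk1265).gen_le Lb_max Lcore (p := 13) (k := 1) (n := 819) (by norm_num)
    (eq_mul_of Lb_ub Lb_lb Pb_ub Pb_lb0 (by decide +kernel)) (by norm_num)
    (not_dvd_of Lb_ub Lb_lb (by decide +kernel)) (Lb_s3_1258.get (i := 354) (by decide +kernel)).el_mem ((Lb_s3_1258.get (i := 354) (by decide +kernel)).prime_dvd (by norm_num) chk1264).1.1
    (fun N _ hN hz => Lncl N hN hz) N h hN
theorem Lb_simple : IsSimpleGroup (C3.gen R2 3705233777381972436957178189237965504519626550331098009649322905456337420812288) := simple_of_dichotomy (ne_bot_of Lb_lb (by decide +kernel)) fun N h hN => GC.gen_zero (C := C3) (R := R2) ▸ Ldich N h hN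
theorem L1_m0 : C1.Mem R1 (C1.gen R1 3705233777381972436957178189237965504519626550331098009649322905456337420812288) 3705233777381972436957178189237965504519626550331098009649322905456337420812288 := GC.Mem.gen (LL_m0.map hl1).top
theorem L1_map : (C1.gen R1 3705233777381972436957178189237965504519626550331098009649322905456337420812288) = (CL.gen R 3705233777381972436957178189237965504519626550331098009649322905456337420812288).map (MonoidHom.fst _ _) := LL_m0.gen_map hl1
theorem L1_m1 : C1.Mem R1 (C1.gen R1 3705233777381972436957178189237965504519626550331098009649322905456337420812288) 12815924252561436825150756571656737026843023334290249687528847814803869620189180592424375828873216 := by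
  rw [L1_map]; exact LL_s1_1146.map hl1
theorem L1_ub : Nat.card (C1.gen R1 3705233777381972436957178189237965504519626550331098009649322905456337420812288) ≤ 211341312 := up_map _ L1_map LL_ub
theorem L1_simple : IsSimpleGroup (C1.gen R1 3705233777381972436957178189237965504519626550331098009649322905456337420812288) ∧ Nat.card (C1.gen R1 3705233777381972436957178189237965504519626550331098009649322905456337420812288) = 211341312 :=
  have h := simple_map _ L1_map (simple_of_map _ Lb_map Lb_simple LL_ub Lb_lb) fun h =>
    ((L1_m1.get (i := 246) (by decide +kernel)).prime_dvd Nat.prime_two chk1266).1.2 (Subgroup.mem_bot.1 (h ▸ (L1_m1.get (i := 246) (by decide +kernel)).el_mem))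
  ⟨h.1, h.2.trans (le_antisymm LL_ub (low_map _ Lb_map Lb_lb))⟩
theorem K1_m0 : C1.Mem R1 (C1.gen R1 7410580632976090690511449709515978555824266059631596058911965593709557569290240) 7410580632976090690511449709515978555824266059631596058911965593709557569290240 := GC.Mem.gen Lin857.top
theorem K1_m1 : C1.Mem R1 (C1.gen R1 7410580632976090690511449709515978555824266059631596058911965593709557569290240) 12815924252561436828856103427250855280397294854568262738833487324104367669451823280677595977351168 := K1_m0.lor' (L1_m1.mono (K1_m0.sub chk1267).gen_le) chk1268
theorem cj1272 : band (conjB P.ops R1 12815924252561436825150756571656737026843023334290249687528847814803869620189180592424375828873216 261 (l1269)) (subM 3705233777381972436957178189237965504519626550331098009649322905456337420812288 (insL (l1269) 0)) = true := band_intro chk1270 chk1271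
theorem K1_dv : Nat.card (C1.gen R1 7410580632976090690511449709515978555824266059631596058911965593709557569290240) ∣ 3 * Nat.card (C1.gen R1 3705233777381972436957178189237965504519626550331098009649322905456337420812288) := GC.card_ins (L1_m1.pc (m := 3) (w := 0) (Lin857.get (i := 261) (by decide +kernel)).top L1_m0.top cj1272 chk1273) (by decide +kernel)
theorem K1_ub : Nat.card (C1.gen R1 7410580632976090690511449709515978555824266059631596058911965593709557569290240) ≤ 634023936 := up_mul (Nat.le_of_dvd (Nat.mul_pos (by decide) Nat.card_pos) K1_dv) L1_simple.2.le (by decide +kernel)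
theorem SK0_m0 : C1.Mem R1 (C1.gen R1 0) 0 := GC.Mem.gen (GC.Mem.zero ⊤)
theorem SKin1276 : C1.Mem R1 (C1.gen R1 7410580632976090690511449709515978555824266059631596058911965593709557569290240) 9100602508248603758071737312558680981080769877019739498990752514687309972319107718421833618740978724248748032 := K1_m1.slp' chk1275
theorem SK1_m0 : C1.Mem R1 (C1.gen R1 293567822846729153486185074598667128421960318613539983838411371441526128139326055432962374798096087878991872) 293567822846729153486185074598667128421960318613539983838411371441526128139326055432962374798096087878991872 := GC.Mem.gen (SKin1276.top.sub chk1277)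
theorem SK1_dvd : Nat.card (C1.gen R1 293567822846729153486185074598667128421960318613539983838411371441526128139326055432962374798096087878991872) ∣ 3 := GC.card_ins (dvd_step (SK0_m0.pc (m := 3) (w := 0) (SKin1276.top.get (i := 357) (by decide +kernel)) SK0_m0.top chk1278 chk1279) GC.card_gen_zero (n := 3) (by decide +kernel)) (by decide +kernel)
theorem SK2_m0 : C1.Mem R1 (C1.gen R1 880703468540187460458555223796001385265880955840619951515234114324578384417978166298887124394288263636975616) 880703468540187460458555223796001385265880955840619951515234114324578384417978166298887124394288263636975616 := GC.Mem.gen (SKin1276.top.sub chk1280)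
theorem cj1284 : band (conjB P.ops R1 293567822846729153486185074598667128421960318613539983838411371441526128139326055432962374798096087878991872 358 (l1281)) (subM 293567822846729153486185074598667128421960318613539983838411371441526128139326055432962374798096087878991872 (insL (l1281) 0)) = true := band_intro chk1282 chk1283
theorem SK2_dvd : Nat.card (C1.gen R1 880703468540187460458555223796001385265880955840619951515234114324578384417978166298887124394288263636975616) ∣ 9 := GC.card_ins (dvd_step (SK1_m0.pc (m := 3) (w := 0) (SKin1276.top.get (i := 358) (by decide +kernel)) SK1_m0.top cj1284 chk1285) SK1_dvd (n := 9) (by decide +kernel)) (by decide +kernel)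
theorem SK3_m0 : C1.Mem R1 (C1.gen R1 2054974759927104074403295522190669898953722230294779886868879600090682896975282388030736623586672615152943104) 2054974759927104074403295522190669898953722230294779886868879600090682896975282388030736623586672615152943104 := GC.Mem.gen (SKin1276.top.sub chk1286)
theorem cj1290 : band (conjB P.ops R1 880703468540187460458555223796001385265880955840619951515234114324578384417978166298887124394288263636975616 359 (l1287)) (subM 880703468540187460458555223796001385265880955840619951515234114324578384417978166298887124394288263636975616 (insL (l1287) 0)) = true := band_intro chk1288 chk1289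
theorem SK3_dvd : Nat.card (C1.gen R1 2054974759927104074403295522190669898953722230294779886868879600090682896975282388030736623586672615152943104) ∣ 27 := GC.card_ins (dvd_step (SK2_m0.pc (m := 3) (w := 365925) (SKin1276.top.get (i := 359) (by decide +kernel)) SK2_m0.top cj1290 chk1291) SK2_dvd (n := 27) (by decide +kernel)) (by decide +kernel)
theorem SK4_m0 : C1.Mem R1 (C1.gen R1 4403517342700937302292776118980006926329404779203099757576170571622891922089890831494435621971441318184878080) 4403517342700937302292776118980006926329404779203099757576170571622891922089890831494435621971441318184878080 := GC.Mem.gen (SKin1276.top.sub chk1292)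
theorem cj1296 : band (conjB P.ops R1 2054974759927104074403295522190669898953722230294779886868879600090682896975282388030736623586672615152943104 360 (l1293)) (subM 2054974759927104074403295522190669898953722230294779886868879600090682896975282388030736623586672615152943104 (insL (l1293) 0)) = true := band_intro chk1294 chk1295
theorem SK4_dvd : Nat.card (C1.gen R1 4403517342700937302292776118980006926329404779203099757576170571622891922089890831494435621971441318184878080) ∣ 81 := GC.card_ins (dvd_step (SK3_m0.pc (m := 3) (w := 0) (SKin1276.top.get (i := 360) (by decide +kernel)) SK3_m0.top cj1296 chk1297) SK3_dvd (n := 81) (by decide +kernel)) (by decide +kernel)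
theorem SK5_m0 : C1.Mem R1 (C1.gen R1 9100602508248603758071737312558680981080769877019739498990752514687309972319107718421833618740978724248748032) 9100602508248603758071737312558680981080769877019739498990752514687309972319107718421833618740978724248748032 := GC.Mem.gen (SKin1276.top.sub chk1298)
theorem cj1302 : band (conjB P.ops R1 4403517342700937302292776118980006926329404779203099757576170571622891922089890831494435621971441318184878080 361 (l1299)) (subM 4403517342700937302292776118980006926329404779203099757576170571622891922089890831494435621971441318184878080 (insL (l1299) 0)) = true := band_intro chk1300 chk1301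
theorem SK5_dvd : Nat.card (C1.gen R1 9100602508248603758071737312558680981080769877019739498990752514687309972319107718421833618740978724248748032) ∣ 243 := GC.card_ins (dvd_step (SK4_m0.pc (m := 3) (w := 0) (SKin1276.top.get (i := 361) (by decide +kernel)) SK4_m0.top cj1302 chk1303) SK4_dvd (n := 243) (by decide +kernel)) (by decide +kernel)
theorem SK5_ub : Nat.card (C1.gen R1 9100602508248603758071737312558680981080769877019739498990752514687309972319107718421833618740978724248748032) ≤ 243 := le_of_dvd' SK5_dvd (by decide +kernel)
theorem pt1304e : ∃ x, A0.Rep pt1304c x := PP.exists_vec P_ok (c := 0x1222102221112011000000001222102200000000000000001222102200000000000000000000000000000000000000000021000020000002000000102010000000000000000000200000000000200000000200000100202000000000000200100000000010000000) (by decide +kernel)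
noncomputable def pt1304 := Classical.choose pt1304e
theorem pt1304r : A0.Rep pt1304c pt1304 := Classical.choose_spec pt1304e
theorem pt1305e : ∃ x, A0.Rep pt1305c x := PP.exists_vec P_ok (c := 0x122210220000000000000000122210222111201121112011211120111222102221112011211120110000000000000000000020000000000010200021000000101000020000100000000000100011000000000000020122002200102000020000002000000000000020000000) (by decide +kernel)
noncomputable def pt1305 := Classical.choose pt1305e
theorem pt1305r : A0.Rep pt1305c pt1305 := Classical.choose_spec pt1305e
theorem pt1306e : ∃ x, A0.Rep pt1306c x := PP.exists_vec P_ok (c := 0x12221022000000002111201112221022122210220000000021112011000000000002100020000012000000000020210000100000000000200012002000000000010201000200002000010000000120000000010010000000) (by decide +kernel)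
noncomputable def pt1306 := Classical.choose pt1306e
theorem pt1306r : A0.Rep pt1306c pt1306 := Classical.choose_spec pt1306e
theorem pt1307e : ∃ x, A0.Rep pt1307c x := PP.exists_vec P_ok (c := 0x12221022000000001222102221112011000000000022101000200020000000102020210000000000000000200001002000100000000221001100200000020000000000000000010020000000) (by decide +kernel)
noncomputable def pt1307 := Classical.choose pt1307e
theorem pt1307r : A0.Rep pt1307c pt1307 := Classical.choose_spec pt1307e
theorem SK5_c0i : C1.Mem R1 (C1.gen R1 9100602508248603758071737312558680981080769877019739498990752514687309972319107718421833618740978724248748032) 7926331216861687144126997014164012467392928602565579563637107028921205459761803496689984119548594372732780544 := SK5_m0.sub chk1308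
theorem SK5_c0m : C1.Mem R1 (C1.gen R1 7926331216861687144126997014164012467392928602565579563637107028921205459761803496689984119548594372732780544) 7926331216861687144126997014164012467392928602565579563637107028921205459761803496689984119548594372732780544 := SK5_c0i.gen
theorem fx1310 : C1.gen R1 7926331216861687144126997014164012467392928602565579563637107028921205459761803496689984119548594372732780544 ≤ stabilizer _ pt1304 := Act.fix_sound SK5_c0i.top pt1304r chk1309
theorem cov1317 : Cov (C1.gen R1 9100602508248603758071737312558680981080769877019739498990752514687309972319107718421833618740978724248748032) (C1.wds R1 [0]) pt1304 3 := Act.cov_of_seen (Act.pieces_sound SK5_m0 SK5_m0.top pt1304r chk1315) chk1316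
theorem SK5_c1i : C1.Mem R1 (C1.gen R1 7926331216861687144126997014164012467392928602565579563637107028921205459761803496689984119548594372732780544) 880703468540187460458555223796001385265880955840619951515234114324578384417978166298887124394288263636975616 := SK5_c0m.sub chk1318
theorem SK5_c1m : C1.Mem R1 (C1.gen R1 880703468540187460458555223796001385265880955840619951515234114324578384417978166298887124394288263636975616) 880703468540187460458555223796001385265880955840619951515234114324578384417978166298887124394288263636975616 := SK5_c1i.gen
theorem fx1320 : C1.gen R1 880703468540187460458555223796001385265880955840619951515234114324578384417978166298887124394288263636975616 ≤ stabilizer _ pt1305 := Act.fix_sound SK5_c1i.top pt1305r chk1319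
theorem cov1327 : Cov (C1.gen R1 7926331216861687144126997014164012467392928602565579563637107028921205459761803496689984119548594372732780544) (C1.wds R1 [0]) pt1305 9 := Act.cov_of_seen (Act.pieces_sound SK5_c0m SK5_c0m.top pt1305r chk1325) chk1326
theorem SK5_c2i : C1.Mem R1 (C1.gen R1 880703468540187460458555223796001385265880955840619951515234114324578384417978166298887124394288263636975616) 293567822846729153486185074598667128421960318613539983838411371441526128139326055432962374798096087878991872 := SK5_c1m.sub chk1328
theorem SK5_c2m : C1.Mem R1 (C1.gen R1 293567822846729153486185074598667128421960318613539983838411371441526128139326055432962374798096087878991872) 293567822846729153486185074598667128421960318613539983838411371441526128139326055432962374798096087878991872 := SK5_c2i.gen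
theorem fx1330 : C1.gen R1 293567822846729153486185074598667128421960318613539983838411371441526128139326055432962374798096087878991872 ≤ stabilizer _ pt1306 := Act.fix_sound SK5_c2i.top pt1306r chk1329
theorem cov1337 : Cov (C1.gen R1 880703468540187460458555223796001385265880955840619951515234114324578384417978166298887124394288263636975616) (C1.wds R1 [0]) pt1306 3 := Act.cov_of_seen (Act.pieces_sound SK5_c1m SK5_c1m.top pt1306r chk1335) chk1336
theorem SK5_c3i : C1.Mem R1 (C1.gen R1 293567822846729153486185074598667128421960318613539983838411371441526128139326055432962374798096087878991872) 0 := SK5_c2m.sub chk1338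
theorem SK5_c3m : C1.Mem R1 (C1.gen R1 0) 0 := SK5_c3i.gen
theorem fx1340 : C1.gen R1 0 ≤ stabilizer _ pt1307 := Act.fix_sound SK5_c3i.top pt1307r chk1339
theorem cov1347 : Cov (C1.gen R1 293567822846729153486185074598667128421960318613539983838411371441526128139326055432962374798096087878991872) (C1.wds R1 [0]) pt1307 3 := Act.cov_of_seen (Act.pieces_sound SK5_c2m SK5_c2m.top pt1307r chk1345) chk1346
theorem SK5_lb4 : 1 ≤ Nat.card (C1.gen R1 0) := Nat.card_pos
theorem SK5_lo3 : 3 * Nat.card (C1.gen R1 0) ≤ Nat.card (C1.gen R1 293567822846729153486185074598667128421960318613539983838411371441526128139326055432962374798096087878991872) := cov1347.low le_rfl (GC.wds_zero _) SK5_c3i.gen_le fx1340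
theorem SK5_lb3 : 3 ≤ Nat.card (C1.gen R1 293567822846729153486185074598667128421960318613539983838411371441526128139326055432962374798096087878991872) := low_step SK5_lo3 SK5_lb4 (by decide +kernel)
theorem SK5_lo2 : 3 * Nat.card (C1.gen R1 293567822846729153486185074598667128421960318613539983838411371441526128139326055432962374798096087878991872) ≤ Nat.card (C1.gen R1 880703468540187460458555223796001385265880955840619951515234114324578384417978166298887124394288263636975616) := cov1337.low le_rfl (GC.wds_zero _) SK5_c2i.gen_le fx1330
theorem SK5_lb2 : 9 ≤ Nat.card (C1.gen R1 880703468540187460458555223796001385265880955840619951515234114324578384417978166298887124394288263636975616) := low_step SK5_lo2 SK5_lb3 (by decide +kernel)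
theorem SK5_lo1 : 9 * Nat.card (C1.gen R1 880703468540187460458555223796001385265880955840619951515234114324578384417978166298887124394288263636975616) ≤ Nat.card (C1.gen R1 7926331216861687144126997014164012467392928602565579563637107028921205459761803496689984119548594372732780544) := cov1327.low le_rfl (GC.wds_zero _) SK5_c1i.gen_le fx1320
theorem SK5_lb1 : 81 ≤ Nat.card (C1.gen R1 7926331216861687144126997014164012467392928602565579563637107028921205459761803496689984119548594372732780544) := low_step SK5_lo1 SK5_lb2 (by decide +kernel)
theorem SK5_lo0 : 3 * Nat.card (C1.gen R1 7926331216861687144126997014164012467392928602565579563637107028921205459761803496689984119548594372732780544) ≤ Nat.card (C1.gen R1 9100602508248603758071737312558680981080769877019739498990752514687309972319107718421833618740978724248748032) := cov1317.low le_rfl (GC.wds_zero _) SK5_c0i.gen_le fx1310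
theorem SK5_lb0 : 243 ≤ Nat.card (C1.gen R1 9100602508248603758071737312558680981080769877019739498990752514687309972319107718421833618740978724248748032) := low_step SK5_lo0 SK5_lb1 (by decide +kernel)
theorem cardK : Nat.card (C1.gen R1 7410580632976090690511449709515978555824266059631596058911965593709557569290240) = 634023936 := card_three K1_dv L1_simple.2 (lcm_step (dvd_of_sub (K1_m1.sub chk1348).gen_le L1_simple.2.le L1_simple.2.ge) (dvd_of_sub SKin1276.gen_le SK5_ub SK5_lb0) (n := 634023936) (by decide +kernel)) (by decide +kernel)
theorem K_le : (C1.gen R1 7410580632976090690511449709515978555824266059631596058911965593709557569290240) ≤ (C1.gen R1 6277101735386680763835789423207666416102355444464034709502) := Lin857.gen_le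
theorem L_le : (C1.gen R1 3705233777381972436957178189237965504519626550331098009649322905456337420812288) ≤ (C1.gen R1 7410580632976090690511449709515978555824266059631596058911965593709557569290240) := (K1_m1.sub chk1349).gen_le
theorem Sa0_m0 : C1.Mem R1 (C1.gen R1 0) 0 := GC.Mem.gen (GC.Mem.zero ⊤)
theorem Sain1352 : C1.Mem R1 (C1.gen R1 6277101735386680763835789423207666416102355444464034709502) 140912554966429993673368835807360221642540952941078040584385769494475124630914293625022645551920639207756791806 := G_m5.slp' chk1351
theorem Sain1355 : C1.Mem R1 (C1.gen R1 6277101735386680763835789423207666416102355444464034709502) 4800421039189715117806098339837404883955895129975184664067651057014377830458297445457001458347301746023115784190 := Sain1352.slp' chk1354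
theorem Sain1358 : C1.Mem R1 (C1.gen R1 6277101735386680763835789423207666416102355444464034709502) 9610236248710525568523754602061967116021292990132844910934234655509799330768977750653456301390473532806677921792 := Sain1355.slp' chk1357
theorem Sa1_m0 : C1.Mem R1 (C1.gen R1 9394170331095332911557922387157348109502730195633279482829163886128836100458433773854795993539074812127739904) 9394170331095332911557922387157348109502730195633279482829163886128836100458433773854795993539074812127739904 := GC.Mem.gen (Sain1358.top.sub chk1359)
theorem Sa1_dvd : Nat.card (C1.gen R1 9394170331095332911557922387157348109502730195633279482829163886128836100458433773854795993539074812127739904) ∣ 3 := GC.card_ins (dvd_step (Sa0_m0.pc (m := 3) (w := 0) (Sain1358.top.get (i := 362) (by decide +kernel)) Sa0_m0.top chk1360 chk1361) GC.card_gen_zero (n := 3) (by decide +kernel)) (by decide +kernel)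
theorem Sa2_m0 : C1.Mem R1 (C1.gen R1 28182510993285998734673767161472044328508190586899838448487491658386508301375301321564387980617224436383219712) 28182510993285998734673767161472044328508190586899838448487491658386508301375301321564387980617224436383219712 := GC.Mem.gen (Sain1358.top.sub chk1362)
theorem cj1366 : band (conjB P.ops R1 9394170331095332911557922387157348109502730195633279482829163886128836100458433773854795993539074812127739904 363 (l1363)) (subM 9394170331095332911557922387157348109502730195633279482829163886128836100458433773854795993539074812127739904 (insL (l1363) 0)) = true := band_intro chk1364 chk1365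
theorem Sa2_dvd : Nat.card (C1.gen R1 28182510993285998734673767161472044328508190586899838448487491658386508301375301321564387980617224436383219712) ∣ 9 := GC.card_ins (dvd_step (Sa1_m0.pc (m := 3) (w := 0) (Sain1358.top.get (i := 363) (by decide +kernel)) Sa1_m0.top cj1366 chk1367) Sa1_dvd (n := 9) (by decide +kernel)) (by decide +kernel)
theorem Sa3_m0 : C1.Mem R1 (C1.gen R1 65759192317667330380905456710101436766519111369432956379804147202901852703209036416983571954773523684894179328) 65759192317667330380905456710101436766519111369432956379804147202901852703209036416983571954773523684894179328 := GC.Mem.gen (Sain1358.top.sub chk1368)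
theorem cj1372 : band (conjB P.ops R1 28182510993285998734673767161472044328508190586899838448487491658386508301375301321564387980617224436383219712 364 (l1369)) (subM 28182510993285998734673767161472044328508190586899838448487491658386508301375301321564387980617224436383219712 (insL (l1369) 0)) = true := band_intro chk1370 chk1371
theorem Sa3_dvd : Nat.card (C1.gen R1 65759192317667330380905456710101436766519111369432956379804147202901852703209036416983571954773523684894179328) ∣ 27 := GC.card_ins (dvd_step (Sa2_m0.pc (m := 3) (w := 0) (Sain1358.top.get (i := 364) (by decide +kernel)) Sa2_m0.top cj1372 chk1373) Sa2_dvd (n := 27) (by decide +kernel)) (by decide +kernel)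
theorem Sa4_m0 : C1.Mem R1 (C1.gen R1 140912554966429993673368835807360221642540952934499192242437458291932541506876506607821939903086122181916098560) 140912554966429993673368835807360221642540952934499192242437458291932541506876506607821939903086122181916098560 := GC.Mem.gen (Sain1358.top.sub chk1374)
theorem cj1378 : band (conjB P.ops R1 65759192317667330380905456710101436766519111369432956379804147202901852703209036416983571954773523684894179328 365 (l1375)) (subM 65759192317667330380905456710101436766519111369432956379804147202901852703209036416983571954773523684894179328 (insL (l1375) 0)) = true := band_intro chk1376 chk1377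
theorem Sa4_dvd : Nat.card (C1.gen R1 140912554966429993673368835807360221642540952934499192242437458291932541506876506607821939903086122181916098560) ∣ 81 := GC.card_ins (dvd_step (Sa3_m0.pc (m := 3) (w := 373100) (Sain1358.top.get (i := 365) (by decide +kernel)) Sa3_m0.top cj1378 chk1379) Sa3_dvd (n := 81) (by decide +kernel)) (by decide +kernel)
theorem Sa5_m0 : C1.Mem R1 (C1.gen R1 291219280263955320258295594001877791394584636064631663967704080469993919114211446989498675799711319175959937024) 291219280263955320258295594001877791394584636064631663967704080469993919114211446989498675799711319175959937024 := GC.Mem.gen (Sain1358.top.sub chk1380)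
theorem cj1384 : band (conjB P.ops R1 140912554966429993673368835807360221642540952934499192242437458291932541506876506607821939903086122181916098560 366 (l1381)) (subM 140912554966429993673368835807360221642540952934499192242437458291932541506876506607821939903086122181916098560 (insL (l1381) 0)) = true := band_intro chk1382 chk1383
theorem Sa5_dvd : Nat.card (C1.gen R1 291219280263955320258295594001877791394584636064631663967704080469993919114211446989498675799711319175959937024) ∣ 243 := GC.card_ins (dvd_step (Sa4_m0.pc (m := 3) (w := 391224077675) (Sain1358.top.get (i := 366) (by decide +kernel)) Sa4_m0.top cj1384 chk1385) Sa4_dvd (n := 243) (by decide +kernel)) (by decide +kernel)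
theorem Sa6_m0 : C1.Mem R1 (C1.gen R1 591832730859005973428149110390912930898672002324896607418237324826116674328881327752852147592961713164047613952) 591832730859005973428149110390912930898672002324896607418237324826116674328881327752852147592961713164047613952 := GC.Mem.gen (Sain1358.top.sub chk1386)
theorem cj1390 : band (conjB P.ops R1 291219280263955320258295594001877791394584636064631663967704080469993919114211446989498675799711319175959937024 367 (l1387)) (subM 291219280263955320258295594001877791394584636064631663967704080469993919114211446989498675799711319175959937024 (insL (l1387) 0)) = true := band_intro chk1388 chk1389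
theorem Sa6_dvd : Nat.card (C1.gen R1 591832730859005973428149110390912930898672002324896607418237324826116674328881327752852147592961713164047613952) ∣ 729 := GC.card_ins (dvd_step (Sa5_m0.pc (m := 3) (w := 364) (Sain1358.top.get (i := 367) (by decide +kernel)) Sa5_m0.top cj1390 chk1391) Sa5_dvd (n := 729) (by decide +kernel)) (by decide +kernel)
theorem Sa7_m0 : C1.Mem R1 (C1.gen R1 1193059632049107279767856143168983209906846734845426494319303813538362184758221089279559091179462501140222967808) 1193059632049107279767856143168983209906846734845426494319303813538362184758221089279559091179462501140222967808 := GC.Mem.gen (Sain1358.top.sub chk1392)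
theorem cj1396 : band (conjB P.ops R1 591832730859005973428149110390912930898672002324896607418237324826116674328881327752852147592961713164047613952 368 (l1393)) (subM 591832730859005973428149110390912930898672002324896607418237324826116674328881327752852147592961713164047613952 (insL (l1393) 0)) = true := band_intro chk1394 chk1395
theorem Sa7_dvd : Nat.card (C1.gen R1 1193059632049107279767856143168983209906846734845426494319303813538362184758221089279559091179462501140222967808) ∣ 2187 := GC.card_ins (dvd_step (Sa6_m0.pc (m := 3) (w := 0) (Sain1358.top.get (i := 368) (by decide +kernel)) Sa6_m0.top cj1396 chk1397) Sa6_dvd (n := 2187) (by decide +kernel)) (by decide +kernel)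
theorem Sa8_m0 : C1.Mem R1 (C1.gen R1 2395513434429309892447270208725123767923196199886486268121436790962853205616900612332972978352464077092573675520) 2395513434429309892447270208725123767923196199886486268121436790962853205616900612332972978352464077092573675520 := GC.Mem.gen (Sain1358.top.sub chk1398)
theorem cj1402 : band (conjB P.ops R1 1193059632049107279767856143168983209906846734845426494319303813538362184758221089279559091179462501140222967808 369 (l1399)) (subM 1193059632049107279767856143168983209906846734845426494319303813538362184758221089279559091179462501140222967808 (insL (l1399) 0)) = true := band_intro chk1400 chk1401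
theorem Sa8_dvd : Nat.card (C1.gen R1 2395513434429309892447270208725123767923196199886486268121436790962853205616900612332972978352464077092573675520) ∣ 6561 := GC.card_ins (dvd_step (Sa7_m0.pc (m := 3) (w := 0) (Sain1358.top.get (i := 369) (by decide +kernel)) Sa7_m0.top cj1402 chk1403) Sa7_dvd (n := 6561) (by decide +kernel)) (by decide +kernel)
theorem Sa9_m0 : C1.Mem R1 (C1.gen R1 4800421039189715117806098339837404883955895129968605815725702745811835247334259658439800752698467228997275090944) 4800421039189715117806098339837404883955895129968605815725702745811835247334259658439800752698467228997275090944 := GC.Mem.gen (Sain1358.top.sub chk1404)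
theorem cj1408 : band (conjB P.ops R1 2395513434429309892447270208725123767923196199886486268121436790962853205616900612332972978352464077092573675520 370 (l1405)) (subM 2395513434429309892447270208725123767923196199886486268121436790962853205616900612332972978352464077092573675520 (insL (l1405) 0)) = true := band_intro chk1406 chk1407
theorem Sa9_dvd : Nat.card (C1.gen R1 4800421039189715117806098339837404883955895129968605815725702745811835247334259658439800752698467228997275090944) ∣ 19683 := GC.card_ins (dvd_step (Sa8_m0.pc (m := 3) (w := 391224077674) (Sain1358.top.get (i := 370) (by decide +kernel)) Sa8_m0.top cj1408 chk1409) Sa8_dvd (n := 19683) (by decide +kernel)) (by decide +kernel)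
theorem Sa10_m0 : C1.Mem R1 (C1.gen R1 9610236248710525568523754602061967116021292990132844910934234655509799330768977750653456301390473532806677921792) 9610236248710525568523754602061967116021292990132844910934234655509799330768977750653456301390473532806677921792 := GC.Mem.gen (Sain1358.top.sub chk1410)
theorem cj1414 : band (conjB P.ops R1 4800421039189715117806098339837404883955895129968605815725702745811835247334259658439800752698467228997275090944 371 (l1411)) (subM 4800421039189715117806098339837404883955895129968605815725702745811835247334259658439800752698467228997275090944 (insL (l1411) 0)) = true := band_intro chk1412 chk1413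
theorem Sa10_dvd : Nat.card (C1.gen R1 9610236248710525568523754602061967116021292990132844910934234655509799330768977750653456301390473532806677921792) ∣ 59049 := GC.card_ins (dvd_step (Sa9_m0.pc (m := 3) (w := 363) (Sain1358.top.get (i := 371) (by decide +kernel)) Sa9_m0.top cj1414 chk1415) Sa9_dvd (n := 59049) (by decide +kernel)) (by decide +kernel)
theorem Sa10_ub : Nat.card (C1.gen R1 9610236248710525568523754602061967116021292990132844910934234655509799330768977750653456301390473532806677921792) ≤ 59049 := le_of_dvd' Sa10_dvd (by decide +kernel)
theorem pt1416e : ∃ x, A0.Rep pt1416c x := PP.exists_vec P_ok (c := 0x1220211120002200002021220121110200121021210021222201221202102100121210110220010021120222001212200221001110001222201120002121222102201212200212002020012002120122200010021022111202120112212002121221121122101010102222000111212110012200120100220) (by decide +kernel)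
noncomputable def pt1416 := Classical.choose pt1416e
theorem pt1416r : A0.Rep pt1416c pt1416 := Classical.choose_spec pt1416e
theorem pt1417e : ∃ x, A0.Rep pt1417c x := PP.exists_vec P_ok (c := 0x1020012111222121010001102211101100001221201001200011102110101222021010200202201122110102222222222021112001100122120022112202212122212011102020020002000202111102021201111202011221100100120120020011201212222121001202221020200010202020011100200120) (by decide +kernel)
noncomputable def pt1417 := Classical.choose pt1417e
theorem pt1417r : A0.Rep pt1417c pt1417 := Classical.choose_spec pt1417e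
theorem pt1418e : ∃ x, A0.Rep pt1418c x := PP.exists_vec P_ok (c := 0x120000200001020200120020000010011021000210112200210212010101022002111020121010122221121021021220210212122202022111020112222101101110021021001220020222120201020120112001201012212120021022010211110220120102200112212011002210122220211120102002201112) (by decide +kernel)
noncomputable def pt1418 := Classical.choose pt1418e
theorem pt1418r : A0.Rep pt1418c pt1418 := Classical.choose_spec pt1418e
theorem pt1419e : ∃ x, A0.Rep pt1419c x := PP.exists_vec P_ok (c := 0x110221020011102122211021202211110000002011011121112022011201212211202012110110021220112000020121002012221211210201120202202101200211112012220201020221222121200101221200220221220200221002112012101002220010200122101211021011122212202020201201022) (by decide +kernel)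
noncomputable def pt1419 := Classical.choose pt1419e
theorem pt1419r : A0.Rep pt1419c pt1419 := Classical.choose_spec pt1419e
theorem pt1420e : ∃ x, A0.Rep pt1420c x := PP.exists_vec P_ok (c := 0x10121000112121212110022121212102012112122100110110122112222002012120222200202000000201202220120102201112210112100202220222122102122020002102110111100201011222001012200001122210211222010211212102122000112122111021221100210112002020112011101) (by decide +kernel)
noncomputable def pt1420 := Classical.choose pt1420e
theorem pt1420r : A0.Rep pt1420c pt1420 := Classical.choose_spec pt1420e
theorem pt1421e : ∃ x, A0.Rep pt1421c x := PP.exists_vec P_ok (c := 0x101220020012222002001010112221001012002112010100210220012201102011220021210220110121100120212002202012001200001010012120011120020210021100020011010211122210211101021102101201020102122101221222010112202011112212201200012112100101122221001112) (by decide +kernel)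
noncomputable def pt1421 := Classical.choose pt1421e
theorem pt1421r : A0.Rep pt1421c pt1421 := Classical.choose_spec pt1421e
theorem pt1422e : ∃ x, A0.Rep pt1422c x := PP.exists_vec P_ok (c := 0x102010202000212200102221001121121022102221002021010012211210110101021112200201201211211220202011102202220001102002002001122102201211120111010112211222010222021201120102110020022210202011202121122100201101210202010011020022001211100021) (by decide +kernel)
noncomputable def pt1422 := Classical.choose pt1422e
theorem pt1422r : A0.Rep pt1422c pt1422 := Classical.choose_spec pt1422e
theorem pt1423e : ∃ x, A0.Rep pt1423c x := PP.exists_vec P_ok (c := 0x10221212210002201011122122202112001012022210012200001002122012201011001110212122022121121021122011212011021100100211011101210001212222010101212110102020001101210200100222120110001110212021112102021222012012111110111021010020120201) (by decide +kernel)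
noncomputable def pt1423 := Classical.choose pt1423e
theorem pt1423r : A0.Rep pt1423c pt1423 := Classical.choose_spec pt1423e
theorem pt1424e : ∃ x, A0.Rep pt1424c x := PP.exists_vec P_ok (c := 0x121210122000112222001000121220100011211101012111012102221100110111200010110011220102011112001020210201112122112020102221021112011002011210110000221212102111100200202002202120220021201002012121011000001221101020221100021211200) (by decide +kernel)
noncomputable def pt1424 := Classical.choose pt1424e
theorem pt1424r : A0.Rep pt1424c pt1424 := Classical.choose_spec pt1424e
theorem pt1425e : ∃ x, A0.Rep pt1425c x := PP.exists_vec P_ok (c := 0x10001010011101100200220210201222101121001010011001012221212100202002211011101121200100210010201200211002100101212012110100122102021002000100202010002210021101021021012110000211011120201222211112211220102200101) (by decide +kernel)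
noncomputable def pt1425 := Classical.choose pt1425e
theorem pt1425r : A0.Rep pt1425c pt1425 := Classical.choose_spec pt1425e
theorem Sa10_c0i : C1.Mem R1 (C1.gen R1 9610236248710525568523754602061967116021292990132844910934234655509799330768977750653456301390473532806677921792) 7205328643950120343164926470949685999988594060050725363329968700660817289051618704546628527044470380901976506368 := Sa10_m0.sub chk1426
theorem Sa10_c0m : C1.Mem R1 (C1.gen R1 7205328643950120343164926470949685999988594060050725363329968700660817289051618704546628527044470380901976506368) 7205328643950120343164926470949685999988594060050725363329968700660817289051618704546628527044470380901976506368 := Sa10_c0i.gen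
theorem fx1428 : C1.gen R1 7205328643950120343164926470949685999988594060050725363329968700660817289051618704546628527044470380901976506368 ≤ stabilizer _ pt1416 := Act.fix_sound Sa10_c0i.top pt1416r chk1427
theorem cov1435 : Cov (C1.gen R1 9610236248710525568523754602061967116021292990132844910934234655509799330768977750653456301390473532806677921792) (C1.wds R1 [0]) pt1416 3 := Act.cov_of_seen (Act.pieces_sound Sa10_m0 Sa10_m0.top pt1416r chk1433) chk1434
theorem Sa10_c1i : C1.Mem R1 (C1.gen R1 7205328643950120343164926470949685999988594060050725363329968700660817289051618704546628527044470380901976506368) 6002874841569917730485512405393545441972244595009665589527835723236326268192939181493214639871468804949625798656 := Sa10_c0m.sub chk1436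
theorem Sa10_c1m : C1.Mem R1 (C1.gen R1 6002874841569917730485512405393545441972244595009665589527835723236326268192939181493214639871468804949625798656) 6002874841569917730485512405393545441972244595009665589527835723236326268192939181493214639871468804949625798656 := Sa10_c1i.gen
theorem fx1438 : C1.gen R1 6002874841569917730485512405393545441972244595009665589527835723236326268192939181493214639871468804949625798656 ≤ stabilizer _ pt1417 := Act.fix_sound Sa10_c1i.top pt1417r chk1437
theorem cov1445 : Cov (C1.gen R1 7205328643950120343164926470949685999988594060050725363329968700660817289051618704546628527044470380901976506368) (C1.wds R1 [0]) pt1417 3 := Act.cov_of_seen (Act.pieces_sound Sa10_c0m Sa10_c0m.top pt1417r chk1443) chk1444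
theorem Sa10_c2i : C1.Mem R1 (C1.gen R1 6002874841569917730485512405393545441972244595009665589527835723236326268192939181493214639871468804949625798656) 1193059632049107279767856143168983209906846734845426494319303813538362184758221089279559091179462501140222967808 := Sa10_c1m.sub chk1446
theorem Sa10_c2m : C1.Mem R1 (C1.gen R1 1193059632049107279767856143168983209906846734845426494319303813538362184758221089279559091179462501140222967808) 1193059632049107279767856143168983209906846734845426494319303813538362184758221089279559091179462501140222967808 := Sa10_c2i.gen
theorem fx1448 : C1.gen R1 1193059632049107279767856143168983209906846734845426494319303813538362184758221089279559091179462501140222967808 ≤ stabilizer _ pt1418 := Act.fix_sound Sa10_c2i.top pt1418r chk1447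
theorem cov1455 : Cov (C1.gen R1 6002874841569917730485512405393545441972244595009665589527835723236326268192939181493214639871468804949625798656) (C1.wds R1 [0]) pt1418 3 := Act.cov_of_seen (Act.pieces_sound Sa10_c1m Sa10_c1m.top pt1418r chk1453) chk1454
theorem Sa10_c3i : C1.Mem R1 (C1.gen R1 1193059632049107279767856143168983209906846734845426494319303813538362184758221089279559091179462501140222967808) 1042752906751581953182929384974465640154803051715294022594037191360300807150886148897882355282837304146179129344 := Sa10_c2m.sub chk1456
theorem Sa10_c3m : C1.Mem R1 (C1.gen R1 1042752906751581953182929384974465640154803051715294022594037191360300807150886148897882355282837304146179129344) 1042752906751581953182929384974465640154803051715294022594037191360300807150886148897882355282837304146179129344 := Sa10_c3i.gen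
theorem fx1458 : C1.gen R1 1042752906751581953182929384974465640154803051715294022594037191360300807150886148897882355282837304146179129344 ≤ stabilizer _ pt1419 := Act.fix_sound Sa10_c3i.top pt1419r chk1457
theorem cov1465 : Cov (C1.gen R1 1193059632049107279767856143168983209906846734845426494319303813538362184758221089279559091179462501140222967808) (C1.wds R1 [0]) pt1419 3 := Act.cov_of_seen (Act.pieces_sound Sa10_c2m Sa10_c2m.top pt1419r chk1463) chk1464
theorem Sa10_c4i : C1.Mem R1 (C1.gen R1 1042752906751581953182929384974465640154803051715294022594037191360300807150886148897882355282837304146179129344) 967599544102819289890466005877206855278781210150227786731403880271270118347218678707043987334524705649157210112 := Sa10_c3m.sub chk1466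
theorem Sa10_c4m : C1.Mem R1 (C1.gen R1 967599544102819289890466005877206855278781210150227786731403880271270118347218678707043987334524705649157210112) 967599544102819289890466005877206855278781210150227786731403880271270118347218678707043987334524705649157210112 := Sa10_c4i.gen
theorem fx1468 : C1.gen R1 967599544102819289890466005877206855278781210150227786731403880271270118347218678707043987334524705649157210112 ≤ stabilizer _ pt1420 := Act.fix_sound Sa10_c4i.top pt1420r chk1467
theorem cov1475 : Cov (C1.gen R1 1042752906751581953182929384974465640154803051715294022594037191360300807150886148897882355282837304146179129344) (C1.wds R1 [0]) pt1420 3 := Act.cov_of_seen (Act.pieces_sound Sa10_c3m Sa10_c3m.top pt1420r chk1473) chk1474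
theorem Sa10_c5i : C1.Mem R1 (C1.gen R1 967599544102819289890466005877206855278781210150227786731403880271270118347218678707043987334524705649157210112) 666986093507768636720612489488171715774693843889962843280870635915147363132548797943690515541274311661069533184 := Sa10_c4m.sub chk1476
theorem Sa10_c5m : C1.Mem R1 (C1.gen R1 666986093507768636720612489488171715774693843889962843280870635915147363132548797943690515541274311661069533184) 666986093507768636720612489488171715774693843889962843280870635915147363132548797943690515541274311661069533184 := Sa10_c5i.gen
theorem fx1478 : C1.gen R1 666986093507768636720612489488171715774693843889962843280870635915147363132548797943690515541274311661069533184 ≤ stabilizer _ pt1421 := Act.fix_sound Sa10_c5i.top pt1421r chk1477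
theorem cov1485 : Cov (C1.gen R1 967599544102819289890466005877206855278781210150227786731403880271270118347218678707043987334524705649157210112) (C1.wds R1 [0]) pt1421 3 := Act.cov_of_seen (Act.pieces_sound Sa10_c4m Sa10_c4m.top pt1421r chk1483) chk1484
theorem Sa10_c6i : C1.Mem R1 (C1.gen R1 666986093507768636720612489488171715774693843889962843280870635915147363132548797943690515541274311661069533184) 65759192317667330380905456710101436766519111369432956379804147202901852703209036416983571954773523684894179328 := Sa10_c5m.sub chk1486
theorem Sa10_c6m : C1.Mem R1 (C1.gen R1 65759192317667330380905456710101436766519111369432956379804147202901852703209036416983571954773523684894179328) 65759192317667330380905456710101436766519111369432956379804147202901852703209036416983571954773523684894179328 := Sa10_c6i.gen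
theorem fx1488 : C1.gen R1 65759192317667330380905456710101436766519111369432956379804147202901852703209036416983571954773523684894179328 ≤ stabilizer _ pt1422 := Act.fix_sound Sa10_c6i.top pt1422r chk1487
theorem cov1495 : Cov (C1.gen R1 666986093507768636720612489488171715774693843889962843280870635915147363132548797943690515541274311661069533184) (C1.wds R1 [0]) pt1422 3 := Act.cov_of_seen (Act.pieces_sound Sa10_c5m Sa10_c5m.top pt1422r chk1493) chk1494
theorem Sa10_c7i : C1.Mem R1 (C1.gen R1 65759192317667330380905456710101436766519111369432956379804147202901852703209036416983571954773523684894179328) 56365021986571997469347534322944088657016381173799676896974983316773016602750602643128775961234448872766439424 := Sa10_c6m.sub chk1496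
theorem Sa10_c7m : C1.Mem R1 (C1.gen R1 56365021986571997469347534322944088657016381173799676896974983316773016602750602643128775961234448872766439424) 56365021986571997469347534322944088657016381173799676896974983316773016602750602643128775961234448872766439424 := Sa10_c7i.gen
theorem fx1498 : C1.gen R1 56365021986571997469347534322944088657016381173799676896974983316773016602750602643128775961234448872766439424 ≤ stabilizer _ pt1423 := Act.fix_sound Sa10_c7i.top pt1423r chk1497
theorem cov1505 : Cov (C1.gen R1 65759192317667330380905456710101436766519111369432956379804147202901852703209036416983571954773523684894179328) (C1.wds R1 [0]) pt1423 3 := Act.cov_of_seen (Act.pieces_sound Sa10_c6m Sa10_c6m.top pt1423r chk1503) chk1504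
theorem Sa10_c8i : C1.Mem R1 (C1.gen R1 56365021986571997469347534322944088657016381173799676896974983316773016602750602643128775961234448872766439424) 37576681324381331646231689548629392438010920782533117931316655544515344401833735095419183974156299248510959616 := Sa10_c7m.sub chk1506
theorem Sa10_c8m : C1.Mem R1 (C1.gen R1 37576681324381331646231689548629392438010920782533117931316655544515344401833735095419183974156299248510959616) 37576681324381331646231689548629392438010920782533117931316655544515344401833735095419183974156299248510959616 := Sa10_c8i.gen
theorem fx1508 : C1.gen R1 37576681324381331646231689548629392438010920782533117931316655544515344401833735095419183974156299248510959616 ≤ stabilizer _ pt1424 := Act.fix_sound Sa10_c8i.top pt1424r chk1507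
theorem cov1515 : Cov (C1.gen R1 56365021986571997469347534322944088657016381173799676896974983316773016602750602643128775961234448872766439424) (C1.wds R1 [0]) pt1424 3 := Act.cov_of_seen (Act.pieces_sound Sa10_c7m Sa10_c7m.top pt1424r chk1513) chk1514
theorem Sa10_c9i : C1.Mem R1 (C1.gen R1 37576681324381331646231689548629392438010920782533117931316655544515344401833735095419183974156299248510959616) 0 := Sa10_c8m.sub chk1516
theorem Sa10_c9m : C1.Mem R1 (C1.gen R1 0) 0 := Sa10_c9i.gen
theorem fx1518 : C1.gen R1 0 ≤ stabilizer _ pt1425 := Act.fix_sound Sa10_c9i.top pt1425r chk1517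
theorem cov1525 : Cov (C1.gen R1 37576681324381331646231689548629392438010920782533117931316655544515344401833735095419183974156299248510959616) (C1.wds R1 [0]) pt1425 3 := Act.cov_of_seen (Act.pieces_sound Sa10_c8m Sa10_c8m.top pt1425r chk1523) chk1524
theorem Sa10_lb10 : 1 ≤ Nat.card (C1.gen R1 0) := Nat.card_pos
theorem Sa10_lo9 : 3 * Nat.card (C1.gen R1 0) ≤ Nat.card (C1.gen R1 37576681324381331646231689548629392438010920782533117931316655544515344401833735095419183974156299248510959616) := cov1525.low le_rfl (GC.wds_zero _) Sa10_c9i.gen_le fx1518
theorem Sa10_lb9 : 3 ≤ Nat.card (C1.gen R1 37576681324381331646231689548629392438010920782533117931316655544515344401833735095419183974156299248510959616) := low_step Sa10_lo9 Sa10_lb10 (by decide +kernel)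
theorem Sa10_lo8 : 3 * Nat.card (C1.gen R1 37576681324381331646231689548629392438010920782533117931316655544515344401833735095419183974156299248510959616) ≤ Nat.card (C1.gen R1 56365021986571997469347534322944088657016381173799676896974983316773016602750602643128775961234448872766439424) := cov1515.low le_rfl (GC.wds_zero _) Sa10_c8i.gen_le fx1508
theorem Sa10_lb8 : 9 ≤ Nat.card (C1.gen R1 56365021986571997469347534322944088657016381173799676896974983316773016602750602643128775961234448872766439424) := low_step Sa10_lo8 Sa10_lb9 (by decide +kernel)
theorem Sa10_lo7 : 3 * Nat.card (C1.gen R1 56365021986571997469347534322944088657016381173799676896974983316773016602750602643128775961234448872766439424) ≤ Nat.card (C1.gen R1 65759192317667330380905456710101436766519111369432956379804147202901852703209036416983571954773523684894179328) := cov1505.low le_rfl (GC.wds_zero _) Sa10_c7i.gen_le fx1498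
theorem Sa10_lb7 : 27 ≤ Nat.card (C1.gen R1 65759192317667330380905456710101436766519111369432956379804147202901852703209036416983571954773523684894179328) := low_step Sa10_lo7 Sa10_lb8 (by decide +kernel)
theorem Sa10_lo6 : 3 * Nat.card (C1.gen R1 65759192317667330380905456710101436766519111369432956379804147202901852703209036416983571954773523684894179328) ≤ Nat.card (C1.gen R1 666986093507768636720612489488171715774693843889962843280870635915147363132548797943690515541274311661069533184) := cov1495.low le_rfl (GC.wds_zero _) Sa10_c6i.gen_le fx1488
theorem Sa10_lb6 : 81 ≤ Nat.card (C1.gen R1 666986093507768636720612489488171715774693843889962843280870635915147363132548797943690515541274311661069533184) := low_step Sa10_lo6 Sa10_lb7 (by decide +kernel)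
theorem Sa10_lo5 : 3 * Nat.card (C1.gen R1 666986093507768636720612489488171715774693843889962843280870635915147363132548797943690515541274311661069533184) ≤ Nat.card (C1.gen R1 967599544102819289890466005877206855278781210150227786731403880271270118347218678707043987334524705649157210112) := cov1485.low le_rfl (GC.wds_zero _) Sa10_c5i.gen_le fx1478
theorem Sa10_lb5 : 243 ≤ Nat.card (C1.gen R1 967599544102819289890466005877206855278781210150227786731403880271270118347218678707043987334524705649157210112) := low_step Sa10_lo5 Sa10_lb6 (by decide +kernel)
theorem Sa10_lo4 : 3 * Nat.card (C1.gen R1 967599544102819289890466005877206855278781210150227786731403880271270118347218678707043987334524705649157210112) ≤ Nat.card (C1.gen R1 1042752906751581953182929384974465640154803051715294022594037191360300807150886148897882355282837304146179129344) := cov1475.low le_rfl (GC.wds_zero _) Sa10_c4i.gen_le fx1468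
theorem Sa10_lb4 : 729 ≤ Nat.card (C1.gen R1 1042752906751581953182929384974465640154803051715294022594037191360300807150886148897882355282837304146179129344) := low_step Sa10_lo4 Sa10_lb5 (by decide +kernel)
theorem Sa10_lo3 : 3 * Nat.card (C1.gen R1 1042752906751581953182929384974465640154803051715294022594037191360300807150886148897882355282837304146179129344) ≤ Nat.card (C1.gen R1 1193059632049107279767856143168983209906846734845426494319303813538362184758221089279559091179462501140222967808) := cov1465.low le_rfl (GC.wds_zero _) Sa10_c3i.gen_le fx1458
theorem Sa10_lb3 : 2187 ≤ Nat.card (C1.gen R1 1193059632049107279767856143168983209906846734845426494319303813538362184758221089279559091179462501140222967808) := low_step Sa10_lo3 Sa10_lb4 (by decide +kernel)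
theorem Sa10_lo2 : 3 * Nat.card (C1.gen R1 1193059632049107279767856143168983209906846734845426494319303813538362184758221089279559091179462501140222967808) ≤ Nat.card (C1.gen R1 6002874841569917730485512405393545441972244595009665589527835723236326268192939181493214639871468804949625798656) := cov1455.low le_rfl (GC.wds_zero _) Sa10_c2i.gen_le fx1448
theorem Sa10_lb2 : 6561 ≤ Nat.card (C1.gen R1 6002874841569917730485512405393545441972244595009665589527835723236326268192939181493214639871468804949625798656) := low_step Sa10_lo2 Sa10_lb3 (by decide +kernel)
theorem Sa10_lo1 : 3 * Nat.card (C1.gen R1 6002874841569917730485512405393545441972244595009665589527835723236326268192939181493214639871468804949625798656) ≤ Nat.card (C1.gen R1 7205328643950120343164926470949685999988594060050725363329968700660817289051618704546628527044470380901976506368) := cov1445.low le_rfl (GC.wds_zero _) Sa10_c1i.gen_le fx1438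
theorem Sa10_lb1 : 19683 ≤ Nat.card (C1.gen R1 7205328643950120343164926470949685999988594060050725363329968700660817289051618704546628527044470380901976506368) := low_step Sa10_lo1 Sa10_lb2 (by decide +kernel)
theorem Sa10_lo0 : 3 * Nat.card (C1.gen R1 7205328643950120343164926470949685999988594060050725363329968700660817289051618704546628527044470380901976506368) ≤ Nat.card (C1.gen R1 9610236248710525568523754602061967116021292990132844910934234655509799330768977750653456301390473532806677921792) := cov1435.low le_rfl (GC.wds_zero _) Sa10_c0i.gen_le fx1428
theorem Sa10_lb0 : 59049 ≤ Nat.card (C1.gen R1 9610236248710525568523754602061967116021292990132844910934234655509799330768977750653456301390473532806677921792) := low_step Sa10_lo0 Sa10_lb1 (by decide +kernel)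
theorem Sb0_m0 : C1.Mem R1 (C1.gen R1 0) 0 := GC.Mem.gen (GC.Mem.zero ⊤)
theorem Sbin1528 : C1.Mem R1 (C1.gen R1 6277101735386680763835789423207666416102355444464034709502) 67337412933291346310047187671143871248915570042299347332919446735771497168086053290991177681688088253331639631872 := G_m5.slp' chk1527
theorem Sb1_m0 : C1.Mem R1 (C1.gen R1 9619630419041620901435312524449124464130795720328478190417063819395928166869436184427311097384012607618805661696) 9619630419041620901435312524449124464130795720328478190417063819395928166869436184427311097384012607618805661696 := GC.Mem.gen (Sbin1528.top.sub chk1529)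
theorem Sb1_dvd : Nat.card (C1.gen R1 9619630419041620901435312524449124464130795720328478190417063819395928166869436184427311097384012607618805661696) ∣ 5 := GC.card_ins (dvd_step (Sb0_m0.pc (m := 5) (w := 0) (Sbin1528.top.get (i := 372) (by decide +kernel)) Sb0_m0.top chk1530 chk1531) GC.card_gen_zero (n := 5) (by decide +kernel)) (by decide +kernel)
theorem Sb2_m0 : C1.Mem R1 (C1.gen R1 28858891257124862704305937573347373392392387160985434571251191458187784500608308553281933292152037822856416985088) 28858891257124862704305937573347373392392387160985434571251191458187784500608308553281933292152037822856416985088 := GC.Mem.gen (Sbin1528.top.sub chk1532)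
theorem cj1536 : band (conjB P.ops R1 9619630419041620901435312524449124464130795720328478190417063819395928166869436184427311097384012607618805661696 373 (l1533)) (subM 9619630419041620901435312524449124464130795720328478190417063819395928166869436184427311097384012607618805661696 (insL (l1533) 0)) = true := band_intro chk1534 chk1535
theorem Sb2_dvd : Nat.card (C1.gen R1 28858891257124862704305937573347373392392387160985434571251191458187784500608308553281933292152037822856416985088) ∣ 25 := GC.card_ins (dvd_step (Sb1_m0.pc (m := 5) (w := 0) (Sbin1528.top.get (i := 373) (by decide +kernel)) Sb1_m0.top cj1536 chk1537) Sb1_dvd (n := 25) (by decide +kernel)) (by decide +kernel)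
theorem Sb3_m0 : C1.Mem R1 (C1.gen R1 67337412933291346310047187671143871248915570042299347332919446735771497168086053290991177681688088253331639631872) 67337412933291346310047187671143871248915570042299347332919446735771497168086053290991177681688088253331639631872 := GC.Mem.gen (Sbin1528.top.sub chk1538)
theorem cj1542 : band (conjB P.ops R1 28858891257124862704305937573347373392392387160985434571251191458187784500608308553281933292152037822856416985088 374 (l1539)) (subM 28858891257124862704305937573347373392392387160985434571251191458187784500608308553281933292152037822856416985088 (insL (l1539) 0)) = true := band_intro chk1540 chk1541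
theorem Sb3_dvd : Nat.card (C1.gen R1 67337412933291346310047187671143871248915570042299347332919446735771497168086053290991177681688088253331639631872) ∣ 125 := GC.card_ins (dvd_step (Sb2_m0.pc (m := 5) (w := 0) (Sbin1528.top.get (i := 374) (by decide +kernel)) Sb2_m0.top cj1542 chk1543) Sb2_dvd (n := 125) (by decide +kernel)) (by decide +kernel)
theorem Sb3_ub : Nat.card (C1.gen R1 67337412933291346310047187671143871248915570042299347332919446735771497168086053290991177681688088253331639631872) ≤ 125 := le_of_dvd' Sb3_dvd (by decide +kernel)
theorem pt1544e : ∃ x, A0.Rep pt1544c x := PP.exists_vec P_ok (c := 0x22112220111112121012102112211210012202201011101120101110220121120100022010120212100121200112210100120100212001022112001200111102021011202100120112000120221221211102022100210212120110220001221000000211110001012112010120122202102212021002011221210102) (by decide +kernel)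
noncomputable def pt1544 := Classical.choose pt1544e
theorem pt1544r : A0.Rep pt1544c pt1544 := Classical.choose_spec pt1544e
theorem Sb3_c0i : C1.Mem R1 (C1.gen R1 67337412933291346310047187671143871248915570042299347332919446735771497168086053290991177681688088253331639631872) 0 := Sb3_m0.sub chk1545
theorem Sb3_c0m : C1.Mem R1 (C1.gen R1 0) 0 := Sb3_c0i.gen
theorem fx1547 : C1.gen R1 0 ≤ stabilizer _ pt1544 := Act.fix_sound Sb3_c0i.top pt1544r chk1546
theorem cov1554 : Cov (C1.gen R1 67337412933291346310047187671143871248915570042299347332919446735771497168086053290991177681688088253331639631872) (C1.wds R1 [0]) pt1544 125 := Act.cov_of_seen (Act.pieces_sound Sb3_m0 Sb3_m0.top pt1544r chk1552) chk1553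
theorem Sb3_lb1 : 1 ≤ Nat.card (C1.gen R1 0) := Nat.card_pos
theorem Sb3_lo0 : 125 * Nat.card (C1.gen R1 0) ≤ Nat.card (C1.gen R1 67337412933291346310047187671143871248915570042299347332919446735771497168086053290991177681688088253331639631872) := cov1554.low le_rfl (GC.wds_zero _) Sb3_c0i.gen_le fx1547
theorem Sb3_lb0 : 125 ≤ Nat.card (C1.gen R1 67337412933291346310047187671143871248915570042299347332919446735771497168086053290991177681688088253331639631872) := low_step Sb3_lo0 Sb3_lb1 (by decide +kernel)
theorem G_s5_1557 : C1.Mem R1 (C1.gen R1 6277101735386680763835789423207666416102355444464034709502) 230871130056998901634447500586778987139139097287890055418351479976704818587990506213272667042865137099877176573950 := G_m5.slp' chk1556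
theorem C_le : (C1.gen R1 131070) ≤ (C1.gen R1 6277101735386680763835789423207666416102355444464034709502) := (G_s5_1557.sub chk1558).gen_le
theorem G_lb : 90745943887872000 ≤ Nat.card (C1.gen R1 6277101735386680763835789423207666416102355444464034709502) := Nat.le_of_dvd Nat.card_pos (lcm_step (lcm_step (lcm_step (lcm_step (lcm_step (dvd_of_sub C_le cardC.le cardC.ge) (dvd_of_sub (L_le.trans K_le) L1_simple.2.le L1_simple.2.ge) (n := 8453652480) (by decide +kernel)) (dvd_of_sub Sain1358.gen_le Sa10_ub Sa10_lb0) (n := 6162712657920) (by decide +kernel)) (dvd_of_sub Sbin1528.gen_le Sb3_ub Sb3_lb0) (n := 154067816448000) (by decide +kernel)) ((G_s5_1557.get (i := 375) (by decide +kernel)).prime_dvd (p := 19) (by norm_num) chk1559).2 (n := 2927288512512000) (by decide +kernel)) ((G_s5_1557.get (i := 376) (by decide +kernel)).prime_dvd (p := 31) (by norm_num) chk1560).2 (n := 90745943887872000) (by decide +kernel))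
theorem D1_lb : 319979520 ≤ Nat.card (C1.gen R1 196606) := lb_of_ix G_ix G_lb (by decide +kernel)
theorem cT3 : Nat.card (C1.gen R1 3450873173395281893717377931138512726225554486085193277581262111899648) = 3 := card_gen1 ((T6_m0.map hf1).top.get (i := 231) (by decide +kernel)) (by norm_num) chk1561 (by decide +kernel)
theorem leT3 : (C1.gen R1 3450873173395281893717377931138512726225554486085193277581262111899648) ≤ (C1.gen R1 196606) := by
  rw [T6r_map, D1c_map]; exact Subgroup.map_mono T6_in483.gen_le
theorem ex3 (N : Subgroup _) (h : N ≤ (C1.gen R1 196606)) (hN : NormBy (C1.gen R1 6277101735386680763835789423207666416102355444464034709502) N) : N ≤ (C1.gen R1 3450873173395281893717377931138512726225554486085193277581262111899648) := GC.exact_dc [(192, 248), (201, 59520), (202, 2539520), (203, 6666240), (204, 63995904), (205, 35553280), (206, 106659840), (207, 63995904), (208, 2064384), (209, 2064384)] G_dc G_cs (n := 283599225) (by decide +kernel) (up_mul (le_refl _) D1c_ub (n := 90745943887872000) (by decide +kernel) |>.trans G_lb) (p := (206, 106659840)) (by decide) leT3 G_T6c (up_low D1c_ub cT3.ge (by decide +kernel)) N (G_s5_1557.get (i := 206)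 (by decide +kernel)).el_mem h hN
theorem cT5 : Nat.card (C1.gen R1 215679573337205118357336120696157045389097155380324579848828881993728) = 5 := card_gen1 ((T4_m0.map hf1).top.get (i := 227) (by decide +kernel)) (by norm_num) chk1562 (by decide +kernel)
theorem leT5 : (C1.gen R1 215679573337205118357336120696157045389097155380324579848828881993728) ≤ (C1.gen R1 196606) := by
  rw [T4r_map, D1c_map]; exact Subgroup.map_mono T4_in441.gen_le
theorem ex5 (N : Subgroup _) (h : N ≤ (C1.gen R1 196606)) (hN : NormBy (C1.gen R1 6277101735386680763835789423207666416102355444464034709502) N) : N ≤ (C1.gen R1 215679573337205118357336120696157045389097155380324579848828881993728) := GC.exact_dc [(192, 248), (201, 59520), (202, 2539520), (203, 6666240), (204, 63995904), (205, 35553280), (206, 106659840), (207, 63995904), (208, 2064384), (209, 2064384)] G_dc G_cs (n := 283599225) (by decide +kernel) (up_mul (le_refl _) D1c_ub (n := 90745943887872000) (by decide +kernel) |>.trans G_lb) (p := (204, 63995904)) (by decide) leT5 G_T4c (up_low D1c_ub cT5.ge (by decide +kernel)) N (G_s5_1557.get (i := 204) (by decide +kernel)).el_mem h hN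
theorem core (N : Subgroup _) (h : N ≤ (C1.gen R1 196606)) (hN : NormBy (C1.gen R1 6277101735386680763835789423207666416102355444464034709502) N) : N ≤ C1.gen R1 0 := core35 (ex3 N h hN) (ex5 N h hN) cT3 cT5
theorem G_s6_1565 : C1.Mem R1 (C1.gen R1 6277101735386680763835789423207666416102355444464034709502) 1154355650284994508172237502933894935695695486439423961698389606638713922607456379918294532391730347431282520096766 := G_s5_1557.slp' chk1564
theorem ncl (N : Subgroup _) (hN : NormBy (C1.gen R1 6277101735386680763835789423207666416102355444464034709502) N) (hz : C1.el (R1 375) ∈ N) : C1.gen R1 6277101735386680763835789423207666416102355444464034709502 ≤ N := by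
  have h0 := (GC.Mem.single (G_s6_1565.get (i := 375) (by decide +kernel)).top hz).lor' (G_s6_1565.nconj (GC.Mem.single (G_s6_1565.get (i := 375) (by decide +kernel)).top hz) hN (G_s6_1565.sub chk1566).top chk1568) (M'' := 1000441563580328573749272502542708944269602754914161731803374637217176529354421363180440354127937311192355788816384) (by decide +kernel)
  have h1 := G_s6_1565.ncop h0 hN chk1570
  have h2 := h1.lor' (G_s6_1565.ncop h0 hN chk1572) (M'' := 126) (by decide +kernel)
  have h3 := h2.lor' (G_s6_1565.ncop h0 hN chk1574) (M'' := 1022) (by decide +kernel)
  have h4 := h3.lor' (G_s6_1565.ncop h0 hN chk1576) (M'' := 8190) (by decide +kernel)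
  have h5 := h4.lor' (G_s6_1565.ncop h0 hN chk1578) (M'' := 65534) (by decide +kernel)
  have h6 := h5.lor' (G_s6_1565.ncop h0 hN chk1580) (M'' := 6277101735386680763835789423207666416102355444464034709502) (by decide +kernel)
  exact h6.gen_le
theorem dich (N : Subgroup _) (h : N ≤ (C1.gen R1 6277101735386680763835789423207666416102355444464034709502)) (hN : NormBy (C1.gen R1 6277101735386680763835789423207666416102355444464034709502) N) : N ≤ (C1.gen R1 0) ∨ N = (C1.gen R1 6277101735386680763835789423207666416102355444464034709502) :=
  normal_dichotomy (G_s6_1565.sub chk1582).gen_le G_max core (p := 19) (k := 1) (n := 283599225) (by norm_num)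
    (eq_mul_of G_ub G_lb D1c_ub D1_lb (by decide +kernel)) (by norm_num)
    (not_dvd_of G_ub G_lb (by decide +kernel)) (G_s6_1565.get (i := 375) (by decide +kernel)).el_mem ((G_s6_1565.get (i := 375) (by decide +kernel)).prime_dvd (by norm_num) chk1581).1.1
    (fun N _ hN hz => ncl N hN hz) N h hN
theorem simple : IsSimpleGroup (C1.gen R1 6277101735386680763835789423207666416102355444464034709502) := simple_of_dichotomy (ne_bot_of G_lb (by decide +kernel)) fun N h hN => GC.gen_zero (C := C1) (R := R1) ▸ dich N h hN
theorem cardG : Nat.card (C1.gen R1 6277101735386680763835789423207666416102355444464034709502) = 90745943887872000 := le_antisymm G_ub G_lb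
theorem cz : czChk P.ops R1 4936551383613887754257934029875695629756598086833058284128108542 1 Lcz = true := chk1584
theorem pt1585e : ∃ x, D0.Rep pt1585c x := via_rep hf2 B0 (act2_rep (n := 45) (d := 6) (by decide) (by decide) (c := 0x1) (by decide +kernel))
noncomputable def pt1585 := Classical.choose pt1585e
theorem pt1585r : D0.Rep pt1585c pt1585 := Classical.choose_spec pt1585e
theorem cov1592 : Cov (CD.gen R 0) (CD.wds R (0 :: List.map Prod.fst Lcz)) pt1585 31 := Act.cov_of_seen (Act.pieces_sound (GC.Mem.zero _) DD_s3_299.top pt1585r chk1590) chk1591
theorem fx1595 : CD.gen R 65534 ≤ stabilizer _ pt1585 := Act.fix_sound (vD.sub chk47) pt1585r chk1594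
theorem P1_m0 : C1.Mem R1 (C1.gen R1 65534) 65534 := GC.Mem.gen (PD_m0.map hf1).top
theorem P1_map : (C1.gen R1 65534) = (CD.gen R 65534).map (MonoidHom.fst _ _) := PD_m0.gen_map hf1
theorem P1_ub : Nat.card (C1.gen R1 65534) ≤ 10321920 := up_map _ P1_map PD_ub
theorem decP : Dec (C1.gen R1 196606) (C1.gen R1 0) (C1.wds R1 (0 :: List.map Prod.fst Lcz)) (C1.gen R1 65534) := GC.dec_map hf1 vD (GC.Mem.zero _) (vD.sub chk47) DD_s3_299.top chk1593 (cov1592.dec (GC.Mem.zero _).gen_le (GC.wds_sub DD_s3_299 chk1593) (DD_s3_299.sub chk1596).gen_le fx1595 DD_ix)
theorem Cz : ∀ g ∈ (C1.gen R1 131070), g * C1.el (R1 1) = C1.el (R1 1) * g := (CC_m0.top.commL (CC_s0_233.get (i := 1) (by decide +kernel)).top chk1597)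
theorem PC_le : (C1.gen R1 65534) ≤ (C1.gen R1 131070) := GC.gen_mono (by decide +kernel)
theorem pt1598e : ∃ x, A0.Rep pt1598c x := PP.exists_vec P_ok (c := 0x22112220111112121012102112211210012202201011101120101110220121120100022010120212100121200112210100120100212001022112001200111102021011202100120112000120221221211102022100210212120110220001221000000211110001012112010120122202102212021002011221210102) (by decide +kernel)
noncomputable def pt1598 := Classical.choose pt1598e
theorem pt1598r : A0.Rep pt1598c pt1598 := Classical.choose_spec pt1598e
theorem cent : ∀ x ∈ (C1.gen R1 6277101735386680763835789423207666416102355444464034709502), x * C1.el (R1 1) = C1.el (R1 1) * x → x ∈ (C1.gen R1 131070) :=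
  cent_le G_dc decP PC_le (fun p hp => Cz p (PC_le hp)) (cz_sound D1c_m1.top (D1c_m1.get (i := 1) (by decide +kernel)).top cz) (GC.forall_els (L := [192, 201, 202, 203, 204, 205, 206, 207, 208, 209]) (forall_cons (Or.inr ⟨(CC_s0_233.get (i := 192) (by decide +kernel)).el_mem, (sep_sound D1c_m1.top (G_s6_1565.get (i := 192) (by decide +kernel)).top pt1598r chk1599), (sep_sound D1c_m1.top (G_s6_1565.get (i := 192) (by decide +kernel)).top pt1598r chk1600)⟩) (forall_cons (Or.inl (sep_sound D1c_m1.top (G_s6_1565.get (i := 201) (by decide +kernel)).top pt1598r chk1601)) (forall_cons (Or.inl (sep_sound D1c_m1.top (G_s6_1565.get (i := 202) (by decide +kernel)).top pt1598r chk1602)) (forall_cons (Or.inl (sep_sound D1c_m1.top (G_s6_1565.get (i := 203) (by decide +kernel)).top pt1598r chk1603)) (forall_cons (Or.inl (sep_sound D1c_m1.top (G_s6_1565.get (i := 204) (by decide +kernel)).top pt1598r chk1604)) (forall_cons (Or.inl (sep_sound D1c_m1.top (G_s6_1565.get (i := 205) (by decide +kernel)).top pt1598r chk1605)) (forall_cons (Or.inl (sep_sound D1c_m1.top (G_s6_1565.get (i := 206) (by decide +kernel)).top pt1598r chk1606)) (forall_cons (Or.inl (sep_sound D1c_m1.top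 (G_s6_1565.get (i := 207) (by decide +kernel)).top pt1598r chk1607)) (forall_cons (Or.inl (sep_sound D1c_m1.top (G_s6_1565.get (i := 208) (by decide +kernel)).top pt1598r chk1608)) (forall_cons (Or.inl (sep_sound D1c_m1.top (G_s6_1565.get (i := 209) (by decide +kernel)).top pt1598r chk1609)) forall_nil)))))))))) (by decide +kernel))
theorem main : ∃ G : Subgroup (Matrix (Fin 248) (Fin 248) (ZMod 3))ˣ, (IsSimpleGroup G ∧ Nat.card G = 90745943887872000) ∧
    (∃ K : Subgroup G, K.index = 143127000 ∧ ∃ L : Subgroup G, L ≤ K ∧ IsSimpleGroup L ∧ Nat.card L = 211341312) ∧
    ∃ z : G, orderOf z = 2 ∧ ∃ (Q : Subgroup (centralizer ({z} : Set G))) (_ : Q.Normal),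
      Nat.card Q = 2 ^ 9 ∧ Cfsg.IsExtraspecial 2 Q ∧
        Nonempty ((centralizer ({z} : Set G)) ⧸ Q ≃* alternatingGroup (Fin 9)) :=
  ⟨_, ⟨simple, cardG⟩, sub_final K_le L_le cardG cardK L1_simple,
    altC.elim fun n h => cent_final C_le QC Cz cent sy14 n h⟩
end

end CfsgH5.ThC
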