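import Cfsg.Agent.H5.ThD1

set_option autoImplicit false
set_option maxRecDepth 100000
set_option linter.all false
set_option linter.constructorNameAsVariable false
set_option Elab.async false

namespace CfsgH5.ThC

open CfsgH5 CfsgH5.Th CfsgH6 Subgroup MulAction Pointwise

noncomputable section

theorem chk1 : band (allL [0x801] fun e => band (P.can (force (hd e) R1)) (band (Nat.ble 1 (tl e)) (Nat.beq (powC P.ops (force (hd e) R1) (tl e)) P.ops.one))) (subM 2 (insL [0x801] 0)) = true := by decide +kernel
theorem chk2 : band (allL [0x802] fun e => band (P.can (force (hd e) R1)) (band (Nat.ble 1 (tl e)) (Nat.beq (powC P.ops (force (hd e) R1) (tl e)) P.ops.one))) (subM 4 (insL [0x802] 0)) = true := by decide +kernel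
theorem chk3 : band (allL [0x803] fun e => band (P.can (force (hd e) R1)) (band (Nat.ble 1 (tl e)) (Nat.beq (powC P.ops (force (hd e) R1) (tl e)) P.ops.one))) (subM 8 (insL [0x803] 0)) = true := by decide +kernel
theorem chk4 : band (allL [0x804] fun e => band (P.can (force (hd e) R1)) (band (Nat.ble 1 (tl e)) (Nat.beq (powC P.ops (force (hd e) R1) (tl e)) P.ops.one))) (subM 16 (insL [0x804] 0)) = true := by decide +kernel
theorem chk5 : band (allL [0x805] fun e => band (P.can (force (hd e) R1)) (band (Nat.ble 1 (tl e)) (Nat.beq (powC P.ops (force (hd e) R1) (tl e)) P.ops.one))) (subM 32 (insL [0x805] 0)) = true := by decide +kernel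
theorem chk6 : band (allL [0x806] fun e => band (P.can (force (hd e) R1)) (band (Nat.ble 1 (tl e)) (Nat.beq (powC P.ops (force (hd e) R1) (tl e)) P.ops.one))) (subM 64 (insL [0x806] 0)) = true := by decide +kernel
theorem chk7 : band (allL [0x807] fun e => band (P.can (force (hd e) R1)) (band (Nat.ble 1 (tl e)) (Nat.beq (powC P.ops (force (hd e) R1) (tl e)) P.ops.one))) (subM 128 (insL [0x807] 0)) = true := by decide +kernel
theorem chk8 : band (allL [0x808] fun e => band (P.can (force (hd e) R1)) (band (Nat.ble 1 (tl e)) (Nat.beq (powC P.ops (force (hd e) R1) (tl e)) P.ops.one))) (subM 256 (insL [0x808] 0)) = true := by decide +kernel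
theorem chk9 : band (allL [0x809] fun e => band (P.can (force (hd e) R1)) (band (Nat.ble 1 (tl e)) (Nat.beq (powC P.ops (force (hd e) R1) (tl e)) P.ops.one))) (subM 512 (insL [0x809] 0)) = true := by decide +kernel
theorem chk10 : band (allL [0xc0a] fun e => band (P.can (force (hd e) R1)) (band (Nat.ble 1 (tl e)) (Nat.beq (powC P.ops (force (hd e) R1) (tl e)) P.ops.one))) (subM 1024 (insL [0xc0a] 0)) = true := by decide +kernel
theorem chk11 : band (allL [0xc0b] fun e => band (P.can (force (hd e) R1)) (band (Nat.ble 1 (tl e)) (Nat.beq (powC P.ops (force (hd e) R1) (tl e)) P.ops.one))) (subM 2048 (insL [0xc0b] 0)) = true := by decide +kernel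
theorem chk12 : band (allL [0xc0c] fun e => band (P.can (force (hd e) R1)) (band (Nat.ble 1 (tl e)) (Nat.beq (powC P.ops (force (hd e) R1) (tl e)) P.ops.one))) (subM 4096 (insL [0xc0c] 0)) = true := by decide +kernel
theorem chk13 : band (allL [0xc0d] fun e => band (P.can (force (hd e) R1)) (band (Nat.ble 1 (tl e)) (Nat.beq (powC P.ops (force (hd e) R1) (tl e)) P.ops.one))) (subM 8192 (insL [0xc0d] 0)) = true := by decide +kernel
theorem chk14 : band (allL [0xc0e] fun e => band (P.can (force (hd e) R1)) (band (Nat.ble 1 (tl e)) (Nat.beq (powC P.ops (force (hd e) R1) (tl e)) P.ops.one))) (subM 16384 (insL [0xc0e] 0)) = true := by decide +kernel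
theorem chk15 : band (allL [0xc0f] fun e => band (P.can (force (hd e) R1)) (band (Nat.ble 1 (tl e)) (Nat.beq (powC P.ops (force (hd e) R1) (tl e)) P.ops.one))) (subM 32768 (insL [0xc0f] 0)) = true := by decide +kernel
theorem chk16 : band (allL [0x2011] fun e => band (P.can (force (hd e) R1)) (band (Nat.ble 1 (tl e)) (Nat.beq (powC P.ops (force (hd e) R1) (tl e)) P.ops.one))) (subM 131072 (insL [0x2011] 0)) = true := by decide +kernel
theorem chk17 : band (allL [0xc10] fun e => band (P.can (force (hd e) R1)) (band (Nat.ble 1 (tl e)) (Nat.beq (powC P.ops (force (hd e) R1) (tl e)) P.ops.one))) (subM 65536 (insL [0xc10] 0)) = true := by decide +kernel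
theorem chk19 : band (allL l18 fun e => band (can2 45 (force (hd e) R2)) (band (Nat.ble 1 (tl e)) (Nat.beq (powC (ops2 45) (force (hd e) R2) (tl e)) (ops2 45).one))) (subM 196606 (insL l18 0)) = true := by decide +kernel
theorem chk21 : subM 196606 262142 = true := by decide +kernel
theorem chk22 : band (Nat.beq (powC (prodOps 246016 P.ops (ops2 45)) (R 1) 2) (prodOps 246016 P.ops (ops2 45)).one) (bnot (Nat.beq (R 1) (prodOps 246016 P.ops (ops2 45)).one)) = true := by decide +kernel
theorem chk23 : band (commL (prodOps 246016 P.ops (ops2 45)) R 2 [1]) (subM 2 (insL [1] 0)) = true := by decide +kernel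
theorem chk24 : subM 2 196606 = true := by decide +kernel
theorem chk25 : band (commL (prodOps 246016 P.ops (ops2 45)) R 3 [1]) (subM 2 (insL [1] 0)) = true := by decide +kernel
theorem chk26 : subM 2 196606 = true := by decide +kernel
theorem chk27 : syChk (prodOps 246016 P.ops (ops2 45)) R 1 2 3 = true := by decide +kernel
theorem chk28 : band (commL (prodOps 246016 P.ops (ops2 45)) R 4 [1, 2, 3]) (subM 14 (insL [1, 2, 3] 0)) = true := by decide +kernel
theorem chk29 : subM 14 196606 = true := by decide +kernel
theorem chk30 : band (commL (prodOps 246016 P.ops (ops2 45)) R 5 [1, 2, 3]) (subM 14 (insL [1, 2, 3] 0)) = true := by decide +kernel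
theorem chk31 : subM 14 196606 = true := by decide +kernel
theorem chk32 : syChk (prodOps 246016 P.ops (ops2 45)) R 1 4 5 = true := by decide +kernel
theorem chk33 : band (commL (prodOps 246016 P.ops (ops2 45)) R 6 [1, 2, 3, 4, 5]) (subM 62 (insL [1, 2, 3, 4, 5] 0)) = true := by decide +kernel
theorem chk34 : subM 62 196606 = true := by decide +kernel
theorem chk35 : band (commL (prodOps 246016 P.ops (ops2 45)) R 7 [1, 2, 3, 4, 5]) (subM 62 (insL [1, 2, 3, 4, 5] 0)) = true := by decide +kernel
theorem chk36 : subM 62 196606 = true := by decide +kernel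
theorem chk37 : syChk (prodOps 246016 P.ops (ops2 45)) R 1 6 7 = true := by decide +kernel
theorem chk38 : band (commL (prodOps 246016 P.ops (ops2 45)) R 8 [1, 2, 3, 4, 5, 6, 7]) (subM 254 (insL [1, 2, 3, 4, 5, 6, 7] 0)) = true := by decide +kernel
theorem chk39 : subM 254 196606 = true := by decide +kernel
theorem chk40 : band (commL (prodOps 246016 P.ops (ops2 45)) R 9 [1, 2, 3, 4, 5, 6, 7]) (subM 254 (insL [1, 2, 3, 4, 5, 6, 7] 0)) = true := by decide +kernel
theorem chk41 : subM 254 196606 = true := by decide +kernel
theorem chk42 : syChk (prodOps 246016 P.ops (ops2 45)) R 1 8 9 = true := by decide +kernel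
theorem chk43 : subM 1022 196606 = true := by decide +kernel
theorem chk45 : band (slp (prodOps 246016 P.ops (ops2 45)) R l44 1022) (subM 1099511366654 (insL l44 1022)) = true := by decide +kernel
theorem chk47 : subM 65534 196606 = true := by decide +kernel
end

end CfsgH5.ThC
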