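/-
A permutation representation of PSU(3, 3) (generated).
-/
import Cfsg.Agent.H5.Uni

set_option autoImplicit false
set_option linter.constructorNameAsVariable false

namespace CfsgH5

open Cfsg

noncomputable section

/-- first generator -/
def paU33 : ℕ := 0x3ec2f17692897ad62cec37df144726df6b89d6df95f4781aa174eae92cc8e61ee406b5301cc58642244552ec80ca80f

/-- second generator -/
def pbU33 : ℕ := 0x1619cba4840accc38a933e82df22509e2573547699f20fb17d299f91415c448f3df5f014a2d98834b47ea6bf96ce6ac

theorem paU33_perm : isPerm 6 63 63 paU33 = true := by decide +kernel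

theorem pbU33_perm : isPerm 6 63 63 pbU33 = true := by decide +kernel

theorem forestU33 : ptForest (permOps 6 63 63) [paU33, pbU33] (fun _ => 0)
    (ap 1 1 0x5bfb7ce167fe472a)
    (ap 4 15 0xa46997168427723788656924958436a75456896395875781437a39766887490) = true := by decide +kernel

/-- strong generators -/
def lowU33 : List Level :=
  [⟨0, [0x3ec2f17692897ad62cec37df144726df6b89d6df95f4781aa174eae92cc8e61ee406b5301cc58642244552ec80ca80f,
     0x1619cba4840accc38a933e82df22509e2573547699f20fb17d299f91415c448f3df5f014a2d98834b47ea6bf96ce6ac],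
    0x7fffffffffffffff, id,
    ap 3 7 0xe38994d14898944c83046040d010820a30810465448b690,
    ap 3 7 0x11a8e14e29137236da8db4e48e492b71c71c2da8d3724920⟩,
   ⟨2, [0x2056de71ef43e95f78afeb3c9e4eb32c083135f1df8b44e1921d9f76ba720124a99461c6ea863690e25a0d59f170900,
     0x30978e7abccfa36e6abbc53c9ecdad09f2434b0ae3f51bd468599388761d9cb05dd47c15e29e9ad0b554841d82a00c0],
    0x71f93e6d0ca8db04, id,
    ap 2 3 0x2501024208a014610020440081400000,
    ap 3 7 0xd40038a580501b4c8108903000680620a00702622000000⟩,
   ⟨1, [0x3df3eeb9ef8df6b35cefca6c5faf4a5ab58423aa8c175a26528676e5ba481d54a38d51c20978f2d14cc143107042180],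
    0x4a, id,
    ap 1 1 0x0,
    ap 2 3 0x2040⟩]

/-- words for the strong generators -/
def slpU33 : List (ℕ × ℕ) :=
  [(0x2056de71ef43e95f78afeb3c9e4eb32c083135f1df8b44e1921d9f76ba720124a99461c6ea863690e25a0d59f170900, 0x4118c63008220), (0x30978e7abccfa36e6abbc53c9ecdad09f2434b0ae3f51bd468599388761d9cb05dd47c15e29e9ad0b554841d82a00c0, 0x2094231), (0x3df3eeb9ef8df6b35cefca6c5faf4a5ab58423aa8c175a26528676e5ba481d54a38d51c20978f2d14cc143107042180, 0x188c2098463)]

theorem slpU33_chk : band (slpChk (permOps 6 63 63) slpU33 [paU33, pbU33])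
    (allL (gens lowU33) (memL ([paU33, pbU33] ++ slpU33.map Prod.fst))) = true := by decide +kernel

theorem lowU33_chk : lowC (permOps 6 63 63) lowU33 = true := by decide +kernel

theorem lowU33_ord : ordC (permOps 6 63 63) lowU33 = 6048 := by decide +kernel

/-- the permutation group -/
def AU33 : Subgroup (Equiv.Perm (Fin 63)) :=
  (PC 63 6 63 (by norm_num) (by norm_num)).grp [paU33, pbU33]

theorem validU33 : ∀ s ∈ [paU33, pbU33], (PC 63 6 63 (by norm_num) (by norm_num)).In ⊤ s :=
  PC_valid _ _ (by
    simp only [allL_iff, List.mem_cons, List.not_mem_nil, or_false, forall_eq_or_imp, forall_eq]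
    exact ⟨paU33_perm, pbU33_perm⟩)

theorem le_cardU33 : 6048 ≤ Nat.card AU33 :=
  lowU33_ord ▸ Codes.low_slp _ validU33 slpU33_chk lowU33_chk

/-- the table of subspaces -/
def tabUU33 : ℕ → ℕ := tab16 24 0xffffff
  [0x461000271000671000021000451000581000261000331000011000531000751000871000651000041000001000361,
   0x541000151000571000251000831000761000731000611000321000721000771000681001010000711000081000201,
   0x631000471000351000801000641001810000861001210000231000341000371000431000551000561000401000131,
   0x781002100000381001110000851000521000621001410000511000311000661000101000171000741000161]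

theorem pivU33 : allLt 63 (fun i => force (tabUU33 i) (pivOK 4 15 3 12 4095 1)) = true := by
  decide +kernel

theorem mapsaU33 : allLt 63 (fun i => force (tabUU33 i) fun e => force (force (ap 6 63 paU33 i) tabUU33)
    (mapsSp 9 4 15 TA9 TM9 3 12 4095 1 0x151603171 e)) = true := by decide +kernel

theorem suaU33 : ∃ g : SU 3 F9 3, (g.1 : Matrix (Fin 3) (Fin 3) F9) = ft9.mat 3 0x151603171 :=
  exists_su (A := ft9.ent 3 _) (L := ft9.ent 3 0x171013001)
    (U := ft9.ent 3 0x100310171) F9.card_eq
    ⟨by decide +kernel, by decide +kernel, by decide +kernel, by decide +kernel, by decide +kernel⟩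

theorem mapsbU33 : allLt 63 (fun i => force (tabUU33 i) fun e => force (force (ap 6 63 pbU33 i) tabUU33)
    (mapsSp 9 4 15 TA9 TM9 3 12 4095 1 0x161474306 e)) = true := by decide +kernel

theorem subU33 : ∃ g : SU 3 F9 3, (g.1 : Matrix (Fin 3) (Fin 3) F9) = ft9.mat 3 0x161474306 :=
  exists_su (A := ft9.ent 3 _) (L := ft9.ent 3 0x147016001)
    (U := ft9.ent 3 0x100870306) F9.card_eq
    ⟨by decide +kernel, by decide +kernel, by decide +kernel, by decide +kernel, by decide +kernel⟩

theorem psuU33 {F : Type*} [Field F] [Fintype F] (hF : Fintype.card F = 9) :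
    Nonempty (PSU 3 F 3 ≃* AU33) := by
  obtain ⟨e⟩ := psu_equiv (F := F) (K := F9) hF 3 3
  obtain ⟨e'⟩ := psu_equiv_of_tab (F := F9) (q := 3) (n := 3) F9.card_eq (by norm_num) (by norm_num) (by norm_num)
    (D := fun i => ft9.sp 3 12 4095 1 (tabUU33 i)) (S := [paU33, pbU33])
    (by
      simp only [List.mem_cons, List.not_mem_nil, or_false, forall_eq_or_imp, forall_eq]
      exact ⟨ft9.acts (by norm_num) (by norm_num) pivU33 paU33_perm mapsaU33 suaU33,
        ft9.acts (by norm_num) (by norm_num) pivU33 pbU33_perm mapsbU33 subU33⟩)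
    forestU33 (ft9.sp_ne (by decide +kernel) (by decide +kernel)) le_cardU33
    (Finset.univ.filter fun c => c ^ 3 = 1 ∧ c ^ 3 * c = 1) (fun _ h => (Finset.mem_filter.1 h).2)
    (by decide +kernel)
  exact ⟨e.trans e'⟩

end

end CfsgH5
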