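/-
The Fischer group inside the Monster: the words.
-/
import Cfsg.Agent.H5.XM0
import Cfsg.Agent.MO.AxD
import Cfsg.Agent.H5.XV0

set_option autoImplicit false
set_option Elab.async false
set_option maxRecDepth 100000

namespace CfsgH5.XM

open CfsgMO

noncomputable section

def g1 : List ℕ := [43, 52, 43, 35, 37, 54]
def s1 : List ℕ := [27, 33, 34, 12, 13, 15, 16, 17, 18, 19, 22, 2, 8, 9]
def g2 : List ℕ := [39, 52, 27, 32, 50, 1, 54, 11, 52, 40, 41, 36]
def s2 : List ℕ := [44, 49, 48, 53, 11, 28, 35, 13, 17, 20, 3, 10, 11, 52, 40, 41, 36]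
def g3 : List ℕ := [38, 52, 29, 35, 2, 54]
def s3 : List ℕ := [25, 14, 16, 20, 22, 0]
def g4 : List ℕ := [38, 52, 30, 34, 44, 52, 28, 3]
def t4 : List ℕ := [54, 11, 52, 37, 52, 30, 50, 52, 27, 47, 54]
def s4 : List ℕ := [15, 18, 21, 22, 0, 2, 7, 8, 9, 10, 11, 24]
def g5 : List ℕ := [39, 52, 30, 37, 42, 2, 54]
def s5 : List ℕ := [26, 27, 28, 29, 30, 31, 32, 33, 34, 35, 12, 14, 15, 18, 19, 20, 21, 1, 2, 3, 4, 5, 6, 7, 8, 9, 10, 24]
def g6 : List ℕ := [42, 52, 38, 29, 42, 2, 54, 52, 40, 46, 50]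
def s6 : List ℕ := [42, 38, 48, 53, 25, 26, 27, 29, 31, 32, 35, 12, 13, 16, 17, 20, 22, 0, 1, 2, 4, 6, 7, 10, 24, 52, 40, 46, 50]
def g7 : List ℕ := [27, 50, 52, 30, 49, 39, 0, 54, 52, 42, 41, 50]
def s7 : List ℕ := [42, 49, 50, 53, 28, 33, 12, 13, 15, 18, 19, 20, 21, 22, 3, 8, 52, 42, 41, 50]
def g8 : List ℕ := [39, 52, 43, 28, 52, 32, 34, 0]
def t8 : List ℕ := [54, 11, 52, 38, 52, 48, 26, 41, 41, 54]
def s8 : List ℕ := [12, 13, 14, 16, 17, 18, 20, 21, 5, 9, 10, 11]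
def g9 : List ℕ := [27, 40, 39, 52, 37, 42, 54]
def s9 : List ℕ := [25, 30, 32, 16, 20, 21, 23, 0, 5, 7]
def g10 : List ℕ := [38, 1]
def s10 : List ℕ := [13, 14, 17, 18, 19, 20, 24]
def n1 : List ℕ := [41, 44, 42, 49, 49, 43, 44, 47, 26, 28, 32, 33, 14, 15, 16, 18, 19, 20, 21, 0, 1, 5, 6, 7, 9, 52, 49, 46, 52, 34]
def n2 : List ℕ := [41, 50, 46, 43, 41, 47, 42, 25, 28, 29, 31, 32, 13, 14, 16, 17, 21, 23, 1, 2, 3, 6, 8, 11, 24, 52, 50, 52, 47, 34]
def psT : List ℕ := [192, 224, 320, 448, 576, 704, 832, 1088, 1216, 1344, 1600, 2112, 4096, 4097, 4225, 4481, 4993, 6016, 7040, 9088, 12416, 17536, 25216, 56832]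
def csT : List ℕ := [7028736, 15417344, 5029888, 5734400, 5840896, 1990656, 253952, 7491584, 3084288, 3788800, 6647808, 6991872, 8388609, 8388610, 4, 8388616, 16, 32, 8388672, 128, 8388864, 4608, 1024, 2048]
def msT : List ℕ := [4099, 8195, 16384, 32771, 65536, 131072, 262147, 524288, 1048579, 2101121, 4194304, 8388608, 3969, 3492, 2252, 2968, 2416, 1984, 1272, 1308, 876, 469, 692, 3]

/-- the words for the axes -/
def GW : ℕ → List ℕ := gdL [] [[], g1, g2, g3, g4 ++ t4, g5, g6, g7, g8 ++ t8, g9, g10]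
/-- the programs for the involutions -/
def PW : ℕ → Pg := gdL [(false, dW)] [[(false, dW)], [(false, s1)], [(false, s2)], [(false, s3)],
  [(true, t4), (false, s4), (false, t4)], [(false, s5)], [(false, s6)], [(false, s7)],
  [(true, t8), (false, s8), (false, t8)], [(false, s9)], [(false, s10)]]
def R1 : Pg := (false, n1) :: PW 4
def R2 : Pg := (false, n2) :: PW 4
def zP : ℕ → Pg := fun _ => [(false, [24])]
/-- the conjugate of the standard involution -/
def cP (g : List ℕ) : Pg := [(true, g), (false, dW), (false, g)]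

end

end CfsgH5.XM
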